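-- Coprime action: generation by centralizers for a rank two elementary abelian group (helper12).
import Mathlib
import Cfsg.Agent.Lib.Helper2.CoprimeSylow
import Cfsg.Agent.Lib.Helper2.PGroupFrattini

set_option autoImplicit false

namespace Cfsg.Agent.Lib.Helper12

open scoped BigOperators

/-- The counting identity behind generation by centralizers: the `p + 1` lines of `(ZMod p)²`
through the origin cover every nonzero point once and the origin `p + 1` times. -/
theorem prod_lines_identity {V : Type*} [CommMonoid V] (p : ℕ) [hp : Fact p.Prime]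
    (F : ZMod p → ZMod p → V) :
    (∏ i : ZMod p, ∏ j : ZMod p, F (i * j) j) * ∏ j : ZMod p, F j 0 =
      (∏ i : ZMod p, ∏ j : ZMod p, F i j) * (F 0 0) ^ p := by
  classical
  have h1 : (∏ i : ZMod p, ∏ j : ZMod p, F (i * j) j) =
      ∏ j : ZMod p, ∏ i : ZMod p, F (i * j) j := Finset.prod_comm
  have h2 : (∏ i : ZMod p, ∏ j : ZMod p, F i j) = ∏ j : ZMod p, ∏ i : ZMod p, F i j :=
    Finset.prod_comm
  rw [h1, h2]
  rw [← Finset.mul_prod_erase Finset.univ (fun j => ∏ i : ZMod p, F (i * j) j) (Finset.mem_univ 0),
    ← Finset.mul_prod_erase Finset.univ (fun j => ∏ i : ZMod p, F i j) (Finset.mem_univ 0)]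
  have h3 : (∏ i : ZMod p, F (i * 0) 0) = (F 0 0) ^ p := by
    simp [Finset.prod_const, ZMod.card]
  have h4 : ∀ j ∈ (Finset.univ : Finset (ZMod p)).erase 0,
      (∏ i : ZMod p, F (i * j) j) = ∏ i : ZMod p, F i j := by
    intro j hj
    have hj0 : j ≠ 0 := (Finset.mem_erase.mp hj).1
    exact Fintype.prod_equiv (Equiv.mulRight₀ j hj0) _ _ (fun i => rfl)
  rw [h3, Finset.prod_congr rfl h4]
  set R := ∏ j ∈ (Finset.univ : Finset (ZMod p)).erase 0, ∏ i : ZMod p, F i j
  set X0 := ∏ j : ZMod p, F j 0
  ac_rfl

theorem pow_val_add {M : Type*} [Monoid M] {p : ℕ} [NeZero p] (z : M) (hz : z ^ p = 1)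
    (i j : ZMod p) : z ^ (i + j).val = z ^ i.val * z ^ j.val := by
  rw [ZMod.val_add, ← pow_add, ← pow_eq_pow_mod _ hz]

theorem pow_val_mul {M : Type*} [Monoid M] {p : ℕ} (z : M) (hz : z ^ p = 1)
    (i j : ZMod p) : z ^ (i * j).val = (z ^ i.val) ^ j.val := by
  rw [ZMod.val_mul, ← pow_mul, ← pow_eq_pow_mod _ hz]

section pgroup

variable {G : Type*} [Group G] [Finite G] (K : Subgroup G)

theorem of_conj_congr (z : Subgroup.normalizer (K : Set G)) (k k' : K)
    (h : (Abelianization.of k : Abelianization K) = Abelianization.of k') :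
    (Abelianization.of (K.normalizerMonoidHom z k) : Abelianization K) =
      Abelianization.of (K.normalizerMonoidHom z k') := by
  have e : ∀ a : K, (Abelianization.of (K.normalizerMonoidHom z a) : Abelianization K) =
      Abelianization.map (K.normalizerMonoidHom z).toMonoidHom (Abelianization.of a) :=
    fun a => (Abelianization.map_of (K.normalizerMonoidHom z).toMonoidHom a).symm
  rw [e, e, h]

/-- Lifting fixed points from the abelianization: coprime action of a single element. -/
theorem exists_centralizing_lift {p : ℕ} [Fact p.Prime] (hcop : (Nat.card K).Coprime p)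
    (b : Subgroup.normalizer (K : Set G)) (hb : b ^ p = 1) (u : K)
    (hu : (Abelianization.of (K.normalizerMonoidHom b u) : Abelianization K) = Abelianization.of u) :
    ∃ c : K, (c : G) ∈ Subgroup.centralizer ({(b : G)} : Set G) ∧
      (Abelianization.of c : Abelianization K) = Abelianization.of u := by
  have hp : p.Prime := Fact.out
  set M : Subgroup G := (commutator K).map K.subtype with hM
  have hbG : (b : G) ^ p = 1 := by
    have := congrArg Subtype.val hb
    simpa using this
  -- powers of b also fix u modulo the commutator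
  have hpow : ∀ n : ℕ, (Abelianization.of (K.normalizerMonoidHom (b ^ n) u) : Abelianization K) =
      Abelianization.of u := by
    intro n
    induction n with
    | zero => simp
    | succ n ih =>
      rw [pow_succ', map_mul, MulAut.mul_apply, of_conj_congr K b _ _ ih, hu]
  have hmemM : ∀ k : K, (k : G) ∈ M ↔ (Abelianization.of k : Abelianization K) = 1 := by
    intro k
    rw [hM, ← MonoidHom.mem_ker, Abelianization.ker_of]
    constructor
    · rintro ⟨k', hk', hkk⟩
      have : k' = k := Subtype.ext hkk
      rwa [← this]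
    · intro h
      exact ⟨k, h, rfl⟩
  have hAK : Subgroup.zpowers (b : G) ≤ Subgroup.normalizer (K : Set G) := by
    rw [Subgroup.zpowers_le]; exact b.2
  have hcopA : (Nat.card (Subgroup.zpowers (b : G))).Coprime (Nat.card K) := by
    rw [Nat.card_zpowers]
    exact Nat.Coprime.coprime_dvd_left (orderOf_dvd_of_pow_eq_one hbG) hcop.symm
  have hsolv : Group.IsSolvable (Subgroup.zpowers (b : G)) :=
    Group.isSolvable_of_comm (fun a c => (Subgroup.zpowers_isMulCommutative (b : G)).is_comm.comm a c)
  have hMK : M ≤ K := Subgroup.map_subtype_le _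
  have hbM : (b : G) ∈ Subgroup.normalizer (M : Set G) := by
    apply Subgroup.mem_normalizer_fintype
    rintro _ ⟨m', hm', rfl⟩
    have h1 : ((K.normalizerMonoidHom b m' : K) : G) ∈ M := by
      rw [hmemM]
      have : (Abelianization.of m' : Abelianization K) = Abelianization.of (1 : K) := by
        rw [map_one, ← MonoidHom.mem_ker, Abelianization.ker_of]; exact hm'
      rw [of_conj_congr K b m' 1 this, map_one, map_one]
    exact h1
  have hAM : Subgroup.zpowers (b : G) ≤ Subgroup.normalizer (M : Set G) := by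
    rw [Subgroup.zpowers_le]; exact hbM
  have hfix : ∀ a ∈ Subgroup.zpowers (b : G), (u : G)⁻¹ * a * u * a⁻¹ ∈ M := by
    intro a ha
    rw [← (isOfFinOrder_of_finite (b : G)).mem_powers_iff_mem_zpowers] at ha
    obtain ⟨n, rfl⟩ := (Submonoid.mem_powers_iff _ _).mp ha
    have e1 : ((K.normalizerMonoidHom (b ^ n) u : K) : G) =
        ((b ^ n : Subgroup.normalizer (K : Set G)) : G) * u *
          ((b ^ n : Subgroup.normalizer (K : Set G)) : G)⁻¹ := rfl
    rw [Subgroup.coe_pow] at e1
    have e : (u : G)⁻¹ * (b : G) ^ n * u * ((b : G) ^ n)⁻¹ =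
        ((u⁻¹ * K.normalizerMonoidHom (b ^ n) u : K) : G) := by
      rw [Subgroup.coe_mul, Subgroup.coe_inv, e1]; group
    rw [e, hmemM, map_mul, map_inv, hpow n, inv_mul_cancel]
  obtain ⟨m, hm, hc⟩ := Cfsg.Agent.Lib.Helper2.coprime_fix (Subgroup.zpowers (b : G)) K M hAK hcopA
    (Or.inl hsolv) hMK hAM (u : G) u.2 hfix
  refine ⟨u * ⟨m, hMK hm⟩⁻¹, ?_, ?_⟩
  · rw [Subgroup.mem_centralizer_singleton_iff]
    have := (Subgroup.mem_centralizer_iff.mp hc) (b : G) (Subgroup.mem_zpowers _)
    simpa using this.symm
  · rw [map_mul, map_inv, (hmemM ⟨m, hMK hm⟩).mp hm, inv_one, mul_one]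

/-- The product along a line lies in the image of the generated subgroup. -/
theorem line_prod_mem {p : ℕ} [Fact p.Prime] (hcop : (Nat.card K).Coprime p) (K₀ : Subgroup G)
    (b : Subgroup.normalizer (K : Set G)) (hb : b ^ p = 1)
    (hbK₀ : K ⊓ Subgroup.centralizer ({(b : G)} : Set G) ≤ K₀) (k : K) :
    (∏ j : ZMod p, (Abelianization.of (K.normalizerMonoidHom (b ^ j.val) k) : Abelianization K)) ∈
      (K₀.subgroupOf K).map Abelianization.of := by
  classical
  have hp : p.Prime := Fact.out
  have : NeZero p := ⟨hp.ne_zero⟩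
  have : Fact (1 < p) := ⟨hp.one_lt⟩
  set L : List (ZMod p) := (Finset.univ : Finset (ZMod p)).toList with hL
  set u : K := (L.map (fun j : ZMod p => K.normalizerMonoidHom (b ^ j.val) k)).prod with hu
  have hπu : (Abelianization.of u : Abelianization K) =
      ∏ j : ZMod p, Abelianization.of (K.normalizerMonoidHom (b ^ j.val) k) := by
    rw [hu, map_list_prod, List.map_map, hL]
    exact Finset.prod_map_toList _ _
  have hshift : (Abelianization.of (K.normalizerMonoidHom b u) : Abelianization K) =
      Abelianization.of u := by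
    rw [hπu, hu, map_list_prod (K.normalizerMonoidHom b), List.map_map, map_list_prod, List.map_map, hL,
      Finset.prod_map_toList]
    refine Fintype.prod_equiv (Equiv.addRight (1 : ZMod p)) _ _ (fun j => ?_)
    simp only [Function.comp_apply, Equiv.coe_addRight]
    rw [pow_val_add b hb, ZMod.val_one, pow_one, ← pow_succ, pow_succ', map_mul, MulAut.mul_apply]
  obtain ⟨c, hc, hcπ⟩ := exists_centralizing_lift K hcop b hb u hshift
  refine ⟨c, ?_, by rw [hcπ, hπu]⟩
  exact Subgroup.mem_subgroupOf.mpr (hbK₀ ⟨c.2, hc⟩)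

/-- Generation by centralizers for a `q`-group `K` acted on by commuting elements `x`, `y` of
order dividing `p`. -/
theorem le_gen_of_isPGroup {p q : ℕ} [Fact p.Prime] [Fact q.Prime] (hK : IsPGroup q K)
    (hcop : (Nat.card K).Coprime p) (x y : G)
    (hx : x ∈ Subgroup.normalizer (K : Set G)) (hy : y ∈ Subgroup.normalizer (K : Set G))
    (hxy : x * y = y * x) (hxp : x ^ p = 1) (hyp : y ^ p = 1) (K₀ : Subgroup G)
    (hx₀ : K ⊓ Subgroup.centralizer ({x} : Set G) ≤ K₀)
    (hxy₀ : ∀ i : ZMod p, K ⊓ Subgroup.centralizer ({x ^ i.val * y} : Set G) ≤ K₀) : K ≤ K₀ := by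
  classical
  have hp : p.Prime := Fact.out
  have : NeZero p := ⟨hp.ne_zero⟩
  set X : Subgroup.normalizer (K : Set G) := ⟨x, hx⟩ with hX
  set Y : Subgroup.normalizer (K : Set G) := ⟨y, hy⟩ with hY
  have hXY : X * Y = Y * X := Subtype.ext hxy
  have hXp : X ^ p = 1 := Subtype.ext (by simpa using hxp)
  have hYp : Y ^ p = 1 := Subtype.ext (by simpa using hyp)
  set V₀ : Subgroup (Abelianization K) := (K₀.subgroupOf K).map Abelianization.of with hV₀
  -- every element of the abelianization lies in V₀
  have claim : ∀ k : K, (Abelianization.of k : Abelianization K) ∈ V₀ := by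
    intro k
    set F : ZMod p → ZMod p → Abelianization K :=
      fun i j => Abelianization.of (K.normalizerMonoidHom (X ^ i.val * Y ^ j.val) k) with hF
    have hid := prod_lines_identity p F
    have t1 : ∀ i : ZMod p, (∏ j : ZMod p, F (i * j) j) ∈ V₀ := by
      intro i
      have hbp : (X ^ i.val * Y) ^ p = 1 := by
        rw [(Commute.pow_left hXY i.val).mul_pow, ← pow_mul, mul_comm i.val p, pow_mul, hXp, one_pow,
          hYp, one_mul]
      have hline := line_prod_mem K hcop K₀ (X ^ i.val * Y) hbp (by simpa [hX, hY] using hxy₀ i) k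
      have hcongr : ∀ j : ZMod p, F (i * j) j =
          Abelianization.of (K.normalizerMonoidHom ((X ^ i.val * Y) ^ j.val) k) := by
        intro j
        simp only [hF]
        rw [(Commute.pow_left hXY i.val).mul_pow, pow_val_mul X hXp]
      rw [Finset.prod_congr rfl (fun j _ => hcongr j)]
      exact hline
    have t2 : (∏ j : ZMod p, F j 0) ∈ V₀ := by
      have hline := line_prod_mem K hcop K₀ X hXp (by simpa [hX] using hx₀) k
      have hcongr : ∀ j : ZMod p, F j 0 = Abelianization.of (K.normalizerMonoidHom (X ^ j.val) k) := by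
        intro j
        simp only [hF, ZMod.val_zero, pow_zero, mul_one]
      rw [Finset.prod_congr rfl (fun j _ => hcongr j)]
      exact hline
    have t3 : (∏ i : ZMod p, ∏ j : ZMod p, F i j) ∈ V₀ := by
      rw [Finset.prod_comm]
      apply Subgroup.prod_mem
      intro j _
      have hline := line_prod_mem K hcop K₀ X hXp (by simpa [hX] using hx₀)
        (K.normalizerMonoidHom (Y ^ j.val) k)
      have hcongr : ∀ i : ZMod p, F i j = Abelianization.of
          (K.normalizerMonoidHom (X ^ i.val) (K.normalizerMonoidHom (Y ^ j.val) k)) := by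
        intro i
        simp only [hF]
        rw [map_mul, MulAut.mul_apply]
      rw [Finset.prod_congr rfl (fun i _ => hcongr i)]
      exact hline
    have h00 : F 0 0 = Abelianization.of k := by
      simp only [hF, ZMod.val_zero, pow_zero, mul_one, map_one, MulAut.one_apply]
    rw [h00] at hid
    have hpow : (Abelianization.of k : Abelianization K) ^ p ∈ V₀ := by
      have e : (Abelianization.of k : Abelianization K) ^ p =
          (∏ i : ZMod p, ∏ j : ZMod p, F i j)⁻¹ *
            ((∏ i : ZMod p, ∏ j : ZMod p, F (i * j) j) * ∏ j : ZMod p, F j 0) := by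
        rw [hid]; group
      rw [e]
      exact V₀.mul_mem (V₀.inv_mem t3) (V₀.mul_mem (Subgroup.prod_mem _ (fun i _ => t1 i)) t2)
    have hcop' : p.Coprime (orderOf (Abelianization.of k : Abelianization K)) := by
      have h1 : orderOf (Abelianization.of k : Abelianization K) ∣ orderOf k := orderOf_map_dvd _ k
      have h2 : orderOf k ∣ Nat.card K := orderOf_dvd_natCard k
      exact (Nat.Coprime.coprime_dvd_left (h1.trans h2) hcop).symm
    obtain ⟨m, hm⟩ := exists_pow_eq_self_of_coprime hcop'
    rw [← hm]
    exact V₀.pow_mem hpow m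
  have hsup : (K₀.subgroupOf K) ⊔ commutator K = ⊤ := by
    rw [eq_top_iff]
    intro k _
    obtain ⟨c, hc, hck⟩ := claim k
    have hmem : c⁻¹ * k ∈ commutator K := by
      rw [← Abelianization.ker_of, MonoidHom.mem_ker, map_mul, map_inv, hck, inv_mul_cancel]
    have e : k = c * (c⁻¹ * k) := by group
    rw [e]
    exact Subgroup.mul_mem_sup hc hmem
  have hfr : (K₀.subgroupOf K) ⊔ frattini K = ⊤ := by
    rw [eq_top_iff, ← hsup]
    exact sup_le_sup_left (Cfsg.Agent.Lib.Helper2.commutator_le_frattini_of_isPGroup hK) _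
  have htop := frattini_nongenerating hfr
  exact Subgroup.subgroupOf_eq_top.mp htop

end pgroup

/-- A subgroup containing a Sylow `q`-subgroup for every prime `q` is everything. -/
theorem eq_top_of_forall_exists_sylow_le {G : Type*} [Group G] [Finite G] (N : Subgroup G)
    (h : ∀ (q : ℕ) [Fact q.Prime], ∃ S : Sylow q G, (S : Subgroup G) ≤ N) : N = ⊤ := by
  apply Subgroup.eq_top_of_le_card
  apply Nat.le_of_dvd Nat.card_pos
  rw [Nat.dvd_iff_prime_pow_dvd_dvd]
  intro q k hq hqk
  have : Fact q.Prime := ⟨hq⟩
  obtain ⟨S, hS⟩ := h q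
  have h1 : q ^ k ∣ Nat.card S := S.pow_dvd_card_of_pow_dvd_card hqk
  exact h1.trans (Subgroup.card_dvd_of_le hS)

/-- Generation by centralizers: if commuting elements `x`, `y` with `x ^ p = y ^ p = 1` normalize
a subgroup `K` of order prime to `p`, then `K` is generated by the centralizers in `K` of `x` and
of the `x ^ i * y`. Stated with an arbitrary subgroup `K₀` containing these centralizers. -/
theorem le_gen_of_coprime {G : Type*} [Group G] [Finite G] {p : ℕ} [Fact p.Prime] (K : Subgroup G)
    (hcop : (Nat.card K).Coprime p) (x y : G)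
    (hx : x ∈ Subgroup.normalizer (K : Set G)) (hy : y ∈ Subgroup.normalizer (K : Set G))
    (hxy : x * y = y * x) (hxp : x ^ p = 1) (hyp : y ^ p = 1) (K₀ : Subgroup G)
    (hx₀ : K ⊓ Subgroup.centralizer ({x} : Set G) ≤ K₀)
    (hxy₀ : ∀ i : ZMod p, K ⊓ Subgroup.centralizer ({x ^ i.val * y} : Set G) ≤ K₀) : K ≤ K₀ := by
  classical
  have hp : p.Prime := Fact.out
  -- the acting group
  set A : Subgroup G := Subgroup.zpowers x ⊔ Subgroup.zpowers y with hA
  have hzx : IsPGroup p (Subgroup.zpowers x) := by
    apply IsPGroup.of_card (n := if orderOf x = 1 then 0 else 1)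
    rw [Nat.card_zpowers]
    rcases (Nat.dvd_prime hp).mp (orderOf_dvd_of_pow_eq_one hxp) with h | h
    · simp [h]
    · have : orderOf x ≠ 1 := by rw [h]; exact hp.one_lt.ne'
      simp [this, h]
  have hzy : IsPGroup p (Subgroup.zpowers y) := by
    apply IsPGroup.of_card (n := if orderOf y = 1 then 0 else 1)
    rw [Nat.card_zpowers]
    rcases (Nat.dvd_prime hp).mp (orderOf_dvd_of_pow_eq_one hyp) with h | h
    · simp [h]
    · have : orderOf y ≠ 1 := by rw [h]; exact hp.one_lt.ne'
      simp [this, h]
  have hAp : IsPGroup p A := by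
    apply IsPGroup.to_sup_of_normal_right' hzx hzy
    rw [Subgroup.zpowers_le]
    apply Subgroup.mem_normalizer_fintype
    intro z hz
    obtain ⟨n, rfl⟩ := Subgroup.mem_zpowers_iff.mp hz
    have hc : Commute x (y ^ n) := Commute.zpow_right hxy n
    rw [hc.eq, mul_assoc, mul_inv_cancel, mul_one]
    exact hz
  have hAK : A ≤ Subgroup.normalizer (K : Set G) := by
    apply sup_le <;> rw [Subgroup.zpowers_le] <;> assumption
  have hcopA : (Nat.card A).Coprime (Nat.card K) := by
    obtain ⟨n, hn⟩ := IsPGroup.iff_card.mp hAp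
    rw [hn]
    exact Nat.Coprime.pow_left n hcop.symm
  have hsolv : Group.IsSolvable A := by
    haveI := hAp.isNilpotent
    infer_instance
  -- K₀ ⊓ K contains a Sylow q-subgroup of K for every q
  have htop : K₀.subgroupOf K = ⊤ := by
    apply eq_top_of_forall_exists_sylow_le
    intro q hq
    obtain ⟨P, hP⟩ := Cfsg.Agent.Lib.Helper2.exists_invariant_sylow A K hAK hcopA (Or.inl hsolv) q
    refine ⟨P, ?_⟩
    set Q : Subgroup G := (P : Subgroup K).map K.subtype with hQ
    have hQK : Q ≤ K := Subgroup.map_subtype_le _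
    have hQq : IsPGroup q Q := P.2.map _
    have hQcop : (Nat.card Q).Coprime p :=
      Nat.Coprime.coprime_dvd_left (Subgroup.card_dvd_of_le hQK) hcop
    have hxQ : x ∈ Subgroup.normalizer (Q : Set G) :=
      hP ((le_sup_left : Subgroup.zpowers x ≤ A) (Subgroup.mem_zpowers x))
    have hyQ : y ∈ Subgroup.normalizer (Q : Set G) :=
      hP ((le_sup_right : Subgroup.zpowers y ≤ A) (Subgroup.mem_zpowers y))
    have hQ₀ : Q ≤ K₀ := le_gen_of_isPGroup Q hQq hQcop x y hxQ hyQ hxy hxp hyp K₀
      ((inf_le_inf_right _ hQK).trans hx₀) (fun i => (inf_le_inf_right _ hQK).trans (hxy₀ i))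
    intro k hk
    rw [Subgroup.mem_subgroupOf]
    exact hQ₀ ⟨k, hk, rfl⟩
  exact Subgroup.subgroupOf_eq_top.mp htop

open Finset in
/-- A finite commutative group that is not cyclic has more than `p` solutions of `a ^ p = 1` for
some prime `p`. -/
theorem exists_prime_lt_card_pow_eq_one {H : Type*} [CommGroup H] [Finite H] (hH : ¬ IsCyclic H) :
    ∃ p : ℕ, p.Prime ∧ p < Nat.card {a : H // a ^ p = 1} := by
  classical
  haveI := Fintype.ofFinite H
  by_contra hcon
  push Not at hcon
  apply hH
  apply isCyclic_of_card_pow_eq_one_le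
  intro n
  induction n using Nat.strong_induction_on with
  | _ n ih =>
    intro hn
    rcases Nat.lt_or_ge n 2 with h2 | h2
    · have h1 : n = 1 := by omega
      subst h1
      simp only [pow_one]
      apply Finset.card_le_one.mpr
      intro a ha b hb
      rw [Finset.mem_filter] at ha hb
      rw [ha.2, hb.2]
    · set p := n.minFac with hpdef
      have hp : p.Prime := Nat.minFac_prime (by omega)
      obtain ⟨m, hm⟩ := Nat.minFac_dvd n
      have hm0 : 0 < m := by
        rcases Nat.eq_zero_or_pos m with h | h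
        · rw [h, mul_zero] at hm; omega
        · exact h
      have hmn : m < n := by
        rw [hm]
        have := hp.one_lt
        nlinarith
      have ihm := ih m hmn hm0
      have hpp := hcon p hp
      rw [Nat.card_eq_fintype_card, Fintype.card_subtype] at hpp
      have hmaps : ∀ a ∈ (univ.filter (fun a : H => a ^ n = 1)),
          (fun a : H => a ^ p) a ∈ (univ.filter (fun a : H => a ^ m = 1)) := by
        intro a ha
        rw [mem_filter] at ha ⊢
        refine ⟨mem_univ _, ?_⟩
        rw [← pow_mul, ← hm]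
        exact ha.2
      have hfib : ∀ b ∈ (univ.filter (fun a : H => a ^ m = 1)),
          #{a ∈ (univ.filter (fun a : H => a ^ n = 1)) | (fun a : H => a ^ p) a = b} ≤ p := by
        intro b _
        rcases (Finset.eq_empty_or_nonempty
          {a ∈ (univ.filter (fun a : H => a ^ n = 1)) | (fun a : H => a ^ p) a = b}) with h | ⟨x₀, hx₀⟩
        · rw [h]; simp
        · refine le_trans ?_ hpp
          apply Finset.card_le_card_of_injOn (fun a => a * x₀⁻¹)
          · intro a ha
            have ha' := (mem_filter.mp ha).2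
            have hx₀' := (mem_filter.mp hx₀).2
            simp only at ha' hx₀'
            rw [Finset.mem_coe, mem_filter]
            refine ⟨mem_univ _, ?_⟩
            rw [mul_pow, inv_pow, ha', hx₀', mul_inv_cancel]
          · intro a _ c _ hac
            exact mul_right_cancel hac
      calc #(univ.filter (fun a : H => a ^ n = 1))
          ≤ p * #(univ.filter (fun a : H => a ^ m = 1)) :=
            Finset.card_le_mul_card_image_of_maps_to hmaps p hfib
        _ ≤ p * m := Nat.mul_le_mul_left _ ihm
        _ = n := hm.symm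

/-- A finite commutative group that is not cyclic contains two independent elements of prime
order `p`. -/
theorem exists_rank_two {H : Type*} [CommGroup H] [Finite H] (hH : ¬ IsCyclic H) :
    ∃ p : ℕ, p.Prime ∧ ∃ x y : H, x ^ p = 1 ∧ y ^ p = 1 ∧ x ≠ 1 ∧ y ∉ Subgroup.zpowers x := by
  obtain ⟨p, hp, hlt⟩ := exists_prime_lt_card_pow_eq_one hH
  refine ⟨p, hp, ?_⟩
  have h1 : ∃ x : H, x ^ p = 1 ∧ x ≠ 1 := by
    by_contra hcon
    push Not at hcon
    have : Subsingleton {a : H // a ^ p = 1} := by
      constructor
      rintro ⟨a, ha⟩ ⟨b, hb⟩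
      apply Subtype.ext
      simp only
      rw [hcon a ha, hcon b hb]
    have hle : Nat.card {a : H // a ^ p = 1} ≤ 1 := Finite.card_le_one_iff_subsingleton.mpr this
    have := hp.one_lt
    omega
  obtain ⟨x, hxp, hx1⟩ := h1
  by_contra hcon
  push Not at hcon
  have hall : ∀ y : H, y ^ p = 1 → y ∈ Subgroup.zpowers x := by
    intro y hy
    exact hcon x y hxp hy hx1
  have hle : Nat.card {a : H // a ^ p = 1} ≤ Nat.card (Subgroup.zpowers x) := by
    apply Nat.card_le_card_of_injective (fun a => (⟨a.1, hall a.1 a.2⟩ : Subgroup.zpowers x))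
    intro a b hab
    apply Subtype.ext
    have := congrArg Subtype.val hab
    simpa using this
  rw [Nat.card_zpowers] at hle
  have hord : orderOf x ≤ p := Nat.le_of_dvd hp.pos (orderOf_dvd_of_pow_eq_one hxp)
  omega

end Cfsg.Agent.Lib.Helper12
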