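import Mathlib

set_option autoImplicit false

namespace Cfsg.Agent.Lib.Helper12.ConjOrbit

open Pointwise

variable {G : Type*} [Group G]

/-- the set of conjugates of a subgroup -/
def conjugates (V : Subgroup G) : Set (Subgroup G) :=
  {W | ∃ g : G, W = V.map (MulAut.conj g).toMonoidHom}

theorem smul_eq_map (g : ConjAct G) (V : Subgroup G) :
    g • V = V.map (MulAut.conj (ConjAct.ofConjAct g)).toMonoidHom := by
  ext x
  simp only [Subgroup.mem_smul_pointwise_iff_exists, Subgroup.mem_map]
  constructor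
  · rintro ⟨s, hs, rfl⟩
    exact ⟨s, hs, by simp [ConjAct.smul_def]⟩
  · rintro ⟨s, hs, rfl⟩
    exact ⟨s, hs, by simp [ConjAct.smul_def]⟩

theorem orbit_eq (V : Subgroup G) : MulAction.orbit (ConjAct G) V = conjugates V := by
  ext W
  simp only [MulAction.mem_orbit_iff, conjugates, Set.mem_ofPred_eq]
  constructor
  · rintro ⟨g, rfl⟩
    exact ⟨ConjAct.ofConjAct g, smul_eq_map g V⟩
  · rintro ⟨g, rfl⟩
    exact ⟨ConjAct.toConjAct g, by rw [smul_eq_map]; simp⟩

theorem map_conj_eq_iff (V : Subgroup G) (g : G) :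
    V.map (MulAut.conj g).toMonoidHom = V ↔ g ∈ Subgroup.normalizer (V : Set G) := by
  rw [Subgroup.mem_normalizer_iff]
  constructor
  · intro this h
    constructor
    · intro hh
      rw [← this]
      exact Subgroup.mem_map.mpr ⟨h, hh, rfl⟩
    · intro hh
      rw [← this] at hh
      obtain ⟨h', hh', e⟩ := Subgroup.mem_map.mp hh
      have : h' = h := (MulAut.conj g).injective e
      exact this ▸ hh'
  · intro this
    ext x
    rw [Subgroup.mem_map]
    constructor
    · rintro ⟨s, hs, rfl⟩
      exact (this s).mp hs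
    · intro hx
      refine ⟨g⁻¹ * x * g, ?_, ?_⟩
      · rw [this]
        have : g * (g⁻¹ * x * g) * g⁻¹ = x := by group
        rw [this]; exact hx
      · simp [mul_assoc]

theorem card_stabilizer (V : Subgroup G) :
    Nat.card (MulAction.stabilizer (ConjAct G) V) = Nat.card (Subgroup.normalizer (V : Set G)) := by
  apply Nat.card_congr
  refine ⟨fun g => ⟨ConjAct.ofConjAct g.1, ?_⟩, fun g => ⟨ConjAct.toConjAct g.1, ?_⟩, ?_, ?_⟩
  · obtain ⟨g, hg⟩ := g
    rw [MulAction.mem_stabilizer_iff, smul_eq_map] at hg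
    exact (map_conj_eq_iff V _).mp hg
  · obtain ⟨g, hg⟩ := g
    rw [MulAction.mem_stabilizer_iff, smul_eq_map]
    exact (map_conj_eq_iff V _).mpr hg
  · intro g; rfl
  · intro g; rfl

theorem card_conjugates_mul [Finite G] (V : Subgroup G) :
    (conjugates V).ncard * Nat.card (Subgroup.normalizer (V : Set G)) = Nat.card G := by
  rw [← orbit_eq, ← MulAction.index_stabilizer, ← card_stabilizer, mul_comm,
    Subgroup.card_mul_index]
  rfl

end Cfsg.Agent.Lib.Helper12.ConjOrbit
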