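import Mathlib

/-! Basic structure of `SL₂(F)`: explicit elements, unitriangular generation, stabilizers of vectors,
Sylow `p`-subgroups in the defining characteristic are vector stabilizers, two of them generate. -/

set_option autoImplicit false

namespace Cfsg.Agent.Lib.Helper12.SL2

open Matrix

variable {F : Type*} [Field F]

local notation "SL2" => Matrix.SpecialLinearGroup (Fin 2)

theorem smul_apply (g : SL2 F) (v : Fin 2 → F) (i : Fin 2) :
    (g • v) i = g i 0 * v 0 + g i 1 * v 1 := by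
  show ((g : Matrix (Fin 2) (Fin 2) F).mulVec v) i = _
  simp [Matrix.mulVec, dotProduct, Fin.sum_univ_two]

theorem det_eq (g : SL2 F) : g 0 0 * g 1 1 - g 0 1 * g 1 0 = 1 := by
  have := g.det_coe
  rwa [Matrix.det_fin_two] at this

theorem mul_apply' (g h : SL2 F) (i j : Fin 2) :
    (g * h) i j = g i 0 * h 0 j + g i 1 * h 1 j := by
  rw [Matrix.SpecialLinearGroup.coe_mul, Matrix.mul_apply, Fin.sum_univ_two]

theorem ext4 {g h : SL2 F} (h00 : g 0 0 = h 0 0) (h01 : g 0 1 = h 0 1)
    (h10 : g 1 0 = h 1 0) (h11 : g 1 1 = h 1 1) : g = h := by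
  apply Matrix.SpecialLinearGroup.ext
  intro i j
  fin_cases i <;> fin_cases j <;> assumption

/-- a general element -/
def mk (a b c d : F) (h : a * d - b * c = 1) : SL2 F :=
  ⟨!![a, b; c, d], by rw [Matrix.det_fin_two_of]; exact h⟩

@[simp] theorem mk_00 (a b c d : F) (h : a * d - b * c = 1) : mk a b c d h 0 0 = a := rfl
@[simp] theorem mk_01 (a b c d : F) (h : a * d - b * c = 1) : mk a b c d h 0 1 = b := rfl
@[simp] theorem mk_10 (a b c d : F) (h : a * d - b * c = 1) : mk a b c d h 1 0 = c := rfl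
@[simp] theorem mk_11 (a b c d : F) (h : a * d - b * c = 1) : mk a b c d h 1 1 = d := rfl

/-- upper unitriangular -/
def up (b : F) : SL2 F := mk 1 b 0 1 (by simp)
/-- lower unitriangular -/
def lo (c : F) : SL2 F := mk 1 0 c 1 (by simp)

theorem eq_top_of_up_lo (H : Subgroup (SL2 F)) (hU : ∀ b, up b ∈ H) (hL : ∀ c, lo c ∈ H) :
    H = ⊤ := by
  have key : ∀ g : SL2 F, g 1 0 ≠ 0 → g ∈ H := by
    intro g hc
    have hd := det_eq g
    have : g = up ((g 0 0 - 1) / g 1 0) * lo (g 1 0) * up ((g 1 1 - 1) / g 1 0) := by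
      apply ext4
      · simp only [mul_apply', up, lo, mk_00, mk_01, mk_10, mk_11]
        field_simp
        ring
      · simp only [mul_apply', up, lo, mk_00, mk_01, mk_10, mk_11]
        field_simp
        linear_combination (-1 : F) * hd
      · simp only [mul_apply', up, lo, mk_00, mk_01, mk_10, mk_11]
        ring
      · simp only [mul_apply', up, lo, mk_00, mk_01, mk_10, mk_11]
        field_simp
        ring
    rw [this]
    exact H.mul_mem (H.mul_mem (hU _) (hL _)) (hU _)
  rw [eq_top_iff]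
  intro g _
  by_cases hc : g 1 0 = 0
  · have hd := det_eq g
    rw [hc, mul_zero, sub_zero] at hd
    have ha : g 0 0 ≠ 0 := left_ne_zero_of_mul_eq_one hd
    have h1 : lo 1 * g ∈ H := by
      apply key
      rw [mul_apply']
      simp [lo, hc, ha]
    have := H.mul_mem (H.inv_mem (hL 1)) h1
    rwa [inv_mul_cancel_left] at this
  · exact key g hc

theorem trace_eq_two_of_fix (h : SL2 F) (v : Fin 2 → F) (hv : v ≠ 0) (hfix : h • v = v) :
    h 0 0 + h 1 1 = 2 := by
  have h0 := congrFun hfix 0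
  have h1 := congrFun hfix 1
  rw [smul_apply] at h0 h1
  have hd := det_eq h
  have e0 : (2 - h 0 0 - h 1 1) * v 0 = 0 := by
    linear_combination (h 1 1 - 1) * h0 - h 0 1 * h1 - v 0 * hd
  have e1 : (2 - h 0 0 - h 1 1) * v 1 = 0 := by
    linear_combination (h 0 0 - 1) * h1 - h 1 0 * h0 - v 1 * hd
  by_contra hne
  have hne' : 2 - h 0 0 - h 1 1 ≠ 0 := by
    intro hz
    apply hne
    linear_combination (-1 : F) * hz
  apply hv
  ext i
  fin_cases i
  · exact (mul_eq_zero.mp e0).resolve_left hne'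
  · exact (mul_eq_zero.mp e1).resolve_left hne'

section char_p

variable {p : ℕ} [Fact p.Prime] [CharP F p]

theorem pow_p_eq_one_of_fix (h : SL2 F) (v : Fin 2 → F) (hv : v ≠ 0) (hfix : h • v = v) :
    h ^ p = 1 := by
  have htr := trace_eq_two_of_fix h v hv hfix
  have hd := det_eq h
  have hp2 : 2 ≤ p := (Fact.out : p.Prime).two_le
  have hN : ((h : Matrix (Fin 2) (Fin 2) F) - 1) ^ 2 = 0 := by
    have h11 : h 1 1 = 2 - h 0 0 := by linear_combination htr
    rw [h11] at hd
    rw [pow_two]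
    ext i j
    fin_cases i <;> fin_cases j <;>
      simp [Matrix.mul_apply, Fin.sum_univ_two, h11] <;> first | ring1 | linear_combination (-1 : F) * hd
  have key : (h : Matrix (Fin 2) (Fin 2) F) ^ p = 1 := by
    have hA : (h : Matrix (Fin 2) (Fin 2) F) = 1 + ((h : Matrix (Fin 2) (Fin 2) F) - 1) := by abel
    rw [hA, add_pow_char_of_commute p (Commute.one_left _), one_pow,
      pow_eq_zero_of_le hp2 hN, add_zero]
  apply Subtype.ext
  rw [Matrix.SpecialLinearGroup.coe_pow]
  exact key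

theorem sylow_eq_stabilizer [Fintype F] (P : Sylow p (SL2 F)) :
    ∃ v : Fin 2 → F, v ≠ 0 ∧ (P : Subgroup (SL2 F)) = MulAction.stabilizer (SL2 F) v := by
  classical
  have hpK : p ∣ Fintype.card F :=
    (CharP.cast_eq_zero_iff F p (Fintype.card F)).mp (Nat.cast_card_eq_zero F)
  have hcard : p ∣ Nat.card (Fin 2 → F) := by
    rw [Nat.card_eq_fintype_card, Fintype.card_fun, Fintype.card_fin]
    exact dvd_pow hpK (by norm_num)
  have h0 : (0 : Fin 2 → F) ∈ MulAction.fixedPoints (P : Subgroup (SL2 F)) (Fin 2 → F) :=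
    fun g => smul_zero g
  obtain ⟨v, hv, hv0⟩ :=
    P.isPGroup'.exists_fixed_point_of_prime_dvd_card_of_fixed_point (Fin 2 → F) hcard h0
  refine ⟨v, Ne.symm hv0, ?_⟩
  have hle : (P : Subgroup (SL2 F)) ≤ MulAction.stabilizer (SL2 F) v := fun g hg => hv ⟨g, hg⟩
  have hpg : IsPGroup p (MulAction.stabilizer (SL2 F) v) := by
    intro g
    refine ⟨1, ?_⟩
    rw [pow_one]
    apply Subtype.ext
    rw [Subgroup.coe_pow, Subgroup.coe_one]
    exact pow_p_eq_one_of_fix g.1 v (Ne.symm hv0) g.2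
  exact (P.is_maximal' hpg hle).symm

end char_p

theorem stabilizer_le_of_dep (v w : Fin 2 → F) (hv : v ≠ 0) (hdep : v 0 * w 1 = v 1 * w 0) :
    MulAction.stabilizer (SL2 F) v ≤ MulAction.stabilizer (SL2 F) w := by
  obtain ⟨c, rfl⟩ : ∃ c : F, w = c • v := by
    by_cases h0 : v 0 = 0
    · have h1 : v 1 ≠ 0 := by
        intro h1
        apply hv
        ext i
        fin_cases i
        · exact h0
        · exact h1
      refine ⟨w 1 / v 1, ?_⟩
      rw [h0, zero_mul] at hdep
      have hw0 : w 0 = 0 := (mul_eq_zero.mp hdep.symm).resolve_left h1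
      ext i
      fin_cases i
      · simp [h0, hw0]
      · simp [h1]
    · refine ⟨w 0 / v 0, ?_⟩
      ext i
      fin_cases i
      · simp [h0]
      · simp
        field_simp
        linear_combination hdep
  intro g hg
  rw [MulAction.mem_stabilizer_iff] at hg ⊢
  rw [smul_comm, hg]

theorem conj_fix (g u : SL2 F) (x v : Fin 2 → F) (hg : g • x = v) (hu : u • x = x) :
    (g * u * g⁻¹) • v = v := by
  rw [mul_smul, mul_smul, inv_smul_eq_iff.mpr hg.symm, hu, hg]


theorem main [Fintype F] (p : ℕ) [Fact p.Prime] [CharP F p] (P Q : Sylow p (SL2 F)) (h : P ≠ Q) :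
    (P : Subgroup (SL2 F)) ⊔ (Q : Subgroup (SL2 F)) = ⊤ := by
  obtain ⟨v, hv, hP⟩ := sylow_eq_stabilizer P
  obtain ⟨w, hw, hQ⟩ := sylow_eq_stabilizer Q
  have hD : v 0 * w 1 - v 1 * w 0 ≠ 0 := by
    intro hD
    apply h
    apply Sylow.ext
    rw [hP, hQ]
    exact le_antisymm (stabilizer_le_of_dep v w hv (sub_eq_zero.mp hD))
      (stabilizer_le_of_dep w v hw (by linear_combination (-1 : F) * hD))
  have hdet : v 0 * (w 1 / (v 0 * w 1 - v 1 * w 0)) - w 0 / (v 0 * w 1 - v 1 * w 0) * v 1 = 1 := by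
    field_simp
  let g : SL2 F := mk (v 0) (w 0 / (v 0 * w 1 - v 1 * w 0)) (v 1) (w 1 / (v 0 * w 1 - v 1 * w 0)) hdet
  have hg1 : g • (![1, 0] : Fin 2 → F) = v := by
    ext i
    fin_cases i <;> simp [smul_apply, g]
  have hg2 : g • (![0, v 0 * w 1 - v 1 * w 0] : Fin 2 → F) = w := by
    ext i
    fin_cases i <;> simp [smul_apply, g, hD]
  have hu : ∀ b : F, up b • (![1, 0] : Fin 2 → F) = ![1, 0] := by
    intro b
    ext i
    fin_cases i <;> simp [smul_apply, up]
  have hl : ∀ c : F, lo c • (![0, v 0 * w 1 - v 1 * w 0] : Fin 2 → F) =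
      ![0, v 0 * w 1 - v 1 * w 0] := by
    intro c
    ext i
    fin_cases i <;> simp [smul_apply, lo]
  have key := eq_top_of_up_lo
    (((P : Subgroup (SL2 F)) ⊔ (Q : Subgroup (SL2 F))).comap (MulAut.conj g).toMonoidHom)
    (fun b => by
      rw [Subgroup.mem_comap]
      apply Subgroup.mem_sup_left
      rw [hP, MulAction.mem_stabilizer_iff]
      exact conj_fix g (up b) _ v hg1 (hu b))
    (fun c => by
      rw [Subgroup.mem_comap]
      apply Subgroup.mem_sup_right
      rw [hQ, MulAction.mem_stabilizer_iff]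
      exact conj_fix g (lo c) _ w hg2 (hl c))
  rw [eq_top_iff]
  intro x _
  have hx : g⁻¹ * x * g ∈
      ((P : Subgroup (SL2 F)) ⊔ (Q : Subgroup (SL2 F))).comap (MulAut.conj g).toMonoidHom := by
    rw [key]; trivial
  rw [Subgroup.mem_comap] at hx
  have e : (MulAut.conj g).toMonoidHom (g⁻¹ * x * g) = x := by
    show g * (g⁻¹ * x * g) * g⁻¹ = x
    group
  rwa [e] at hx


end Cfsg.Agent.Lib.Helper12.SL2
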