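import Mathlib
import Cfsg.Agent.Lib.Helper12.SL2
import Cfsg.Agent.Lib.Helper9.ClassSize

/-! More on `SL₂(F)`: order, conjugating unipotent elements to `up b`, centralizer of `up b`. -/

set_option autoImplicit false

namespace Cfsg.Agent.Lib.Helper12.SL2

open Matrix

variable {F : Type*} [Field F]

local notation "SL2" => Matrix.SpecialLinearGroup (Fin 2)

/-- a diagonal matrix with prescribed determinant -/
noncomputable def diagUnit2 (u : Fˣ) : GL (Fin 2) F :=
  Matrix.GeneralLinearGroup.mkOfDetNeZero !![(u : F), 0; 0, 1] (by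
    rw [Matrix.det_fin_two_of]; simp)

theorem det_diagUnit2 (u : Fˣ) : Matrix.GeneralLinearGroup.det (diagUnit2 u) = u := by
  apply Units.ext
  show Matrix.det !![(u : F), 0; 0, 1] = u
  rw [Matrix.det_fin_two_of]; simp

theorem card_GL2_eq [Fintype F] :
    Nat.card (GL (Fin 2) F) = Nat.card (SL2 F) * (Fintype.card F - 1) := by
  classical
  have hsurj : Function.Surjective (Matrix.GeneralLinearGroup.det : GL (Fin 2) F →* Fˣ) :=
    fun u => ⟨diagUnit2 u, det_diagUnit2 u⟩
  have h1 := Subgroup.card_eq_card_quotient_mul_card_subgroup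
    (Matrix.GeneralLinearGroup.det : GL (Fin 2) F →* Fˣ).ker
  have h2 : Nat.card (GL (Fin 2) F ⧸ (Matrix.GeneralLinearGroup.det : GL (Fin 2) F →* Fˣ).ker) =
      Nat.card Fˣ :=
    Nat.card_congr (QuotientGroup.quotientKerEquivOfSurjective _ hsurj).toEquiv
  have h3 : Nat.card ((Matrix.GeneralLinearGroup.det : GL (Fin 2) F →* Fˣ).ker) =
      Nat.card (SL2 F) := by
    rw [Nat.card_congr (Equiv.ofInjective _
      (Matrix.SpecialLinearGroup.toGL_injective (n := Fin 2) (R := F)))]
    apply Nat.card_congr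
    apply Equiv.setCongr
    rw [Matrix.SpecialLinearGroup.range_toGL]
    ext x
    simp [MonoidHom.mem_ker]
  have h4 : Nat.card Fˣ = Fintype.card F - 1 := by
    rw [Nat.card_eq_fintype_card, Fintype.card_units]
  rw [h1, h2, h3, h4, mul_comm]

theorem card_SL2 [Fintype F] :
    Nat.card (SL2 F) = Fintype.card F * (Fintype.card F ^ 2 - 1) := by
  have h1 := card_GL2_eq (F := F)
  rw [Matrix.card_GL_field, Fin.prod_univ_two] at h1
  simp only [Fin.val_zero, pow_zero, Fin.val_one, pow_one, Fintype.card_fin] at h1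
  have hq : 2 ≤ Fintype.card F := Fintype.one_lt_card
  have hq1 : 0 < Fintype.card F - 1 := by omega
  have e : Fintype.card F ^ 2 - Fintype.card F = Fintype.card F * (Fintype.card F - 1) := by
    rw [pow_two, Nat.mul_sub, mul_one]
  rw [e] at h1
  apply Nat.eq_of_mul_eq_mul_right hq1
  rw [← h1]
  ring

theorem up_zero : up (0 : F) = 1 := by
  apply ext4 <;> simp [up]

theorem up_add (a b : F) : up (a + b) = up a * up b := by
  apply ext4 <;> simp [mul_apply', up, add_comm]

theorem up_injective : Function.Injective (up : F → SL2 F) := by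
  intro a b h
  have := congrArg (fun g : SL2 F => g 0 1) h
  simpa [up] using this

theorem up_ne_one {b : F} (hb : b ≠ 0) : up b ≠ 1 := by
  rw [← up_zero]
  exact fun h => hb (up_injective h)

theorem exists_smul_e1 {v : Fin 2 → F} (hv : v ≠ 0) :
    ∃ k : SL2 F, k • (![1, 0] : Fin 2 → F) = v := by
  by_cases h0 : v 0 = 0
  · have h1 : v 1 ≠ 0 := by
      intro h1
      apply hv
      ext i
      fin_cases i
      · exact h0
      · exact h1
    refine ⟨mk 0 (-(v 1)⁻¹) (v 1) 0 (by field_simp; ring), ?_⟩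
    ext i
    fin_cases i <;> simp [smul_apply, h0]
  · refine ⟨mk (v 0) 0 (v 1) (v 0)⁻¹ (by field_simp; ring), ?_⟩
    ext i
    fin_cases i <;> simp [smul_apply]

theorem eq_up_of_fix_e1 (h : SL2 F) (hfix : h • (![1, 0] : Fin 2 → F) = ![1, 0]) :
    h = up (h 0 1) := by
  have h0 := congrFun hfix 0
  have h1 := congrFun hfix 1
  rw [smul_apply] at h0 h1
  simp at h0 h1
  have hd := det_eq h
  rw [h0, h1] at hd
  apply ext4
  · simpa [up] using h0
  · simp [up]
  · simpa [up] using h1
  · simp [up]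
    simpa using hd

theorem exists_conj_up_of_fix (h : SL2 F) (v : Fin 2 → F) (hv : v ≠ 0) (hfix : h • v = v) :
    ∃ k : SL2 F, ∃ b : F, k⁻¹ * h * k = up b := by
  obtain ⟨k, hk⟩ := exists_smul_e1 hv
  refine ⟨k, _, eq_up_of_fix_e1 _ ?_⟩
  rw [mul_smul, mul_smul, hk, hfix, ← hk, inv_smul_smul]

section char_p

variable [Fintype F] {p : ℕ} [Fact p.Prime] [CharP F p]

theorem exists_fixed_vector (T : Subgroup (SL2 F)) (hT : IsPGroup p T) :
    ∃ v : Fin 2 → F, v ≠ 0 ∧ ∀ g ∈ T, g • v = v := by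
  classical
  have hpK : p ∣ Fintype.card F :=
    (CharP.cast_eq_zero_iff F p (Fintype.card F)).mp (Nat.cast_card_eq_zero F)
  have hcard : p ∣ Nat.card (Fin 2 → F) := by
    rw [Nat.card_eq_fintype_card, Fintype.card_fun, Fintype.card_fin]
    exact dvd_pow hpK (by norm_num)
  have h0 : (0 : Fin 2 → F) ∈ MulAction.fixedPoints T (Fin 2 → F) := fun g => smul_zero g
  obtain ⟨v, hv, hv0⟩ :=
    hT.exists_fixed_point_of_prime_dvd_card_of_fixed_point (Fin 2 → F) hcard h0
  exact ⟨v, Ne.symm hv0, fun g hg => hv ⟨g, hg⟩⟩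

theorem exists_conj_up_of_orderOf (h : SL2 F) (hh : orderOf h = p) :
    ∃ k : SL2 F, ∃ b : F, b ≠ 0 ∧ k⁻¹ * h * k = up b := by
  have hT : IsPGroup p (Subgroup.zpowers h) := by
    apply IsPGroup.of_card (n := 1)
    rw [Nat.card_zpowers, hh, pow_one]
  obtain ⟨v, hv, hfix⟩ := exists_fixed_vector _ hT
  obtain ⟨k, b, hk⟩ := exists_conj_up_of_fix h v hv (hfix h (Subgroup.mem_zpowers h))
  refine ⟨k, b, ?_, hk⟩
  rintro rfl
  rw [up_zero] at hk
  have h1 : h = 1 := by
    have : h = k * (k⁻¹ * h * k) * k⁻¹ := by group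
    rw [this, hk]; group
  rw [h1, orderOf_one] at hh
  exact (Fact.out : p.Prime).one_lt.ne hh

theorem up_pow (b : F) (n : ℕ) : up b ^ n = up ((n : F) * b) := by
  induction n with
  | zero => simp [up_zero]
  | succ n ih => rw [pow_succ, ih, ← up_add]; congr 1; push_cast; ring

theorem orderOf_up {b : F} (hb : b ≠ 0) : orderOf (up b) = p := by
  apply orderOf_eq_prime
  · rw [up_pow, CharP.cast_eq_zero, zero_mul, up_zero]
  · exact up_ne_one hb

end char_p

/-- the diagonal element `diag(t, t⁻¹)` -/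
noncomputable def dg (t : F) (ht : t ≠ 0) : SL2 F := mk t 0 0 t⁻¹ (by field_simp; ring)

theorem dg_mul_up (t : F) (ht : t ≠ 0) (b : F) : dg t ht * up b = up (t ^ 2 * b) * dg t ht := by
  apply ext4 <;> simp [mul_apply', up, dg]
  field_simp

theorem isConj_up_of_sq (t : F) (ht : t ≠ 0) (b : F) : IsConj (up b) (up (t ^ 2 * b)) := by
  rw [isConj_iff]
  exact ⟨dg t ht, by rw [dg_mul_up, mul_inv_cancel_right]⟩

theorem mem_centralizer_up {b : F} (hb : b ≠ 0) (x : SL2 F) :
    x ∈ Subgroup.centralizer ({up b} : Set (SL2 F)) ↔ x 1 0 = 0 ∧ x 0 0 = x 1 1 := by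
  rw [Subgroup.mem_centralizer_singleton_iff]
  constructor
  · intro h
    have h00 := congrArg (fun g : SL2 F => g 0 0) h
    have h01 := congrArg (fun g : SL2 F => g 0 1) h
    simp only [mul_apply', up, mk_00, mk_01, mk_10, mk_11] at h00 h01
    have hc : x 1 0 = 0 := by
      have : b * x 1 0 = 0 := by linear_combination (-1 : F) * h00
      exact (mul_eq_zero.mp this).resolve_left hb
    refine ⟨hc, ?_⟩
    have : b * (x 0 0 - x 1 1) = 0 := by linear_combination h01
    exact sub_eq_zero.mp ((mul_eq_zero.mp this).resolve_left hb)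
  · rintro ⟨hc, had⟩
    apply ext4 <;> simp [mul_apply', up, hc, had]
    ring

end Cfsg.Agent.Lib.Helper12.SL2
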