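import Mathlib
import Cfsg.Agent.Lib.Helper12.SL2b
import Cfsg.Agent.S2331
import Cfsg.Agent.S2475

set_option autoImplicit false

namespace Cfsg.Agent.Lib.Helper12.SL2

variable {F : Type*} [Field F]

local notation "SL2" => Matrix.SpecialLinearGroup (Fin 2)
local notation "M2" => Matrix (Fin 2) (Fin 2)

/-- trace of an element of `SL₂` -/
def tr (g : SL2 F) : F := g 0 0 + g 1 1

/-- non-scalar elements -/
def NonScalar (g : SL2 F) : Prop := ¬ (g 0 1 = 0 ∧ g 1 0 = 0 ∧ g 0 0 = g 1 1)

/-- the element `s + t g` when it has determinant one. -/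
def lin (g : SL2 F) (s t : F) (h : s ^ 2 + tr g * s * t + t ^ 2 = 1) : SL2 F :=
  mk (s + t * g 0 0) (t * g 0 1) (t * g 1 0) (s + t * g 1 1) (by
    have hd := det_eq g
    unfold tr at h
    linear_combination h + t ^ 2 * hd)

theorem lin_commute (g : SL2 F) (s t : F) (h : s ^ 2 + tr g * s * t + t ^ 2 = 1) :
    lin g s t h * g = g * lin g s t h := by
  apply ext4 <;> simp only [mul_apply', lin, mk_00, mk_01, mk_10, mk_11] <;> ring

theorem tr_lin (g : SL2 F) (s t : F) (h : s ^ 2 + tr g * s * t + t ^ 2 = 1) :
    tr (lin g s t h) = 2 * s + t * tr g := by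
  simp only [tr, lin, mk_00, mk_11]; ring

/-- the centralizer of a non-scalar element consists of the `s + t g`. -/
theorem exists_lin_of_commute (g h : SL2 F) (hg : NonScalar g) (hc : h * g = g * h) :
    ∃ (s t : F) (hst : s ^ 2 + tr g * s * t + t ^ 2 = 1), h = lin g s t hst := by
  have e00 := congrArg (fun y : SL2 F => y 0 0) hc
  have e01 := congrArg (fun y : SL2 F => y 0 1) hc
  have e10 := congrArg (fun y : SL2 F => y 1 0) hc
  simp only [mul_apply'] at e00 e01 e10
  have hdh := det_eq h
  have hdg := det_eq g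
  -- find s, t with the four entry equations
  obtain ⟨s, t, h00, h01, h10, h11⟩ : ∃ s t : F, h 0 0 = s + t * g 0 0 ∧ h 0 1 = t * g 0 1 ∧
      h 1 0 = t * g 1 0 ∧ h 1 1 = s + t * g 1 1 := by
    by_cases c10 : g 1 0 = 0
    · by_cases c01 : g 0 1 = 0
      · have hne : g 0 0 - g 1 1 ≠ 0 := fun h' => hg ⟨c01, c10, sub_eq_zero.mp h'⟩
        rw [c01] at e01
        rw [c10] at e10
        have k01 : h 0 1 = 0 := by
          have : h 0 1 * (g 0 0 - g 1 1) = 0 := by linear_combination -e01
          exact (mul_eq_zero.mp this).resolve_right hne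
        have k10 : h 1 0 = 0 := by
          have : h 1 0 * (g 0 0 - g 1 1) = 0 := by linear_combination e10
          exact (mul_eq_zero.mp this).resolve_right hne
        refine ⟨h 1 1 - (h 0 0 - h 1 1) / (g 0 0 - g 1 1) * g 1 1,
          (h 0 0 - h 1 1) / (g 0 0 - g 1 1), ?_, ?_, ?_, ?_⟩
        · field_simp; ring
        · rw [c01, k01, mul_zero]
        · rw [c10, k10, mul_zero]
        · ring
      · have k10 : h 1 0 = 0 := by
          rw [c10] at e00
          have : g 0 1 * h 1 0 = 0 := by linear_combination -e00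
          exact (mul_eq_zero.mp this).resolve_left c01
        refine ⟨h 1 1 - h 0 1 / g 0 1 * g 1 1, h 0 1 / g 0 1, ?_, ?_, ?_, ?_⟩
        · field_simp; linear_combination e01
        · field_simp
        · rw [c10, k10, mul_zero]
        · ring
    · refine ⟨h 1 1 - h 1 0 / g 1 0 * g 1 1, h 1 0 / g 1 0, ?_, ?_, ?_, ?_⟩
      · field_simp; linear_combination -e10
      · field_simp; linear_combination e00
      · field_simp
      · ring
  have hst : s ^ 2 + tr g * s * t + t ^ 2 = 1 := by
    unfold tr
    rw [h00, h01, h10, h11] at hdh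
    linear_combination hdh - t ^ 2 * hdg
  exact ⟨s, t, hst, by apply ext4 <;> simp [lin, h00, h01, h10, h11]⟩

theorem lin_mul_lin_comm (g : SL2 F) (s t s' t' : F) (h h') :
    lin g s t h * lin g s' t' h' = lin g s' t' h' * lin g s t h := by
  apply ext4 <;> simp only [mul_apply', lin, mk_00, mk_01, mk_10, mk_11] <;> ring

/-- the centralizer of a non-scalar element is abelian. -/
theorem commute_of_commute (g h k : SL2 F) (hg : NonScalar g) (hh : h * g = g * h)
    (hk : k * g = g * k) : h * k = k * h := by
  obtain ⟨s, t, hst, rfl⟩ := exists_lin_of_commute g h hg hh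
  obtain ⟨s', t', hst', rfl⟩ := exists_lin_of_commute g k hg hk
  exact lin_mul_lin_comm g s t s' t' hst hst'

theorem nonScalar_iff (g : SL2 F) : NonScalar g ↔ g ∉ Subgroup.center (SL2 F) := by
  unfold NonScalar
  rw [Cfsg.Agent.S2475.mem_center_iff']

theorem centralizer_eq_of_commute (g h : SL2 F) (hg : NonScalar g) (hh : NonScalar h)
    (hc : h * g = g * h) :
    Subgroup.centralizer ({h} : Set (SL2 F)) = Subgroup.centralizer ({g} : Set (SL2 F)) := by
  ext k
  rw [Subgroup.mem_centralizer_singleton_iff, Subgroup.mem_centralizer_singleton_iff]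
  constructor
  · intro hk
    -- k, g both commute with h
    exact commute_of_commute h k g hh hk hc.symm
  · intro hk
    exact commute_of_commute g k h hg hk hc

end Cfsg.Agent.Lib.Helper12.SL2
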