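import Mathlib
import Cfsg.Agent.Lib.Helper12.SL2b
import Cfsg.Agent.S2331
import Cfsg.Agent.S2475
import Cfsg.Agent.Lib.Helper12.C1

set_option autoImplicit false

namespace Cfsg.Agent.Lib.Helper12.SL2

variable {F : Type*} [Field F]

local notation "SL2" => Matrix.SpecialLinearGroup (Fin 2)
local notation "M2" => Matrix (Fin 2) (Fin 2)

open Polynomial in
theorem exists_sq_add_sq [Fintype F] (hq : Fintype.card F % 2 = 1) (a b d : F) (ha : a ≠ 0)
    (hb : b ≠ 0) : ∃ x y : F, a * x ^ 2 + b * y ^ 2 = d := by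
  have hf : degree (C a * X ^ 2 + C 0 * X + C (-d) : F[X]) = 2 := degree_quadratic ha
  have hg : degree (C b * X ^ 2 + C 0 * X + C 0 : F[X]) = 2 := degree_quadratic hb
  obtain ⟨x, y, hxy⟩ := FiniteField.exists_root_sum_quadratic hf hg hq
  refine ⟨x, y, ?_⟩
  simp only [eval_add, eval_mul, eval_C, eval_pow, eval_X] at hxy
  linear_combination hxy

theorem card_mod_two_of_two_ne_zero [Fintype F] (h2 : (2 : F) ≠ 0) : Fintype.card F % 2 = 1 :=
  Nat.odd_iff.mp (Cfsg.Agent.S2475.odd_card_of_two_ne_zero h2)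

/-- The binary form `Phi g` of a regular semisimple element represents `1`. -/
theorem exists_Phi_eq_one [Fintype F] (h2 : (2 : F) ≠ 0) (g : SL2 F) (hΔ : tr g ^ 2 ≠ 4) :
    ∃ v0 v1 : F, Cfsg.Agent.S2331.Phi g v0 v1 = 1 := by
  have hq := card_mod_two_of_two_ne_zero h2
  have hd := det_eq g
  unfold tr at hΔ
  have h4 : (4 : F) ≠ 0 := by
    have : (4 : F) = 2 * 2 := by norm_num
    rw [this]; exact mul_ne_zero h2 h2
  -- Δ = (g11 - g00)^2 + 4 g01 g10
  have hΔ' : (g 1 1 - g 0 0) ^ 2 + 4 * g 0 1 * g 1 0 ≠ 0 := by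
    intro h
    apply hΔ
    linear_combination h + 4 * hd
  unfold Cfsg.Agent.S2331.Phi
  by_cases c10 : g 1 0 = 0
  · by_cases c01 : g 0 1 = 0
    · have he : g 1 1 - g 0 0 ≠ 0 := by
        intro h
        apply hΔ'
        rw [h, c01, c10]; ring
      refine ⟨1, (g 1 1 - g 0 0)⁻¹, ?_⟩
      rw [c10, c01]
      field_simp
      ring
    · -- c = 0, b ≠ 0
      have he : g 1 1 - g 0 0 ≠ 0 := by
        intro h
        apply hΔ'
        rw [h, c10]; ring
      obtain ⟨x, y, hxy⟩ := exists_sq_add_sq hq ((g 1 1 - g 0 0) ^ 2 / (4 * g 0 1)) (-g 0 1) 1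
        (div_ne_zero (pow_ne_zero 2 he) (mul_ne_zero h4 c01)) (neg_ne_zero.mpr c01)
      refine ⟨x, y + (g 1 1 - g 0 0) / (2 * g 0 1) * x, ?_⟩
      rw [c10]
      refine Eq.trans ?_ hxy
      field_simp
      ring
  · obtain ⟨x, y, hxy⟩ := exists_sq_add_sq hq (g 1 0)
      (-((g 1 1 - g 0 0) ^ 2 + 4 * g 0 1 * g 1 0) / (4 * g 1 0)) 1 c10
      (div_ne_zero (neg_ne_zero.mpr hΔ') (mul_ne_zero h4 c10))
    refine ⟨x - (g 1 1 - g 0 0) / (2 * g 1 0) * y, y, ?_⟩
    refine Eq.trans ?_ hxy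
    field_simp
    ring

/-- A regular semisimple element of `SL₂(q)`, `q` odd, is `SL₂`-conjugate to the companion matrix
of its trace. -/
theorem isConj_compS [Fintype F] (h2 : (2 : F) ≠ 0) (g : SL2 F) (hΔ : tr g ^ 2 ≠ 4) :
    IsConj g (Cfsg.Agent.S2331.compS (tr g)) := by
  obtain ⟨v0, v1, hv⟩ := exists_Phi_eq_one h2 g hΔ
  exact Cfsg.Agent.S2331.isConj_comp_of_Phi g v0 v1 1 (by rw [hv]; exact one_ne_zero)
    (by rw [hv, one_mul])

theorem isConj_of_tr_eq [Fintype F] (h2 : (2 : F) ≠ 0) (g h : SL2 F) (hΔ : tr g ^ 2 ≠ 4)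
    (htr : tr g = tr h) : IsConj g h := by
  have h1 := isConj_compS h2 g hΔ
  have h2' := isConj_compS h2 h (htr ▸ hΔ)
  rw [← htr] at h2'
  exact h1.trans h2'.symm

end Cfsg.Agent.Lib.Helper12.SL2
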