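import Mathlib
import Cfsg.Agent.Lib.Helper12.SL2b
import Cfsg.Agent.S2331
import Cfsg.Agent.S2475
import Cfsg.Agent.Lib.Helper12.C1
import Cfsg.Agent.Lib.Helper12.C2

set_option autoImplicit false

namespace Cfsg.Agent.Lib.Helper12.SL2

variable {F : Type*} [Field F]

local notation "SL2" => Matrix.SpecialLinearGroup (Fin 2)
local notation "M2" => Matrix (Fin 2) (Fin 2)

theorem inv_00 (g : SL2 F) : g⁻¹ 0 0 = g 1 1 := by
  rw [Matrix.SpecialLinearGroup.coe_inv, Matrix.adjugate_fin_two]; rfl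
theorem inv_01 (g : SL2 F) : g⁻¹ 0 1 = -g 0 1 := by
  rw [Matrix.SpecialLinearGroup.coe_inv, Matrix.adjugate_fin_two]; rfl
theorem inv_10 (g : SL2 F) : g⁻¹ 1 0 = -g 1 0 := by
  rw [Matrix.SpecialLinearGroup.coe_inv, Matrix.adjugate_fin_two]; rfl
theorem inv_11 (g : SL2 F) : g⁻¹ 1 1 = g 0 0 := by
  rw [Matrix.SpecialLinearGroup.coe_inv, Matrix.adjugate_fin_two]; rfl

theorem tr_inv (g : SL2 F) : tr g⁻¹ = tr g := by
  unfold tr; rw [inv_00, inv_11]; ring

theorem tr_conj (h g : SL2 F) : tr (h * g * h⁻¹) = tr g := by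
  have : IsConj g (h * g * h⁻¹) := isConj_iff.mpr ⟨h, rfl⟩
  exact (Cfsg.Agent.S2331.tr_eq_of_isConj this).symm

theorem nonScalar_of_tr (x : SL2 F) (hΔ : tr x ^ 2 ≠ 4) : NonScalar x := by
  rintro ⟨h01, h10, h00⟩
  apply hΔ
  have hd := det_eq x
  unfold tr
  rw [h01, zero_mul, sub_zero, ← h00] at hd
  rw [← h00]
  linear_combination 4 * hd

/-- the inverse of `s + t x` is `s + t x⁻¹`. -/
theorem lin_inv (x : SL2 F) (s t : F) (h) (h') : (lin x s t h)⁻¹ = lin x⁻¹ s t h' := by
  apply ext4 <;> simp only [inv_00, inv_01, inv_10, inv_11, lin, mk_00, mk_01, mk_10, mk_11] <;> ring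

theorem conj_lin (g x : SL2 F) (s t : F) (h) (h') :
    g * lin x s t h * g⁻¹ = lin (g * x * g⁻¹) s t h' := by
  have hd := det_eq g
  apply ext4 <;>
    simp only [mul_apply', inv_00, inv_01, inv_10, inv_11, lin, mk_00, mk_01, mk_10, mk_11]
  · linear_combination s * hd
  · ring
  · ring
  · linear_combination s * hd

/-- an element of the centralizer of a regular semisimple `x` with the trace of `x` is `x` or
`x⁻¹`. -/
theorem eq_or_eq_inv_of_tr_eq (h2 : (2 : F) ≠ 0) (x y : SL2 F) (hΔ : tr x ^ 2 ≠ 4)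
    (hc : y * x = x * y) (htr : tr y = tr x) : y = x ∨ y = x⁻¹ := by
  obtain ⟨s, t, hst, rfl⟩ := exists_lin_of_commute x y (nonScalar_of_tr x hΔ) hc
  rw [tr_lin] at htr
  have h1 : (1 - t ^ 2) * (tr x ^ 2 - 4) = 0 := by
    linear_combination (4 : F) * hst - (2 * s + t * tr x + tr x) * htr
  have ht : t ^ 2 = 1 := by
    rcases mul_eq_zero.mp h1 with h | h
    · linear_combination -h
    · exact absurd (sub_eq_zero.mp h) hΔ
  have ht' : t = 1 ∨ t = -1 := by
    have : (t - 1) * (t + 1) = 0 := by linear_combination ht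
    rcases mul_eq_zero.mp this with h | h
    · left; exact sub_eq_zero.mp h
    · right; exact eq_neg_of_add_eq_zero_left h
  rcases ht' with rfl | rfl
  · left
    have hs : s = 0 := by
      have : 2 * s = 0 := by linear_combination htr
      exact (mul_eq_zero.mp this).resolve_left h2
    subst hs
    apply ext4 <;> simp [lin]
  · right
    have hs : s = tr x := by
      have : 2 * (s - tr x) = 0 := by linear_combination htr
      exact sub_eq_zero.mp ((mul_eq_zero.mp this).resolve_left h2)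
    subst hs
    apply ext4 <;> simp only [inv_00, inv_01, inv_10, inv_11, lin, mk_00, mk_01, mk_10, mk_11, tr] <;>
      ring

theorem ne_inv_of_tr (h2 : (2 : F) ≠ 0) (x : SL2 F) (hΔ : tr x ^ 2 ≠ 4) : x ≠ x⁻¹ := by
  intro h
  have hxx : x * x = 1 := by
    calc x * x = x * x⁻¹ := by rw [← h]
      _ = 1 := mul_inv_cancel x
  have hc := Cfsg.Agent.S2475.mem_center_of_sq_eq_one h2 x hxx
  exact (nonScalar_iff x).mp (nonScalar_of_tr x hΔ) hc

theorem exists_inverting [Fintype F] (h2 : (2 : F) ≠ 0) (x : SL2 F) (hΔ : tr x ^ 2 ≠ 4) :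
    ∃ w : SL2 F, w * x * w⁻¹ = x⁻¹ := by
  have := isConj_of_tr_eq h2 x x⁻¹ hΔ (tr_inv x).symm
  exact isConj_iff.mp this

/-- conjugation by `n` maps the centralizer of `x` to the centralizer of `n x n⁻¹`. -/
theorem conj_mem_centralizer_iff (n x k : SL2 F) :
    n * k * n⁻¹ ∈ Subgroup.centralizer ({n * x * n⁻¹} : Set (SL2 F)) ↔
      k ∈ Subgroup.centralizer ({x} : Set (SL2 F)) := by
  rw [Subgroup.mem_centralizer_singleton_iff, Subgroup.mem_centralizer_singleton_iff]
  constructor
  · intro h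
    have h1 : n * (k * x) * n⁻¹ = n * (x * k) * n⁻¹ := by
      calc n * (k * x) * n⁻¹ = (n * k * n⁻¹) * (n * x * n⁻¹) := by group
        _ = (n * x * n⁻¹) * (n * k * n⁻¹) := h
        _ = n * (x * k) * n⁻¹ := by group
    exact mul_left_cancel (mul_right_cancel h1)
  · intro h
    calc (n * k * n⁻¹) * (n * x * n⁻¹) = n * (k * x) * n⁻¹ := by group
      _ = n * (x * k) * n⁻¹ := by rw [h]
      _ = (n * x * n⁻¹) * (n * k * n⁻¹) := by group

theorem centralizer_inv (x : SL2 F) :
    Subgroup.centralizer ({x⁻¹} : Set (SL2 F)) = Subgroup.centralizer ({x} : Set (SL2 F)) := by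
  ext k
  rw [Subgroup.mem_centralizer_singleton_iff, Subgroup.mem_centralizer_singleton_iff]
  constructor
  · intro h
    calc k * x = x * (x⁻¹ * k) * x := by group
      _ = x * (k * x⁻¹) * x := by rw [h]
      _ = x * k := by group
  · intro h
    calc k * x⁻¹ = x⁻¹ * (x * k) * x⁻¹ := by group
      _ = x⁻¹ * (k * x) * x⁻¹ := by rw [h]
      _ = x⁻¹ * k := by group

/-- the normalizer of the torus `C(x)`. -/
theorem mem_normalizer_centralizer_iff (h2 : (2 : F) ≠ 0) (x : SL2 F) (hΔ : tr x ^ 2 ≠ 4)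
    (n : SL2 F) :
    n ∈ Subgroup.normalizer ((Subgroup.centralizer ({x} : Set (SL2 F)) : Subgroup (SL2 F)) :
        Set (SL2 F)) ↔ n * x * n⁻¹ = x ∨ n * x * n⁻¹ = x⁻¹ := by
  rw [Subgroup.mem_normalizer_iff]
  constructor
  · intro h
    have hx : x ∈ Subgroup.centralizer ({x} : Set (SL2 F)) :=
      Subgroup.mem_centralizer_singleton_iff.mpr rfl
    have h1 := (h x).mp hx
    rw [Subgroup.mem_centralizer_singleton_iff] at h1
    exact eq_or_eq_inv_of_tr_eq h2 x _ hΔ h1 (tr_conj n x)
  · intro h k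
    have key := conj_mem_centralizer_iff n x k
    rcases h with h | h
    · rw [h] at key; exact key.symm
    · rw [h, centralizer_inv] at key; exact key.symm

theorem centralizer_le_normalizer (h2 : (2 : F) ≠ 0) (x : SL2 F) (hΔ : tr x ^ 2 ≠ 4) :
    Subgroup.centralizer ({x} : Set (SL2 F)) ≤
      Subgroup.normalizer ((Subgroup.centralizer ({x} : Set (SL2 F)) : Subgroup (SL2 F)) :
        Set (SL2 F)) := by
  intro n hn
  rw [mem_normalizer_centralizer_iff h2 x hΔ]
  left
  rw [Subgroup.mem_centralizer_singleton_iff] at hn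
  rw [hn, mul_inv_cancel_right]

theorem card_eq_two_mul_of_relIndex_two {G : Type*} [Group G] (H K : Subgroup G) (hle : H ≤ K)
    (h : H.relIndex K = 2) : Nat.card K = 2 * Nat.card H := by
  have h1 := (H.subgroupOf K).card_mul_index
  have h2 : Nat.card (H.subgroupOf K) = Nat.card H :=
    Nat.card_congr (Subgroup.subgroupOfEquivOfLe hle).toEquiv
  rw [← h1, h2, mul_comm]
  congr 1

theorem relIndex_centralizer_normalizer [Fintype F] (h2 : (2 : F) ≠ 0) (x : SL2 F)
    (hΔ : tr x ^ 2 ≠ 4) :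
    (Subgroup.centralizer ({x} : Set (SL2 F))).relIndex
      (Subgroup.normalizer ((Subgroup.centralizer ({x} : Set (SL2 F)) : Subgroup (SL2 F)) :
        Set (SL2 F))) = 2 := by
  obtain ⟨w, hw⟩ := exists_inverting h2 x hΔ
  rw [Subgroup.relIndex_eq_two_iff]
  refine ⟨w, (mem_normalizer_centralizer_iff h2 x hΔ w).mpr (Or.inr hw), ?_⟩
  intro b hb
  rw [mem_normalizer_centralizer_iff h2 x hΔ] at hb
  have hne := ne_inv_of_tr h2 x hΔ
  have e1 : b * w ∈ Subgroup.centralizer ({x} : Set (SL2 F)) ↔ b * x * b⁻¹ = x⁻¹ := by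
    rw [Subgroup.mem_centralizer_singleton_iff]
    have hw' : w * x = x⁻¹ * w := by rw [← hw]; group
    constructor
    · intro h
      have : b * x⁻¹ * b⁻¹ = x := by
        have h' : b * (w * x) = x * b * w := by rw [← mul_assoc, h, mul_assoc]
        rw [hw'] at h'
        have : b * x⁻¹ = x * b := by
          have h'' : (b * x⁻¹) * w = (x * b) * w := by rw [mul_assoc, h']
          exact mul_right_cancel h''
        rw [this, mul_inv_cancel_right]
      calc b * x * b⁻¹ = (b * x⁻¹ * b⁻¹)⁻¹ := by group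
        _ = x⁻¹ := by rw [this]
    · intro h
      have hbx : b * x = x⁻¹ * b := by rw [← h]; group
      calc b * w * x = b * (w * x) := mul_assoc _ _ _
        _ = b * (x⁻¹ * w) := by rw [hw']
        _ = (b * x⁻¹) * w := (mul_assoc _ _ _).symm
        _ = x * b * w := by
          have : b * x⁻¹ = x * b := by
            calc b * x⁻¹ = x * (x⁻¹ * b) * x⁻¹ := by group
              _ = x * (b * x) * x⁻¹ := by rw [hbx]
              _ = x * b := by group
          rw [this]
        _ = x * (b * w) := mul_assoc _ _ _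
  have e2 : b ∈ Subgroup.centralizer ({x} : Set (SL2 F)) ↔ b * x * b⁻¹ = x := by
    rw [Subgroup.mem_centralizer_singleton_iff]
    constructor
    · intro h; rw [h, mul_inv_cancel_right]
    · intro h
      calc b * x = b * x * b⁻¹ * b := by group
        _ = x * b := by rw [h]
  rw [e1, e2]
  rcases hb with hb | hb
  · right
    exact ⟨hb, fun h => hne (hb.symm.trans h)⟩
  · left
    exact ⟨hb, fun h => hne (h.symm.trans hb)⟩

theorem card_normalizer_centralizer [Fintype F] (h2 : (2 : F) ≠ 0) (x : SL2 F)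
    (hΔ : tr x ^ 2 ≠ 4) :
    Nat.card (Subgroup.normalizer ((Subgroup.centralizer ({x} : Set (SL2 F)) : Subgroup (SL2 F)) :
        Set (SL2 F))) = 2 * Nat.card (Subgroup.centralizer ({x} : Set (SL2 F))) :=
  card_eq_two_mul_of_relIndex_two _ _ (centralizer_le_normalizer h2 x hΔ)
    (relIndex_centralizer_normalizer h2 x hΔ)

end Cfsg.Agent.Lib.Helper12.SL2
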