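import Mathlib

set_option autoImplicit false

namespace Cfsg.Agent.Lib.Helper12.Dicyclic

open Finset in
/-- Class number of a "dicyclic-like" group: an abelian subgroup `T` of index two, all elements
outside `T` inverting `T`, and `T` having exactly two elements of square one. -/
theorem two_mul_card_conjClasses {G : Type*} [Group G] [Finite G] (T : Subgroup G)
    (hidx : T.index = 2) (hcomm : ∀ s ∈ T, ∀ t ∈ T, s * t = t * s) (z : G) (hzT : z ∈ T)
    (hz1 : z ≠ 1) (hsq : ∀ t ∈ T, t * t = 1 ↔ t = 1 ∨ t = z)
    (hinv : ∀ g, g ∉ T → ∀ t ∈ T, g * t * g⁻¹ = t⁻¹) :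
    2 * Nat.card (ConjClasses G) = Nat.card T + 6 := by
  classical
  have := Fintype.ofFinite G
  set n := Nat.card T with hn
  have hn0 : 0 < n := Nat.card_pos
  have hG : Nat.card G = 2 * n := by rw [← T.card_mul_index, hidx, mul_comm]
  have hpairs := card_comm_eq_card_conjClasses_mul_card G
  have hzz : z * z = 1 := (hsq z hzT).mpr (Or.inr rfl)
  -- elements of square one in `T` are central
  have hcentral : ∀ a ∈ T, a * a = 1 → ∀ b : G, Commute a b := by
    intro a ha haa b
    by_cases hb : b ∈ T
    · exact hcomm a ha b hb
    · have h1 := hinv b hb a ha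
      have h2 : a⁻¹ = a := inv_eq_of_mul_eq_one_left haa
      rw [h2] at h1
      show a * b = b * a
      calc a * b = (b * a * b⁻¹) * b := by rw [h1]
        _ = b * a := by group
  have hA : ∀ a ∈ T, a * a = 1 → Nat.card {b // Commute a b} = 2 * n := by
    intro a ha haa
    rw [← hG]
    exact Nat.card_congr (Equiv.subtypeUnivEquiv (hcentral a ha haa))
  have hB : ∀ a ∈ T, a * a ≠ 1 → Nat.card {b // Commute a b} = n := by
    intro a ha haa
    have : ∀ b : G, Commute a b ↔ b ∈ T := by
      intro b
      constructor
      · intro hc
        by_contra hb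
        have h1 := hinv b hb a ha
        have h2 : b * a * b⁻¹ = a := by rw [← hc.eq, mul_inv_cancel_right]
        rw [h2] at h1
        apply haa
        calc a * a = a * a⁻¹ := by rw [← h1]
          _ = 1 := mul_inv_cancel a
      · intro hb
        exact hcomm a ha b hb
    exact Nat.card_congr (Equiv.subtypeEquivRight this)
  have hC : ∀ a, a ∉ T → Nat.card {b // Commute a b} = 4 := by
    intro a ha
    have hmem : ∀ b : G, Commute a b ↔ b ∈ ({1, z, a, a * z} : Finset G) := by
      intro b
      simp only [Finset.mem_insert, Finset.mem_singleton]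
      constructor
      · intro hc
        by_cases hb : b ∈ T
        · have h1 := hinv a ha b hb
          have h2 : a * b * a⁻¹ = b := by rw [hc.eq, mul_inv_cancel_right]
          rw [h2] at h1
          have hbb : b * b = 1 := by
            calc b * b = b * b⁻¹ := by rw [← h1]
              _ = 1 := mul_inv_cancel b
          rcases (hsq b hb).mp hbb with h | h
          · left; exact h
          · right; left; exact h
        · have ht : a⁻¹ * b ∈ T := by
            rw [Subgroup.mul_mem_iff_of_index_two hidx, inv_mem_iff]
            exact ⟨fun h => absurd h ha, fun h => absurd h hb⟩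
          have hct : Commute a (a⁻¹ * b) := (Commute.refl a).inv_right.mul_right hc
          have h1 := hinv a ha _ ht
          have h2 : a * (a⁻¹ * b) * a⁻¹ = a⁻¹ * b := by rw [hct.eq, mul_inv_cancel_right]
          rw [h2] at h1
          have htt : (a⁻¹ * b) * (a⁻¹ * b) = 1 := by
            calc (a⁻¹ * b) * (a⁻¹ * b) = (a⁻¹ * b) * (a⁻¹ * b)⁻¹ := by rw [← h1]
              _ = 1 := mul_inv_cancel _
          rcases (hsq _ ht).mp htt with h | h
          · right; right; left
            calc b = a * (a⁻¹ * b) := by group
              _ = a := by rw [h, mul_one]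
          · right; right; right
            calc b = a * (a⁻¹ * b) := by group
              _ = a * z := by rw [h]
      · rintro (rfl | rfl | rfl | rfl)
        · exact Commute.one_right a
        · exact (hcentral _ hzT hzz a).symm
        · exact Commute.refl _
        · exact (Commute.refl a).mul_right (hcentral _ hzT hzz a).symm
    rw [Nat.card_congr (Equiv.subtypeEquivRight hmem), Nat.card_eq_fintype_card,
      Fintype.card_coe]
    have h1a : (1 : G) ≠ a := fun h => ha (h ▸ T.one_mem)
    have hza : z ≠ a := fun h => ha (h ▸ hzT)
    have haz : a * z ∉ T := fun h => ha ((Subgroup.mul_mem_cancel_right T hzT).mp h)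
    have h1az : (1 : G) ≠ a * z := fun h => haz (h ▸ T.one_mem)
    have hzaz : z ≠ a * z := fun h => haz (h ▸ hzT)
    have haaz : a ≠ a * z := fun h => hz1 (by
      have : a * 1 = a * z := by rw [mul_one]; exact h
      exact (mul_left_cancel this).symm)
    rw [Finset.card_insert_of_notMem, Finset.card_insert_of_notMem, Finset.card_pair haaz]
    · simp only [Finset.mem_insert, Finset.mem_singleton]
      rintro (h | h)
      · exact hza h
      · exact hzaz h
    · simp only [Finset.mem_insert, Finset.mem_singleton]
      rintro (h | h | h)
      · exact hz1 h.symm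
      · exact h1a h
      · exact h1az h
  -- the count of commuting pairs
  have hcount : Nat.card {p : G × G // Commute p.1 p.2} = n * n + 6 * n := by
    rw [Nat.card_congr (Equiv.subtypeProdEquivSigmaSubtype Commute), Nat.card_sigma]
    have hf : ∀ a : G, Nat.card {b // Commute a b} =
        (if a ∈ T then n else 0) + (if a ∈ T ∧ a * a = 1 then n else 0) +
          (if a ∉ T then 4 else 0) := by
      intro a
      by_cases ha : a ∈ T
      · by_cases haa : a * a = 1
        · rw [hA a ha haa]; simp [ha, haa]; ring
        · rw [hB a ha haa]; simp [ha, haa]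
      · rw [hC a ha]; simp [ha]
    simp_rw [hf]
    rw [Finset.sum_add_distrib, Finset.sum_add_distrib]
    simp only [Finset.sum_ite, Finset.sum_const, smul_eq_mul]
    have c1 : (Finset.univ.filter (fun a : G => a ∈ T)).card = n := by
      rw [hn, Nat.card_eq_fintype_card, Fintype.card_subtype]
    have c2 : (Finset.univ.filter (fun a : G => a ∈ T ∧ a * a = 1)).card = 2 := by
      have : Finset.univ.filter (fun a : G => a ∈ T ∧ a * a = 1) = {1, z} := by
        ext a
        simp only [Finset.mem_filter, Finset.mem_univ, true_and, Finset.mem_insert,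
          Finset.mem_singleton]
        constructor
        · rintro ⟨ha, haa⟩
          exact (hsq a ha).mp haa
        · rintro (rfl | rfl)
          · exact ⟨T.one_mem, mul_one 1⟩
          · exact ⟨hzT, hzz⟩
      rw [this, Finset.card_pair hz1.symm]
    have c3 : (Finset.univ.filter (fun a : G => a ∉ T)).card = n := by
      have h := Finset.card_filter_add_card_filter_not (s := (Finset.univ : Finset G))
        (fun a : G => a ∈ T)
      rw [c1, Finset.card_univ, ← Nat.card_eq_fintype_card, hG] at h
      omega
    rw [c1, c2, c3]
    ring
  rw [hcount, hG] at hpairs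
  have : (n + 6) * n = (2 * Nat.card (ConjClasses G)) * n := by
    rw [add_mul, hpairs]; ring
  exact (Nat.eq_of_mul_eq_mul_right hn0 this).symm

end Cfsg.Agent.Lib.Helper12.Dicyclic
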