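import Mathlib
import Cfsg.Agent.Lib.Helper12.C3
import Cfsg.Agent.Lib.Helper12.Dicyclic

set_option autoImplicit false

namespace Cfsg.Agent.Lib.Helper12.SL2

variable {F : Type*} [Field F]

local notation "SL2" => Matrix.SpecialLinearGroup (Fin 2)
local notation "M2" => Matrix (Fin 2) (Fin 2)

/-- the central involution -/
abbrev zc' : SL2 F := Cfsg.Agent.S2471.zc

theorem coe_zc : ((zc' : SL2 F) : M2 F) = -1 := by
  ext i j
  fin_cases i <;> fin_cases j <;> simp [zc', Cfsg.Agent.S2471.zc, mk]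

theorem zc_ne_one (h2 : (2 : F) ≠ 0) : (zc' : SL2 F) ≠ 1 := by
  intro h
  have := congrArg (fun g : SL2 F => g 0 0) h
  simp [zc', Cfsg.Agent.S2471.zc] at this
  apply h2
  linear_combination -this

theorem eq_one_or_zc_of_sq (h2 : (2 : F) ≠ 0) (t : SL2 F) (h : t * t = 1) : t = 1 ∨ t = zc' := by
  have hc := Cfsg.Agent.S2475.mem_center_of_sq_eq_one h2 t h
  obtain ⟨h01, h10, h00⟩ := (Cfsg.Agent.S2475.mem_center_iff' t).mp hc
  have hd := det_eq t
  rw [h01, zero_mul, sub_zero, ← h00] at hd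
  have : (t 0 0 - 1) * (t 0 0 + 1) = 0 := by linear_combination hd
  rcases mul_eq_zero.mp this with h' | h'
  · left
    have h1 : t 0 0 = 1 := sub_eq_zero.mp h'
    apply ext4 <;> simp [h01, h10, ← h00, h1]
  · right
    have h1 : t 0 0 = -1 := eq_neg_of_add_eq_zero_left h'
    apply ext4 <;> simp [h01, h10, ← h00, h1, zc', Cfsg.Agent.S2471.zc]

theorem lin_congr (x y : SL2 F) (hxy : x = y) (s t : F) (h) (h') : lin x s t h = lin y s t h' := by
  subst hxy; rfl

/-- abbreviation for the torus `C(x)`. -/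
abbrev Tor (x : SL2 F) : Subgroup (SL2 F) := Subgroup.centralizer ({x} : Set (SL2 F))

/-- abbreviation for the normalizer of the torus `C(x)`. -/
abbrev NTor (x : SL2 F) : Subgroup (SL2 F) := Subgroup.normalizer ((Tor x : Subgroup (SL2 F)) : Set (SL2 F))

theorem conj_eq_inv_of_not_mem (h2 : (2 : F) ≠ 0) (x : SL2 F) (hΔ : tr x ^ 2 ≠ 4) (g : SL2 F)
    (hg : g ∈ NTor x) (hgT : g ∉ Tor x) : g * x * g⁻¹ = x⁻¹ := by
  rcases (mem_normalizer_centralizer_iff h2 x hΔ g).mp hg with h | h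
  · exfalso
    apply hgT
    rw [Subgroup.mem_centralizer_singleton_iff]
    calc g * x = g * x * g⁻¹ * g := by group
      _ = x * g := by rw [h]
  · exact h

theorem conj_eq_inv (h2 : (2 : F) ≠ 0) (x : SL2 F) (hΔ : tr x ^ 2 ≠ 4) (g : SL2 F)
    (hg : g ∈ NTor x) (hgT : g ∉ Tor x) (t : SL2 F) (ht : t ∈ Tor x) : g * t * g⁻¹ = t⁻¹ := by
  have hx := conj_eq_inv_of_not_mem h2 x hΔ g hg hgT
  rw [Subgroup.mem_centralizer_singleton_iff] at ht
  obtain ⟨s, u, hsu, rfl⟩ := exists_lin_of_commute x t (nonScalar_of_tr x hΔ) ht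
  have h1 : s ^ 2 + tr (g * x * g⁻¹) * s * u + u ^ 2 = 1 := by rw [tr_conj]; exact hsu
  have h2' : s ^ 2 + tr x⁻¹ * s * u + u ^ 2 = 1 := by rw [tr_inv]; exact hsu
  rw [conj_lin g x s u hsu h1, lin_inv x s u hsu h2']
  exact lin_congr _ _ hx s u _ _

theorem tr_eq_zero_of_not_mem (h2 : (2 : F) ≠ 0) (x : SL2 F) (hΔ : tr x ^ 2 ≠ 4) (g : SL2 F)
    (hg : g ∈ NTor x) (hgT : g ∉ Tor x) : tr g = 0 := by
  have hx := conj_eq_inv_of_not_mem h2 x hΔ g hg hgT
  -- g * g commutes with x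
  have hgg : (g * g) * x = x * (g * g) := by
    have h1 : g * x = x⁻¹ * g := by rw [← hx]; group
    have h2' : g * x⁻¹ = x * g := by
      calc g * x⁻¹ = x * (x⁻¹ * g) * x⁻¹ := by group
        _ = x * (g * x) * x⁻¹ := by rw [h1]
        _ = x * g := by group
    calc (g * g) * x = g * (g * x) := mul_assoc _ _ _
      _ = g * (x⁻¹ * g) := by rw [h1]
      _ = (g * x⁻¹) * g := (mul_assoc _ _ _).symm
      _ = x * g * g := by rw [h2']
      _ = x * (g * g) := mul_assoc _ _ _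
  by_contra hτ
  apply hgT
  rw [Subgroup.mem_centralizer_singleton_iff]
  have hch := Cfsg.Agent.S0800.ch (g : M2 F) g.det_coe
  have hM : ((g : M2 F) * (g : M2 F)) * (x : M2 F) = (x : M2 F) * ((g : M2 F) * (g : M2 F)) := by
    have := congrArg (fun y : SL2 F => (y : M2 F)) hgg
    simpa only [Matrix.SpecialLinearGroup.coe_mul] using this
  rw [hch] at hM
  have hτ' : (g 0 0 + g 1 1) ≠ 0 := hτ
  have h3 : (g 0 0 + g 1 1) • ((g : M2 F) * (x : M2 F)) = (g 0 0 + g 1 1) • ((x : M2 F) * (g : M2 F)) := by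
    have e1 : ((g 0 0 + g 1 1) • (g : M2 F) - 1) * (x : M2 F) =
        (g 0 0 + g 1 1) • ((g : M2 F) * (x : M2 F)) - (x : M2 F) := by
      rw [sub_mul, smul_mul_assoc, one_mul]
    have e2 : (x : M2 F) * ((g 0 0 + g 1 1) • (g : M2 F) - 1) =
        (g 0 0 + g 1 1) • ((x : M2 F) * (g : M2 F)) - (x : M2 F) := by
      rw [mul_sub, mul_smul_comm, mul_one]
    rw [e1, e2] at hM
    exact sub_left_injective hM
  have h4 := smul_right_injective (M2 F) hτ' h3
  apply Subtype.ext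
  rw [Matrix.SpecialLinearGroup.coe_mul, Matrix.SpecialLinearGroup.coe_mul]
  exact h4

theorem sq_of_not_mem (h2 : (2 : F) ≠ 0) (x : SL2 F) (hΔ : tr x ^ 2 ≠ 4) (g : SL2 F)
    (hg : g ∈ NTor x) (hgT : g ∉ Tor x) : ((g * g : SL2 F) : M2 F) = -1 := by
  have hτ := tr_eq_zero_of_not_mem h2 x hΔ g hg hgT
  have hch := Cfsg.Agent.S0800.ch (g : M2 F) g.det_coe
  rw [Matrix.SpecialLinearGroup.coe_mul, hch]
  have : g 0 0 + g 1 1 = 0 := hτ
  rw [this, zero_smul, zero_sub]

/-- class number of the normalizer of a torus -/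
theorem card_conjClasses_NTor [Fintype F] (h2 : (2 : F) ≠ 0) (x : SL2 F) (hΔ : tr x ^ 2 ≠ 4) :
    2 * Nat.card (ConjClasses (NTor x)) = Nat.card (Tor x) + 6 := by
  have hle : Tor x ≤ NTor x := centralizer_le_normalizer h2 x hΔ
  have hcard : Nat.card ((Tor x).subgroupOf (NTor x)) = Nat.card (Tor x) :=
    Nat.card_congr (Subgroup.subgroupOfEquivOfLe hle).toEquiv
  rw [← hcard]
  have hzT : (zc' : SL2 F) ∈ Tor x := by
    rw [Subgroup.mem_centralizer_singleton_iff]
    exact (Cfsg.Agent.S2471.zc_central x).symm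
  refine Dicyclic.two_mul_card_conjClasses ((Tor x).subgroupOf (NTor x))
    (relIndex_centralizer_normalizer h2 x hΔ) ?_ ⟨zc', hle hzT⟩ ?_ ?_ ?_ ?_
  · rintro ⟨s, hs⟩ hsT ⟨t, ht⟩ htT
    rw [Subgroup.mem_subgroupOf] at hsT htT
    apply Subtype.ext
    simp only [Subgroup.coe_mul]
    rw [Subgroup.mem_centralizer_singleton_iff] at hsT htT
    exact commute_of_commute x s t (nonScalar_of_tr x hΔ) hsT htT
  · rw [Subgroup.mem_subgroupOf]; exact hzT
  · intro h
    exact zc_ne_one h2 (congrArg Subtype.val h)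
  · rintro ⟨t, ht⟩ htT
    constructor
    · intro h
      have h' : t * t = 1 := congrArg Subtype.val h
      rcases eq_one_or_zc_of_sq h2 t h' with h1 | h1
      · left; exact Subtype.ext h1
      · right; exact Subtype.ext h1
    · rintro (h | h)
      · rw [h, mul_one]
      · rw [h]; exact Subtype.ext Cfsg.Agent.S2471.zc_mul_self
  · rintro ⟨g, hg⟩ hgT ⟨t, ht⟩ htT
    rw [Subgroup.mem_subgroupOf] at hgT htT
    apply Subtype.ext
    simp only [Subgroup.coe_mul, Subgroup.coe_inv]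
    exact conj_eq_inv h2 x hΔ g hg hgT t htT

end Cfsg.Agent.Lib.Helper12.SL2
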