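import Mathlib
import Cfsg.Agent.Lib.Helper12.C4

set_option autoImplicit false

namespace Cfsg.Agent.Lib.Helper12.SL2

variable {F : Type*} [Field F]

local notation "SL2" => Matrix.SpecialLinearGroup (Fin 2)
local notation "M2" => Matrix (Fin 2) (Fin 2)

/-! ### conjugation transport -/

theorem Tor_conj (h g : SL2 F) :
    (Tor g).map (MulAut.conj h).toMonoidHom = Tor (h * g * h⁻¹) := by
  ext k
  rw [Subgroup.mem_map]
  constructor
  · rintro ⟨k', hk', rfl⟩
    exact (conj_mem_centralizer_iff h g k').mpr hk'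
  · intro hk
    refine ⟨h⁻¹ * k * h, ?_, ?_⟩
    · rw [← conj_mem_centralizer_iff h g]
      have : h * (h⁻¹ * k * h) * h⁻¹ = k := by group
      rw [this]; exact hk
    · show h * (h⁻¹ * k * h) * h⁻¹ = k
      group

/-- `C(g)` and `C(h g h⁻¹)` are isomorphic. -/
noncomputable def TorConjEquiv (h g : SL2 F) : Tor g ≃* Tor (h * g * h⁻¹) :=
  ((Tor g).equivMapOfInjective (MulAut.conj h).toMonoidHom (MulAut.conj h).injective).trans
    (MulEquiv.subgroupCongr (Tor_conj h g))

/-! ### the split torus -/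

/-- the diagonal embedding `Fˣ → SL₂(F)`. -/
noncomputable def dgHom : Fˣ →* SL2 F where
  toFun u := dg (u : F) u.ne_zero
  map_one' := by apply ext4 <;> simp [dg]
  map_mul' u v := by apply ext4 <;> simp [dg, mul_apply', mul_comm]

theorem dgHom_injective : Function.Injective (dgHom : Fˣ →* SL2 F) := by
  intro u v h
  have := congrArg (fun g : SL2 F => g 0 0) h
  simp only [dgHom, MonoidHom.coe_mk, OneHom.coe_mk, dg, mk_00] at this
  exact Units.ext this

theorem tr_sq_ne_four_of_diag (d : SL2 F) (hd01 : d 0 1 = 0) (hda : d 0 0 ^ 2 ≠ 1) :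
    tr d ^ 2 ≠ 4 := by
  have hd := det_eq d
  rw [hd01, zero_mul, sub_zero] at hd
  intro h
  unfold tr at h
  apply hda
  have h1 : (d 0 0 - d 1 1) ^ 2 = 0 := by linear_combination h - 4 * hd
  have h2 : d 0 0 = d 1 1 := sub_eq_zero.mp (pow_eq_zero_iff (two_ne_zero) |>.mp h1)
  rw [← h2] at hd
  rw [pow_two]; exact hd

theorem mem_Tor_diag_iff (d : SL2 F) (hd01 : d 0 1 = 0) (hd10 : d 1 0 = 0) (hda : d 0 0 ^ 2 ≠ 1)
    (g : SL2 F) : g ∈ Tor d ↔ g 0 1 = 0 ∧ g 1 0 = 0 := by
  have hd := det_eq d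
  rw [hd01, zero_mul, sub_zero] at hd
  have hne : d 0 0 - d 1 1 ≠ 0 := by
    intro h
    apply hda
    rw [sub_eq_zero] at h
    rw [← h] at hd
    rw [pow_two]; exact hd
  rw [Subgroup.mem_centralizer_singleton_iff]
  constructor
  · intro h
    have e01 := congrArg (fun y : SL2 F => y 0 1) h
    have e10 := congrArg (fun y : SL2 F => y 1 0) h
    simp only [mul_apply', hd01, hd10, mul_zero, zero_mul, zero_add, add_zero] at e01 e10
    constructor
    · have : g 0 1 * (d 0 0 - d 1 1) = 0 := by linear_combination -e01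
      exact (mul_eq_zero.mp this).resolve_right hne
    · have : g 1 0 * (d 0 0 - d 1 1) = 0 := by linear_combination e10
      exact (mul_eq_zero.mp this).resolve_right hne
  · rintro ⟨h01, h10⟩
    apply ext4 <;> simp [mul_apply', hd01, hd10, h01, h10, mul_comm]

theorem range_dgHom (d : SL2 F) (hd01 : d 0 1 = 0) (hd10 : d 1 0 = 0) (hda : d 0 0 ^ 2 ≠ 1) :
    (dgHom : Fˣ →* SL2 F).range = Tor d := by
  ext g
  rw [mem_Tor_diag_iff d hd01 hd10 hda, MonoidHom.mem_range]
  constructor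
  · rintro ⟨u, rfl⟩
    simp [dgHom, dg]
  · rintro ⟨h01, h10⟩
    have hg := det_eq g
    rw [h01, zero_mul, sub_zero] at hg
    have h0 : g 0 0 ≠ 0 := left_ne_zero_of_mul_eq_one hg
    refine ⟨Units.mk0 (g 0 0) h0, ?_⟩
    apply ext4 <;> simp [dgHom, dg, h01, h10]
    exact (eq_inv_of_mul_eq_one_right hg).symm

theorem card_Tor_diag [Fintype F] (d : SL2 F) (hd01 : d 0 1 = 0) (hd10 : d 1 0 = 0)
    (hda : d 0 0 ^ 2 ≠ 1) : Nat.card (Tor d) = Fintype.card F - 1 := by
  rw [← range_dgHom d hd01 hd10 hda,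
    ← Nat.card_congr (MonoidHom.ofInjective (dgHom_injective (F := F))).toEquiv, Nat.card_units,
    Nat.card_eq_fintype_card]

theorem isCyclic_Tor_diag [Finite F] (d : SL2 F) (hd01 : d 0 1 = 0) (hd10 : d 1 0 = 0)
    (hda : d 0 0 ^ 2 ≠ 1) : IsCyclic (Tor d) := by
  rw [← range_dgHom d hd01 hd10 hda]
  exact isCyclic_of_surjective (dgHom : Fˣ →* SL2 F).rangeRestrict
    (MonoidHom.rangeRestrict_surjective _)

/-- a regular element with an eigenvector has centralizer cyclic of order `q - 1`. -/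
theorem card_Tor_of_eigen [Fintype F] (h2 : (2 : F) ≠ 0) (g : SL2 F) (hΔ : tr g ^ 2 ≠ 4)
    (v : Fin 2 → F) (hv : v ≠ 0) (c : F) (h : g • v = c • v) :
    Nat.card (Tor g) = Fintype.card F - 1 ∧ IsCyclic (Tor g) := by
  have htr := Cfsg.Agent.S2475.trace_of_eigen g v hv c h
  have hc0 : c ≠ 0 := by
    rintro rfl
    simp at htr
  have hτ : tr g = c + c⁻¹ := by
    unfold tr
    field_simp
    linear_combination (-1 : F) * htr
  have hcc : c ^ 2 ≠ 1 := by
    intro hcc
    apply hΔ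
    rw [hτ]
    have : c⁻¹ = c := by
      field_simp
      exact hcc.symm
    rw [this]
    linear_combination 4 * hcc
  -- g is conjugate to dg c
  have hd : tr g = tr (dg c hc0) := by
    rw [hτ]; simp [tr, dg]
  have hconj := isConj_of_tr_eq h2 g (dg c hc0) hΔ hd
  obtain ⟨k, hk⟩ := isConj_iff.mp hconj
  have e := TorConjEquiv k g
  rw [hk] at e
  have h01 : (dg c hc0) 0 1 = 0 := by simp [dg]
  have h10 : (dg c hc0) 1 0 = 0 := by simp [dg]
  have h00 : (dg c hc0) 0 0 ^ 2 ≠ 1 := by simpa [dg] using hcc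
  constructor
  · rw [Nat.card_congr e.toEquiv, card_Tor_diag _ h01 h10 h00]
  · have := isCyclic_Tor_diag (dg c hc0) h01 h10 h00
    exact e.isCyclic.mpr inferInstance

end Cfsg.Agent.Lib.Helper12.SL2
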