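import Mathlib
import Cfsg.Agent.Lib.Helper12.C5
import Cfsg.Agent.S2301

set_option autoImplicit false

namespace Cfsg.Agent.Lib.Helper12.SL2

variable {F : Type*} [Field F]

local notation "SL2" => Matrix.SpecialLinearGroup (Fin 2)
local notation "M2" => Matrix (Fin 2) (Fin 2)

/-- eigenvalue-free elements have non-square discriminant -/
theorem not_isSquare_of_noeig (h2 : (2 : F) ≠ 0) (g : SL2 F)
    (hE : ∀ (c : F) (v : Fin 2 → F), v ≠ 0 → (g : M2 F).mulVec v ≠ c • v) :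
    ¬ IsSquare (tr g ^ 2 - 4) := by
  rintro ⟨ρ, hρ⟩
  set c : F := (tr g + ρ) / 2 with hc
  have hcc : c * c - tr g * c + 1 = 0 := by
    rw [hc]
    field_simp
    linear_combination -hρ
  have hdet : ((g : M2 F) - c • (1 : M2 F)).det = 0 := by
    rw [Matrix.det_fin_two]
    have hd := det_eq g
    simp only [Matrix.sub_apply, Matrix.smul_apply, Matrix.one_apply_eq, smul_eq_mul, mul_one,
      Matrix.one_apply_ne (show (0 : Fin 2) ≠ 1 by decide),
      Matrix.one_apply_ne (show (1 : Fin 2) ≠ 0 by decide), mul_zero, sub_zero]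
    unfold tr at hcc
    linear_combination hcc + hd
  obtain ⟨v, hv, hv0⟩ := Matrix.exists_mulVec_eq_zero_iff.mpr hdet
  apply hE c v hv
  rw [Matrix.sub_mulVec, sub_eq_zero] at hv0
  rw [hv0, Matrix.smul_mulVec, Matrix.one_mulVec]

theorem noeig_of_not_isSquare (g : SL2 F) (hns : ¬ IsSquare (tr g ^ 2 - 4)) :
    ∀ (c : F) (v : Fin 2 → F), v ≠ 0 → (g : M2 F).mulVec v ≠ c • v := by
  intro c v hv h
  have htr := Cfsg.Agent.S2475.trace_of_eigen g v hv c h
  apply hns
  refine ⟨2 * c - tr g, ?_⟩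
  unfold tr
  linear_combination (-4 : F) * htr

theorem tr_sq_ne_four_of_not_isSquare (g : SL2 F) (hns : ¬ IsSquare (tr g ^ 2 - 4)) :
    tr g ^ 2 ≠ 4 := by
  intro h
  apply hns
  rw [h, sub_self]
  exact ⟨0, by simp⟩

/-- any two elements with non-square discriminants: one is conjugate into the torus of the
other. -/
theorem exists_conj_mem_Tor [Fintype F] (h2 : (2 : F) ≠ 0) (Y g : SL2 F)
    (hY : ¬ IsSquare (tr Y ^ 2 - 4)) (hg : ¬ IsSquare (tr g ^ 2 - 4)) :
    ∃ h : SL2 F, h * g * h⁻¹ ∈ Tor Y := by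
  have hF : ringChar F ≠ 2 := by
    intro h
    apply h2
    have := ringChar.Nat.cast_ringChar (R := F)
    rw [h] at this
    exact_mod_cast this
  have hY0 : tr Y ^ 2 - 4 ≠ 0 := fun h => hY (h ▸ ⟨0, by simp⟩)
  -- (τ² - 4) / (σ² - 4) is a square
  have hsq : IsSquare ((tr g ^ 2 - 4) * (tr Y ^ 2 - 4)) := Cfsg.Agent.S2301.mul_nonsquare hF hg hY
  obtain ⟨m, hm⟩ := hsq
  set r : F := m / (tr Y ^ 2 - 4) with hr
  have hr2 : r ^ 2 * (tr Y ^ 2 - 4) = tr g ^ 2 - 4 := by
    rw [hr]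
    field_simp
    linear_combination -hm
  have hst : ((tr g - r * tr Y) / 2) ^ 2 + tr Y * ((tr g - r * tr Y) / 2) * r + r ^ 2 = 1 := by
    field_simp
    linear_combination (-1 : F) * hr2
  set u := lin Y ((tr g - r * tr Y) / 2) r hst with hu
  have htru : tr g = tr u := by
    rw [hu, tr_lin]
    field_simp
    ring
  have hconj := isConj_of_tr_eq h2 g u (tr_sq_ne_four_of_not_isSquare g hg) htru
  obtain ⟨k, hk⟩ := isConj_iff.mp hconj
  refine ⟨k, ?_⟩
  rw [hk, Subgroup.mem_centralizer_singleton_iff]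
  exact lin_commute Y _ _ hst

end Cfsg.Agent.Lib.Helper12.SL2
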