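import Mathlib
import Cfsg.Agent.Lib.Helper12.C6

set_option autoImplicit false

namespace Cfsg.Agent.Lib.Helper12.SL2

variable {F : Type*} [Field F]

local notation "SL2" => Matrix.SpecialLinearGroup (Fin 2)
local notation "M2" => Matrix (Fin 2) (Fin 2)

theorem coe_lin (g : SL2 F) (s t : F) (h) :
    ((lin g s t h : SL2 F) : M2 F) = s • (1 : M2 F) + t • (g : M2 F) := by
  ext i j
  fin_cases i <;> fin_cases j <;> simp [lin, mk]

/-- an element of order `q + 1` has no eigenvector -/
theorem noeig_of_orderOf [Fintype F] (Y : SL2 F) (hY : orderOf Y = Fintype.card F + 1) :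
    ∀ (c : F) (v : Fin 2 → F), v ≠ 0 → (Y : M2 F).mulVec v ≠ c • v := by
  intro c v hv h
  obtain ⟨p, hp⟩ := CharP.exists F
  have : Fact p.Prime := ⟨CharP.char_is_prime F p⟩
  obtain ⟨n, -, hn⟩ := FiniteField.card F p
  have hq : 2 ≤ Fintype.card F := Fintype.one_lt_card
  have hYv : Y • v = c • v := h
  by_cases hc : c * c = 1
  · have h1 := Cfsg.Agent.S2475.pow_p_mem_center_of_eigen (p := p) Y v hv c hc hYv
    have h2 := Cfsg.Agent.S2475.sq_eq_one_of_mem_center _ h1
    rw [← pow_add, ← two_mul] at h2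
    have h3 := orderOf_dvd_of_pow_eq_one h2
    rw [hY] at h3
    have hcop : Nat.Coprime (Fintype.card F + 1) p := by
      rw [Nat.coprime_comm, (Fact.out : p.Prime).coprime_iff_not_dvd]
      intro hd
      have : p ∣ Fintype.card F := by rw [hn]; exact dvd_pow_self p n.pos.ne'
      have : p ∣ 1 := (Nat.dvd_add_right this).mp hd
      exact (Fact.out : p.Prime).one_lt.ne' (Nat.dvd_one.mp this)
    have h4 : Fintype.card F + 1 ∣ 2 := hcop.dvd_of_dvd_mul_right h3
    have := Nat.le_of_dvd (by norm_num) h4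
    omega
  · have h1 := Cfsg.Agent.S2475.pow_card_sub_one_of_eigen Y v hv c hc hYv
    have h3 := orderOf_dvd_of_pow_eq_one h1
    rw [hY] at h3
    have := Nat.le_of_dvd (by omega) h3
    omega

/-- The non-split torus: an element `Y` of order `q + 1` whose centralizer is `⟨Y⟩`. -/
theorem exists_nonsplit [Fintype F] (h2 : (2 : F) ≠ 0) :
    ∃ Y : SL2 F, orderOf Y = Fintype.card F + 1 ∧ Tor Y = Subgroup.zpowers Y ∧
      ¬ IsSquare (tr Y ^ 2 - 4) := by
  classical
  obtain ⟨p, hp⟩ := CharP.exists F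
  have : Fact p.Prime := ⟨CharP.char_is_prime F p⟩
  have hq : 2 ≤ Fintype.card F := Fintype.one_lt_card
  let K := FiniteField.Extension F p 2
  have hfr : Module.finrank F K = 2 := FiniteField.finrank_extension F p 2
  have hcard : Nat.card K = Fintype.card F ^ 2 := by
    rw [FiniteField.natCard_extension, Nat.card_eq_fintype_card]
  let b : Module.Basis (Fin 2) F K := Module.finBasisOfFinrankEq F K hfr
  let φ : K →ₐ[F] M2 F := Algebra.leftMulMatrix b
  have hφ : Function.Injective φ := Algebra.leftMulMatrix_injective b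
  obtain ⟨ξ, hξ⟩ := IsCyclic.exists_ofOrder_eq_natCard (α := Kˣ)
  rw [Nat.card_units, hcard] at hξ
  have hX : φ (ξ : K) * φ ((ξ⁻¹ : Kˣ) : K) = 1 := by
    rw [← map_mul, Units.mul_inv, map_one]
  have hdet : (φ (ξ : K)).det ≠ 0 := by
    intro h0
    have := congrArg Matrix.det hX
    rw [Matrix.det_mul, h0, zero_mul, Matrix.det_one] at this
    exact zero_ne_one this
  have hdetY : (φ (ξ : K) ^ (Fintype.card F - 1)).det = 1 := by
    rw [Matrix.det_pow, FiniteField.pow_card_sub_one_eq_one _ hdet]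
  obtain ⟨Y, hY⟩ : ∃ Y : SL2 F, (Y : M2 F) = φ (ξ : K) ^ (Fintype.card F - 1) :=
    ⟨⟨_, hdetY⟩, rfl⟩
  have e : Fintype.card F ^ 2 - 1 = (Fintype.card F - 1) * (Fintype.card F + 1) := by
    obtain ⟨n, hn⟩ : ∃ n, Fintype.card F = n + 1 := ⟨Fintype.card F - 1, by omega⟩
    rw [hn]; simp only [Nat.add_sub_cancel]; ring_nf; omega
  have hpow : ∀ k : ℕ, Y ^ k = 1 ↔ (Fintype.card F + 1) ∣ k := by
    intro k
    have h1 : Y ^ k = 1 ↔ ((Y ^ k : SL2 F) : M2 F) = 1 :=
      ⟨fun h => by rw [h, Matrix.SpecialLinearGroup.coe_one],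
        fun h => Subtype.ext (by rw [h, Matrix.SpecialLinearGroup.coe_one])⟩
    rw [h1, Matrix.SpecialLinearGroup.coe_pow, hY]
    rw [← pow_mul, ← map_pow, ← map_one φ, hφ.eq_iff, ← Units.val_pow_eq_pow_val, Units.val_eq_one,
      ← orderOf_dvd_iff_pow_eq_one, hξ, e]
    exact Nat.mul_dvd_mul_iff_left (by omega)
  have hord : orderOf Y = Fintype.card F + 1 := by
    apply Nat.dvd_antisymm
    · rw [orderOf_dvd_iff_pow_eq_one, hpow]
    · rw [← hpow, pow_orderOf_eq_one]
  have hnoeig := noeig_of_orderOf Y hord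
  have hns := not_isSquare_of_noeig h2 Y hnoeig
  refine ⟨Y, hord, ?_, hns⟩
  -- the centralizer
  have hYη : (Y : M2 F) = φ ((ξ : K) ^ (Fintype.card F - 1)) := by rw [hY, map_pow]
  have hNS : NonScalar Y := nonScalar_of_tr Y (tr_sq_ne_four_of_not_isSquare Y hns)
  have key : ∀ h : Tor Y, ∃ u : Kˣ, u ^ (Fintype.card F + 1) = 1 ∧ φ (u : K) = ((h : SL2 F) : M2 F) := by
    rintro ⟨h, hh⟩
    rw [Subgroup.mem_centralizer_singleton_iff] at hh
    obtain ⟨s, t, hst, rfl⟩ := exists_lin_of_commute Y h hNS hh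
    set u : K := algebraMap F K s + t • ((ξ : K) ^ (Fintype.card F - 1)) with hu
    have hφu : φ u = ((lin Y s t hst : SL2 F) : M2 F) := by
      rw [coe_lin, hu, map_add, AlgHom.commutes, map_smul, ← hYη, Algebra.algebraMap_eq_smul_one]
    have hnorm : Algebra.norm F u = 1 := by
      rw [Algebra.norm_eq_matrix_det b u]
      show (φ u).det = 1
      rw [hφu]
      exact (lin Y s t hst).det_coe
    have hpw : u ^ (Fintype.card F + 1) = 1 := by
      have h1 := FiniteField.algebraMap_norm_eq_pow (K := F) (K' := K) (x := u)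
      rw [hnorm, map_one, hcard, Nat.card_eq_fintype_card, e,
        Nat.mul_div_cancel_left _ (by omega : 0 < Fintype.card F - 1)] at h1
      exact h1.symm
    have hu0 : u ≠ 0 := by
      rintro h0
      rw [h0, zero_pow (by omega)] at hpw
      exact zero_ne_one hpw
    refine ⟨Units.mk0 u hu0, ?_, hφu⟩
    apply Units.ext
    rw [Units.val_pow_eq_pow_val]
    exact hpw
  choose f hf1 hf2 using key
  have hinj : Function.Injective (fun h : Tor Y => (⟨f h, hf1 h⟩ : {u : Kˣ // u ^ (Fintype.card F + 1) = 1})) := by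
    intro h h' hh
    have h1 : f h = f h' := congrArg Subtype.val hh
    have h3 : ((h : SL2 F) : M2 F) = ((h' : SL2 F) : M2 F) := by rw [← hf2 h, ← hf2 h', h1]
    exact Subtype.ext (Subtype.ext h3)
  have hle : Nat.card (Tor Y) ≤ Fintype.card F + 1 := by
    have := Fintype.ofFinite Kˣ
    calc Nat.card (Tor Y) ≤ Nat.card {u : Kˣ // u ^ (Fintype.card F + 1) = 1} :=
          Nat.card_le_card_of_injective _ hinj
      _ = (Finset.univ.filter (fun u : Kˣ => u ^ (Fintype.card F + 1) = 1)).card := by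
          rw [Nat.card_eq_fintype_card, Fintype.card_subtype]
      _ ≤ Fintype.card F + 1 := IsCyclic.card_pow_eq_one_le (by omega)
  have hzle : Subgroup.zpowers Y ≤ Tor Y := by
    rw [Subgroup.zpowers_le, Subgroup.mem_centralizer_singleton_iff]
  symm
  apply Subgroup.eq_of_le_of_card_ge hzle
  rw [Nat.card_zpowers, hord]
  exact hle

end Cfsg.Agent.Lib.Helper12.SL2
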