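import Mathlib
import Cfsg.Agent.Lib.Helper12.C7

set_option autoImplicit false

namespace Cfsg.Agent.Lib.Helper12.SL2

variable {F : Type*} [Field F]

local notation "SL2" => Matrix.SpecialLinearGroup (Fin 2)
local notation "M2" => Matrix (Fin 2) (Fin 2)

/-- a regular element without eigenvector has centralizer cyclic of order `q + 1`. -/
theorem card_Tor_of_not_isSquare [Fintype F] (h2 : (2 : F) ≠ 0) (g : SL2 F)
    (hg : ¬ IsSquare (tr g ^ 2 - 4)) :
    Nat.card (Tor g) = Fintype.card F + 1 ∧ IsCyclic (Tor g) := by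
  obtain ⟨Y, hord, hTY, hns⟩ := exists_nonsplit (F := F) h2
  obtain ⟨k, hk⟩ := exists_conj_mem_Tor h2 Y g hns hg
  have hNSY : NonScalar Y := nonScalar_of_tr Y (tr_sq_ne_four_of_not_isSquare Y hns)
  have hNSu : NonScalar (k * g * k⁻¹) := by
    apply nonScalar_of_tr
    rw [tr_conj]
    exact tr_sq_ne_four_of_not_isSquare g hg
  rw [Subgroup.mem_centralizer_singleton_iff] at hk
  have hT : Tor (k * g * k⁻¹) = Subgroup.zpowers Y := by
    rw [← hTY]
    exact centralizer_eq_of_commute Y (k * g * k⁻¹) hNSY hNSu hk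
  have e : Tor g ≃* Subgroup.zpowers Y := (TorConjEquiv k g).trans (MulEquiv.subgroupCongr hT)
  constructor
  · rw [Nat.card_congr e.toEquiv, Nat.card_zpowers, hord]
  · exact e.isCyclic.mpr inferInstance

/-- dichotomy for regular elements -/
theorem card_Tor_regular [Fintype F] (h2 : (2 : F) ≠ 0) (g : SL2 F) (hΔ : tr g ^ 2 ≠ 4) :
    (Nat.card (Tor g) = Fintype.card F - 1 ∨ Nat.card (Tor g) = Fintype.card F + 1) ∧
      IsCyclic (Tor g) := by
  by_cases hs : IsSquare (tr g ^ 2 - 4)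
  · -- there is an eigenvector
    have hE : ¬ ∀ (c : F) (v : Fin 2 → F), v ≠ 0 → (g : M2 F).mulVec v ≠ c • v :=
      fun hE => not_isSquare_of_noeig h2 g hE hs
    push Not at hE
    obtain ⟨c, v, hv, hcv⟩ := hE
    have := card_Tor_of_eigen h2 g hΔ v hv c hcv
    exact ⟨Or.inl this.1, this.2⟩
  · have := card_Tor_of_not_isSquare h2 g hs
    exact ⟨Or.inr this.1, this.2⟩

end Cfsg.Agent.Lib.Helper12.SL2
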