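import Mathlib
import Cfsg.Agent.Lib.Helper12.C8

set_option autoImplicit false

namespace Cfsg.Agent.Lib.Helper12.SL2

variable {F : Type*} [Field F]

local notation "SL2" => Matrix.SpecialLinearGroup (Fin 2)
local notation "M2" => Matrix (Fin 2) (Fin 2)

theorem card_Tor_of_isSquare [Fintype F] (h2 : (2 : F) ≠ 0) (g : SL2 F) (hΔ : tr g ^ 2 ≠ 4)
    (hs : IsSquare (tr g ^ 2 - 4)) :
    Nat.card (Tor g) = Fintype.card F - 1 ∧ IsCyclic (Tor g) := by
  have hE : ¬ ∀ (c : F) (v : Fin 2 → F), v ≠ 0 → (g : M2 F).mulVec v ≠ c • v :=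
    fun hE => not_isSquare_of_noeig h2 g hE hs
  push Not at hE
  obtain ⟨c, v, hv, hcv⟩ := hE
  exact card_Tor_of_eigen h2 g hΔ v hv c hcv

theorem tr_eq_zero_of_sq_eq_zc (x : SL2 F) (h : x * x = zc') : tr x = 0 := by
  have hch := Cfsg.Agent.S0800.ch (x : M2 F) x.det_coe
  have h1 : (x : M2 F) * (x : M2 F) = -1 := by
    rw [← Matrix.SpecialLinearGroup.coe_mul, h, coe_zc]
  rw [h1] at hch
  have h3 : (x 0 0 + x 1 1) • (x : M2 F) = 0 := by
    have : (x 0 0 + x 1 1) • (x : M2 F) = -1 + 1 := by rw [hch]; abel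
    rw [this]; simp
  rcases smul_eq_zero.mp h3 with h4 | h4
  · exact h4
  · exfalso
    have := x.det_coe
    rw [h4, Matrix.det_zero] at this
    exact zero_ne_one this

theorem sq_eq_zc_of_tr_eq_zero (x : SL2 F) (h : tr x = 0) : x * x = zc' := by
  have hch := Cfsg.Agent.S0800.ch (x : M2 F) x.det_coe
  have h0 : x 0 0 + x 1 1 = 0 := h
  rw [h0, zero_smul, zero_sub] at hch
  apply Subtype.ext
  rw [Matrix.SpecialLinearGroup.coe_mul, hch, coe_zc]

/-- elements of trace zero form a single conjugacy class (odd `q`). -/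
theorem isConj_of_tr_eq_zero [Fintype F] (h2 : (2 : F) ≠ 0) (x y : SL2 F) (hx : tr x = 0)
    (hy : tr y = 0) : IsConj x y := by
  apply isConj_of_tr_eq h2 x y _ (hx.trans hy.symm)
  rw [hx]
  intro h
  have h4 : (4 : F) = 2 * 2 := by norm_num
  rw [h4] at h
  have : (2 : F) * 2 = 0 := by rw [← h]; ring
  exact mul_ne_zero h2 h2 this

theorem tr_sq_ne_four_of_tr_eq_zero (h2 : (2 : F) ≠ 0) (x : SL2 F) (hx : tr x = 0) :
    tr x ^ 2 ≠ 4 := by
  rw [hx]
  intro h
  have h4 : (4 : F) = 2 * 2 := by norm_num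
  rw [h4] at h
  have : (2 : F) * 2 = 0 := by rw [← h]; ring
  exact mul_ne_zero h2 h2 this

/-- the normalizer of the cyclic group generated by an element of trace zero -/
theorem normalizer_zpowers_of_tr_eq_zero (h2 : (2 : F) ≠ 0) (x : SL2 F) (hx : tr x = 0) :
    Subgroup.normalizer ((Subgroup.zpowers x : Subgroup (SL2 F)) : Set (SL2 F)) = NTor x := by
  have hΔ := tr_sq_ne_four_of_tr_eq_zero h2 x hx
  apply le_antisymm
  · intro n hn
    rw [mem_normalizer_centralizer_iff h2 x hΔ]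
    have h1 : n * x * n⁻¹ ∈ Subgroup.zpowers x :=
      (Subgroup.mem_normalizer_iff.mp hn x).mp (Subgroup.mem_zpowers x)
    obtain ⟨k, hk⟩ := Subgroup.mem_zpowers_iff.mp h1
    have hc : (n * x * n⁻¹) * x = x * (n * x * n⁻¹) := by
      rw [← hk]
      exact ((Commute.refl x).zpow_left k).eq
    exact eq_or_eq_inv_of_tr_eq h2 x _ hΔ hc (tr_conj n x)
  · have key : ∀ n ∈ NTor x, ∀ h ∈ Subgroup.zpowers x, n * h * n⁻¹ ∈ Subgroup.zpowers x := by
      intro n hn h hh
      obtain ⟨k, rfl⟩ := Subgroup.mem_zpowers_iff.mp hh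
      have e : n * x ^ k * n⁻¹ = (n * x * n⁻¹) ^ k := by
        have := map_zpow (MulAut.conj n) x k
        simp only [MulAut.conj_apply] at this
        exact this
      rw [e]
      rcases (mem_normalizer_centralizer_iff h2 x hΔ n).mp hn with h | h
      · rw [h]; exact Subgroup.zpow_mem_zpowers x k
      · rw [h]
        exact Subgroup.zpow_mem _ (Subgroup.inv_mem _ (Subgroup.mem_zpowers x)) k
    intro n hn
    rw [Subgroup.mem_normalizer_iff]
    intro h
    constructor
    · exact key n hn h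
    · intro hh
      have := key n⁻¹ (Subgroup.inv_mem _ hn) _ hh
      have e : n⁻¹ * (n * h * n⁻¹) * n⁻¹⁻¹ = h := by group
      rwa [e] at this

end Cfsg.Agent.Lib.Helper12.SL2
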