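import Mathlib
import Cfsg.Agent.Lib.Helper12.C9
import Cfsg.Agent.S2430

set_option autoImplicit false

namespace Cfsg.Agent.Lib.Helper12.SylTwo

/-! ### generic transport along Sylow conjugacy -/

theorem exists_conj_sylow {G : Type*} [Group G] [Finite G] {p : ℕ} [Fact p.Prime]
    (P Q : Sylow p G) :
    ∃ g : G, (Q : Subgroup G) = (P : Subgroup G).map (MulAut.conj g).toMonoidHom := by
  obtain ⟨g, hg⟩ := MulAction.exists_smul_eq G P Q
  refine ⟨g, ?_⟩
  rw [← hg, Sylow.coe_subgroup_smul]
  rfl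

theorem centralizer_map_conj {G : Type*} [Group G] (H : Subgroup G) (g : G) :
    Subgroup.centralizer ((H.map (MulAut.conj g).toMonoidHom : Subgroup G) : Set G) =
      (Subgroup.centralizer (H : Set G)).map (MulAut.conj g).toMonoidHom := by
  ext x
  rw [Subgroup.mem_centralizer_iff, Subgroup.mem_map]
  constructor
  · intro hx
    refine ⟨g⁻¹ * x * g, ?_, ?_⟩
    · rw [Subgroup.mem_centralizer_iff]
      intro h hh
      have := hx (g * h * g⁻¹) (Subgroup.mem_map.mpr ⟨h, hh, rfl⟩)
      have e1 : h * (g⁻¹ * x * g) = g⁻¹ * ((g * h * g⁻¹) * x) * g := by group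
      have e2 : g⁻¹ * x * g * h = g⁻¹ * (x * (g * h * g⁻¹)) * g := by group
      rw [e1, e2, this]
    · show g * (g⁻¹ * x * g) * g⁻¹ = x
      group
  · rintro ⟨y, hy, rfl⟩ h hh
    rw [SetLike.mem_coe, Subgroup.mem_map] at hh
    obtain ⟨h', hh', rfl⟩ := hh
    rw [Subgroup.mem_centralizer_iff] at hy
    have := hy h' hh'
    show g * h' * g⁻¹ * (g * y * g⁻¹) = g * y * g⁻¹ * (g * h' * g⁻¹)
    calc g * h' * g⁻¹ * (g * y * g⁻¹) = g * (h' * y) * g⁻¹ := by group
      _ = g * (y * h') * g⁻¹ := by rw [this]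
      _ = g * y * g⁻¹ * (g * h' * g⁻¹) := by group

theorem normalizer_map_conj {G : Type*} [Group G] (H : Subgroup G) (g : G) :
    Subgroup.normalizer ((H.map (MulAut.conj g).toMonoidHom : Subgroup G) : Set G) =
      (Subgroup.normalizer (H : Set G)).map (MulAut.conj g).toMonoidHom := by
  have := Subgroup.map_equiv_normalizer_eq H (MulAut.conj g)
  exact this.symm

theorem card_map_conj {G : Type*} [Group G] (H : Subgroup G) (g : G) :
    Nat.card (H.map (MulAut.conj g).toMonoidHom) = Nat.card H :=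
  (Nat.card_congr (H.equivMapOfInjective _ (MulAut.conj g).injective).toEquiv).symm

end Cfsg.Agent.Lib.Helper12.SylTwo
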