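import Mathlib
import Cfsg.Agent.Lib.Helper12.SylTwo

set_option autoImplicit false

namespace Cfsg.Agent.Lib.Helper12.SL2

variable {F : Type*} [Field F]

local notation "SL2" => Matrix.SpecialLinearGroup (Fin 2)
local notation "M2" => Matrix (Fin 2) (Fin 2)

/-- the `2`-elements of the torus `C(x₀)` -/
def A2 (x₀ : SL2 F) (hx₀ : NonScalar x₀) : Subgroup (SL2 F) where
  carrier := {t | t ∈ Tor x₀ ∧ ∃ k : ℕ, t ^ 2 ^ k = 1}
  one_mem' := ⟨Subgroup.one_mem _, 0, by simp⟩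
  mul_mem' := by
    rintro s t ⟨hs, k, hk⟩ ⟨ht, l, hl⟩
    refine ⟨Subgroup.mul_mem _ hs ht, k + l, ?_⟩
    rw [Subgroup.mem_centralizer_singleton_iff] at hs ht
    have hc : Commute s t := commute_of_commute x₀ s t hx₀ hs ht
    rw [hc.mul_pow, pow_add, pow_mul, hk, one_pow, mul_comm (2 ^ k), pow_mul, hl, one_pow, one_mul]
  inv_mem' := by
    rintro t ⟨ht, k, hk⟩
    exact ⟨Subgroup.inv_mem _ ht, k, by rw [inv_pow, hk, inv_one]⟩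

theorem mem_A2 (x₀ : SL2 F) (hx₀ : NonScalar x₀) (t : SL2 F) :
    t ∈ A2 x₀ hx₀ ↔ t ∈ Tor x₀ ∧ ∃ k : ℕ, t ^ 2 ^ k = 1 := Iff.rfl

theorem A2_le (x₀ : SL2 F) (hx₀ : NonScalar x₀) : A2 x₀ hx₀ ≤ Tor x₀ := fun _ h => h.1

theorem zc_mem_A2 (x₀ : SL2 F) (hx₀ : NonScalar x₀) : (zc' : SL2 F) ∈ A2 x₀ hx₀ := by
  refine ⟨?_, 1, ?_⟩
  · rw [Subgroup.mem_centralizer_singleton_iff]
    exact (Cfsg.Agent.S2471.zc_central x₀).symm
  · rw [pow_one, pow_two]; exact Cfsg.Agent.S2471.zc_mul_self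

theorem card_A2 [Finite F] (x₀ : SL2 F) (hx₀ : NonScalar x₀) :
    Nat.card (A2 x₀ hx₀) = 2 ^ (Nat.card (Tor x₀)).factorization 2 := by
  obtain ⟨P⟩ : Nonempty (Sylow 2 (Tor x₀)) := inferInstance
  have hmap : (P : Subgroup (Tor x₀)).map (Tor x₀).subtype = A2 x₀ hx₀ := by
    ext t
    rw [Subgroup.mem_map, mem_A2]
    constructor
    · rintro ⟨⟨t', ht'⟩, htP, rfl⟩
      refine ⟨ht', ?_⟩
      obtain ⟨k, hk⟩ := P.2 ⟨⟨t', ht'⟩, htP⟩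
      refine ⟨k, ?_⟩
      have := congrArg (fun u : (P : Subgroup (Tor x₀)) => ((u : Tor x₀) : SL2 F)) hk
      simpa using this
    · rintro ⟨htT, k, hk⟩
      refine ⟨⟨t, htT⟩, ?_, rfl⟩
      apply Cfsg.Agent.S2430.mem_sylow_of_commute P ⟨t, htT⟩ k
      · apply Subtype.ext
        simp only [Subgroup.coe_pow, Subgroup.coe_one]
        exact hk
      · rintro ⟨s, hs⟩ _
        apply Subtype.ext
        simp only [Subgroup.coe_mul]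
        rw [Subgroup.mem_centralizer_singleton_iff] at hs htT
        exact commute_of_commute x₀ t s hx₀ htT hs
  rw [← hmap, ← P.card_eq_multiplicity]
  exact (Nat.card_congr ((P : Subgroup (Tor x₀)).equivMapOfInjective _
    (Subgroup.subtype_injective _)).toEquiv).symm


section S0

variable (h2 : (2 : F) ≠ 0) (x₀ : SL2 F) (hΔ : tr x₀ ^ 2 ≠ 4) (y₀ : SL2 F)
  (hy : y₀ ∈ NTor x₀) (hyT : y₀ ∉ Tor x₀)

include h2 hΔ hy hyT

theorem y_sq : y₀ * y₀ = zc' := by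
  apply Subtype.ext
  rw [sq_of_not_mem h2 x₀ hΔ y₀ hy hyT, coe_zc]

theorem y_inv_sq : y₀⁻¹ * y₀⁻¹ = zc' := by
  have h := y_sq h2 x₀ hΔ y₀ hy hyT
  have hz : (zc' : SL2 F) * zc' = 1 := Cfsg.Agent.S2471.zc_mul_self
  have : (y₀ * y₀)⁻¹ = zc' := by rw [h]; exact inv_eq_of_mul_eq_one_left hz
  rw [← this, mul_inv_rev]

theorem y_conj (t : SL2 F) (ht : t ∈ Tor x₀) : y₀ * t * y₀⁻¹ = t⁻¹ :=
  conj_eq_inv h2 x₀ hΔ y₀ hy hyT t ht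

theorem y_conj' (t : SL2 F) (ht : t ∈ Tor x₀) : y₀⁻¹ * t * y₀ = t⁻¹ := by
  have h := y_conj h2 x₀ hΔ y₀ hy hyT t⁻¹ (Subgroup.inv_mem _ ht)
  rw [inv_inv] at h
  calc y₀⁻¹ * t * y₀ = y₀⁻¹ * (y₀ * t⁻¹ * y₀⁻¹) * y₀ := by rw [h]
    _ = t⁻¹ := by group

/-- the Sylow `2`-subgroup `A ∪ y₀ A` of the normalizer of the torus -/
def S0 : Subgroup (SL2 F) where
  carrier := {g | g ∈ A2 x₀ (nonScalar_of_tr x₀ hΔ) ∨ y₀⁻¹ * g ∈ A2 x₀ (nonScalar_of_tr x₀ hΔ)}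
  one_mem' := Or.inl (Subgroup.one_mem _)
  mul_mem' := by
    rintro a b (ha | ha) (hb | hb)
    · exact Or.inl (Subgroup.mul_mem _ ha hb)
    · right
      have e : y₀⁻¹ * (a * b) = (y₀⁻¹ * a * y₀) * (y₀⁻¹ * b) := by group
      rw [e, y_conj' h2 x₀ hΔ y₀ hy hyT a (A2_le _ _ ha)]
      exact Subgroup.mul_mem _ (Subgroup.inv_mem _ ha) hb
    · right
      have e : y₀⁻¹ * (a * b) = (y₀⁻¹ * a) * b := by group
      rw [e]
      exact Subgroup.mul_mem _ ha hb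
    · left
      have e : a * b = (y₀ * y₀) * (y₀⁻¹ * (y₀⁻¹ * a) * y₀) * (y₀⁻¹ * b) := by group
      rw [e, y_sq h2 x₀ hΔ y₀ hy hyT, y_conj' h2 x₀ hΔ y₀ hy hyT _ (A2_le _ _ ha)]
      exact Subgroup.mul_mem _ (Subgroup.mul_mem _ (zc_mem_A2 _ _) (Subgroup.inv_mem _ ha)) hb
  inv_mem' := by
    rintro a (ha | ha)
    · exact Or.inl (Subgroup.inv_mem _ ha)
    · right
      have e : y₀⁻¹ * a⁻¹ = (y₀⁻¹ * (y₀⁻¹ * a)⁻¹ * y₀) * (y₀⁻¹ * y₀⁻¹) := by group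
      rw [e, y_conj' h2 x₀ hΔ y₀ hy hyT _ (A2_le _ _ (Subgroup.inv_mem _ ha)), inv_inv,
        y_inv_sq h2 x₀ hΔ y₀ hy hyT]
      exact Subgroup.mul_mem _ ha (zc_mem_A2 _ _)

theorem mem_S0 (g : SL2 F) : g ∈ S0 h2 x₀ hΔ y₀ hy hyT ↔
    g ∈ A2 x₀ (nonScalar_of_tr x₀ hΔ) ∨ y₀⁻¹ * g ∈ A2 x₀ (nonScalar_of_tr x₀ hΔ) := Iff.rfl

theorem A2_le_S0 : A2 x₀ (nonScalar_of_tr x₀ hΔ) ≤ S0 h2 x₀ hΔ y₀ hy hyT := fun _ h => Or.inl h

theorem y_mem_S0 : y₀ ∈ S0 h2 x₀ hΔ y₀ hy hyT := by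
  right; rw [inv_mul_cancel]; exact Subgroup.one_mem _

theorem S0_le_NTor : S0 h2 x₀ hΔ y₀ hy hyT ≤ NTor x₀ := by
  rintro g (hg | hg)
  · exact centralizer_le_normalizer h2 x₀ hΔ (A2_le _ _ hg)
  · have : g = y₀ * (y₀⁻¹ * g) := by group
    rw [this]
    exact Subgroup.mul_mem _ hy (centralizer_le_normalizer h2 x₀ hΔ (A2_le _ _ hg))

theorem S0_inf_Tor (g : SL2 F) (hg : g ∈ S0 h2 x₀ hΔ y₀ hy hyT) (hgT : g ∈ Tor x₀) :
    g ∈ A2 x₀ (nonScalar_of_tr x₀ hΔ) := by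
  rcases hg with hg | hg
  · exact hg
  · exfalso
    apply hyT
    have : y₀ = g * (y₀⁻¹ * g)⁻¹ := by group
    rw [this]
    exact Subgroup.mul_mem _ hgT (Subgroup.inv_mem _ (A2_le _ _ hg))

theorem card_S0 [Finite F] :
    Nat.card (S0 h2 x₀ hΔ y₀ hy hyT) = 2 * Nat.card (A2 x₀ (nonScalar_of_tr x₀ hΔ)) := by
  have e : (S0 h2 x₀ hΔ y₀ hy hyT : Set (SL2 F)) =
      (A2 x₀ (nonScalar_of_tr x₀ hΔ) : Set (SL2 F)) ∪
        (fun a => y₀ * a) '' (A2 x₀ (nonScalar_of_tr x₀ hΔ) : Set (SL2 F)) := by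
    ext g
    simp only [Set.mem_union, Set.mem_image, SetLike.mem_coe]
    rw [mem_S0]
    constructor
    · rintro (h | h)
      · exact Or.inl h
      · exact Or.inr ⟨y₀⁻¹ * g, h, by group⟩
    · rintro (h | ⟨a, ha, rfl⟩)
      · exact Or.inl h
      · right; rw [inv_mul_cancel_left]; exact ha
  have hdisj : Disjoint (A2 x₀ (nonScalar_of_tr x₀ hΔ) : Set (SL2 F))
      ((fun a => y₀ * a) '' (A2 x₀ (nonScalar_of_tr x₀ hΔ) : Set (SL2 F))) := by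
    rw [Set.disjoint_left]
    rintro g hg ⟨a, ha, rfl⟩
    apply hyT
    have : y₀ = (y₀ * a) * a⁻¹ := by group
    rw [this]
    exact Subgroup.mul_mem _ (A2_le _ _ hg) (Subgroup.inv_mem _ (A2_le _ _ ha))
  have h1 : Nat.card (S0 h2 x₀ hΔ y₀ hy hyT) = ((S0 h2 x₀ hΔ y₀ hy hyT : Subgroup (SL2 F)) : Set (SL2 F)).ncard :=
    Nat.card_coe_set_eq _
  have h3 : Nat.card (A2 x₀ (nonScalar_of_tr x₀ hΔ)) = ((A2 x₀ (nonScalar_of_tr x₀ hΔ) : Subgroup (SL2 F)) : Set (SL2 F)).ncard :=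
    Nat.card_coe_set_eq _
  rw [h1, h3, e, Set.ncard_union_eq hdisj (Set.toFinite _) (Set.toFinite _),
    Set.ncard_image_of_injective _ (mul_right_injective y₀), two_mul]

end S0

end Cfsg.Agent.Lib.Helper12.SL2
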