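import Mathlib
import Cfsg.Agent.Lib.Helper12.SylTwoB

set_option autoImplicit false

namespace Cfsg.Agent.Lib.Helper12.SL2

variable {F : Type*} [Field F]

local notation "SL2" => Matrix.SpecialLinearGroup (Fin 2)
local notation "M2" => Matrix (Fin 2) (Fin 2)

theorem pow_four_eq {G : Type*} [Monoid G] (t : G) : t ^ 4 = (t * t) * (t * t) := by
  simp only [pow_succ, pow_zero, one_mul, mul_assoc]

theorem four_cases (h2 : (2 : F) ≠ 0) (x₀ : SL2 F) (hΔ : tr x₀ ^ 2 ≠ 4) (htr : tr x₀ = 0)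
    (t : SL2 F) (ht : t ∈ Tor x₀) (ht4 : t ^ 4 = 1) :
    t = 1 ∨ t = zc' ∨ t = x₀ ∨ t = x₀⁻¹ := by
  have h4 : (t * t) * (t * t) = 1 := by rw [← ht4, pow_four_eq]
  rcases eq_one_or_zc_of_sq h2 (t * t) h4 with h | h
  · rcases eq_one_or_zc_of_sq h2 t h with h' | h'
    · exact Or.inl h'
    · exact Or.inr (Or.inl h')
  · have htt := tr_eq_zero_of_sq_eq_zc t h
    rw [Subgroup.mem_centralizer_singleton_iff] at ht
    rcases eq_or_eq_inv_of_tr_eq h2 x₀ t hΔ ht (htt.trans htr.symm) with h' | h'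
    · exact Or.inr (Or.inr (Or.inl h'))
    · exact Or.inr (Or.inr (Or.inr h'))

theorem nonScalar_of_pow_four (x : SL2 F) (hx : x ^ 4 ≠ 1) : NonScalar x := by
  rw [nonScalar_iff]
  intro hc
  apply hx
  have h := Cfsg.Agent.S2475.sq_eq_one_of_mem_center x hc
  rw [pow_four_eq, h, one_mul]

theorem pow_four_of_tr_eq_zero (x : SL2 F) (hx : tr x = 0) : x ^ 4 = 1 := by
  have h := sq_eq_zc_of_tr_eq_zero x hx
  rw [pow_four_eq, h]
  exact Cfsg.Agent.S2471.zc_mul_self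

theorem inv_eq_zc_mul_of_tr_eq_zero (x : SL2 F) (hx : tr x = 0) : x⁻¹ = zc' * x := by
  have h := sq_eq_zc_of_tr_eq_zero x hx
  have hz : (zc' : SL2 F) * zc' = 1 := Cfsg.Agent.S2471.zc_mul_self
  apply inv_eq_of_mul_eq_one_left
  rw [mul_assoc, h, hz]

theorem x_mem_A2 (x₀ : SL2 F) (hΔ : tr x₀ ^ 2 ≠ 4) (htr : tr x₀ = 0) :
    x₀ ∈ A2 x₀ (nonScalar_of_tr x₀ hΔ) :=
  ⟨Subgroup.mem_centralizer_singleton_iff.mpr rfl, 2, pow_four_of_tr_eq_zero x₀ htr⟩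

section S0

variable (h2 : (2 : F) ≠ 0) (x₀ : SL2 F) (hΔ : tr x₀ ^ 2 ≠ 4) (y₀ : SL2 F)
  (hy : y₀ ∈ NTor x₀) (hyT : y₀ ∉ Tor x₀)

include h2 hΔ hy hyT

/-- core: an element of `NTor x₀` normalizing `S0` lies in `S0` -/
theorem mem_S0_of_normalizes (g : SL2 F) (hg : g ∈ NTor x₀)
    (hn : g ∈ Subgroup.normalizer ((S0 h2 x₀ hΔ y₀ hy hyT : Subgroup (SL2 F)) : Set (SL2 F))) :
    g ∈ S0 h2 x₀ hΔ y₀ hy hyT := by
  have key : ∀ g : SL2 F, g ∈ Tor x₀ →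
      g ∈ Subgroup.normalizer ((S0 h2 x₀ hΔ y₀ hy hyT : Subgroup (SL2 F)) : Set (SL2 F)) →
      g ∈ A2 x₀ (nonScalar_of_tr x₀ hΔ) := by
    intro g hgT hn
    have h1 : g * y₀ * g⁻¹ ∈ S0 h2 x₀ hΔ y₀ hy hyT :=
      (Subgroup.mem_normalizer_iff.mp hn y₀).mp (y_mem_S0 h2 x₀ hΔ y₀ hy hyT)
    have h3 : y₀ * g⁻¹ * y₀⁻¹ = g := by
      have := y_conj h2 x₀ hΔ y₀ hy hyT g⁻¹ (Subgroup.inv_mem _ hgT)
      rw [inv_inv] at this; exact this
    have h4 : g * y₀ * g⁻¹ = (g * g) * y₀ := by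
      calc g * y₀ * g⁻¹ = g * (y₀ * g⁻¹ * y₀⁻¹) * y₀ := by group
        _ = g * g * y₀ := by rw [h3]
    rw [h4] at h1
    have h5 : g * g ∈ S0 h2 x₀ hΔ y₀ hy hyT := by
      have := Subgroup.mul_mem _ h1 (Subgroup.inv_mem _ (y_mem_S0 h2 x₀ hΔ y₀ hy hyT))
      rwa [mul_inv_cancel_right] at this
    have h6 := S0_inf_Tor h2 x₀ hΔ y₀ hy hyT (g * g) h5 (Subgroup.mul_mem _ hgT hgT)
    obtain ⟨_, k, hk⟩ := h6
    refine ⟨hgT, k + 1, ?_⟩
    rw [pow_succ', pow_mul, pow_two]; exact hk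
  by_cases hgT : g ∈ Tor x₀
  · exact Or.inl (key g hgT hn)
  · right
    apply key
    · rw [Subgroup.mem_centralizer_singleton_iff]
      have e1 := conj_eq_inv_of_not_mem h2 x₀ hΔ g hg hgT
      have e2 := conj_eq_inv_of_not_mem h2 x₀ hΔ y₀ hy hyT
      have : g * x₀ * g⁻¹ = y₀ * x₀ * y₀⁻¹ := e1.trans e2.symm
      calc y₀⁻¹ * g * x₀ = y₀⁻¹ * (g * x₀ * g⁻¹) * g := by group
        _ = y₀⁻¹ * (y₀ * x₀ * y₀⁻¹) * g := by rw [this]
        _ = x₀ * (y₀⁻¹ * g) := by group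
    · exact Subgroup.mul_mem _ (Subgroup.inv_mem _
        (Subgroup.le_normalizer (y_mem_S0 h2 x₀ hΔ y₀ hy hyT))) hn

theorem centralizer_S0 (htr : tr x₀ = 0) :
    Subgroup.centralizer ((S0 h2 x₀ hΔ y₀ hy hyT : Subgroup (SL2 F)) : Set (SL2 F)) =
      Subgroup.center (SL2 F) := by
  apply le_antisymm
  · intro g hg
    rw [Subgroup.mem_centralizer_iff] at hg
    have hx₀ : x₀ ∈ S0 h2 x₀ hΔ y₀ hy hyT :=
      A2_le_S0 h2 x₀ hΔ y₀ hy hyT (x_mem_A2 x₀ hΔ htr)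
    have h1 := hg x₀ hx₀
    have h2' := hg y₀ (y_mem_S0 h2 x₀ hΔ y₀ hy hyT)
    have hgT : g ∈ Tor x₀ := Subgroup.mem_centralizer_singleton_iff.mpr h1.symm
    have h3 := y_conj h2 x₀ hΔ y₀ hy hyT g hgT
    rw [h2', mul_inv_cancel_right] at h3
    have h4 : g * g = 1 := by
      calc g * g = g * g⁻¹ := by rw [← h3]
        _ = 1 := mul_inv_cancel g
    rcases eq_one_or_zc_of_sq h2 g h4 with rfl | rfl
    · exact Subgroup.one_mem _
    · exact Cfsg.Agent.S2471.zc_mem_center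
  · exact Subgroup.center_le_centralizer _

theorem normalizer_S0_of_large [Finite F] (htr : tr x₀ = 0)
    (hbig : 4 < Nat.card (A2 x₀ (nonScalar_of_tr x₀ hΔ))) :
    Subgroup.normalizer ((S0 h2 x₀ hΔ y₀ hy hyT : Subgroup (SL2 F)) : Set (SL2 F)) =
      S0 h2 x₀ hΔ y₀ hy hyT := by
  classical
  apply le_antisymm _ Subgroup.le_normalizer
  intro g hg
  obtain ⟨x, hxA, hx4⟩ : ∃ x ∈ A2 x₀ (nonScalar_of_tr x₀ hΔ), x ^ 4 ≠ 1 := by
    by_contra hcon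
    push Not at hcon
    have hsub : ((A2 x₀ (nonScalar_of_tr x₀ hΔ) : Subgroup _) : Set (SL2 F)) ⊆
        (({1, zc', x₀, x₀⁻¹} : Finset (SL2 F)) : Set (SL2 F)) := by
      intro t ht
      have := four_cases h2 x₀ hΔ htr t (A2_le _ _ ht) (hcon t ht)
      simp only [Finset.coe_insert, Finset.coe_singleton, Set.mem_insert_iff,
        Set.mem_singleton_iff]
      exact this
    have h1 := Set.ncard_le_ncard hsub (Finset.finite_toSet _)
    rw [Set.ncard_coe_finset] at h1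
    have h3 : Nat.card (A2 x₀ (nonScalar_of_tr x₀ hΔ)) =
        ((A2 x₀ (nonScalar_of_tr x₀ hΔ) : Subgroup _) : Set (SL2 F)).ncard :=
      Nat.card_coe_set_eq _
    have := Finset.card_le_four (a := (1 : SL2 F)) (b := zc') (c := x₀) (d := x₀⁻¹)
    omega
  apply mem_S0_of_normalizes h2 x₀ hΔ y₀ hy hyT g _ hg
  have hxT : x ∈ Tor x₀ := A2_le _ _ hxA
  have hc : g * x * g⁻¹ ∈ S0 h2 x₀ hΔ y₀ hy hyT :=
    (Subgroup.mem_normalizer_iff.mp hg x).mp (A2_le_S0 h2 x₀ hΔ y₀ hy hyT hxA)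
  have hc4 : (g * x * g⁻¹) ^ 4 ≠ 1 := by
    rw [conj_pow]
    intro e
    apply hx4
    have := congrArg (fun z => g⁻¹ * z * g) e
    simpa [mul_assoc] using this
  have hcT : g * x * g⁻¹ ∈ Tor x₀ := by
    by_contra hcon
    apply hc4
    apply pow_four_of_tr_eq_zero
    exact tr_eq_zero_of_not_mem h2 x₀ hΔ _ (S0_le_NTor h2 x₀ hΔ y₀ hy hyT hc) hcon
  have hxNS : NonScalar x := nonScalar_of_pow_four x hx4
  have hcNS : NonScalar (g * x * g⁻¹) := nonScalar_of_pow_four _ hc4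
  have hTx : Tor x = Tor x₀ := centralizer_eq_of_commute x₀ x (nonScalar_of_tr x₀ hΔ) hxNS
    (Subgroup.mem_centralizer_singleton_iff.mp hxT)
  have hTc : Tor (g * x * g⁻¹) = Tor x₀ := centralizer_eq_of_commute x₀ _ (nonScalar_of_tr x₀ hΔ)
    hcNS (Subgroup.mem_centralizer_singleton_iff.mp hcT)
  have hmap := Tor_conj g x
  rw [hTx, hTc] at hmap
  have hm : g * x₀ * g⁻¹ ∈ Tor x₀ := by
    rw [← hmap]
    exact Subgroup.mem_map.mpr ⟨x₀, Subgroup.mem_centralizer_singleton_iff.mpr rfl, rfl⟩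
  rw [mem_normalizer_centralizer_iff h2 x₀ hΔ]
  exact eq_or_eq_inv_of_tr_eq h2 x₀ _ hΔ (Subgroup.mem_centralizer_singleton_iff.mp hm)
    (tr_conj g x₀)

end S0

end Cfsg.Agent.Lib.Helper12.SL2
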