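import Mathlib
import Cfsg.Agent.Lib.Helper12.SylTwoC

/-! The normalizer of a quaternion Sylow `2`-subgroup of order `8` in `SL₂(q)`, and explicit
quaternion elements `i`, `j`, `(-1+i+j+k)/2`. -/

set_option autoImplicit false

namespace Cfsg.Agent.Lib.Helper12.SL2

variable {F : Type*} [Field F]

local notation "SL2" => Matrix.SpecialLinearGroup (Fin 2)
local notation "M2" => Matrix (Fin 2) (Fin 2)

theorem mem_A2_small [Finite F] (h2 : (2 : F) ≠ 0) (x₀ : SL2 F) (hΔ : tr x₀ ^ 2 ≠ 4)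
    (htr : tr x₀ = 0) (hsmall : Nat.card (A2 x₀ (nonScalar_of_tr x₀ hΔ)) = 4)
    (t : SL2 F) (ht : t ∈ A2 x₀ (nonScalar_of_tr x₀ hΔ)) :
    t = 1 ∨ t = zc' ∨ t = x₀ ∨ t = x₀⁻¹ := by
  apply four_cases h2 x₀ hΔ htr t (A2_le _ _ ht)
  have := pow_card_eq_one' (G := A2 x₀ (nonScalar_of_tr x₀ hΔ)) (x := ⟨t, ht⟩)
  rw [hsmall] at this
  have := congrArg Subtype.val this
  simpa using this

section Small

variable (h2 : (2 : F) ≠ 0) (x₀ : SL2 F) (hΔ : tr x₀ ^ 2 ≠ 4) (y₀ : SL2 F)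
  (hy : y₀ ∈ NTor x₀) (hyT : y₀ ∉ Tor x₀)

include h2 hΔ hy hyT

theorem card_normalizer_S0_of_small [Finite F] (htr : tr x₀ = 0)
    (hsmall : Nat.card (A2 x₀ (nonScalar_of_tr x₀ hΔ)) = 4)
    (u : SL2 F) (hu3 : u ^ 3 = 1) (hu1 : u ≠ 1) (hux : u * x₀ * u⁻¹ = x₀ * y₀)
    (huy : u * y₀ * u⁻¹ = x₀) :
    Nat.card (Subgroup.normalizer ((S0 h2 x₀ hΔ y₀ hy hyT : Subgroup (SL2 F)) : Set (SL2 F))) =
      3 * Nat.card (S0 h2 x₀ hΔ y₀ hy hyT) := by
  have h8 : Nat.card (S0 h2 x₀ hΔ y₀ hy hyT) = 8 := by rw [card_S0, hsmall]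
  have hmemS : ∀ g, g ∈ S0 h2 x₀ hΔ y₀ hy hyT ↔
    g ∈ A2 x₀ (nonScalar_of_tr x₀ hΔ) ∨ y₀⁻¹ * g ∈ A2 x₀ (nonScalar_of_tr x₀ hΔ) := fun _ => Iff.rfl
  have hNS : ∀ n, n ∈ NTor x₀ →
      n ∈ Subgroup.normalizer ((S0 h2 x₀ hΔ y₀ hy hyT : Subgroup (SL2 F)) : Set (SL2 F)) →
      n ∈ S0 h2 x₀ hΔ y₀ hy hyT := mem_S0_of_normalizes h2 x₀ hΔ y₀ hy hyT
  generalize S0 h2 x₀ hΔ y₀ hy hyT = S at *
  have hxS : x₀ ∈ S := (hmemS _).mpr (Or.inl (x_mem_A2 x₀ hΔ htr))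
  have hyS : y₀ ∈ S := (hmemS _).mpr (Or.inr (by rw [inv_mul_cancel]; exact Subgroup.one_mem _))
  have hzS : zc' ∈ S := (hmemS _).mpr (Or.inl (zc_mem_A2 _ _))
  have hcz : u * zc' * u⁻¹ = zc' := by
    rw [Cfsg.Agent.S2471.zc_central u, mul_inv_cancel_right]
  have hcA : ∀ t ∈ A2 x₀ (nonScalar_of_tr x₀ hΔ), u * t * u⁻¹ ∈ S := by
    intro t ht
    rcases mem_A2_small h2 x₀ hΔ htr hsmall t ht with rfl | rfl | rfl | rfl
    · rw [mul_one, mul_inv_cancel]; exact S.one_mem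
    · rw [hcz]; exact hzS
    · rw [hux]; exact S.mul_mem hxS hyS
    · have : u * x₀⁻¹ * u⁻¹ = (u * x₀ * u⁻¹)⁻¹ := by group
      rw [this, hux]; exact S.inv_mem (S.mul_mem hxS hyS)
  have hcS : ∀ s ∈ S, u * s * u⁻¹ ∈ S := by
    intro s hs
    rcases (hmemS s).mp hs with hs | hs
    · exact hcA s hs
    · have : u * s * u⁻¹ = (u * y₀ * u⁻¹) * (u * (y₀⁻¹ * s) * u⁻¹) := by group
      rw [this, huy]; exact S.mul_mem hxS (hcA _ hs)
  have hu3' : u * u * u = 1 := by rw [← hu3]; simp only [pow_succ, pow_zero, one_mul]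
  have huN : u ∈ Subgroup.normalizer (S : Set (SL2 F)) := by
    rw [Subgroup.mem_normalizer_iff]
    intro h
    constructor
    · exact hcS h
    · intro hh
      have h1 := hcS _ (hcS _ hh)
      have : u * (u * (u * h * u⁻¹) * u⁻¹) * u⁻¹ = (u * u * u) * h * (u * u * u)⁻¹ := by group
      rw [this, hu3'] at h1
      simpa using h1
  have hfin : ∀ n ∈ Subgroup.normalizer (S : Set (SL2 F)),
      (n * x₀ * n⁻¹ = x₀ ∨ n * x₀ * n⁻¹ = x₀⁻¹) → n ∈ S := by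
    intro n hn h
    exact hNS n ((mem_normalizer_centralizer_iff h2 x₀ hΔ n).mpr h) hn
  have hx₀T : x₀ ∈ Tor x₀ := Subgroup.mem_centralizer_singleton_iff.mpr rfl
  have hcover : ∀ g ∈ Subgroup.normalizer (S : Set (SL2 F)), g ∈ S ∨ u * g ∈ S ∨ u * u * g ∈ S := by
    intro g hg
    have hs : g * x₀ * g⁻¹ ∈ S := (Subgroup.mem_normalizer_iff.mp hg x₀).mp hxS
    have hts : tr (g * x₀ * g⁻¹) = 0 := by rw [tr_conj]; exact htr
    rcases (hmemS _).mp hs with hs | hs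
    · left
      apply hfin g hg
      exact eq_or_eq_inv_of_tr_eq h2 x₀ _ hΔ
        (Subgroup.mem_centralizer_singleton_iff.mp (A2_le _ _ hs)) (hts.trans htr.symm)
    · have hs' : g * x₀ * g⁻¹ = y₀ * (y₀⁻¹ * (g * x₀ * g⁻¹)) := by group
      have c1 : u * g * x₀ * (u * g)⁻¹ = u * (g * x₀ * g⁻¹) * u⁻¹ := by group
      have c2 : u * u * g * x₀ * (u * u * g)⁻¹ = u * (u * (g * x₀ * g⁻¹) * u⁻¹) * u⁻¹ := by group
      rcases mem_A2_small h2 x₀ hΔ htr hsmall _ hs with h | h | h | h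
      · right; left
        apply hfin (u * g) (Subgroup.mul_mem _ huN hg)
        left
        rw [c1, hs', h, mul_one, huy]
      · right; left
        apply hfin (u * g) (Subgroup.mul_mem _ huN hg)
        right
        rw [c1, hs', h]
        have : u * (y₀ * zc') * u⁻¹ = (u * y₀ * u⁻¹) * (u * zc' * u⁻¹) := by group
        rw [this, huy, hcz, inv_eq_zc_mul_of_tr_eq_zero x₀ htr, Cfsg.Agent.S2471.zc_central x₀]
      · right; right
        apply hfin (u * u * g) (Subgroup.mul_mem _ (Subgroup.mul_mem _ huN huN) hg)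
        right
        rw [c2, hs', h]
        have e1 : u * (y₀ * x₀) * u⁻¹ = (u * y₀ * u⁻¹) * (u * x₀ * u⁻¹) := by group
        rw [e1, huy, hux, ← mul_assoc x₀ x₀ y₀, sq_eq_zc_of_tr_eq_zero x₀ htr]
        have e2 : u * (zc' * y₀) * u⁻¹ = (u * zc' * u⁻¹) * (u * y₀ * u⁻¹) := by group
        rw [e2, hcz, huy, inv_eq_zc_mul_of_tr_eq_zero x₀ htr]
      · right; right
        apply hfin (u * u * g) (Subgroup.mul_mem _ (Subgroup.mul_mem _ huN huN) hg)
        left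
        rw [c2, hs', h]
        have e0 : y₀ * x₀⁻¹ = x₀ * y₀ := by
          have := y_conj h2 x₀ hΔ y₀ hy hyT x₀⁻¹ (Subgroup.inv_mem _ hx₀T)
          rw [inv_inv] at this
          calc y₀ * x₀⁻¹ = (y₀ * x₀⁻¹ * y₀⁻¹) * y₀ := by group
            _ = x₀ * y₀ := by rw [this]
        rw [e0]
        have e1 : u * (x₀ * y₀) * u⁻¹ = (u * x₀ * u⁻¹) * (u * y₀ * u⁻¹) := by group
        rw [e1, hux, huy]
        have e3 : x₀ * y₀ * x₀ = y₀ := by
          have := y_conj h2 x₀ hΔ y₀ hy hyT x₀ hx₀T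
          calc x₀ * y₀ * x₀ = x₀ * (y₀ * x₀ * y₀⁻¹) * y₀ := by group
            _ = y₀ := by rw [this]; group
        rw [e3, huy]
  have hsub : ((Subgroup.normalizer (S : Set (SL2 F)) : Subgroup _) : Set (SL2 F)) ⊆
      ((S : Set (SL2 F)) ∪ ((fun a => u⁻¹ * a) '' (S : Set (SL2 F)))) ∪
        ((fun a => (u * u)⁻¹ * a) '' (S : Set (SL2 F))) := by
    intro g hg
    rcases hcover g hg with h | h | h
    · exact Or.inl (Or.inl h)
    · exact Or.inl (Or.inr ⟨u * g, h, by group⟩)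
    · exact Or.inr ⟨u * u * g, h, by group⟩
  have hN : Nat.card (Subgroup.normalizer (S : Set (SL2 F))) =
      ((Subgroup.normalizer (S : Set (SL2 F)) : Subgroup _) : Set (SL2 F)).ncard :=
    Nat.card_coe_set_eq _
  have hS' : Nat.card S = ((S : Subgroup _) : Set (SL2 F)).ncard := Nat.card_coe_set_eq _
  have hle : Nat.card (Subgroup.normalizer (S : Set (SL2 F))) ≤ 3 * Nat.card S := by
    rw [hN, hS']
    calc _ ≤ (((S : Set (SL2 F)) ∪ ((fun a => u⁻¹ * a) '' (S : Set (SL2 F)))) ∪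
        ((fun a => (u * u)⁻¹ * a) '' (S : Set (SL2 F)))).ncard :=
          Set.ncard_le_ncard hsub (Set.toFinite _)
      _ ≤ ((S : Set (SL2 F)) ∪ ((fun a => u⁻¹ * a) '' (S : Set (SL2 F)))).ncard +
          ((fun a => (u * u)⁻¹ * a) '' (S : Set (SL2 F))).ncard := Set.ncard_union_le _ _
      _ ≤ (S : Set (SL2 F)).ncard + ((fun a => u⁻¹ * a) '' (S : Set (SL2 F))).ncard +
          ((fun a => (u * u)⁻¹ * a) '' (S : Set (SL2 F))).ncard :=
          Nat.add_le_add_right (Set.ncard_union_le _ _) _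
      _ = 3 * (S : Set (SL2 F)).ncard := by
          rw [Set.ncard_image_of_injective _ (mul_right_injective _),
            Set.ncard_image_of_injective _ (mul_right_injective _)]
          ring
  have hdvd8 : Nat.card S ∣ Nat.card (Subgroup.normalizer (S : Set (SL2 F))) :=
    Subgroup.card_dvd_of_le Subgroup.le_normalizer
  have hdvd3 : 3 ∣ Nat.card (Subgroup.normalizer (S : Set (SL2 F))) := by
    have : orderOf u = 3 := by
      have : Fact (Nat.Prime 3) := ⟨by norm_num⟩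
      exact orderOf_eq_prime hu3 hu1
    rw [← this]
    exact Subgroup.orderOf_dvd_natCard _ huN
  have hpos : 0 < Nat.card (Subgroup.normalizer (S : Set (SL2 F))) := Nat.card_pos
  rw [h8] at hdvd8 hle ⊢
  omega

end Small

/-- the quaternion `i` -/
def qi : SL2 F := mk 0 1 (-1) 0 (by ring)

/-- the quaternion `j` -/
def qj (α β : F) (h : α ^ 2 + β ^ 2 = -1) : SL2 F := mk α β β (-α) (by linear_combination -h)

/-- the element `(-1+i+j+k)/2` of order three -/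
def qu (h2 : (2 : F) ≠ 0) (α β : F) (h : α ^ 2 + β ^ 2 = -1) : SL2 F :=
  mk (2⁻¹ * (-1 + α + β)) (2⁻¹ * (1 + β - α)) (2⁻¹ * (-1 + β - α)) (2⁻¹ * (-1 - α - β)) (by
    field_simp
    linear_combination -2 * h)

theorem qu_mul_qi (h2 : (2 : F) ≠ 0) (α β : F) (h : α ^ 2 + β ^ 2 = -1) :
    qu h2 α β h * qi = (qi * qj α β h) * qu h2 α β h := by
  apply ext4 <;> simp only [mul_apply', qi, qj, qu, mk_00, mk_01, mk_10, mk_11] <;> field_simp
  · linear_combination -h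
  · linear_combination -h
  · linear_combination h
  · linear_combination -h

theorem qu_mul_qj (h2 : (2 : F) ≠ 0) (α β : F) (h : α ^ 2 + β ^ 2 = -1) :
    qu h2 α β h * qj α β h = qi * qu h2 α β h := by
  apply ext4 <;> simp only [mul_apply', qi, qj, qu, mk_00, mk_01, mk_10, mk_11] <;> field_simp
  · linear_combination h
  · linear_combination h
  · linear_combination -h
  · linear_combination h

theorem qu_ne_one (h2 : (2 : F) ≠ 0) (α β : F) (h : α ^ 2 + β ^ 2 = -1) :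
    qu h2 α β h ≠ 1 := by
  intro h1
  have e1 : (qu h2 α β h) 0 1 = 0 := by rw [h1]; rfl
  have e2 : (qu h2 α β h) 1 0 = 0 := by rw [h1]; rfl
  simp only [qu, mk_01, mk_10] at e1 e2
  have : (2 : F) * (2⁻¹ * (1 + β - α) - 2⁻¹ * (-1 + β - α)) = 0 := by rw [e1, e2]; ring
  apply h2
  rw [← this]
  field_simp
  ring

theorem qu_pow_three (h2 : (2 : F) ≠ 0) (α β : F) (h : α ^ 2 + β ^ 2 = -1) :
    qu h2 α β h ^ 3 = 1 := by
  have hch := Cfsg.Agent.S0800.ch ((qu h2 α β h : SL2 F) : M2 F) (qu h2 α β h).det_coe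
  have htr : (qu h2 α β h) 0 0 + (qu h2 α β h) 1 1 = -1 := by
    simp only [qu, mk_00, mk_11]
    field_simp
    ring
  rw [htr] at hch
  apply Subtype.ext
  rw [pow_succ, pow_two, Matrix.SpecialLinearGroup.coe_mul, Matrix.SpecialLinearGroup.coe_mul, hch]
  simp only [neg_smul, one_smul, Matrix.SpecialLinearGroup.coe_one]
  rw [sub_mul, neg_mul, hch]
  simp

theorem tr_qi : tr (qi : SL2 F) = 0 := by simp [tr, qi]

theorem tr_qj (α β : F) (h : α ^ 2 + β ^ 2 = -1) : tr (qj α β h) = 0 := by simp [tr, qj]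

theorem qi_inv : (qi : SL2 F)⁻¹ = zc' * qi := by
  have h := sq_eq_zc_of_tr_eq_zero (qi : SL2 F) tr_qi
  have hz : (zc' : SL2 F) * zc' = 1 := Cfsg.Agent.S2471.zc_mul_self
  apply inv_eq_of_mul_eq_one_left
  rw [mul_assoc, h, hz]

theorem qj_conj (α β : F) (h : α ^ 2 + β ^ 2 = -1) :
    qj α β h * qi * (qj α β h)⁻¹ = (qi : SL2 F)⁻¹ := by
  rw [mul_inv_eq_iff_eq_mul]
  apply ext4 <;> simp [mul_apply', qi, qj, inv_00, inv_01, inv_10, inv_11]

theorem qj_mem_NTor (h2 : (2 : F) ≠ 0) (α β : F) (h : α ^ 2 + β ^ 2 = -1) :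
    qj α β h ∈ NTor (qi : SL2 F) := by
  rw [mem_normalizer_centralizer_iff h2 qi (tr_sq_ne_four_of_tr_eq_zero h2 qi tr_qi)]
  exact Or.inr (qj_conj α β h)

theorem qj_not_mem_Tor (h2 : (2 : F) ≠ 0) (α β : F) (h : α ^ 2 + β ^ 2 = -1) :
    qj α β h ∉ Tor (qi : SL2 F) := by
  intro hm
  rw [Subgroup.mem_centralizer_singleton_iff] at hm
  have h1 := qj_conj α β h
  rw [hm, mul_inv_cancel_right] at h1
  exact ne_inv_of_tr h2 qi (tr_sq_ne_four_of_tr_eq_zero h2 qi tr_qi) h1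

end Cfsg.Agent.Lib.Helper12.SL2
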