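import Mathlib

set_option autoImplicit false

namespace Cfsg.Agent.Lib.Helper12.Klein

variable {G : Type*} [Group G]

/-- the four-group generated by two commuting involutions -/
def kf (a b : G) (ha : a * a = 1) (hb : b * b = 1) (hab : a * b = b * a) : Subgroup G where
  carrier := {1, a, b, a * b}
  one_mem' := by simp
  mul_mem' := by
    have e1 : ∀ x : G, a * (a * x) = x := fun x => by rw [← mul_assoc, ha, one_mul]
    have e2 : ∀ x : G, b * (b * x) = x := fun x => by rw [← mul_assoc, hb, one_mul]
    have e3 : ∀ x : G, b * (a * x) = a * (b * x) := fun x => by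
      rw [← mul_assoc, ← hab, mul_assoc]
    rintro x y (rfl | rfl | rfl | rfl) (rfl | rfl | rfl | rfl) <;>
      simp [mul_assoc, ha, hb, e1, e3, ← hab]
  inv_mem' := by
    have ia : a⁻¹ = a := inv_eq_of_mul_eq_one_left ha
    have ib : b⁻¹ = b := inv_eq_of_mul_eq_one_left hb
    rintro x (rfl | rfl | rfl | rfl)
    · simp
    · simp [ia]
    · simp [ib]
    · right; right; right
      rw [mul_inv_rev, ia, ib, hab]; rfl

theorem mem_kf (a b : G) (ha hb hab) (x : G) :
    x ∈ kf a b ha hb hab ↔ x = 1 ∨ x = a ∨ x = b ∨ x = a * b := Iff.rfl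

theorem closure_pair (a b : G) (ha hb hab) :
    Subgroup.closure ({a, b} : Set G) = kf a b ha hb hab := by
  apply le_antisymm
  · rw [Subgroup.closure_le]
    rintro x (rfl | rfl)
    · exact Or.inr (Or.inl rfl)
    · exact Or.inr (Or.inr (Or.inl rfl))
  · rintro x (rfl | rfl | rfl | rfl)
    · exact Subgroup.one_mem _
    · exact Subgroup.subset_closure (by simp)
    · exact Subgroup.subset_closure (by simp)
    · exact Subgroup.mul_mem _ (Subgroup.subset_closure (by simp)) (Subgroup.subset_closure (by simp))

theorem isKleinFour_kf (a b : G) (ha hb hab) (ha1 : a ≠ 1) (hb1 : b ≠ 1) (hne : a ≠ b) :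
    IsKleinFour (kf a b ha hb hab) := by
  classical
  have hab1 : a * b ≠ 1 := by
    intro h
    apply hne
    have : a * b = b * b := by rw [h, hb]
    exact mul_right_cancel this
  have haba : a * b ≠ a := by
    intro h
    apply hb1
    have : a * b = a * 1 := by rw [h, mul_one]
    exact mul_left_cancel this
  have habb : a * b ≠ b := by
    intro h
    apply ha1
    have : a * b = 1 * b := by rw [h, one_mul]
    exact mul_right_cancel this
  constructor
  · show Nat.card ({1, a, b, a * b} : Set G) = 4
    rw [Nat.card_coe_set_eq, Set.ncard_eq_toFinset_card']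
    have : ({1, a, b, a * b} : Set G).toFinset = ({1, a, b, a * b} : Finset G) := by
      ext x; simp
    rw [this, Finset.card_insert_of_notMem, Finset.card_insert_of_notMem, Finset.card_pair habb.symm]
    · simp only [Finset.mem_insert, Finset.mem_singleton]
      rintro (h | h)
      · exact hne h
      · exact haba h.symm
    · simp only [Finset.mem_insert, Finset.mem_singleton]
      rintro (h | h | h)
      · exact ha1 h.symm
      · exact hb1 h.symm
      · exact hab1 h.symm
  · have hdvd : Monoid.exponent (kf a b ha hb hab) ∣ 2 := by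
      apply Monoid.exponent_dvd_of_forall_pow_eq_one
      rintro ⟨x, hx⟩
      apply Subtype.ext
      simp only [Subgroup.coe_pow, Subgroup.coe_one]
      rcases hx with rfl | rfl | rfl | rfl
      · simp
      · rw [pow_two, ha]
      · rw [pow_two, hb]
      · rw [pow_two, mul_assoc, ← mul_assoc b, ← hab, mul_assoc, hb, mul_one, ha]
    have hne1 : Monoid.exponent (kf a b ha hb hab) ≠ 1 := by
      intro h
      rw [Monoid.exp_eq_one_iff] at h
      have := h.elim (⟨a, Or.inr (Or.inl rfl)⟩ : kf a b ha hb hab) ⟨1, Or.inl rfl⟩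
      exact ha1 (congrArg Subtype.val this)
    rcases (Nat.dvd_prime Nat.prime_two).mp hdvd with h | h
    · exact absurd h hne1
    · exact h


theorem orderOf_two_iff (a : G) : orderOf a = 2 ↔ a * a = 1 ∧ a ≠ 1 := by
  constructor
  · intro h
    constructor
    · have := pow_orderOf_eq_one a
      rwa [h, pow_two] at this
    · intro h1
      rw [h1, orderOf_one] at h
      norm_num at h
  · rintro ⟨h1, h2⟩
    exact orderOf_eq_prime (by rw [pow_two]; exact h1) h2

/-- the set of ordered pairs of distinct commuting involutions -/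
def PairPred (p : G × G) : Prop :=
  orderOf p.1 = 2 ∧ orderOf p.2 = 2 ∧ p.1 ≠ p.2 ∧ p.1 * p.2 = p.2 * p.1

open Finset in
theorem six_mul_card [Finite G] :
    6 * Nat.card {V : Subgroup G // IsKleinFour V} = Nat.card {p : G × G // PairPred p} := by
  classical
  have := Fintype.ofFinite G
  have := Fintype.ofFinite (Subgroup G)
  rw [Nat.card_eq_fintype_card, Nat.card_eq_fintype_card, Fintype.card_subtype,
    Fintype.card_subtype]
  set Pf : Finset (G × G) := univ.filter (fun p => PairPred p) with hPf
  set Vf : Finset (Subgroup G) := univ.filter (fun V => IsKleinFour V) with hVf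
  have hmaps : ∀ p ∈ Pf, Subgroup.closure ({p.1, p.2} : Set G) ∈ Vf := by
    rintro ⟨a, b⟩ hp
    rw [hPf, mem_filter] at hp
    obtain ⟨-, ha, hb, hne, hab⟩ := hp
    simp only at ha hb hne hab
    rw [orderOf_two_iff] at ha hb
    rw [hVf, mem_filter]
    refine ⟨mem_univ _, ?_⟩
    rw [closure_pair a b ha.1 hb.1 hab]
    exact isKleinFour_kf a b ha.1 hb.1 hab ha.2 hb.2 hne
  rw [Finset.card_eq_sum_card_fiberwise hmaps]
  have hfib : ∀ V ∈ Vf, (Pf.filter (fun p => Subgroup.closure ({p.1, p.2} : Set G) = V)).card = 6 := by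
    intro V hV
    rw [hVf, mem_filter] at hV
    have hK : IsKleinFour V := hV.2
    have hcardV : (univ.filter (fun a : G => a ∈ V)).card = 4 := by
      rw [← Fintype.card_subtype, ← Nat.card_eq_fintype_card]
      exact hK.card_four
    have hsq : ∀ a ∈ V, a * a = 1 := by
      intro a ha
      have := IsKleinFour.mul_self (⟨a, ha⟩ : V)
      exact congrArg Subtype.val this
    have hcomm : ∀ a ∈ V, ∀ b ∈ V, a * b = b * a := by
      intro a ha b hb
      have h1 := hsq (a * b) (V.mul_mem ha hb)
      have h2 := hsq a ha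
      have h3 := hsq b hb
      calc a * b = a * (a * b * (a * b)) * b := by rw [h1, mul_one]
        _ = (a * a) * b * a * (b * b) := by group
        _ = b * a := by rw [h2, h3, one_mul, mul_one]
    have heq : Pf.filter (fun p => Subgroup.closure ({p.1, p.2} : Set G) = V) =
        ((univ.filter (fun a : G => a ∈ V)).erase 1).offDiag := by
      ext ⟨a, b⟩
      rw [mem_filter, hPf, mem_filter, mem_offDiag, mem_erase, mem_erase, mem_filter, mem_filter]
      simp only [mem_univ, true_and, PairPred]
      constructor
      · rintro ⟨⟨ha, hb, hne, hab⟩, hcl⟩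
        rw [orderOf_two_iff] at ha hb
        have haV : a ∈ V := hcl ▸ Subgroup.subset_closure (by simp)
        have hbV : b ∈ V := hcl ▸ Subgroup.subset_closure (by simp)
        exact ⟨⟨ha.2, haV⟩, ⟨hb.2, hbV⟩, hne⟩
      · rintro ⟨⟨ha1, haV⟩, ⟨hb1, hbV⟩, hne⟩
        have ha := hsq a haV
        have hb := hsq b hbV
        have hab := hcomm a haV b hbV
        refine ⟨⟨(orderOf_two_iff a).mpr ⟨ha, ha1⟩, (orderOf_two_iff b).mpr ⟨hb, hb1⟩, hne, hab⟩, ?_⟩
        rw [closure_pair a b ha hb hab]
        apply Subgroup.eq_of_le_of_card_ge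
        · rw [← closure_pair a b ha hb hab, Subgroup.closure_le]
          rintro x (rfl | rfl)
          · exact haV
          · exact hbV
        · rw [hK.card_four, (isKleinFour_kf a b ha hb hab ha1 hb1 hne).card_four]
    rw [heq, Finset.offDiag_card, Finset.card_erase_of_mem (by simp [V.one_mem]), hcardV]
  rw [Finset.sum_congr rfl hfib, Finset.sum_const, smul_eq_mul, mul_comm]

end Cfsg.Agent.Lib.Helper12.Klein
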