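import Mathlib
import Cfsg.Agent.Lib.Helper12.SylTwoD
import Cfsg.Agent.Lib.Helper12.ConjOrbit
import Cfsg.Agent.S0807

set_option autoImplicit false

namespace Cfsg.Agent.Lib.Helper12.Quat

open Cfsg.Agent.Lib.Helper12.SL2 Cfsg.Agent.Lib.Helper12.Klein Cfsg.Agent.Lib.Helper12.ConjOrbit
open Cfsg.Agent.S0807

variable {F : Type*} [Field F]

local notation "SL2" => Matrix.SpecialLinearGroup (Fin 2)
local notation "M2" => Matrix (Fin 2) (Fin 2)
local notation "PSL2" => Matrix.ProjectiveSpecialLinearGroup (Fin 2)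

/-! ### generic lemmas -/

theorem mem_normalizer_of_conj_mem {G : Type*} [Group G] [Finite G] (H : Subgroup G) (g : G)
    (h : ∀ x ∈ H, g * x * g⁻¹ ∈ H) : g ∈ Subgroup.normalizer (H : Set G) := by
  rw [← map_conj_eq_iff]
  apply Subgroup.eq_of_le_of_card_ge
  · rintro _ ⟨x, hx, rfl⟩
    exact h x hx
  · rw [Cfsg.Agent.Lib.Helper12.SylTwo.card_map_conj]

theorem card_le_three_mul {G : Type*} [Group G] [Finite G] (N M : Subgroup G) (u : G)
    (h : ∀ g ∈ N, g ∈ M ∨ u * g ∈ M ∨ u * u * g ∈ M) : Nat.card N ≤ 3 * Nat.card M := by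
  have hsub : (N : Set G) ⊆ ((M : Set G) ∪ ((fun a => u⁻¹ * a) '' (M : Set G))) ∪
        ((fun a => (u * u)⁻¹ * a) '' (M : Set G)) := by
    intro g hg
    rcases h g hg with h | h | h
    · exact Or.inl (Or.inl h)
    · exact Or.inl (Or.inr ⟨u * g, h, by group⟩)
    · exact Or.inr ⟨u * u * g, h, by group⟩
  have hN : Nat.card N = (N : Set G).ncard := Nat.card_coe_set_eq _
  have hM : Nat.card M = (M : Set G).ncard := Nat.card_coe_set_eq _
  rw [hN, hM]
  calc _ ≤ (((M : Set G) ∪ ((fun a => u⁻¹ * a) '' (M : Set G))) ∪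
        ((fun a => (u * u)⁻¹ * a) '' (M : Set G))).ncard :=
          Set.ncard_le_ncard hsub (Set.toFinite _)
      _ ≤ ((M : Set G) ∪ ((fun a => u⁻¹ * a) '' (M : Set G))).ncard +
          ((fun a => (u * u)⁻¹ * a) '' (M : Set G)).ncard := Set.ncard_union_le _ _
      _ ≤ (M : Set G).ncard + ((fun a => u⁻¹ * a) '' (M : Set G)).ncard +
          ((fun a => (u * u)⁻¹ * a) '' (M : Set G)).ncard :=
          Nat.add_le_add_right (Set.ncard_union_le _ _) _
      _ = 3 * (M : Set G).ncard := by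
          rw [Set.ncard_image_of_injective _ (mul_right_injective _),
            Set.ncard_image_of_injective _ (mul_right_injective _)]
          ring

theorem card_le_two_mul {G : Type*} [Group G] [Finite G] (M E : Subgroup G) (j : G)
    (h : ∀ g ∈ M, g ∈ E ∨ j⁻¹ * g ∈ E) : Nat.card M ≤ 2 * Nat.card E := by
  have hsub : (M : Set G) ⊆ (E : Set G) ∪ ((fun a => j * a) '' (E : Set G)) := by
    intro g hg
    rcases h g hg with h | h
    · exact Or.inl h
    · exact Or.inr ⟨j⁻¹ * g, h, by group⟩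
  have hM : Nat.card M = (M : Set G).ncard := Nat.card_coe_set_eq _
  have hE : Nat.card E = (E : Set G).ncard := Nat.card_coe_set_eq _
  rw [hM, hE]
  calc _ ≤ ((E : Set G) ∪ ((fun a => j * a) '' (E : Set G))).ncard :=
          Set.ncard_le_ncard hsub (Set.toFinite _)
      _ ≤ (E : Set G).ncard + ((fun a => j * a) '' (E : Set G)).ncard := Set.ncard_union_le _ _
      _ = 2 * (E : Set G).ncard := by
          rw [Set.ncard_image_of_injective _ (mul_right_injective _)]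
          ring

/-- a proper subgroup has at most half the order -/
theorem two_mul_card_le {G : Type*} [Group G] [Finite G] (H K : Subgroup G) (hle : H ≤ K)
    (x : G) (hxK : x ∈ K) (hxH : x ∉ H) : 2 * Nat.card H ≤ Nat.card K := by
  obtain ⟨c, hc⟩ := Subgroup.card_dvd_of_le hle
  have hKpos : 0 < Nat.card K := Nat.card_pos
  have hHpos : 0 < Nat.card H := Nat.card_pos
  rcases c with _ | _ | c
  · rw [hc] at hKpos; simp at hKpos
  · exfalso
    apply hxH
    have : H = K := Subgroup.eq_of_le_of_card_ge hle (by rw [hc]; simp)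
    rw [this]; exact hxK
  · rw [hc]
    nlinarith

/-! ### the quotient map -/

theorem mkH_eq_iff (h2 : (2 : F) ≠ 0) (g x : SL2 F) :
    (mkH g : PSL2 F) = mkH x ↔ g = x ∨ g = zc' * x := by
  show (QuotientGroup.mk g : PSL2 F) = QuotientGroup.mk x ↔ _
  rw [QuotientGroup.eq, Cfsg.Agent.S2508.mem_center_iff_eq h2]
  have hz : (zc' : SL2 F) * zc' = 1 := Cfsg.Agent.S2471.zc_mul_self
  constructor
  · rintro (h | h)
    · left
      have : x = g * (g⁻¹ * x) := by group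
      rw [this, h, mul_one]
    · right
      have : x = g * (g⁻¹ * x) := by group
      rw [this, h, ← mul_assoc, ← Cfsg.Agent.S2471.zc_central g, mul_assoc, hz, mul_one]
  · rintro (rfl | rfl)
    · left; group
    · right
      have hzi : (zc' : SL2 F)⁻¹ = zc' := inv_eq_of_mul_eq_one_left hz
      rw [mul_inv_rev, hzi, mul_assoc, ← Cfsg.Agent.S2471.zc_central x, ← mul_assoc,
        inv_mul_cancel, one_mul]

theorem mkH_zc : (mkH (zc' : SL2 F) : PSL2 F) = 1 := by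
  show (QuotientGroup.mk (zc' : SL2 F) : PSL2 F) = 1
  rw [QuotientGroup.eq_one_iff]
  exact Cfsg.Agent.S2471.zc_mem_center

theorem mkH_eq_one_iff (h2 : (2 : F) ≠ 0) (g : SL2 F) :
    (mkH g : PSL2 F) = 1 ↔ g = 1 ∨ g = zc' := by
  show (QuotientGroup.mk g : PSL2 F) = 1 ↔ _
  rw [QuotientGroup.eq_one_iff, Cfsg.Agent.S2508.mem_center_iff_eq h2]

/-! ### the four-group attached to a point of the conic `α² + β² = -1` -/

section Conic

variable (h2 : (2 : F) ≠ 0) (α β : F) (h : α ^ 2 + β ^ 2 = -1)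

theorem qi_sq : (qi : SL2 F) * qi = zc' := sq_eq_zc_of_tr_eq_zero _ tr_qi

theorem qj_sq : qj α β h * qj α β h = zc' := sq_eq_zc_of_tr_eq_zero _ (tr_qj α β h)

theorem qj_mul_qi : qj α β h * qi = zc' * (qi * qj α β h) := by
  have h1 := qj_conj α β h
  rw [mul_inv_eq_iff_eq_mul, qi_inv] at h1
  rw [h1, mul_assoc]

/-- image of `i` -/
noncomputable abbrev ia : PSL2 F := mkH (qi : SL2 F)

/-- image of `j` -/
noncomputable abbrev jb : PSL2 F := mkH (qj α β h)

theorem ia_sq : (ia : PSL2 F) * ia = 1 := by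
  show mkH ((qi : SL2 F)) * mkH (qi : SL2 F) = 1
  rw [← map_mul, qi_sq, mkH_zc]

theorem jb_sq : jb α β h * jb α β h = 1 := by
  show mkH (qj α β h) * mkH (qj α β h) = 1
  rw [← map_mul, qj_sq, mkH_zc]

theorem ia_jb_comm : ia * jb α β h = jb α β h * ia := by
  show mkH (qi : SL2 F) * mkH (qj α β h) = mkH (qj α β h) * mkH (qi : SL2 F)
  rw [← map_mul, ← map_mul, qj_mul_qi, map_mul mkH zc', mkH_zc, one_mul]

include h2 in
theorem ia_ne_one : (ia : PSL2 F) ≠ 1 := by
  intro e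
  have := (orderOf_mk_eq_two_iff h2 (qi : SL2 F)).mpr tr_qi
  have e' : (QuotientGroup.mk (qi : SL2 F) : PSL2 F) = 1 := e
  rw [e', orderOf_one] at this
  norm_num at this

include h2 in
theorem jb_ne_one : jb α β h ≠ 1 := by
  intro e
  have := (orderOf_mk_eq_two_iff h2 (qj α β h)).mpr (tr_qj α β h)
  have e' : (QuotientGroup.mk (qj α β h) : PSL2 F) = 1 := e
  rw [e', orderOf_one] at this
  norm_num at this

include h2 in
theorem ia_ne_jb : ia ≠ jb α β h := by
  intro e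
  have e' : (mkH (qj α β h) : PSL2 F) = mkH (qi : SL2 F) := e.symm
  apply qj_not_mem_Tor h2 α β h
  rw [Subgroup.mem_centralizer_singleton_iff]
  rcases (mkH_eq_iff h2 _ _).mp e' with e1 | e1
  · rw [e1]
  · rw [e1, ← mul_assoc qi, Cfsg.Agent.S2471.zc_central qi]

/-- the four-group -/
noncomputable def VV : Subgroup (PSL2 F) :=
  kf (ia : PSL2 F) (jb α β h) ia_sq (jb_sq α β h) (ia_jb_comm α β h)

theorem mem_VV (x : PSL2 F) :
    x ∈ VV α β h ↔ x = 1 ∨ x = ia ∨ x = jb α β h ∨ x = ia * jb α β h := Iff.rfl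

include h2 in
theorem isKleinFour_VV : IsKleinFour (VV α β h) :=
  isKleinFour_kf _ _ _ _ _ (ia_ne_one h2) (jb_ne_one h2 α β h) (ia_ne_jb h2 α β h)

/-- image of `u` -/
noncomputable abbrev uc : PSL2 F := mkH (qu h2 α β h)

theorem uc_conj_ia : uc h2 α β h * ia * (uc h2 α β h)⁻¹ = ia * jb α β h := by
  show mkH (qu h2 α β h) * mkH (qi : SL2 F) * (mkH (qu h2 α β h))⁻¹ =
    mkH (qi : SL2 F) * mkH (qj α β h)
  rw [← map_inv, ← map_mul, ← map_mul, ← map_mul]
  congr 1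
  rw [mul_inv_eq_iff_eq_mul]; exact qu_mul_qi h2 α β h

theorem uc_conj_jb : uc h2 α β h * jb α β h * (uc h2 α β h)⁻¹ = ia := by
  show mkH (qu h2 α β h) * mkH (qj α β h) * (mkH (qu h2 α β h))⁻¹ = mkH (qi : SL2 F)
  rw [← map_inv, ← map_mul, ← map_mul]
  congr 1
  rw [mul_inv_eq_iff_eq_mul]; exact qu_mul_qj h2 α β h

theorem uc_conj_ij : uc h2 α β h * (ia * jb α β h) * (uc h2 α β h)⁻¹ = jb α β h := by
  have e : uc h2 α β h * (ia * jb α β h) * (uc h2 α β h)⁻¹ =
      (uc h2 α β h * ia * (uc h2 α β h)⁻¹) * (uc h2 α β h * jb α β h * (uc h2 α β h)⁻¹) := by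
    group
  rw [e, uc_conj_ia, uc_conj_jb, ia_jb_comm, mul_assoc, ia_sq, mul_one]

theorem uc_mem_normalizer [Finite F] :
    uc h2 α β h ∈ Subgroup.normalizer ((VV α β h : Subgroup (PSL2 F)) : Set (PSL2 F)) := by
  apply mem_normalizer_of_conj_mem
  intro x hx
  rcases (mem_VV α β h x).mp hx with rfl | rfl | rfl | rfl
  · rw [mul_one, mul_inv_cancel]; exact Subgroup.one_mem _
  · rw [uc_conj_ia]; exact Or.inr (Or.inr (Or.inr rfl))
  · rw [uc_conj_jb]; exact Or.inr (Or.inl rfl)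
  · rw [uc_conj_ij]; exact Or.inr (Or.inr (Or.inl rfl))

theorem VV_sq (x : PSL2 F) (hx : x ∈ VV α β h) : x * x = 1 := by
  rcases (mem_VV α β h x).mp hx with rfl | rfl | rfl | rfl
  · rw [mul_one]
  · exact ia_sq
  · exact jb_sq α β h
  · calc ia * jb α β h * (ia * jb α β h) = ia * (jb α β h * ia) * jb α β h := by group
      _ = (ia * ia) * (jb α β h * jb α β h) := by rw [← ia_jb_comm]; group
      _ = 1 := by rw [ia_sq, jb_sq, mul_one]

theorem ia_mem_VV : (ia : PSL2 F) ∈ VV α β h := Or.inr (Or.inl rfl)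

theorem jb_mem_VV : jb α β h ∈ VV α β h := Or.inr (Or.inr (Or.inl rfl))

/-- preimage in `SL₂` of the normalizer of the four-group -/
noncomputable def NQ : Subgroup (SL2 F) :=
  (Subgroup.normalizer ((VV α β h : Subgroup (PSL2 F)) : Set (PSL2 F))).comap mkH

theorem mem_NQ (g : SL2 F) : g ∈ NQ α β h ↔
    mkH g ∈ Subgroup.normalizer ((VV α β h : Subgroup (PSL2 F)) : Set (PSL2 F)) := Iff.rfl

theorem qu_mem_NQ [Finite F] : qu h2 α β h ∈ NQ α β h := uc_mem_normalizer h2 α β h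

theorem qj_mem_NQ : qj α β h ∈ NQ α β h := Subgroup.le_normalizer (jb_mem_VV α β h)

theorem qi_mem_NQ : (qi : SL2 F) ∈ NQ α β h := Subgroup.le_normalizer (ia_mem_VV α β h)

theorem center_le_NQ : Subgroup.center (SL2 F) ≤ NQ α β h := by
  intro z hz
  rw [mem_NQ]
  have : (mkH z : PSL2 F) = 1 := by
    show (QuotientGroup.mk z : PSL2 F) = 1
    rw [QuotientGroup.eq_one_iff]; exact hz
  rw [this]; exact Subgroup.one_mem _

include h2 in
theorem mem_NTor_of_mkH (n : SL2 F) (hn : mkH (n * qi * n⁻¹) = (ia : PSL2 F)) :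
    n ∈ NTor (qi : SL2 F) := by
  rw [mem_normalizer_centralizer_iff h2 qi (tr_sq_ne_four_of_tr_eq_zero h2 qi tr_qi)]
  rcases (mkH_eq_iff h2 _ _).mp hn with e | e
  · exact Or.inl e
  · right; rw [e, qi_inv]

theorem cover [Finite F] (g : SL2 F) (hg : g ∈ NQ α β h) :
    g ∈ NTor (qi : SL2 F) ∨ qu h2 α β h * g ∈ NTor (qi : SL2 F) ∨
      qu h2 α β h * qu h2 α β h * g ∈ NTor (qi : SL2 F) := by
  have h1 : mkH g * ia * (mkH g)⁻¹ ∈ VV α β h :=
    (Subgroup.mem_normalizer_iff.mp hg ia).mp (ia_mem_VV α β h)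
  rcases (mem_VV α β h _).mp h1 with e | e | e | e
  · exfalso
    apply ia_ne_one (F := F) h2
    have : (ia : PSL2 F) = (mkH g)⁻¹ * (mkH g * ia * (mkH g)⁻¹) * mkH g := by group
    rw [this, e]; group
  · left
    apply mem_NTor_of_mkH h2
    rw [map_mul, map_mul, map_inv]; exact e
  · right; left
    apply mem_NTor_of_mkH h2
    have : (mkH (qu h2 α β h * g * qi * (qu h2 α β h * g)⁻¹) : PSL2 F) =
        uc h2 α β h * (mkH g * ia * (mkH g)⁻¹) * (uc h2 α β h)⁻¹ := by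
      simp only [map_mul, map_inv]; group
    rw [this, e, uc_conj_jb]
  · right; right
    apply mem_NTor_of_mkH h2
    have : (mkH (qu h2 α β h * qu h2 α β h * g * qi * (qu h2 α β h * qu h2 α β h * g)⁻¹) : PSL2 F) =
        uc h2 α β h * (uc h2 α β h * (mkH g * ia * (mkH g)⁻¹) * (uc h2 α β h)⁻¹) *
          (uc h2 α β h)⁻¹ := by
      simp only [map_mul, map_inv]; group
    rw [this, e, uc_conj_ij, uc_conj_jb]

include h2 in
theorem card_NQ_le [Finite F] :
    Nat.card (NQ α β h) ≤ 3 * Nat.card (NQ α β h ⊓ NTor (qi : SL2 F) : Subgroup (SL2 F)) := by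
  apply card_le_three_mul _ _ (qu h2 α β h)
  intro g hg
  have hu := qu_mem_NQ h2 α β h
  rcases cover h2 α β h g hg with h' | h' | h'
  · exact Or.inl ⟨hg, h'⟩
  · exact Or.inr (Or.inl ⟨Subgroup.mul_mem _ hu hg, h'⟩)
  · exact Or.inr (Or.inr ⟨Subgroup.mul_mem _ (Subgroup.mul_mem _ hu hu) hg, h'⟩)

include h2 in
theorem card_M_le [Finite F] :
    Nat.card (NQ α β h ⊓ NTor (qi : SL2 F) : Subgroup (SL2 F)) ≤
      2 * Nat.card (NQ α β h ⊓ Tor (qi : SL2 F) : Subgroup (SL2 F)) := by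
  have hΔ := tr_sq_ne_four_of_tr_eq_zero h2 (qi : SL2 F) tr_qi
  apply card_le_two_mul _ _ (qj α β h)
  rintro n ⟨hnQ, hnN⟩
  by_cases hT : n ∈ Tor (qi : SL2 F)
  · exact Or.inl ⟨hnQ, hT⟩
  · right
    refine ⟨Subgroup.mul_mem _ (Subgroup.inv_mem _ (qj_mem_NQ α β h)) hnQ, ?_⟩
    show _ ∈ Tor (qi : SL2 F)
    rw [Subgroup.mem_centralizer_singleton_iff]
    have e1 := conj_eq_inv_of_not_mem h2 qi hΔ n hnN hT
    have e2 := conj_eq_inv_of_not_mem h2 qi hΔ (qj α β h) (qj_mem_NTor h2 α β h)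
      (qj_not_mem_Tor h2 α β h)
    have : n * qi * n⁻¹ = qj α β h * qi * (qj α β h)⁻¹ := e1.trans e2.symm
    calc (qj α β h)⁻¹ * n * qi = (qj α β h)⁻¹ * (n * qi * n⁻¹) * n := by group
      _ = (qj α β h)⁻¹ * (qj α β h * qi * (qj α β h)⁻¹) * n := by rw [this]
      _ = qi * ((qj α β h)⁻¹ * n) := by group

include h2 in
theorem conj_qj_of_mem_Tor (t : SL2 F) (ht : t ∈ Tor (qi : SL2 F)) :
    t * qj α β h * t⁻¹ = (t * t) * qj α β h := by
  have hΔ := tr_sq_ne_four_of_tr_eq_zero h2 (qi : SL2 F) tr_qi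
  have h3 : qj α β h * t⁻¹ * (qj α β h)⁻¹ = t := by
    have := y_conj h2 qi hΔ (qj α β h) (qj_mem_NTor h2 α β h) (qj_not_mem_Tor h2 α β h) t⁻¹
      (Subgroup.inv_mem _ ht)
    rw [inv_inv] at this; exact this
  calc t * qj α β h * t⁻¹ = t * (qj α β h * t⁻¹ * (qj α β h)⁻¹) * qj α β h := by group
    _ = t * t * qj α β h := by rw [h3]

include h2 in
theorem pow_eight_of_mem (t : SL2 F)
    (ht : t ∈ (NQ α β h ⊓ Tor (qi : SL2 F) : Subgroup (SL2 F))) : t ^ 8 = 1 := by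
  obtain ⟨htQ, htT⟩ := ht
  have h1 : mkH t * jb α β h * (mkH t)⁻¹ ∈ VV α β h :=
    (Subgroup.mem_normalizer_iff.mp htQ (jb α β h)).mp (jb_mem_VV α β h)
  have h5 : mkH (t * t) * jb α β h ∈ VV α β h := by
    have : (mkH (t * t) * jb α β h : PSL2 F) = mkH t * jb α β h * (mkH t)⁻¹ := by
      rw [← map_inv, ← map_mul, ← map_mul, ← map_mul, conj_qj_of_mem_Tor h2 α β h t htT]
    rw [this]; exact h1
  have h6 : (mkH (t * t) : PSL2 F) ∈ VV α β h := by
    have := Subgroup.mul_mem _ h5 (Subgroup.inv_mem _ (jb_mem_VV α β h))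
    rwa [mul_inv_cancel_right] at this
  have h7 := VV_sq α β h _ h6
  have h8 : (t * t) * (t * t) ∈ Subgroup.center (SL2 F) := by
    rw [← QuotientGroup.eq_one_iff]
    rw [← map_mul] at h7
    exact h7
  have h9 := Cfsg.Agent.S2475.sq_eq_one_of_mem_center _ h8
  rw [← h9]
  simp only [pow_succ, pow_zero, one_mul, mul_assoc]

include h2 in
theorem card_E_dvd [Fintype F] :
    Nat.card (NQ α β h ⊓ Tor (qi : SL2 F) : Subgroup (SL2 F)) ∣ 8 := by
  have hΔ := tr_sq_ne_four_of_tr_eq_zero h2 (qi : SL2 F) tr_qi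
  have hcyc : IsCyclic (Tor (qi : SL2 F)) := (card_Tor_regular h2 qi hΔ).2
  have hcyc' : IsCyclic (NQ α β h ⊓ Tor (qi : SL2 F) : Subgroup (SL2 F)) :=
    isCyclic_of_injective (Subgroup.inclusion inf_le_right) (Subgroup.inclusion_injective _)
  rw [← IsCyclic.exponent_eq_card]
  apply Monoid.exponent_dvd_of_forall_pow_eq_one
  rintro ⟨t, ht⟩
  apply Subtype.ext
  simp only [Subgroup.coe_pow, Subgroup.coe_one]
  exact pow_eight_of_mem h2 α β h t ht

include h2 in
theorem card_NQ_eq [Finite F] : Nat.card (NQ α β h) =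
    2 * Nat.card (Subgroup.normalizer ((VV α β h : Subgroup (PSL2 F)) : Set (PSL2 F))) := by
  have h1 := card_map_mk h2 (NQ α β h) (center_le_NQ α β h)
  have h3 : (NQ α β h).map mkH =
      Subgroup.normalizer ((VV α β h : Subgroup (PSL2 F)) : Set (PSL2 F)) :=
    Subgroup.map_comap_eq_self_of_surjective (QuotientGroup.mk'_surjective _) _
  rw [h1, h3]

include h2 in
theorem card_NQ_le_six [Fintype F] : Nat.card (NQ α β h) ≤
    6 * Nat.card (NQ α β h ⊓ Tor (qi : SL2 F) : Subgroup (SL2 F)) := by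
  have h1 := card_NQ_le h2 α β h
  have h3 := card_M_le h2 α β h
  omega

include h2 in
theorem card_normalizer_VV_le [Fintype F] :
    Nat.card (Subgroup.normalizer ((VV α β h : Subgroup (PSL2 F)) : Set (PSL2 F))) ≤ 24 := by
  have h1 := card_NQ_le_six h2 α β h
  have h3 := card_NQ_eq h2 α β h
  have h4 := Nat.le_of_dvd (by norm_num) (card_E_dvd h2 α β h)
  omega

include h2 in
theorem card_normalizer_VV_le' [Fintype F] (h8 : ¬ 8 ∣ Nat.card (Tor (qi : SL2 F))) :
    Nat.card (Subgroup.normalizer ((VV α β h : Subgroup (PSL2 F)) : Set (PSL2 F))) ≤ 12 := by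
  have h1 := card_NQ_le_six h2 α β h
  have h3 := card_NQ_eq h2 α β h
  have h4 := card_E_dvd h2 α β h
  have h5 : Nat.card (NQ α β h ⊓ Tor (qi : SL2 F) : Subgroup (SL2 F)) ∣
      Nat.card (Tor (qi : SL2 F)) := Subgroup.card_dvd_of_le inf_le_right
  have h6 : Nat.card (NQ α β h ⊓ Tor (qi : SL2 F) : Subgroup (SL2 F)) ≤ 4 := by
    have h7 : (8 : ℕ) = 2 ^ 3 := by norm_num
    rw [h7, Nat.dvd_prime_pow Nat.prime_two] at h4
    obtain ⟨m, hm, he⟩ := h4
    interval_cases m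
    · rw [he]; norm_num
    · rw [he]; norm_num
    · rw [he]; norm_num
    · exfalso; apply h8; rw [he] at h5; exact h5
  omega

/-- a square root of `i`, available when `2` is a square -/
def qt (s : F) (hs : 2 * s ^ 2 = 1) : SL2 F := mk s s (-s) s (by linear_combination hs)

theorem qt_sq (s : F) (hs : 2 * s ^ 2 = 1) : qt s hs * qt s hs = qi := by
  apply ext4 <;> simp only [mul_apply', qi, qt, mk_00, mk_01, mk_10, mk_11]
  · ring
  · linear_combination hs
  · linear_combination -hs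
  · ring

theorem qt_mem_Tor (s : F) (hs : 2 * s ^ 2 = 1) : qt s hs ∈ Tor (qi : SL2 F) := by
  rw [Subgroup.mem_centralizer_singleton_iff, ← qt_sq s hs, mul_assoc]

include h2 in
theorem qt_mem_NQ [Finite F] (s : F) (hs : 2 * s ^ 2 = 1) : qt s hs ∈ NQ α β h := by
  rw [mem_NQ]
  apply mem_normalizer_of_conj_mem
  have hT := qt_mem_Tor s hs
  have c1 : mkH (qt s hs) * (ia : PSL2 F) * (mkH (qt s hs))⁻¹ = ia := by
    rw [← map_inv, ← map_mul, ← map_mul]
    congr 1
    rw [Subgroup.mem_centralizer_singleton_iff] at hT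
    rw [hT, mul_inv_cancel_right]
  have c2 : mkH (qt s hs) * jb α β h * (mkH (qt s hs))⁻¹ = ia * jb α β h := by
    rw [← map_inv, ← map_mul, ← map_mul, ← map_mul, conj_qj_of_mem_Tor h2 α β h _ hT, qt_sq]
  intro x hx
  rcases (mem_VV α β h x).mp hx with rfl | rfl | rfl | rfl
  · rw [mul_one, mul_inv_cancel]; exact Subgroup.one_mem _
  · rw [c1]; exact ia_mem_VV α β h
  · rw [c2]; exact Or.inr (Or.inr (Or.inr rfl))
  · have e : mkH (qt s hs) * (ia * jb α β h) * (mkH (qt s hs))⁻¹ =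
        (mkH (qt s hs) * ia * (mkH (qt s hs))⁻¹) *
          (mkH (qt s hs) * jb α β h * (mkH (qt s hs))⁻¹) := by group
    rw [e, c1, c2, ← mul_assoc, ia_sq, one_mul]
    exact jb_mem_VV α β h

include h2 in
theorem orderOf_qt (s : F) (hs : 2 * s ^ 2 = 1) : orderOf (qt s hs) = 8 := by
  have h4 : qt s hs ^ 4 = zc' := by
    rw [pow_four_eq, qt_sq, qi_sq]
  have : orderOf (qt s hs) = 2 ^ (2 + 1) := by
    apply orderOf_eq_prime_pow
    · rw [show (2 : ℕ) ^ 2 = 4 by norm_num, h4]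
      exact zc_ne_one h2
    · rw [show (2 : ℕ) ^ (2 + 1) = 4 * 2 by norm_num, pow_mul, h4, pow_two]
      exact Cfsg.Agent.S2471.zc_mul_self
  rw [this]; norm_num

include h2 in
theorem qu_not_mem_NTor : qu h2 α β h ∉ NTor (qi : SL2 F) := by
  intro hm
  have hΔ := tr_sq_ne_four_of_tr_eq_zero h2 (qi : SL2 F) tr_qi
  rw [mem_normalizer_centralizer_iff h2 qi hΔ] at hm
  have hux : qu h2 α β h * qi * (qu h2 α β h)⁻¹ = qi * qj α β h := by
    rw [mul_inv_eq_iff_eq_mul]; exact qu_mul_qi h2 α β h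
  rw [hux] at hm
  apply qj_not_mem_Tor h2 α β h
  have hiT : (qi : SL2 F) ∈ Tor (qi : SL2 F) := Subgroup.mem_centralizer_singleton_iff.mpr rfl
  have : qj α β h = qi⁻¹ * (qi * qj α β h) := by group
  rw [this]
  rcases hm with e | e
  · rw [e]; exact Subgroup.mul_mem _ (Subgroup.inv_mem _ hiT) hiT
  · rw [e]; exact Subgroup.mul_mem _ (Subgroup.inv_mem _ hiT) (Subgroup.inv_mem _ hiT)

include h2 in
theorem card_normalizer_VV_ge [Fintype F] (s : F) (hs : 2 * s ^ 2 = 1) :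
    16 ≤ Nat.card (Subgroup.normalizer ((VV α β h : Subgroup (PSL2 F)) : Set (PSL2 F))) := by
  have h3 := card_NQ_eq h2 α β h
  have hE : 8 ∣ Nat.card (NQ α β h ⊓ Tor (qi : SL2 F) : Subgroup (SL2 F)) := by
    rw [← orderOf_qt h2 s hs]
    exact Subgroup.orderOf_dvd_natCard _ ⟨qt_mem_NQ h2 α β h s hs, qt_mem_Tor s hs⟩
  have hE' := Nat.le_of_dvd Nat.card_pos hE
  have hΔ := tr_sq_ne_four_of_tr_eq_zero h2 (qi : SL2 F) tr_qi
  have hM : 2 * Nat.card (NQ α β h ⊓ Tor (qi : SL2 F) : Subgroup (SL2 F)) ≤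
      Nat.card (NQ α β h ⊓ NTor (qi : SL2 F) : Subgroup (SL2 F)) := by
    apply two_mul_card_le _ _ _ (qj α β h)
    · exact ⟨qj_mem_NQ α β h, qj_mem_NTor h2 α β h⟩
    · rintro ⟨-, hT⟩
      exact qj_not_mem_Tor h2 α β h hT
    · exact inf_le_inf_left _ (centralizer_le_normalizer h2 qi hΔ)
  have hN : 2 * Nat.card (NQ α β h ⊓ NTor (qi : SL2 F) : Subgroup (SL2 F)) ≤
      Nat.card (NQ α β h) := by
    apply two_mul_card_le _ _ _ (qu h2 α β h)
    · exact qu_mem_NQ h2 α β h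
    · rintro ⟨-, hT⟩
      exact qu_not_mem_NTor h2 α β h hT
    · exact inf_le_left
  omega

end Conic

end Cfsg.Agent.Lib.Helper12.Quat
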