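import Mathlib

set_option autoImplicit false

namespace Cfsg.Agent.Lib.Helper12.Recog

variable {G : Type*} [Group G] [Finite G]

/-- the coset action on four cosets, into `Perm (Fin 4)` -/
theorem exists_hom_perm_four (H : Subgroup G) (hidx : H.index = 4) (hcore : H.normalCore = ⊥) :
    ∃ f : G →* Equiv.Perm (Fin 4), Function.Injective f := by
  classical
  have : Fintype (G ⧸ H) := Fintype.ofFinite _
  have hc : Fintype.card (G ⧸ H) = 4 := by
    rw [← Nat.card_eq_fintype_card]; exact hidx
  have e : (G ⧸ H) ≃ Fin 4 := Fintype.equivFinOfCardEq hc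
  refine ⟨(Equiv.permCongrHom e).toMonoidHom.comp (MulAction.toPermHom G (G ⧸ H)), ?_⟩
  rw [MonoidHom.coe_comp]
  apply Function.Injective.comp (Equiv.permCongrHom e).injective
  rw [← MonoidHom.ker_eq_bot_iff, ← Subgroup.normalCore_eq_ker, hcore]

theorem nonempty_mulEquiv_perm_four (H : Subgroup G) (hidx : H.index = 4)
    (hcore : H.normalCore = ⊥) (hcard : Nat.card G = 24) :
    Nonempty (G ≃* Equiv.Perm (Fin 4)) := by
  classical
  obtain ⟨f, hf⟩ := exists_hom_perm_four H hidx hcore
  have : Fintype G := Fintype.ofFinite _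
  have hbij : Function.Bijective f := by
    rw [Fintype.bijective_iff_injective_and_card]
    refine ⟨hf, ?_⟩
    rw [← Nat.card_eq_fintype_card, hcard, Fintype.card_perm, Fintype.card_fin]
    rfl
  exact ⟨MulEquiv.ofBijective f hbij⟩

theorem nonempty_mulEquiv_alternating_four (H : Subgroup G) (hidx : H.index = 4)
    (hcore : H.normalCore = ⊥) (hcard : Nat.card G = 12) :
    Nonempty (G ≃* alternatingGroup (Fin 4)) := by
  classical
  obtain ⟨f, hf⟩ := exists_hom_perm_four H hidx hcore
  have e : G ≃* f.range := MonoidHom.ofInjective hf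
  have hr : Nat.card f.range = 12 := by rw [← Nat.card_congr e.toEquiv, hcard]
  have hidx2 : f.range.index = 2 := by
    have h1 := f.range.card_mul_index
    rw [hr, Nat.card_eq_fintype_card, Fintype.card_perm, Fintype.card_fin] at h1
    have : (4 : ℕ).factorial = 24 := rfl
    rw [this] at h1
    omega
  have := Equiv.Perm.eq_alternatingGroup_of_index_eq_two hidx2
  exact ⟨e.trans (MulEquiv.subgroupCongr this)⟩

theorem normalCore_eq_bot_of_prime (P : Subgroup G) (p : ℕ) [Fact p.Prime]
    (hP : Nat.card P = p) (hn : ¬ P.Normal) : P.normalCore = ⊥ := by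
  have hle := Subgroup.normalCore_le P
  have hdvd := Subgroup.card_dvd_of_le hle
  rw [hP] at hdvd
  rcases (Nat.dvd_prime Fact.out).mp hdvd with h | h
  · exact Subgroup.eq_bot_of_card_eq _ h
  · exfalso
    apply hn
    have : P.normalCore = P := Subgroup.eq_of_le_of_card_ge hle (by rw [h, hP])
    rw [← this]
    exact Subgroup.normalCore_normal P

omit [Finite G] in
/-- a `p`-element normalizing a Sylow `p`-subgroup lies in it -/
theorem mem_sylow_of_mem_normalizer {p : ℕ} [Fact p.Prime] (P : Sylow p G) (w : G) (k : ℕ)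
    (hw : w ^ p ^ k = 1) (hn : w ∈ Subgroup.normalizer ((P : Subgroup G) : Set G)) : w ∈ P := by
  have hZ : IsPGroup p (Subgroup.zpowers w) := by
    rintro ⟨y, hy⟩
    obtain ⟨j, rfl⟩ := Subgroup.mem_zpowers_iff.mp hy
    refine ⟨k, ?_⟩
    apply Subtype.ext
    simp only [Subgroup.coe_pow, Subgroup.coe_one]
    rw [← zpow_natCast, ← zpow_mul, mul_comm, zpow_mul, zpow_natCast, hw, one_zpow]
  have hle : Subgroup.zpowers w ≤ Subgroup.normalizer ((P : Subgroup G) : Set G) := by
    rw [Subgroup.zpowers_le]; exact hn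
  have hsup : IsPGroup p (Subgroup.zpowers w ⊔ (P : Subgroup G) : Subgroup G) :=
    IsPGroup.to_sup_of_normal_right' hZ P.isPGroup' hle
  have := P.is_maximal' hsup le_sup_right
  have h1 : w ∈ (Subgroup.zpowers w ⊔ (P : Subgroup G) : Subgroup G) :=
    le_sup_left (a := Subgroup.zpowers w) (Subgroup.mem_zpowers w)
  rw [this] at h1
  exact h1

theorem factorization_24 : (24 : ℕ).factorization 3 = 1 := by
  have h : (24 : ℕ) = 3 * 8 := by norm_num
  rw [h, Nat.factorization_mul (by norm_num) (by norm_num)]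
  simp only [Finsupp.add_apply]
  rw [Nat.Prime.factorization_self Nat.prime_three,
    Nat.factorization_eq_zero_of_not_dvd (by norm_num : ¬ 3 ∣ 8)]

/-- an index-four subgroup with trivial core in a group of order `24` with a normal four-subgroup
acted on freely by an element of order three and containing the involutions centralizing it. -/
theorem exists_index_four_core_bot (hcard : Nat.card G = 24) (V : Subgroup G) [hVn : V.Normal]
    (hV : Nat.card V = 4) (u : G) (hu : orderOf u = 3)
    (ha : ∀ v ∈ V, v * u = u * v → v = 1)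
    (hb : ∀ k : G, k * k = 1 → (∀ v ∈ V, k * v = v * k) → k ∈ V) :
    ∃ H : Subgroup G, H.index = 4 ∧ H.normalCore = ⊥ := by
  have hp3 : Fact (Nat.Prime 3) := ⟨Nat.prime_three⟩
  have hpgu : IsPGroup 3 (Subgroup.zpowers u) :=
    IsPGroup.of_card (n := 1) (by rw [Nat.card_zpowers, hu, pow_one])
  obtain ⟨P, hPu⟩ := hpgu.exists_le_sylow
  have hPcard : Nat.card P = 3 := by
    rw [P.card_eq_multiplicity, hcard, factorization_24, pow_one]
  have huP : u ∈ P := hPu (Subgroup.mem_zpowers u)
  have hPV : (P : Subgroup G) ⊓ V = ⊥ := by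
    apply (Subgroup.disjoint_of_coprime_natCard _).eq_bot
    rw [hPcard, hV]; norm_num
  have hVne : ∃ v ∈ V, v ≠ 1 := by
    by_contra hcon
    push Not at hcon
    have : V = ⊥ := by
      rw [eq_bot_iff]; intro v hv; rw [Subgroup.mem_bot]; exact hcon v hv
    rw [this, Subgroup.card_bot] at hV
    norm_num at hV
  -- commutator trick
  have hcomm : ∀ x ∈ V, x * u * x⁻¹ ∈ P → x = 1 := by
    intro x hx hxu
    apply ha x hx
    have hc1 : x * u * x⁻¹ * u⁻¹ ∈ (P : Subgroup G) :=
      Subgroup.mul_mem _ hxu (Subgroup.inv_mem _ huP)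
    have hc2 : x * u * x⁻¹ * u⁻¹ ∈ V := by
      have : x * u * x⁻¹ * u⁻¹ = x * (u * x⁻¹ * u⁻¹) := by group
      rw [this]
      exact Subgroup.mul_mem _ hx (hVn.conj_mem _ (Subgroup.inv_mem _ hx) u)
    have hc : x * u * x⁻¹ * u⁻¹ ∈ (P : Subgroup G) ⊓ V := ⟨hc1, hc2⟩
    rw [hPV, Subgroup.mem_bot] at hc
    calc x * u = (x * u * x⁻¹ * u⁻¹) * (u * x) := by group
      _ = u * x := by rw [hc, one_mul]
  have hPnn : ¬ (P : Subgroup G).Normal := by
    intro hn
    obtain ⟨v, hv, hv1⟩ := hVne
    exact hv1 (hcomm v hv (hn.conj_mem u huP v))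
  set H := Subgroup.normalizer ((P : Subgroup G) : Set G) with hH
  have hidx : H.index = 4 := by
    have h1 : Nat.card (Sylow 3 G) = H.index := Sylow.card_eq_index_normalizer P
    have h3 : Nat.card (Sylow 3 G) ≡ 1 [MOD 3] := card_sylow_modEq_one 3 G
    have h4 : Nat.card (Sylow 3 G) ∣ (P : Subgroup G).index := Sylow.card_dvd_index P
    have h5 : (P : Subgroup G).index = 8 := by
      have := (P : Subgroup G).card_mul_index
      rw [hPcard, hcard] at this
      omega
    rw [h5, h1] at h4
    rw [h1] at h3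
    have hle := Nat.le_of_dvd (by norm_num) h4
    have hne1 : H.index ≠ 1 := by
      intro h
      apply hPnn
      rw [Subgroup.index_eq_one] at h
      exact Subgroup.normalizer_eq_top_iff.mp h
    unfold Nat.ModEq at h3
    interval_cases hi : H.index <;> simp_all
  refine ⟨H, hidx, ?_⟩
  set K := H.normalCore with hK
  have hKn : K.Normal := Subgroup.normalCore_normal H
  have hKH : K ≤ H := Subgroup.normalCore_le H
  have hHcard : Nat.card H = 6 := by
    have := H.card_mul_index
    rw [hidx, hcard] at this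
    omega
  -- K ∩ V = 1
  have c2 : ∀ x ∈ K, x ∈ V → x = 1 := by
    intro x hxK hxV
    apply hcomm x hxV
    exact (Subgroup.mem_normalizer_iff.mp (hKH hxK) u).mp huP
  -- K centralizes V
  have c3 : ∀ k ∈ K, ∀ v ∈ V, k * v = v * k := by
    intro k hk v hv
    have h1 : k * v * k⁻¹ * v⁻¹ ∈ K := by
      have : k * v * k⁻¹ * v⁻¹ = k * (v * k⁻¹ * v⁻¹) := by group
      rw [this]
      exact Subgroup.mul_mem _ hk (hKn.conj_mem _ (Subgroup.inv_mem _ hk) v)
    have h3 : k * v * k⁻¹ * v⁻¹ ∈ V :=
      Subgroup.mul_mem _ (hVn.conj_mem _ hv k) (Subgroup.inv_mem _ hv)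
    have h4 := c2 _ h1 h3
    calc k * v = (k * v * k⁻¹ * v⁻¹) * (v * k) := by group
      _ = v * k := by rw [h4, one_mul]
  have c4 : u ∉ K := by
    intro huK
    obtain ⟨v, hv, hv1⟩ := hVne
    exact hv1 (ha v hv (c3 u huK v hv).symm)
  -- elements of K are involutions
  have c5 : ∀ k ∈ K, k * k = 1 := by
    intro k hk
    have hk6 : k ^ 6 = 1 := by
      have := pow_card_eq_one' (G := H) (x := ⟨k, hKH hk⟩)
      rw [hHcard] at this
      simpa using congrArg Subtype.val this
    have hw3 : (k * k) ^ 3 ^ 1 = 1 := by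
      rw [pow_one, ← pow_two, ← pow_mul]; exact hk6
    have hwK : k * k ∈ K := Subgroup.mul_mem _ hk hk
    have hwP : k * k ∈ P := mem_sylow_of_mem_normalizer P (k * k) 1 hw3 (hKH hwK)
    by_contra hne
    apply c4
    -- zpowers (k*k) = P
    have hz : Subgroup.zpowers (k * k) = (P : Subgroup G) := by
      apply Subgroup.eq_of_le_of_card_ge
      · rw [Subgroup.zpowers_le]; exact hwP
      · rw [hPcard, Nat.card_zpowers]
        have hdvd : orderOf (k * k) ∣ 3 := orderOf_dvd_of_pow_eq_one (by rw [← hw3, pow_one])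
        rcases (Nat.dvd_prime Nat.prime_three).mp hdvd with h1 | h1
        · exact absurd (orderOf_eq_one_iff.mp h1) hne
        · rw [h1]
    have : u ∈ Subgroup.zpowers (k * k) := by rw [hz]; exact huP
    exact (Subgroup.zpowers_le.mpr hwK) this
  rw [eq_bot_iff]
  intro k hk
  rw [Subgroup.mem_bot]
  exact c2 k hk (hb k (c5 k hk) (c3 k hk))

end Cfsg.Agent.Lib.Helper12.Recog
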