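import Mathlib
import Cfsg.Agent.Lib.Helper12.Recog
import Cfsg.Agent.Lib.Helper12.Klein
import Cfsg.Agent.Lib.Helper12.Quat

set_option autoImplicit false

namespace Cfsg.Agent.Lib.Helper12.Recog

open Cfsg.Agent.Lib.Helper12.Klein
open scoped Pointwise

variable {G : Type*} [Group G] [Finite G]

/-- a group of order twelve with a non-normal subgroup of order three is `A₄` -/
theorem nonempty_mulEquiv_alternating_four_of_card (hcard : Nat.card G = 12) (P : Subgroup G)
    (hP : Nat.card P = 3) (hn : ¬ P.Normal) : Nonempty (G ≃* alternatingGroup (Fin 4)) := by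
  have hp3 : Fact (Nat.Prime 3) := ⟨Nat.prime_three⟩
  have hcore := normalCore_eq_bot_of_prime P 3 hP hn
  have hidx : P.index = 4 := by
    have := P.card_mul_index
    rw [hP, hcard] at this
    omega
  exact nonempty_mulEquiv_alternating_four P hidx hcore hcard

/-- two commuting involutions permuted cyclically (with their product) by an element of order
three generate a copy of `A₄`. -/
theorem exists_alternating_four (x y c : G) (hx : x * x = 1) (hy : y * y = 1)
    (hxy : x * y = y * x) (hx1 : x ≠ 1) (hy1 : y ≠ 1) (hne : x ≠ y) (hc : orderOf c = 3)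
    (hcx : c * x * c⁻¹ = y) (hcy : c * y * c⁻¹ = x * y) :
    ∃ H : Subgroup G, Nonempty (H ≃* alternatingGroup (Fin 4)) := by
  set V := kf x y hx hy hxy with hV
  have hVK : IsKleinFour V := isKleinFour_kf x y hx hy hxy hx1 hy1 hne
  have hV4 : Nat.card V = 4 := hVK.card_four
  set Z := Subgroup.zpowers c with hZ
  have hZ3 : Nat.card Z = 3 := by rw [Nat.card_zpowers, hc]
  have hcxy : c * (x * y) * c⁻¹ = x := by
    have : c * (x * y) * c⁻¹ = (c * x * c⁻¹) * (c * y * c⁻¹) := by group
    rw [this, hcx, hcy, ← mul_assoc, ← hxy, mul_assoc, hy, mul_one]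
  have hcN : c ∈ Subgroup.normalizer (V : Set G) := by
    apply Cfsg.Agent.Lib.Helper12.Quat.mem_normalizer_of_conj_mem
    rintro v (rfl | rfl | rfl | rfl)
    · simp
    · rw [hcx]; exact Or.inr (Or.inr (Or.inl rfl))
    · rw [hcy]; exact Or.inr (Or.inr (Or.inr rfl))
    · rw [hcxy]; exact Or.inr (Or.inl rfl)
  have hZN : Z ≤ Subgroup.normalizer (V : Set G) := by
    rw [hZ, Subgroup.zpowers_le]; exact hcN
  set T := Z ⊔ V with hT
  have hTcoe : (T : Set G) = (Z : Set G) * (V : Set G) :=
    Subgroup.coe_mul_of_left_le_normalizer_right Z V hZN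
  have hTle : Nat.card T ≤ 12 := by
    show Nat.card ((T : Set G)) ≤ 12
    rw [hTcoe]
    calc Nat.card ((Z : Set G) * (V : Set G) : Set G)
        ≤ Nat.card (Z : Set G) * Nat.card (V : Set G) := Set.natCard_mul_le
      _ = 12 := by
          show Nat.card Z * Nat.card V = 12
          rw [hZ3, hV4]
  have h3 : 3 ∣ Nat.card T := by
    rw [← hZ3]; exact Subgroup.card_dvd_of_le le_sup_left
  have h4 : 4 ∣ Nat.card T := by
    rw [← hV4]; exact Subgroup.card_dvd_of_le le_sup_right
  have hT12 : Nat.card T = 12 := by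
    have hpos : 0 < Nat.card T := Nat.card_pos
    omega
  refine ⟨T, ?_⟩
  have hcT : c ∈ T := le_sup_left (a := Z) (Subgroup.mem_zpowers c)
  have hxT : x ∈ T := le_sup_right (a := Z) (b := V) (Or.inr (Or.inl rfl))
  apply nonempty_mulEquiv_alternating_four_of_card hT12 (Z.subgroupOf T)
  · rw [Nat.card_congr (Subgroup.subgroupOfEquivOfLe (le_sup_left : Z ≤ T)).toEquiv, hZ3]
  · intro hnorm
    have h1 := hnorm.conj_mem ⟨c, hcT⟩ (by rw [Subgroup.mem_subgroupOf]; exact Subgroup.mem_zpowers c)
      ⟨x, hxT⟩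
    rw [Subgroup.mem_subgroupOf] at h1
    simp only [Subgroup.coe_mul, Subgroup.coe_inv] at h1
    have ix : x⁻¹ = x := inv_eq_of_mul_eq_one_left hx
    have iy : y⁻¹ = y := inv_eq_of_mul_eq_one_left hy
    have h2 : x * c * x⁻¹ * c⁻¹ ∈ Z := Subgroup.mul_mem _ h1 (Subgroup.inv_mem _ (Subgroup.mem_zpowers c))
    have h3 : x * c * x⁻¹ * c⁻¹ = x * y := by
      have : x * c * x⁻¹ * c⁻¹ = x * (c * x * c⁻¹)⁻¹ := by group
      rw [this, hcx, iy]
    rw [h3] at h2
    have h5 : (x * y) ^ 3 = 1 := by
      have h6 : (⟨x * y, h2⟩ : Z) ^ 3 = 1 := by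
        rw [← hZ3]; exact pow_card_eq_one'
      simpa using congrArg Subtype.val h6
    have h7 : (x * y) * (x * y) = 1 := by
      calc (x * y) * (x * y) = x * (y * x) * y := by group
        _ = x * (x * y) * y := by rw [← hxy]
        _ = (x * x) * (y * y) := by group
        _ = 1 := by rw [hx, hy, one_mul]
    have h8 : x * y = 1 := by
      have : (x * y) ^ 3 = (x * y) * (x * y) * (x * y) := by
        simp only [pow_succ, pow_zero, one_mul]
      rw [this, h7, one_mul] at h5
      exact h5
    apply hne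
    have : x * y = y * y := by rw [h8, hy]
    exact mul_right_cancel this

omit [Finite G] in
/-- subgroups isomorphic to a given group are transported by injective homomorphisms -/
theorem exists_subgroup_of_injective {G' : Type*} [Group G'] (f : G →* G')
    (hf : Function.Injective f) {A : Type*} [Group A]
    (h : ∃ H : Subgroup G, Nonempty (H ≃* A)) : ∃ H : Subgroup G', Nonempty (H ≃* A) := by
  obtain ⟨H, ⟨e⟩⟩ := h
  exact ⟨H.map f, ⟨(H.equivMapOfInjective f hf).symm.trans e⟩⟩

end Cfsg.Agent.Lib.Helper12.Recog
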