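import Mathlib

set_option autoImplicit false

namespace Cfsg.Agent.Lib.Helper12.DkNum

/-- `z h ≤ 4 β` -/
theorem four_beta {z h a ε β : ℕ} (ha : 2 ≤ a) (hε : ε = 1 ∨ ε = 2)
    (e : β * (ε * a) + z * h = z * h * a) : z * h ≤ 4 * β := by
  by_contra hcon
  push Not at hcon
  have h1 : β * (ε * a) ≤ β * (2 * a) := by
    apply Nat.mul_le_mul_left
    apply Nat.mul_le_mul_right
    rcases hε with rfl | rfl <;> omega
  have h2 : (4 * β + 1) * a ≤ z * h * a := Nat.mul_le_mul_right _ (by omega)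
  have h3 : z * h * 2 ≤ z * h * a := Nat.mul_le_mul_left _ ha
  nlinarith

theorem two_beta {z h a β : ℕ} (ha : 2 ≤ a)
    (e : β * (1 * a) + z * h = z * h * a) : z * h ≤ 2 * β := by
  by_contra hcon
  push Not at hcon
  have h2 : (2 * β + 1) * a ≤ z * h * a := Nat.mul_le_mul_right _ (by omega)
  have h3 : z * h * 2 ≤ z * h * a := Nat.mul_le_mul_left _ ha
  nlinarith

/-- one block -/
theorem num1 {z h a ε β : ℕ} (hz : 0 < z) (hh : 0 < h) (ha : 2 ≤ a) (hε : ε = 1 ∨ ε = 2)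
    (e : β * (ε * a) + z * h = z * h * a) (d : ε * a ∣ h) (s : β + z = z * h) :
    ε = 1 ∧ a = h := by
  rcases hε with rfl | rfl
  · refine ⟨rfl, ?_⟩
    have h1 : z * a = z * h := by nlinarith
    exact Nat.eq_of_mul_eq_mul_left hz h1
  · exfalso
    obtain ⟨k, rfl⟩ := d
    have hk : 1 ≤ k := by
      rcases Nat.eq_zero_or_pos k with h0 | h0
      · subst h0; simp at hh
      · exact h0
    have h1 : β * (a + 1) + z = a * z := by nlinarith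
    have h2 : z * (2 * a * 1) ≤ z * (2 * a * k) := Nat.mul_le_mul_left _ (Nat.mul_le_mul_left _ hk)
    have h3 : z * (2 * a - 1) ≤ β := by
      have : z * (2 * a - 1) + z = z * (2 * a * 1) := by
        have : 2 * a - 1 + 1 = 2 * a * 1 := by omega
        rw [← this]; ring
      omega
    have h4 : z * (2 * a - 1) * (a + 1) ≤ β * (a + 1) := Nat.mul_le_mul_right _ h3
    have h5 : a * z < z * (2 * a - 1) * (a + 1) := by
      have : a + 1 ≤ 2 * a - 1 := by omega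
      calc a * z < z * (a + 1) * (a + 1) := by nlinarith
        _ ≤ z * (2 * a - 1) * (a + 1) :=
          Nat.mul_le_mul_right _ (Nat.mul_le_mul_left _ this)
    omega

/-- two blocks -/
theorem num2 {h a₁ a₂ ε₁ ε₂ : ℕ} (hh : 0 < h) (ha₁ : 2 ≤ a₁) (h12 : a₁ ≤ a₂)
    (hε₁ : ε₁ = 1 ∨ ε₁ = 2) (hε₂ : ε₂ = 1 ∨ ε₂ = 2)
    (d₁ : ε₁ * a₁ ∣ h) (d₂ : ε₂ * a₂ ∣ h)
    (key : ε₁ * ε₂ * a₁ * a₂ + h * (ε₂ * a₁ * a₂ + ε₁ * a₁ * a₂) =
      h * (ε₁ * ε₂ * a₁ * a₂ + ε₂ * a₂ + ε₁ * a₁)) :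
    (ε₁ = 1 ∧ ε₂ = 2 ∧ a₁ = 2 ∧ h = 2 * a₂) ∨
    (ε₁ = 2 ∧ ε₂ = 1 ∧ a₁ = 2 ∧ a₂ = 2 ∧ h = 4) ∨
    (ε₁ = 2 ∧ ε₂ = 1 ∧ a₁ = 2 ∧ a₂ = 3 ∧ h = 12) := by
  have ha₂ : 2 ≤ a₂ := le_trans ha₁ h12
  rcases hε₁ with rfl | rfl <;> rcases hε₂ with rfl | rfl
  · -- (1,1)
    exfalso
    have h1 : a₁ + a₂ ≤ a₁ * a₂ := by nlinarith
    have h2 : h * (a₁ + a₂) ≤ h * (a₁ * a₂) := Nat.mul_le_mul_left _ h1
    have h3 : 0 < a₁ * a₂ := by positivity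
    nlinarith
  · -- (1,2)
    left
    have ha1 : a₁ < 3 := by
      by_contra hcon
      push Not at hcon
      have h1 : 2 * a₂ + a₁ ≤ a₁ * a₂ := by nlinarith
      have h2 : h * (2 * a₂ + a₁) ≤ h * (a₁ * a₂) := Nat.mul_le_mul_left _ h1
      have h3 : 0 < a₁ * a₂ := by positivity
      nlinarith
    have ha1' : a₁ = 2 := by omega
    subst ha1'
    refine ⟨rfl, rfl, rfl, ?_⟩
    nlinarith
  · -- (2,1)
    right
    have ha1 : a₁ < 3 := by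
      by_contra hcon
      push Not at hcon
      have h1 : a₂ + 2 * a₁ ≤ a₁ * a₂ := by nlinarith
      have h2 : h * (a₂ + 2 * a₁) ≤ h * (a₁ * a₂) := Nat.mul_le_mul_left _ h1
      have h3 : 0 < a₁ * a₂ := by positivity
      nlinarith
    have ha1' : a₁ = 2 := by omega
    subst ha1'
    have ha2 : a₂ < 4 := by
      by_contra hcon
      push Not at hcon
      have h2 : h * 4 ≤ h * a₂ := Nat.mul_le_mul_left _ hcon
      nlinarith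
    interval_cases a₂
    · left; refine ⟨rfl, rfl, rfl, rfl, ?_⟩; omega
    · right; refine ⟨rfl, rfl, rfl, rfl, ?_⟩; omega
  · -- (2,2)
    exfalso
    obtain ⟨k, hk⟩ := d₂
    have hk1 : 1 ≤ k := by
      rcases Nat.eq_zero_or_pos k with h0 | h0
      · subst h0; omega
      · exact h0
    have h1 : 2 * a₂ ≤ h := by nlinarith
    have h2 : 2 * a₂ * (a₁ + a₂) ≤ h * (a₁ + a₂) := Nat.mul_le_mul_right _ h1
    have h3 : 0 < a₂ * a₂ := by positivity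
    nlinarith

/-- three blocks, all `ε = 2` -/
theorem num3 {h a₁ a₂ a₃ : ℕ} (hh : 0 < h) (ha₁ : 2 ≤ a₁) (h12 : a₁ ≤ a₂) (h23 : a₂ ≤ a₃)
    (key : 2 * a₁ * a₂ * a₃ + h * (a₁ * a₂ * a₃) = h * (a₁ * a₂ + a₁ * a₃ + a₂ * a₃)) :
    (a₁ = 2 ∧ a₂ = 2 ∧ h = 2 * a₃) ∨ (a₁ = 2 ∧ a₂ = 3 ∧ a₃ = 3 ∧ h = 12) ∨
    (a₁ = 2 ∧ a₂ = 3 ∧ a₃ = 4 ∧ h = 24) ∨ (a₁ = 2 ∧ a₂ = 3 ∧ a₃ = 5 ∧ h = 60) := by
  have ha₂ : 2 ≤ a₂ := le_trans ha₁ h12
  have ha₃ : 2 ≤ a₃ := le_trans ha₂ h23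
  have ha1 : a₁ < 3 := by
    by_contra hcon
    push Not at hcon
    have e1 : 3 * (a₂ * a₃) ≤ a₁ * (a₂ * a₃) := Nat.mul_le_mul_right _ hcon
    have e2 : 3 * (a₁ * a₃) ≤ a₂ * (a₁ * a₃) := Nat.mul_le_mul_right _ (le_trans hcon h12)
    have e3 : 3 * (a₁ * a₂) ≤ a₃ * (a₁ * a₂) :=
      Nat.mul_le_mul_right _ (le_trans (le_trans hcon h12) h23)
    have h1 : a₁ * a₂ + a₁ * a₃ + a₂ * a₃ ≤ a₁ * a₂ * a₃ := by nlinarith
    have h2 : h * (a₁ * a₂ + a₁ * a₃ + a₂ * a₃) ≤ h * (a₁ * a₂ * a₃) := Nat.mul_le_mul_left _ h1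
    have h3 : 0 < a₁ * a₂ * a₃ := by positivity
    nlinarith
  have ha1' : a₁ = 2 := by omega
  subst ha1'
  have ha2 : a₂ < 4 := by
    by_contra hcon
    push Not at hcon
    have e1 : 4 * a₃ ≤ a₂ * a₃ := Nat.mul_le_mul_right _ hcon
    have e2 : 4 * a₂ ≤ a₃ * a₂ := Nat.mul_le_mul_right _ (le_trans hcon h23)
    have h1 : 2 * (a₂ + a₃) ≤ a₂ * a₃ := by nlinarith
    have h2 : h * (2 * (a₂ + a₃)) ≤ h * (a₂ * a₃) := Nat.mul_le_mul_left _ h1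
    have h3 : 0 < a₂ * a₃ := by positivity
    nlinarith
  interval_cases a₂
  · left
    refine ⟨rfl, rfl, ?_⟩
    nlinarith
  · right
    have ha3 : a₃ < 6 := by
      by_contra hcon
      push Not at hcon
      have h2 : h * 6 ≤ h * a₃ := Nat.mul_le_mul_left _ hcon
      nlinarith
    interval_cases a₃
    · left; refine ⟨rfl, rfl, rfl, ?_⟩; omega
    · right; left; refine ⟨rfl, rfl, rfl, ?_⟩; omega
    · right; right; refine ⟨rfl, rfl, rfl, ?_⟩; omega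

end Cfsg.Agent.Lib.Helper12.DkNum
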