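import Cfsg.Agent.Lib.Lead.DicksonAbs5
import Cfsg.Agent.Lib.Helper12.DkNum

/-!
Abstract class-equation classification for groups in which all maximal abelian subgroups (mod a
central subgroup) have normalizer index at most two (helper12): the "polyhedral" numerics.
-/

set_option autoImplicit false

namespace Cfsg.Agent.Lib.Helper12.DkA

open Subgroup Cfsg.Agent.Lib.Lead.DicksonCA Cfsg.Agent.Lib.Lead.DicksonAbs
  Cfsg.Agent.Lib.Helper12.DkNum

variable {H : Type*} [Group H] [Finite H] {Z : Subgroup H}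

/-- hypotheses -/
structure Hyp0 (Z : Subgroup H) : Prop where
  ca : IsCA Z
  hT : ∀ g : H, g ∉ Z →
    Nat.card (normalizer (C g : Set H)) = Nat.card (C g) ∨
      Nat.card (normalizer (C g : Set H)) = 2 * Nat.card (C g)

/-- numerical data of a non-central element -/
theorem data (hyp : Hyp0 Z) {z h : ℕ} (hz : Nat.card Z = z) (hG : Nat.card H = z * h) {g : H}
    (hg : g ∉ Z) :
    ∃ a ε β : ℕ, 2 ≤ a ∧ (ε = 1 ∨ ε = 2) ∧ Nat.card (C g) = z * a ∧
      Nat.card (normalizer (C g : Set H)) = ε * (z * a) ∧ Nat.card (block Z g) = β ∧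
      β * (ε * a) + z * h = z * h * a ∧ ε * a ∣ h := by
  have hzpos : 0 < z := by rw [← hz]; exact Nat.card_pos
  have hle : Z ≤ C g := Z_le_C hyp.ca g
  obtain ⟨a, ha⟩ := Subgroup.card_dvd_of_le hle
  rw [hz] at ha
  have hCpos : 0 < Nat.card (C g) := Nat.card_pos
  have ha2 : 2 ≤ a := by
    by_contra hcon
    push Not at hcon
    have hapos : 0 < a := by
      rcases Nat.eq_zero_or_pos a with h0 | h0
      · subst h0; omega
      · exact h0
    have ha1 : a = 1 := by omega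
    subst ha1
    have : Z = C g := Subgroup.eq_of_le_of_card_ge hle (by rw [ha, hz]; omega)
    exact hg (this ▸ self_mem_C g)
  obtain ⟨ε, hε, hN⟩ : ∃ ε : ℕ, (ε = 1 ∨ ε = 2) ∧
      Nat.card (normalizer (C g : Set H)) = ε * (z * a) := by
    rcases hyp.hT g hg with h1 | h1
    · exact ⟨1, Or.inl rfl, by rw [h1, ha, one_mul]⟩
    · exact ⟨2, Or.inr rfl, by rw [h1, ha]⟩
  have hb := card_block hyp.ca hg
  rw [hN, hG, ha, hz] at hb
  have hdvd : ε * a ∣ h := by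
    have h1 : Nat.card (normalizer (C g : Set H)) ∣ Nat.card H := Subgroup.card_subgroup_dvd_card _
    rw [hN, hG] at h1
    have : z * (ε * a) ∣ z * h := by
      have e : ε * (z * a) = z * (ε * a) := by ring
      rwa [e] at h1
    exact (Nat.mul_dvd_mul_iff_left hzpos).mp this
  refine ⟨a, ε, Nat.card (block Z g), ha2, hε, ha, hN, rfl, ?_, hdvd⟩
  have e1 : z * a - z = z * (a - 1) := by rw [Nat.mul_sub, mul_one]
  rw [e1] at hb
  have e2 : z * (Nat.card (block Z g) * (ε * a)) = z * (h * z * (a - 1)) := by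
    calc z * (Nat.card (block Z g) * (ε * a)) = Nat.card (block Z g) * (ε * (z * a)) := by ring
      _ = z * h * (z * (a - 1)) := hb
      _ = z * (h * z * (a - 1)) := by ring
  have e3 := Nat.eq_of_mul_eq_mul_left hzpos e2
  have e4 : a - 1 + 1 = a := by omega
  calc Nat.card (block Z g) * (ε * a) + z * h = h * z * (a - 1) + z * h := by rw [e3]
    _ = z * h * (a - 1 + 1) := by ring
    _ = z * h * a := by rw [e4]

/-- the set of non-central elements -/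
def TT0 (Z : Subgroup H) : Set H := {x | x ∉ Z}

theorem card_TT0 {z h : ℕ} (hz : Nat.card Z = z) (hG : Nat.card H = z * h) :
    Nat.card (TT0 Z) + z = z * h := by
  have h1 := Set.ncard_add_ncard_compl (Z : Set H)
  have h2 : (Z : Set H).ncard = z := by
    rw [← Nat.card_coe_set_eq]; exact hz
  have h3 : Nat.card (TT0 Z) = ((Z : Set H)ᶜ).ncard := by
    rw [Nat.card_coe_set_eq]; rfl
  rw [h3, ← hG, ← h1, h2]; ring

theorem exists_min (S : Set H) (hS : S.Nonempty) :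
    ∃ g ∈ S, ∀ x ∈ S, Nat.card (C g) ≤ Nat.card (C x) :=
  Set.exists_min_image S (fun x => Nat.card (C x)) (Set.toFinite S) hS

/-- the configuration (2,3,3) with all normalizers of index two does not occur -/
theorem no233 (hyp : Hyp0 Z) {z : ℕ} (hz : Nat.card Z = z) (hG : Nat.card H = z * 12)
    {g₂ g₃ : H} (hg₂ : g₂ ∉ Z) (hg₃ : g₃ ∉ Z) (hc₂ : Nat.card (C g₂) = z * 3)
    (hN₂ : Nat.card (normalizer (C g₂ : Set H)) = 2 * (z * 3))
    (hc₃ : Nat.card (C g₃) = z * 3) (hB : g₃ ∉ block Z g₂) : False := by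
  have hzpos : 0 < z := by rw [← hz]; exact Nat.card_pos
  set N := normalizer (C g₂ : Set H) with hNdef
  have hidx : N.index = 2 := by
    have h1 := N.index_mul_card
    rw [hN₂, hG] at h1
    have : N.index * (z * 6) = 2 * (z * 6) := by
      calc N.index * (z * 6) = N.index * (2 * (z * 3)) := by ring
        _ = z * 12 := h1
        _ = 2 * (z * 6) := by ring
    exact Nat.eq_of_mul_eq_mul_right (by omega) this
  -- g₃ ^ 3 ∈ Z
  have hle₃ : Z ≤ C g₃ := Z_le_C hyp.ca g₃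
  have h3Z : g₃ ^ 3 ∈ Z := by
    have hnorm : (Z.subgroupOf (C g₃)).Normal := by
      refine ⟨fun n hn g => ?_⟩
      rw [Subgroup.mem_subgroupOf] at hn ⊢
      have hcomm := hyp.ca.central _ hn (g : H)
      have : ((g * n * g⁻¹ : C g₃) : H) = (n : H) := by
        push_cast
        rw [← hcomm]; group
      rw [this]; exact hn
    have hidx3 : (Z.subgroupOf (C g₃)).index = 3 := by
      have h1 := (Z.subgroupOf (C g₃)).index_mul_card
      have h2 : Nat.card (Z.subgroupOf (C g₃)) = z := by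
        rw [← hz]; exact Nat.card_congr (Subgroup.subgroupOfEquivOfLe hle₃).toEquiv
      rw [h2, hc₃] at h1
      have : (Z.subgroupOf (C g₃)).index * z = 3 * z := by rw [h1]; ring
      exact Nat.eq_of_mul_eq_mul_right hzpos this
    have := (Z.subgroupOf (C g₃)).pow_index_mem (⟨g₃, self_mem_C g₃⟩ : C g₃)
    rw [hidx3, Subgroup.mem_subgroupOf] at this
    simpa using this
  have hZN : Z ≤ N := le_trans (Z_le_C hyp.ca g₂) Subgroup.le_normalizer
  have h2N : g₃ ^ 2 ∈ N := Subgroup.sq_mem_of_index_two hidx g₃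
  have hgN : g₃ ∈ N := by
    have : g₃ = g₃ ^ 3 * (g₃ ^ 2)⁻¹ := by group
    rw [this]
    exact N.mul_mem (hZN h3Z) (N.inv_mem h2N)
  -- inside N, C g₂ has index two
  have hleN : C g₂ ≤ N := Subgroup.le_normalizer
  have hidx2 : ((C g₂).subgroupOf N).index = 2 := by
    have h1 := ((C g₂).subgroupOf N).index_mul_card
    have h2 : Nat.card ((C g₂).subgroupOf N) = z * 3 := by
      rw [← hc₂]; exact Nat.card_congr (Subgroup.subgroupOfEquivOfLe hleN).toEquiv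
    rw [h2, hN₂] at h1
    have : ((C g₂).subgroupOf N).index * (z * 3) = 2 * (z * 3) := by rw [h1]
    exact Nat.eq_of_mul_eq_mul_right (by omega) this
  have h2C : g₃ ^ 2 ∈ C g₂ := by
    have := Subgroup.sq_mem_of_index_two hidx2 (⟨g₃, hgN⟩ : N)
    rw [Subgroup.mem_subgroupOf] at this
    simpa using this
  have hgC : g₃ ∈ C g₂ := by
    have : g₃ = g₃ ^ 3 * (g₃ ^ 2)⁻¹ := by group
    rw [this]
    exact (C g₂).mul_mem (Z_le_C hyp.ca g₂ h3Z) ((C g₂).inv_mem h2C)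
  exact hB ⟨hg₃, 1, by simpa using hgC⟩

/-- the structure theorem -/
theorem structure_thm (hyp : Hyp0 Z) {z h : ℕ} (hz : Nat.card Z = z) (hG : Nat.card H = z * h) :
    (∀ x : H, x ∈ Z) ∨
    (∃ g : H, g ∉ Z ∧ C g = ⊤) ∨
    (∃ g : H, g ∉ Z ∧ Nat.card H = 2 * Nat.card (C g)) ∨
    (h = 12 ∧ ∃ g : H, g ∉ Z ∧ Nat.card (C g) = z * 3 ∧
      Nat.card (normalizer (C g : Set H)) = z * 3) ∨
    (h = 24 ∧ ∃ g : H, g ∉ Z ∧ Nat.card (C g) = z * 3 ∧
      Nat.card (normalizer (C g : Set H)) = 2 * (z * 3) ∧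
      ∀ x : H, x ∉ Z → Nat.card (C x) ≤ z * 4) ∨
    (h = 60 ∧ ∃ g₁ g₂ g₃ : H, g₁ ∉ Z ∧ g₂ ∉ Z ∧ g₃ ∉ Z ∧
      Nat.card (C g₁) = z * 2 ∧ Nat.card (C g₂) = z * 3 ∧ Nat.card (C g₃) = z * 5 ∧
      Nat.card (normalizer (C g₁ : Set H)) = 2 * (z * 2) ∧
      Nat.card (normalizer (C g₂ : Set H)) = 2 * (z * 3) ∧
      Nat.card (normalizer (C g₃ : Set H)) = 2 * (z * 5) ∧
      ∀ x : H, x ∉ Z → x ∈ block Z g₁ ∨ x ∈ block Z g₂ ∨ x ∈ block Z g₃) := by
  classical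
  have hzpos : 0 < z := by rw [← hz]; exact Nat.card_pos
  have hhpos : 0 < h := by
    rcases Nat.eq_zero_or_pos h with h0 | h0
    · subst h0
      have : 0 < Nat.card H := Nat.card_pos
      omega
    · exact h0
  have hT := card_TT0 hz hG
  by_cases hne : (TT0 Z).Nonempty
  swap
  · left
    intro x
    by_contra hx
    exact hne ⟨x, hx⟩
  right
  obtain ⟨g₁, hg₁, hmin₁⟩ := exists_min (TT0 Z) hne
  obtain ⟨a₁, ε₁, β₁, ha₁, hε₁, hc₁, hN₁, hβ₁, he₁, hd₁⟩ := data hyp hz hG hg₁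
  have hB₁ : block Z g₁ ⊆ TT0 Z := fun x hx => hx.1
  by_cases h1 : TT0 Z ⊆ block Z g₁
  · have hcard : Nat.card (TT0 Z) = β₁ := by rw [← hβ₁]; exact card_eq_of_subset hB₁ h1
    have hs : β₁ + z = z * h := by rw [← hcard]; exact hT
    obtain ⟨rfl, rfl⟩ := num1 hzpos hhpos ha₁ hε₁ he₁ hd₁ hs
    left
    refine ⟨g₁, hg₁, ?_⟩
    apply Subgroup.eq_top_of_card_eq
    rw [hc₁, hG]
  obtain ⟨g₂, hg₂', hmin₂⟩ := exists_min _ (Set.nonempty_of_not_subset h1)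
  have hg₂ : g₂ ∉ Z := hg₂'.1
  have hg₂B : g₂ ∉ block Z g₁ := hg₂'.2
  obtain ⟨a₂, ε₂, β₂, ha₂, hε₂, hc₂, hN₂, hβ₂, he₂, hd₂⟩ := data hyp hz hG hg₂
  have h12 : a₁ ≤ a₂ := by
    have := hmin₁ g₂ hg₂
    rw [hc₁, hc₂] at this
    exact Nat.le_of_mul_le_mul_left this hzpos
  have hB₂ : block Z g₂ ⊆ TT0 Z := fun x hx => hx.1
  have hD12 : Disjoint (block Z g₁) (block Z g₂) := block_disjoint hyp.ca hg₁ hg₂ hg₂B
  by_cases h2 : TT0 Z ⊆ block Z g₁ ∪ block Z g₂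
  · have hcard : Nat.card (TT0 Z) = β₁ + β₂ := by
      rw [← hβ₁, ← hβ₂]; exact card_eq_add hB₁ hB₂ hD12 h2
    have hs : β₁ + β₂ + z = z * h := by rw [← hcard]; exact hT
    have key : ε₁ * ε₂ * a₁ * a₂ + h * (ε₂ * a₁ * a₂ + ε₁ * a₁ * a₂) =
        h * (ε₁ * ε₂ * a₁ * a₂ + ε₂ * a₂ + ε₁ * a₁) := by
      have : z * (ε₁ * ε₂ * a₁ * a₂ + h * (ε₂ * a₁ * a₂ + ε₁ * a₁ * a₂)) =
          z * (h * (ε₁ * ε₂ * a₁ * a₂ + ε₂ * a₂ + ε₁ * a₁)) := by
        zify at he₁ he₂ hs ⊢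
        linear_combination (ε₁ * a₁ * ε₂ * a₂ : ℤ) * hs - (ε₂ * a₂ : ℤ) * he₁ -
          (ε₁ * a₁ : ℤ) * he₂
      exact Nat.eq_of_mul_eq_mul_left hzpos this
    rcases num2 hhpos ha₁ h12 hε₁ hε₂ hd₁ hd₂ key with
      ⟨rfl, rfl, rfl, rfl⟩ | ⟨rfl, rfl, rfl, rfl, rfl⟩ | ⟨rfl, rfl, rfl, rfl, rfl⟩
    · right; left
      exact ⟨g₂, hg₂, by rw [hG, hc₂]; ring⟩
    · right; left
      exact ⟨g₁, hg₁, by rw [hG, hc₁]; ring⟩
    · right; right; left
      exact ⟨rfl, g₂, hg₂, hc₂, by rw [hN₂]; ring⟩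
  obtain ⟨g₃, hg₃', hmin₃⟩ := exists_min _ (Set.nonempty_of_not_subset h2)
  have hg₃ : g₃ ∉ Z := hg₃'.1
  have hg₃B₁ : g₃ ∉ block Z g₁ := fun hc => hg₃'.2 (Or.inl hc)
  have hg₃B₂ : g₃ ∉ block Z g₂ := fun hc => hg₃'.2 (Or.inr hc)
  obtain ⟨a₃, ε₃, β₃, ha₃, hε₃, hc₃, hN₃, hβ₃, he₃, hd₃⟩ := data hyp hz hG hg₃
  have h23 : a₂ ≤ a₃ := by
    have := hmin₂ g₃ ⟨hg₃, hg₃B₁⟩
    rw [hc₂, hc₃] at this
    exact Nat.le_of_mul_le_mul_left this hzpos
  have hB₃ : block Z g₃ ⊆ TT0 Z := fun x hx => hx.1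
  have hD13 : Disjoint (block Z g₁) (block Z g₃) := block_disjoint hyp.ca hg₁ hg₃ hg₃B₁
  have hD23 : Disjoint (block Z g₂) (block Z g₃) := block_disjoint hyp.ca hg₂ hg₃ hg₃B₂
  have f₁ := four_beta ha₁ hε₁ he₁
  have f₂ := four_beta ha₂ hε₂ he₂
  have f₃ := four_beta ha₃ hε₃ he₃
  have hD123 : Disjoint (block Z g₁ ∪ block Z g₂) (block Z g₃) :=
    Set.disjoint_union_left.mpr ⟨hD13, hD23⟩
  have e12 : Nat.card (block Z g₁ ∪ block Z g₂ : Set H) = β₁ + β₂ := by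
    rw [← hβ₁, ← hβ₂]
    exact card_eq_add Set.subset_union_left Set.subset_union_right hD12 (le_refl _)
  by_cases h3 : TT0 Z ⊆ block Z g₁ ∪ block Z g₂ ∪ block Z g₃
  · have hcard : Nat.card (TT0 Z) = β₁ + β₂ + β₃ := by
      have e1 := card_eq_add (Set.union_subset hB₁ hB₂) hB₃ hD123 h3
      rw [e1, e12, hβ₃]
    have hs : β₁ + β₂ + β₃ + z = z * h := by rw [← hcard]; exact hT
    have hε₁' : ε₁ = 2 := by
      rcases hε₁ with rfl | rfl
      · exfalso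
        have := two_beta ha₁ he₁
        omega
      · rfl
    have hε₂' : ε₂ = 2 := by
      rcases hε₂ with rfl | rfl
      · exfalso
        have := two_beta ha₂ he₂
        omega
      · rfl
    have hε₃' : ε₃ = 2 := by
      rcases hε₃ with rfl | rfl
      · exfalso
        have := two_beta ha₃ he₃
        omega
      · rfl
    subst hε₁' hε₂' hε₃'
    have key : 2 * a₁ * a₂ * a₃ + h * (a₁ * a₂ * a₃) =
        h * (a₁ * a₂ + a₁ * a₃ + a₂ * a₃) := by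
      have : (4 * z) * (2 * a₁ * a₂ * a₃ + h * (a₁ * a₂ * a₃)) =
          (4 * z) * (h * (a₁ * a₂ + a₁ * a₃ + a₂ * a₃)) := by
        zify at he₁ he₂ he₃ hs ⊢
        linear_combination (8 * a₁ * a₂ * a₃ : ℤ) * hs - (4 * a₂ * a₃ : ℤ) * he₁ -
          (4 * a₁ * a₃ : ℤ) * he₂ - (4 * a₁ * a₂ : ℤ) * he₃
      exact Nat.eq_of_mul_eq_mul_left (by omega) this
    have hmem : ∀ x : H, x ∉ Z → x ∈ block Z g₁ ∨ x ∈ block Z g₂ ∨ x ∈ block Z g₃ := by
      intro x hx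
      rcases h3 hx with (hx1 | hx2) | hx3
      · exact Or.inl hx1
      · exact Or.inr (Or.inl hx2)
      · exact Or.inr (Or.inr hx3)
    rcases num3 hhpos ha₁ h12 h23 key with
      ⟨rfl, rfl, rfl⟩ | ⟨rfl, rfl, rfl, rfl⟩ | ⟨rfl, rfl, rfl, rfl⟩ | ⟨rfl, rfl, rfl, rfl⟩
    · right; left
      exact ⟨g₃, hg₃, by rw [hG, hc₃]; ring⟩
    · exfalso
      exact no233 hyp hz hG hg₂ hg₃ hc₂ hN₂ hc₃ hg₃B₂
    · right; right; right; left
      refine ⟨rfl, g₂, hg₂, hc₂, hN₂, ?_⟩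
      intro x hx
      rcases hmem x hx with hx1 | hx2 | hx3
      · rw [card_C_of_mem_block hyp.ca hg₁ hx1, hc₁]; omega
      · rw [card_C_of_mem_block hyp.ca hg₂ hx2, hc₂]; omega
      · rw [card_C_of_mem_block hyp.ca hg₃ hx3, hc₃]
    · right; right; right; right
      exact ⟨rfl, g₁, g₂, g₃, hg₁, hg₂, hg₃, hc₁, hc₂, hc₃, hN₁, hN₂, hN₃, hmem⟩
  · exfalso
    obtain ⟨g₄, hg₄', -⟩ := exists_min _ (Set.nonempty_of_not_subset h3)
    have hg₄ : g₄ ∉ Z := hg₄'.1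
    have hg₄B₁ : g₄ ∉ block Z g₁ := fun hc => hg₄'.2 (Or.inl (Or.inl hc))
    have hg₄B₂ : g₄ ∉ block Z g₂ := fun hc => hg₄'.2 (Or.inl (Or.inr hc))
    have hg₄B₃ : g₄ ∉ block Z g₃ := fun hc => hg₄'.2 (Or.inr hc)
    obtain ⟨a₄, ε₄, β₄, ha₄, hε₄, hc₄, hN₄, hβ₄, he₄, hd₄⟩ := data hyp hz hG hg₄
    have hB₄ : block Z g₄ ⊆ TT0 Z := fun x hx => hx.1
    have hD14 : Disjoint (block Z g₁) (block Z g₄) := block_disjoint hyp.ca hg₁ hg₄ hg₄B₁
    have hD24 : Disjoint (block Z g₂) (block Z g₄) := block_disjoint hyp.ca hg₂ hg₄ hg₄B₂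
    have hD34 : Disjoint (block Z g₃) (block Z g₄) := block_disjoint hyp.ca hg₃ hg₄ hg₄B₃
    have f₄ := four_beta ha₄ hε₄ he₄
    have hD : Disjoint (block Z g₁ ∪ block Z g₂ ∪ block Z g₃) (block Z g₄) :=
      Set.disjoint_union_left.mpr ⟨Set.disjoint_union_left.mpr ⟨hD14, hD24⟩, hD34⟩
    have e123 : Nat.card (block Z g₁ ∪ block Z g₂ ∪ block Z g₃ : Set H) = β₁ + β₂ + β₃ := by
      have e1 := card_eq_add (T := block Z g₁ ∪ block Z g₂ ∪ block Z g₃)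
        Set.subset_union_left Set.subset_union_right hD123 (le_refl _)
      rw [e1, e12, hβ₃]
    have hle := card_add_le (Set.union_subset (Set.union_subset hB₁ hB₂) hB₃) hB₄ hD
    rw [e123, hβ₄] at hle
    omega

end Cfsg.Agent.Lib.Helper12.DkA
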