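import Cfsg.Agent.Lib.Helper12.DkD
import Cfsg.Agent.Lib.Helper12.DkA
import Cfsg.Agent.Lib.Lead.DicksonSL2f
import Cfsg.Agent.Lib.Lead.DicksonAbs8

/-!
Characteristic-free instantiation of the abstract Dickson hypotheses for subgroups of `SL₂(F)`
(helper12): the normalizer of a semisimple maximal abelian subgroup, `Hyp` in every characteristic,
`Hyp0` for `p'`-subgroups and for small Sylow subgroups.
-/

set_option autoImplicit false

namespace Cfsg.Agent.Lib.Helper12.DkE

open Matrix Cfsg.Agent.Lib.Lead.DicksonCA Cfsg.Agent.Lib.Lead.DicksonSL2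
  Cfsg.Agent.Lib.Lead.SL2Scalar Cfsg.Agent.Lib.Helper15.TwoByTwo
  Cfsg.Agent.Lib.Helper9.SL2Upper Cfsg.Agent.Lib.Lead.DicksonBase

variable {F : Type*} [Field F]

local notation "SL2" => Matrix.SpecialLinearGroup (Fin 2) F
local notation "M2" => Matrix (Fin 2) (Fin 2) F

variable {H : Subgroup (Matrix.SpecialLinearGroup (Fin 2) F)}

theorem tr_eq (g : H) : Cfsg.Agent.Lib.Helper12.SL2.tr (g : SL2) = (mat g).trace := by
  rw [Matrix.trace_fin_two]; rfl

theorem nonScalar_of_not_mem {g : H} (hg : g ∉ ZH H) :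
    Cfsg.Agent.Lib.Helper12.SL2.NonScalar (g : SL2) := by
  rintro ⟨h01, h10, h00⟩
  refine nonscalar_of_not_mem hg ((g : SL2) 0 0) ?_
  ext i j
  fin_cases i <;> fin_cases j
  · simp [mat]
  · simpa [mat] using h01
  · simpa [mat] using h10
  · simpa [mat] using h00.symm

/-- the normalizer of a semisimple maximal abelian subgroup has index at most two (any
characteristic) -/
theorem card_normalizer_C' [Finite H] {g : H} (hg : g ∉ ZH H)
    (hΔ : Cfsg.Agent.Lib.Helper12.SL2.tr (g : SL2) ^ 2 ≠ 4) :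
    Nat.card (Subgroup.normalizer (C g : Set H)) = Nat.card (C g) ∨
      Nat.card (Subgroup.normalizer (C g : Set H)) = 2 * Nat.card (C g) := by
  classical
  have hns := nonScalar_of_not_mem hg
  have key : ∀ a ∈ Subgroup.normalizer (C g : Set H), a ∈ C g ∨ a * g * a⁻¹ * g = 1 := by
    intro a ha
    have h1 : a * g * a⁻¹ ∈ C g := (Subgroup.mem_normalizer_iff.mp ha g).mp (self_mem_C g)
    have hc : ((a * g * a⁻¹ : H) : SL2) * (g : SL2) = (g : SL2) * ((a * g * a⁻¹ : H) : SL2) := by
      rw [← Subgroup.coe_mul, ← Subgroup.coe_mul, mem_C.mp h1]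
    have htr : Cfsg.Agent.Lib.Helper12.SL2.tr ((a * g * a⁻¹ : H) : SL2) =
        Cfsg.Agent.Lib.Helper12.SL2.tr (g : SL2) := by
      rw [tr_eq, tr_eq, mat_conj_trace]
    rcases Cfsg.Agent.Lib.Helper12.DkD.eq_or_eq_inv_of_tr (g : SL2) _ hns hΔ hc htr with h | h
    · left
      rw [mem_C]
      have : a * g * a⁻¹ = g := Subtype.ext h
      calc a * g = a * g * a⁻¹ * a := by group
        _ = g * a := by rw [this]
    · right
      apply Subtype.ext
      rw [Subgroup.coe_mul, h, Subgroup.coe_one, inv_mul_cancel]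
  have hle : C g ≤ Subgroup.normalizer (C g : Set H) := Subgroup.le_normalizer
  obtain ⟨k, hk⟩ := Subgroup.card_dvd_of_le hle
  by_cases hex : ∃ a₀ ∈ Subgroup.normalizer (C g : Set H), a₀ ∉ C g
  · obtain ⟨a₀, ha₀, ha₀C⟩ := hex
    have hinv₀ : a₀ * g * a₀⁻¹ * g = 1 := (key a₀ ha₀).resolve_left ha₀C
    have hsub : ((Subgroup.normalizer (C g : Set H) : Subgroup H) : Set H) ⊆
        (C g : Set H) ∪ (fun c => a₀ * c) '' (C g : Set H) := by
      intro a ha
      rcases key a ha with h | h
      · exact Or.inl h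
      · right
        refine ⟨a₀⁻¹ * a, ?_, by group⟩
        show a₀⁻¹ * a ∈ C g
        rw [mem_C]
        have e1 : a * g * a⁻¹ = g⁻¹ := eq_inv_of_mul_eq_one_left h
        have e2 : a₀ * g * a₀⁻¹ = g⁻¹ := eq_inv_of_mul_eq_one_left hinv₀
        have e3 : a₀⁻¹ * g⁻¹ * a₀ = g := by
          rw [← e2]; group
        calc a₀⁻¹ * a * g = a₀⁻¹ * (a * g * a⁻¹) * a := by group
          _ = a₀⁻¹ * g⁻¹ * a := by rw [e1]
          _ = (a₀⁻¹ * g⁻¹ * a₀) * (a₀⁻¹ * a) := by group
          _ = g * (a₀⁻¹ * a) := by rw [e3]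
    have hcard : Nat.card (Subgroup.normalizer (C g : Set H)) ≤ 2 * Nat.card (C g) := by
      have h1 : Nat.card (Subgroup.normalizer (C g : Set H)) =
          ((Subgroup.normalizer (C g : Set H) : Subgroup H) : Set H).ncard :=
        Nat.card_coe_set_eq _
      have h3 : Nat.card (C g) = ((C g : Subgroup H) : Set H).ncard := Nat.card_coe_set_eq _
      rw [h1, h3]
      calc ((Subgroup.normalizer (C g : Set H) : Subgroup H) : Set H).ncard
          ≤ ((C g : Set H) ∪ (fun c => a₀ * c) '' (C g : Set H)).ncard :=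
            Set.ncard_le_ncard hsub (Set.toFinite _)
        _ ≤ (C g : Set H).ncard + ((fun c => a₀ * c) '' (C g : Set H)).ncard :=
            Set.ncard_union_le _ _
        _ ≤ (C g : Set H).ncard + (C g : Set H).ncard :=
            Nat.add_le_add_left (Set.ncard_image_le (Set.toFinite _)) _
        _ = 2 * (C g : Set H).ncard := by ring
    have hpos : 0 < Nat.card (C g) := Nat.card_pos
    have hk2 : k ≤ 2 := by
      rw [hk, mul_comm] at hcard
      exact Nat.le_of_mul_le_mul_right hcard hpos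
    have hk1 : k ≠ 1 := by
      intro h1
      rw [h1, mul_one] at hk
      have := Subgroup.eq_of_le_of_card_ge hle (le_of_eq hk)
      apply ha₀C
      rw [this]
      exact ha₀
    have hk0 : k ≠ 0 := by
      intro h0
      rw [h0, mul_zero] at hk
      have : 0 < Nat.card (Subgroup.normalizer (C g : Set H)) := Nat.card_pos
      omega
    right
    have : k = 2 := by omega
    rw [hk, this, mul_comm]
  · left
    push Not at hex
    have : Subgroup.normalizer (C g : Set H) = C g := le_antisymm hex hle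
    rw [this]

theorem p_eq_two_of (p : ℕ) [hp : Fact p.Prime] [CharP F p] (h2 : (2 : F) = 0) : p = 2 := by
  have h : ((2 : ℕ) : F) = 0 := by exact_mod_cast h2
  have hd := (CharP.cast_eq_zero_iff F p 2).mp h
  exact (Nat.prime_dvd_prime_iff_eq hp.out Nat.prime_two).mp hd

theorem neg_one_eq_one (h2 : (2 : F) = 0) : (-1 : M2) = 1 := by
  have h : (1 : M2) + 1 = 0 := by
    rw [← two_smul F (1 : M2), h2, zero_smul]
  exact neg_eq_of_add_eq_zero_right h

/-- a non-central element whose centralizer in `H` has order prime to `p` is regular semisimple -/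
theorem disc_of_not_dvd (p : ℕ) [hp : Fact p.Prime] [CharP F p] [Finite H] {g : H} (hg : g ∉ ZH H) (hnd : ¬ p ∣ Nat.card (C g)) :
    Cfsg.Agent.Lib.Helper12.SL2.tr (g : SL2) ^ 2 ≠ 4 := by
  have hns := nonscalar_of_not_mem hg
  have hord : ¬ p ∣ orderOf g := by
    intro hd
    apply hnd
    have h1 : orderOf g ∣ Nat.card (C g) := by
      have := orderOf_dvd_natCard (⟨g, self_mem_C g⟩ : C g)
      rwa [Subgroup.orderOf_mk] at this
    exact dvd_trans hd h1
  by_cases h2 : (2 : F) = 0
  · intro h4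
    have hp2 : p = 2 := p_eq_two_of p h2
    have hτ : (mat g).trace = 0 := by
      have h0 : (mat g).trace ^ 2 = 0 := by
        rw [← tr_eq, h4]; linear_combination 2 * h2
      exact (pow_eq_zero_iff two_ne_zero).mp h0
    have hc := cayley (mat g)
    rw [mat_det, hτ, zero_smul, one_smul, zero_sub, neg_one_eq_one h2] at hc
    have hsq : g ^ 2 = 1 := mat_inj (by rw [mat_pow, pow_two, hc, mat_one])
    have hg1 : g ≠ 1 := by
      intro h1
      apply hg
      rw [h1]
      exact (ZH H).one_mem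
    apply hord
    rw [hp2]
    have hdvd : orderOf g ∣ 2 := orderOf_dvd_of_pow_eq_one hsq
    rcases (Nat.dvd_prime Nat.prime_two).mp hdvd with h | h
    · exact absurd (orderOf_eq_one_iff.mp h) hg1
    · rw [h]
  · have hr : ((orderOf g : ℕ) : F) ≠ 0 := by
      intro h0
      exact hord ((CharP.cast_eq_zero_iff F p _).mp h0)
    have hpow : mat g ^ orderOf g = 1 := by
      rw [← mat_pow, pow_orderOf_eq_one, mat_one]
    have hdisc := disc_ne_zero h2 (mat g) hns (orderOf g) hr hpow
    rw [mat_det, mul_one] at hdisc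
    rwa [tr_eq]

/-- `p'`-subgroups of `SL₂(F)` satisfy `Hyp0` -/
theorem hyp0_of_not_dvd (p : ℕ) [hp : Fact p.Prime] [CharP F p] [Finite H] (hnd : ¬ p ∣ Nat.card H) :
    Cfsg.Agent.Lib.Helper12.DkA.Hyp0 (ZH H) where
  ca := isCA
  hT := fun g hg => card_normalizer_C' hg (disc_of_not_dvd p hg
    (fun h => hnd (dvd_trans h (Subgroup.card_subgroup_dvd_card _))))

theorem ZH_eq_bot (h2 : (2 : F) = 0) : ZH H = ⊥ := by
  rw [Subgroup.eq_bot_iff_forall]
  intro x hx
  rcases hx with h | h
  · exact mat_inj (by rw [h, mat_one])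
  · exact mat_inj (by rw [h, mat_one, neg_one_eq_one h2])

/-- a Borel element of `H` with diagonal `±1` lies in `Z P` (any characteristic) -/
theorem mem_ZP_of_diag' (p : ℕ) [hp : Fact p.Prime] [CharP F p] {x : H} (hx : (x : SL2) ∈ Cfsg.Agent.Lib.Lead.DicksonSL2.Borel)
    (hd : ((x : SL2) : M2) 0 0 ^ 2 = 1) : x ∈ ZH H ⊔ PH H := by
  by_cases h2 : (2 : F) = 0
  · apply Subgroup.mem_sup_right
    rw [mem_PH]
    refine ⟨hx, ?_⟩
    have h0 : (((x : SL2) : M2) 0 0 - 1) ^ 2 = 0 := by
      linear_combination hd - ((x : SL2) : M2) 0 0 * h2 + h2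
    exact sub_eq_zero.mp ((pow_eq_zero_iff two_ne_zero).mp h0)
  · have hp2 : p ≠ 2 := by
      intro h
      apply h2
      have : ((p : ℕ) : F) = 0 := CharP.cast_eq_zero F p
      rw [h] at this
      exact_mod_cast this
    exact mem_ZP_of_diag p hp2 hx hd

/-- the centralizer of a nontrivial unipotent element (any characteristic) -/
theorem C_of_mem_PH' (p : ℕ) [hp : Fact p.Prime] [CharP F p] {u : H} (hu : u ∈ PH H) (hu1 : u ≠ 1) : C u = ZH H ⊔ PH H := by
  have hu' := mem_PH.mp hu
  rw [mem_Uni_iff_upper] at hu'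
  have hs : ((u : SL2) : M2) 0 1 ≠ 0 := by
    intro h0
    apply hu1
    apply Subtype.ext
    rw [hu', h0, upper_zero]
    rfl
  apply le_antisymm
  · intro g hg
    have hc : g * u = u * g := mem_C.mp hg
    have hc' : (g : SL2) * upper (((u : SL2) : M2) 0 1) = upper (((u : SL2) : M2) 0 1) * (g : SL2) := by
      rw [← hu', ← Subgroup.coe_mul, ← Subgroup.coe_mul, hc]
    obtain ⟨hB, hd⟩ := diag_of_commute hs hc'
    exact mem_ZP_of_diag' p hB hd
  · apply sup_le
    · intro z hz
      exact mem_C.mpr (ZH_central hz u)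
    · intro a ha
      exact mem_C.mpr (PH_comm ha hu)

theorem coprime_card_ZH (p : ℕ) [hp : Fact p.Prime] [CharP F p] [Finite H] : (Nat.card (ZH H)).Coprime p := by
  by_cases h2 : (2 : F) = 0
  · rw [ZH_eq_bot h2, Subgroup.card_bot]
    exact Nat.coprime_one_left p
  · have hp2 : p ≠ 2 := by
      intro h
      apply h2
      have : ((p : ℕ) : F) = 0 := CharP.cast_eq_zero F p
      rw [h] at this
      exact_mod_cast this
    have h1 := card_ZH_dvd (H := H) h2
    exact Nat.Coprime.coprime_dvd_left h1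
      ((Nat.coprime_primes Nat.prime_two hp.out).mpr (Ne.symm hp2))

/-- the abstract hypotheses, in every characteristic -/
theorem hyp_of' (p : ℕ) [hp : Fact p.Prime] [CharP F p] [Finite H] (hne : PH H ≠ ⊥) (hnB : ∃ y : H, (y : SL2) ∉ Cfsg.Agent.Lib.Lead.DicksonSL2.Borel) :
    Cfsg.Agent.Lib.Lead.DicksonAbs.Hyp (ZH H) p (sylowPH p hne) where
  ca := isCA
  hP1 := hne
  hzp := coprime_card_ZH p
  hPC := fun u hu hu1 => C_of_mem_PH' p hu hu1
  hT := fun g hg hnd => card_normalizer_C' hg (disc_of_not_dvd p hg hnd)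
  hA := by
    intro a ha b hb
    rw [sylowPH_coe, normalizer_PH hne, mem_BH] at ha hb
    rw [sylowPH_coe, mem_PH]
    have := comm_mem_Uni ha hb
    simpa using this
  hB := by
    intro h hh hnZP c hc
    rw [sylowPH_coe, normalizer_PH hne, mem_BH] at hh ⊢
    rw [sylowPH_coe] at hnZP
    have hk : ((h : SL2) : M2) 0 0 ^ 2 ≠ 1 := fun hd => hnZP (mem_ZP_of_diag' p hh hd)
    have hch : c * h = h * c := mem_C.mp hc
    apply mem_Borel_of_commute hh hk
    rw [← Subgroup.coe_mul, ← Subgroup.coe_mul, hch]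
  hn := by
    rw [sylowPH_coe, normalizer_PH hne]
    intro htop
    obtain ⟨y, hy⟩ := hnB
    apply hy
    rw [← mem_BH, htop]
    exact Subgroup.mem_top y

end Cfsg.Agent.Lib.Helper12.DkE
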