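import Cfsg.Agent.Lib.Helper12.C8
import Cfsg.Agent.Lib.Helper12.DkE

/-!
Maximal tori of `SL₂(F)` in every characteristic (helper12): a non-split torus of order `q + 1`,
the split torus of order `q - 1`, inverting elements.
-/

set_option autoImplicit false

namespace Cfsg.Agent.Lib.Helper12.DkT

open Cfsg.Agent.Lib.Helper12.SL2

variable {F : Type*} [Field F]

local notation "SL2" => Matrix.SpecialLinearGroup (Fin 2)
local notation "M2" => Matrix (Fin 2) (Fin 2)

/-- The non-split torus in every characteristic: an element `Y` of order `q + 1` whose centralizer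
is `⟨Y⟩`. -/
theorem exists_nonsplit' [Fintype F] :
    ∃ Y : SL2 F, orderOf Y = Fintype.card F + 1 ∧ Tor Y = Subgroup.zpowers Y ∧ NonScalar Y ∧
      (∀ (c : F) (v : Fin 2 → F), v ≠ 0 → (Y : M2 F).mulVec v ≠ c • v) := by
  classical
  obtain ⟨p, hp⟩ := CharP.exists F
  have : Fact p.Prime := ⟨CharP.char_is_prime F p⟩
  have hq : 2 ≤ Fintype.card F := Fintype.one_lt_card
  let K := FiniteField.Extension F p 2
  have hfr : Module.finrank F K = 2 := FiniteField.finrank_extension F p 2
  have hcard : Nat.card K = Fintype.card F ^ 2 := by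
    rw [FiniteField.natCard_extension, Nat.card_eq_fintype_card]
  let b : Module.Basis (Fin 2) F K := Module.finBasisOfFinrankEq F K hfr
  let φ : K →ₐ[F] M2 F := Algebra.leftMulMatrix b
  have hφ : Function.Injective φ := Algebra.leftMulMatrix_injective b
  obtain ⟨ξ, hξ⟩ := IsCyclic.exists_ofOrder_eq_natCard (α := Kˣ)
  rw [Nat.card_units, hcard] at hξ
  have hX : φ (ξ : K) * φ ((ξ⁻¹ : Kˣ) : K) = 1 := by
    rw [← map_mul, Units.mul_inv, map_one]
  have hdet : (φ (ξ : K)).det ≠ 0 := by
    intro h0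
    have := congrArg Matrix.det hX
    rw [Matrix.det_mul, h0, zero_mul, Matrix.det_one] at this
    exact zero_ne_one this
  have hdetY : (φ (ξ : K) ^ (Fintype.card F - 1)).det = 1 := by
    rw [Matrix.det_pow, FiniteField.pow_card_sub_one_eq_one _ hdet]
  obtain ⟨Y, hY⟩ : ∃ Y : SL2 F, (Y : M2 F) = φ (ξ : K) ^ (Fintype.card F - 1) :=
    ⟨⟨_, hdetY⟩, rfl⟩
  have e : Fintype.card F ^ 2 - 1 = (Fintype.card F - 1) * (Fintype.card F + 1) := by
    obtain ⟨n, hn⟩ : ∃ n, Fintype.card F = n + 1 := ⟨Fintype.card F - 1, by omega⟩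
    rw [hn]; simp only [Nat.add_sub_cancel]; ring_nf; omega
  have hpow : ∀ k : ℕ, Y ^ k = 1 ↔ (Fintype.card F + 1) ∣ k := by
    intro k
    have h1 : Y ^ k = 1 ↔ ((Y ^ k : SL2 F) : M2 F) = 1 :=
      ⟨fun h => by rw [h, Matrix.SpecialLinearGroup.coe_one],
        fun h => Subtype.ext (by rw [h, Matrix.SpecialLinearGroup.coe_one])⟩
    rw [h1, Matrix.SpecialLinearGroup.coe_pow, hY]
    rw [← pow_mul, ← map_pow, ← map_one φ, hφ.eq_iff, ← Units.val_pow_eq_pow_val, Units.val_eq_one,
      ← orderOf_dvd_iff_pow_eq_one, hξ, e]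
    exact Nat.mul_dvd_mul_iff_left (by omega)
  have hord : orderOf Y = Fintype.card F + 1 := by
    apply Nat.dvd_antisymm
    · rw [orderOf_dvd_iff_pow_eq_one, hpow]
    · rw [← hpow, pow_orderOf_eq_one]
  have hnoeig := noeig_of_orderOf Y hord
  have hNS : NonScalar Y := by
    rw [nonScalar_iff]
    intro hc
    have h2 := Cfsg.Agent.S2475.sq_eq_one_of_mem_center _ hc
    rw [← pow_two] at h2
    have h3 := orderOf_dvd_of_pow_eq_one h2
    rw [hord] at h3
    have := Nat.le_of_dvd (by norm_num) h3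
    omega
  refine ⟨Y, hord, ?_, hNS, hnoeig⟩
  -- the centralizer
  have hYη : (Y : M2 F) = φ ((ξ : K) ^ (Fintype.card F - 1)) := by rw [hY, map_pow]
  have key : ∀ h : Tor Y, ∃ u : Kˣ, u ^ (Fintype.card F + 1) = 1 ∧ φ (u : K) = ((h : SL2 F) : M2 F) := by
    rintro ⟨h, hh⟩
    rw [Subgroup.mem_centralizer_singleton_iff] at hh
    obtain ⟨s, t, hst, rfl⟩ := exists_lin_of_commute Y h hNS hh
    set u : K := algebraMap F K s + t • ((ξ : K) ^ (Fintype.card F - 1)) with hu
    have hφu : φ u = ((lin Y s t hst : SL2 F) : M2 F) := by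
      rw [coe_lin, hu, map_add, AlgHom.commutes, map_smul, ← hYη, Algebra.algebraMap_eq_smul_one]
    have hnorm : Algebra.norm F u = 1 := by
      rw [Algebra.norm_eq_matrix_det b u]
      show (φ u).det = 1
      rw [hφu]
      exact (lin Y s t hst).det_coe
    have hpw : u ^ (Fintype.card F + 1) = 1 := by
      have h1 := FiniteField.algebraMap_norm_eq_pow (K := F) (K' := K) (x := u)
      rw [hnorm, map_one, hcard, Nat.card_eq_fintype_card, e,
        Nat.mul_div_cancel_left _ (by omega : 0 < Fintype.card F - 1)] at h1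
      exact h1.symm
    have hu0 : u ≠ 0 := by
      rintro h0
      rw [h0, zero_pow (by omega)] at hpw
      exact zero_ne_one hpw
    refine ⟨Units.mk0 u hu0, ?_, hφu⟩
    apply Units.ext
    rw [Units.val_pow_eq_pow_val]
    exact hpw
  choose f hf1 hf2 using key
  have hinj : Function.Injective (fun h : Tor Y => (⟨f h, hf1 h⟩ : {u : Kˣ // u ^ (Fintype.card F + 1) = 1})) := by
    intro h h' hh
    have h1 : f h = f h' := congrArg Subtype.val hh
    have h3 : ((h : SL2 F) : M2 F) = ((h' : SL2 F) : M2 F) := by rw [← hf2 h, ← hf2 h', h1]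
    exact Subtype.ext (Subtype.ext h3)
  have hle : Nat.card (Tor Y) ≤ Fintype.card F + 1 := by
    have := Fintype.ofFinite Kˣ
    calc Nat.card (Tor Y) ≤ Nat.card {u : Kˣ // u ^ (Fintype.card F + 1) = 1} :=
          Nat.card_le_card_of_injective _ hinj
      _ = (Finset.univ.filter (fun u : Kˣ => u ^ (Fintype.card F + 1) = 1)).card := by
          rw [Nat.card_eq_fintype_card, Fintype.card_subtype]
      _ ≤ Fintype.card F + 1 := IsCyclic.card_pow_eq_one_le (by omega)
  have hzle : Subgroup.zpowers Y ≤ Tor Y := by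
    rw [Subgroup.zpowers_le, Subgroup.mem_centralizer_singleton_iff]
  symm
  apply Subgroup.eq_of_le_of_card_ge hzle
  rw [Nat.card_zpowers, hord]
  exact hle

/-- inverting elements in characteristic two -/
theorem exists_inverting_two (h2 : (2 : F) = 0) (Y : SL2 F) : ∃ w : SL2 F, w * Y * w⁻¹ = Y⁻¹ := by
  have hneg : ∀ x : F, -x = x := by
    intro x
    have : x + x = 0 := by linear_combination x * h2
    exact neg_eq_of_add_eq_zero_left this
  have hd := det_eq Y
  by_cases hb : Y 0 1 = 0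
  · by_cases hc : Y 1 0 = 0
    · -- diagonal
      refine ⟨mk 0 1 1 0 (by rw [zero_mul, mul_one, zero_sub, hneg]), ?_⟩
      rw [mul_inv_eq_iff_eq_mul]
      apply ext4 <;> simp [mul_apply', inv_00, inv_01, inv_10, inv_11, hb, hc]
    · refine ⟨up ((Y 0 0 + Y 1 1) / Y 1 0), ?_⟩
      rw [mul_inv_eq_iff_eq_mul]
      apply ext4 <;> simp only [mul_apply', inv_00, inv_01, inv_10, inv_11, up, mk_00, mk_01,
        mk_10, mk_11, hb, hneg] <;> field_simp
      · linear_combination (Y 0 0) * h2
      · ring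
      · ring
      · linear_combination (-(Y 0 0)) * h2
  · refine ⟨lo ((Y 0 0 + Y 1 1) / Y 0 1), ?_⟩
    rw [mul_inv_eq_iff_eq_mul]
    apply ext4 <;> simp only [mul_apply', inv_00, inv_01, inv_10, inv_11, lo, mk_00, mk_01,
      mk_10, mk_11, hneg] <;> field_simp
    · linear_combination (-(Y 1 1)) * h2
    · ring
    · ring
    · linear_combination (Y 1 1) * h2

/-- inverting elements, every characteristic -/
theorem exists_inverting' [Fintype F] (Y : SL2 F) (hΔ : tr Y ^ 2 ≠ 4) :
    ∃ w : SL2 F, w * Y * w⁻¹ = Y⁻¹ := by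
  by_cases h2 : (2 : F) = 0
  · exact exists_inverting_two h2 Y
  · exact exists_inverting h2 Y hΔ

end Cfsg.Agent.Lib.Helper12.DkT
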