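import Cfsg.Agent.Lib.Helper12.C3

/-!
Characteristic-free facts on centralizers of regular semisimple elements of `SL₂(F)` (helper12):
conjugates inside the centralizer, the eigenvalue homomorphism, cyclicity and exponent.
-/

set_option autoImplicit false

namespace Cfsg.Agent.Lib.Helper12.DkD

open Cfsg.Agent.Lib.Helper12.SL2

variable {F : Type*} [Field F]

local notation "SL2" => Matrix.SpecialLinearGroup (Fin 2)

theorem lin_inj (g : SL2 F) (hg : NonScalar g) {s t s' t' : F}
    (h : s ^ 2 + tr g * s * t + t ^ 2 = 1) (h' : s' ^ 2 + tr g * s' * t' + t' ^ 2 = 1)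
    (e : lin g s t h = lin g s' t' h') : s = s' ∧ t = t' := by
  have e00 := congrArg (fun y : SL2 F => y 0 0) e
  have e01 := congrArg (fun y : SL2 F => y 0 1) e
  have e10 := congrArg (fun y : SL2 F => y 1 0) e
  have e11 := congrArg (fun y : SL2 F => y 1 1) e
  simp only [lin, mk_00, mk_01, mk_10, mk_11] at e00 e01 e10 e11
  have ht : t = t' := by
    by_contra hne
    have hd : t - t' ≠ 0 := sub_ne_zero.mpr hne
    apply hg
    refine ⟨?_, ?_, ?_⟩
    · have : (t - t') * g 0 1 = 0 := by linear_combination e01
      exact (mul_eq_zero.mp this).resolve_left hd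
    · have : (t - t') * g 1 0 = 0 := by linear_combination e10
      exact (mul_eq_zero.mp this).resolve_left hd
    · have : (t - t') * (g 0 0 - g 1 1) = 0 := by linear_combination e00 - e11
      exact sub_eq_zero.mp ((mul_eq_zero.mp this).resolve_left hd)
  subst ht
  exact ⟨by linear_combination e00, rfl⟩

theorem norm_mul (τ s t s' t' : F) (h : s ^ 2 + τ * s * t + t ^ 2 = 1)
    (h' : s' ^ 2 + τ * s' * t' + t' ^ 2 = 1) :
    (s * s' - t * t') ^ 2 + τ * (s * s' - t * t') * (s * t' + t * s' + t * t' * τ) +
      (s * t' + t * s' + t * t' * τ) ^ 2 = 1 := by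
  have : (s * s' - t * t') ^ 2 + τ * (s * s' - t * t') * (s * t' + t * s' + t * t' * τ) +
      (s * t' + t * s' + t * t' * τ) ^ 2 =
      (s ^ 2 + τ * s * t + t ^ 2) * (s' ^ 2 + τ * s' * t' + t' ^ 2) := by ring
  rw [this, h, h', one_mul]

theorem lin_mul (g : SL2 F) (s t s' t' : F) (h : s ^ 2 + tr g * s * t + t ^ 2 = 1)
    (h' : s' ^ 2 + tr g * s' * t' + t' ^ 2 = 1) :
    lin g s t h * lin g s' t' h' =
      lin g (s * s' - t * t') (s * t' + t * s' + t * t' * tr g)
        (norm_mul (tr g) s t s' t' h h') := by
  have hd := det_eq g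
  apply ext4
  · simp only [mul_apply', lin, mk_00, mk_01, mk_10, mk_11, tr]
    linear_combination (-(t * t')) * hd
  · simp only [mul_apply', lin, mk_00, mk_01, mk_10, mk_11, tr]
    ring
  · simp only [mul_apply', lin, mk_00, mk_01, mk_10, mk_11, tr]
    ring
  · simp only [mul_apply', lin, mk_00, mk_01, mk_10, mk_11, tr]
    linear_combination (-(t * t')) * hd

theorem lin_one (g : SL2 F) (h : (1 : F) ^ 2 + tr g * 1 * 0 + (0 : F) ^ 2 = 1) :
    lin g 1 0 h = 1 := by
  apply ext4 <;> simp [lin]

theorem lin_self (g : SL2 F) (h : (0 : F) ^ 2 + tr g * 0 * 1 + (1 : F) ^ 2 = 1) :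
    lin g 0 1 h = g := by
  apply ext4 <;> simp [lin]

/-- an element of the centralizer of a regular element with the same trace is the element or its
inverse (any characteristic) -/
theorem eq_or_eq_inv_of_tr (g y : SL2 F) (hg : NonScalar g) (hΔ : tr g ^ 2 ≠ 4)
    (hc : y * g = g * y) (htr : tr y = tr g) : y = g ∨ y = g⁻¹ := by
  obtain ⟨s, t, hst, rfl⟩ := exists_lin_of_commute g y hg hc
  rw [tr_lin] at htr
  have hΔ' : tr g ^ 2 - 4 ≠ 0 := sub_ne_zero.mpr hΔ
  have ht2 : (1 - t) * (1 + t) = 0 := by
    have : (tr g ^ 2 - 4) * ((1 - t) * (1 + t)) = 0 := by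
      linear_combination 4 * hst - (2 * s + t * tr g - tr g + 2 * tr g) * htr
    exact (mul_eq_zero.mp this).resolve_left hΔ'
  have hτ : tr g = g 0 0 + g 1 1 := rfl
  rcases mul_eq_zero.mp ht2 with ht | ht
  · -- t = 1
    have ht1 : t = 1 := by linear_combination -ht
    subst ht1
    have hs : s * (s + tr g) = 0 := by linear_combination hst
    have h2s : 2 * s = 0 := by linear_combination htr
    rcases mul_eq_zero.mp hs with hs0 | hs1
    · left
      subst hs0
      exact lin_self g hst
    · have hsτ : s = - tr g := by linear_combination hs1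
      have h2τ : (2 : F) * tr g = 0 := by rw [hsτ] at h2s; linear_combination -h2s
      rcases mul_eq_zero.mp h2τ with h2 | hτ0
      · right
        apply ext4
        · rw [inv_00]; simp only [lin, mk_00]; rw [hsτ, hτ]; linear_combination (-(g 1 1)) * h2
        · rw [inv_01]; simp only [lin, mk_01]; linear_combination (g 0 1) * h2
        · rw [inv_10]; simp only [lin, mk_10]; linear_combination (g 1 0) * h2
        · rw [inv_11]; simp only [lin, mk_11]; rw [hsτ, hτ]; linear_combination (-(g 0 0)) * h2
      · left
        have hs0 : s = 0 := by rw [hsτ, hτ0, neg_zero]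
        subst hs0
        exact lin_self g hst
  · -- t = -1
    have ht1 : t = -1 := by linear_combination ht
    subst ht1
    have hs : s * (s - tr g) = 0 := by linear_combination hst
    have h2s : 2 * (s - tr g) = 0 := by linear_combination htr
    rcases mul_eq_zero.mp hs with hs0 | hs1
    · subst hs0
      have h2τ : (2 : F) * tr g = 0 := by linear_combination -h2s
      rcases mul_eq_zero.mp h2τ with h2 | hτ0
      · left
        apply ext4
        · simp only [lin, mk_00]; linear_combination (-(g 0 0)) * h2
        · simp only [lin, mk_01]; linear_combination (-(g 0 1)) * h2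
        · simp only [lin, mk_10]; linear_combination (-(g 1 0)) * h2
        · simp only [lin, mk_11]; linear_combination (-(g 1 1)) * h2
      · right
        rw [hτ] at hτ0
        apply ext4
        · rw [inv_00]; simp only [lin, mk_00]; linear_combination -hτ0
        · rw [inv_01]; simp only [lin, mk_01]; ring
        · rw [inv_10]; simp only [lin, mk_10]; ring
        · rw [inv_11]; simp only [lin, mk_11]; linear_combination -hτ0
    · right
      have hsτ : s = tr g := by linear_combination hs1
      apply ext4
      · rw [inv_00]; simp only [lin, mk_00]; rw [hsτ, hτ]; ring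
      · rw [inv_01]; simp only [lin, mk_01]; ring
      · rw [inv_10]; simp only [lin, mk_10]; ring
      · rw [inv_11]; simp only [lin, mk_11]; rw [hsτ, hτ]; ring

section Eigen

variable {L : Type*} [Field L] (ι : F →+* L) (g : SL2 F) (hg : NonScalar g)

include hg in
theorem exists_coords (y : Subgroup.centralizer ({g} : Set (SL2 F))) :
    ∃ (s t : F) (hst : s ^ 2 + tr g * s * t + t ^ 2 = 1), (y : SL2 F) = lin g s t hst :=
  exists_lin_of_commute g y hg (Subgroup.mem_centralizer_singleton_iff.mp y.2)

/-- first coordinate -/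
noncomputable def cs (y : Subgroup.centralizer ({g} : Set (SL2 F))) : F :=
  Classical.choose (exists_coords g hg y)

/-- second coordinate -/
noncomputable def ct (y : Subgroup.centralizer ({g} : Set (SL2 F))) : F :=
  Classical.choose (Classical.choose_spec (exists_coords g hg y))

theorem coords_spec (y : Subgroup.centralizer ({g} : Set (SL2 F))) :
    ∃ hst : cs g hg y ^ 2 + tr g * cs g hg y * ct g hg y + ct g hg y ^ 2 = 1,
      (y : SL2 F) = lin g (cs g hg y) (ct g hg y) hst :=
  Classical.choose_spec (Classical.choose_spec (exists_coords g hg y))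

theorem coords_eq (y : Subgroup.centralizer ({g} : Set (SL2 F))) {s t : F}
    (hst : s ^ 2 + tr g * s * t + t ^ 2 = 1) (e : (y : SL2 F) = lin g s t hst) :
    cs g hg y = s ∧ ct g hg y = t := by
  obtain ⟨h0, e0⟩ := coords_spec g hg y
  exact lin_inj g hg h0 hst (e0.symm.trans e)

include hg in
/-- the eigenvalue homomorphism -/
theorem exists_hom (hι : Function.Injective ι) (hΔ : tr g ^ 2 ≠ 4) (lam : L)
    (hlam : lam ^ 2 - ι (tr g) * lam + 1 = 0) :
    ∃ φ : Subgroup.centralizer ({g} : Set (SL2 F)) →* L, Function.Injective φ ∧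
      ∀ (y : Subgroup.centralizer ({g} : Set (SL2 F))) (s t : F)
        (hst : s ^ 2 + tr g * s * t + t ^ 2 = 1), (y : SL2 F) = lin g s t hst →
        φ y = ι s + ι t * lam := by
  have hval : ∀ (y : Subgroup.centralizer ({g} : Set (SL2 F))) (s t : F)
      (hst : s ^ 2 + tr g * s * t + t ^ 2 = 1), (y : SL2 F) = lin g s t hst →
      ι (cs g hg y) + ι (ct g hg y) * lam = ι s + ι t * lam := by
    intro y s t hst e
    obtain ⟨h1, h2⟩ := coords_eq g hg y hst e
    rw [h1, h2]
  let φ : Subgroup.centralizer ({g} : Set (SL2 F)) →* L :=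
    { toFun := fun y => ι (cs g hg y) + ι (ct g hg y) * lam
      map_one' := by
        have h1 : (1 : F) ^ 2 + tr g * 1 * 0 + (0 : F) ^ 2 = 1 := by ring
        have := hval 1 1 0 h1 (by rw [lin_one]; rfl)
        rw [this]; simp
      map_mul' := by
        intro y y'
        obtain ⟨h0, e0⟩ := coords_spec g hg y
        obtain ⟨h0', e0'⟩ := coords_spec g hg y'
        have e : ((y * y' : Subgroup.centralizer ({g} : Set (SL2 F))) : SL2 F) =
            lin g (cs g hg y * cs g hg y' - ct g hg y * ct g hg y')
              (cs g hg y * ct g hg y' + ct g hg y * cs g hg y' + ct g hg y * ct g hg y' * tr g)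
              (norm_mul (tr g) _ _ _ _ h0 h0') := by
          rw [Subgroup.coe_mul]
          conv_lhs => rw [e0, e0']
          exact lin_mul g _ _ _ _ h0 h0'
        rw [hval (y * y') _ _ _ e]
        simp only [map_sub, map_add, map_mul]
        linear_combination (-(ι (ct g hg y) * ι (ct g hg y'))) * hlam }
  refine ⟨φ, ?_, ?_⟩
  · rw [injective_iff_map_eq_one]
    intro y hy
    obtain ⟨h0, e0⟩ := coords_spec g hg y
    have hy' : ι (cs g hg y) + ι (ct g hg y) * lam = 1 := hy
    set s := cs g hg y with hs
    set t := ct g hg y with ht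
    have hn : ι s ^ 2 + ι (tr g) * ι s * ι t + ι t ^ 2 = 1 := by
      rw [← map_pow, ← map_pow, ← map_mul, ← map_mul, ← map_add, ← map_add, h0, map_one]
    -- the conjugate value is also 1
    have h2 : ι s + ι t * (ι (tr g) - lam) = 1 := by
      have : (ι s + ι t * lam) * (ι s + ι t * (ι (tr g) - lam)) = 1 := by
        linear_combination hn - (ι t ^ 2) * hlam
      rw [hy', one_mul] at this
      exact this
    have hdiff : (2 * lam - ι (tr g)) ^ 2 = ι (tr g ^ 2 - 4) := by
      rw [map_sub, map_pow]
      have : ι (4 : F) = 4 := by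
        have : (4 : F) = ((4 : ℕ) : F) := by norm_num
        rw [this, map_natCast]; norm_num
      rw [this]
      linear_combination 4 * hlam
    have hne : 2 * lam - ι (tr g) ≠ 0 := by
      intro h0'
      rw [h0', zero_pow (by norm_num)] at hdiff
      have : tr g ^ 2 - 4 = 0 := by
        apply hι
        rw [← hdiff, map_zero]
      exact hΔ (sub_eq_zero.mp this)
    have ht0 : ι t = 0 := by
      have : ι t * (2 * lam - ι (tr g)) = 0 := by linear_combination hy' - h2
      exact (mul_eq_zero.mp this).resolve_right hne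
    have ht0' : t = 0 := by
      apply hι; rw [ht0, map_zero]
    have hs1 : s = 1 := by
      apply hι
      rw [map_one]
      rw [ht0, zero_mul, add_zero] at hy'
      exact hy'
    apply Subtype.ext
    rw [e0]
    have : lin g s t h0 = lin g 1 0 (by ring) := by
      congr 1
    rw [this, lin_one]
    rfl
  · intro y s t hst e
    exact hval y s t hst e

end Eigen

end Cfsg.Agent.Lib.Helper12.DkD
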