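-- Shared lemmas on quadratic forms given as functions: polar vector, reflections, Siegel matrices.
import Mathlib
import Cfsg.Prelude.Def_ClassicalGeometry

set_option autoImplicit false

namespace Cfsg.Agent.Lib.Helper12

open Matrix

variable {ι : Type} [Fintype ι] [DecidableEq ι] {F : Type*}

/-- The dot product with the polar vector computes the polar form. -/
theorem polarVec_dotProduct [CommRing F] (Q : QuadraticForm F (ι → F)) (v x : ι → F) :
    Cfsg.polarVec (⇑Q) v ⬝ᵥ x = QuadraticMap.polar (⇑Q) v x := by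
  have h := LinearMap.pi_apply_eq_sum_univ (QuadraticMap.polarBilin Q v) x
  rw [QuadraticMap.polarBilin_apply_apply] at h
  rw [h, dotProduct]
  apply Finset.sum_congr rfl
  intro j _
  rw [smul_eq_mul, mul_comm, QuadraticMap.polarBilin_apply_apply]
  unfold Cfsg.polarVec
  congr 2
  ext k
  simp [Pi.single_apply, eq_comm]

omit [Fintype ι] [DecidableEq ι] in
/-- `Q (x + a • v)` expanded. -/
theorem map_add_smul [CommRing F] (Q : QuadraticForm F (ι → F)) (x v : ι → F) (a : F) :
    Q (x + a • v) = Q x + a * a * Q v + a * QuadraticMap.polar (⇑Q) x v := by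
  have h1 : Q (x + a • v) = Q x + Q (a • v) + QuadraticMap.polar (⇑Q) x (a • v) := by
    unfold QuadraticMap.polar; ring
  rw [h1, QuadraticMap.map_smul, QuadraticMap.polar_smul_right, smul_eq_mul, smul_eq_mul]

/-- The action of a rank-one perturbation of the identity on a vector. -/
theorem one_add_smul_vecMulVec_mulVec [CommRing F] (c : F) (v w x : ι → F) :
    (1 + c • Matrix.vecMulVec v w) *ᵥ x = x + (c * (w ⬝ᵥ x)) • v := by
  rw [Matrix.add_mulVec, Matrix.one_mulVec, Matrix.smul_mulVec, Matrix.vecMulVec_mulVec]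
  ext i
  simp [mul_comm, mul_left_comm]

/-- Determinant of a rank-one perturbation of the identity. -/
theorem det_one_add_smul_vecMulVec [CommRing F] (c : F) (v w : ι → F) :
    (1 + c • Matrix.vecMulVec v w).det = 1 + c * (w ⬝ᵥ v) := by
  rw [← Matrix.smul_vecMulVec, Matrix.vecMulVec_eq Unit, Matrix.det_one_add_replicateCol_mul_replicateRow,
    dotProduct_smul, smul_eq_mul]

/-- The reflection matrix applied to a vector. -/
theorem reflectionMatrix_mulVec [Field F] (Q : QuadraticForm F (ι → F)) (v x : ι → F) :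
    (Cfsg.reflectionMatrix (⇑Q) v) *ᵥ x = x + (-((Q v)⁻¹ * QuadraticMap.polar (⇑Q) v x)) • v := by
  have : Cfsg.reflectionMatrix (⇑Q) v = 1 + (-(Q v)⁻¹) • Matrix.vecMulVec v (Cfsg.polarVec (⇑Q) v) := by
    unfold Cfsg.reflectionMatrix
    rw [neg_smul, sub_eq_add_neg]
  rw [this, one_add_smul_vecMulVec_mulVec, polarVec_dotProduct, neg_mul]

/-- The reflection matrix preserves the quadratic form. -/
theorem reflectionMatrix_isometry [Field F] (Q : QuadraticForm F (ι → F)) (v : ι → F) (hv : Q v ≠ 0)
    (x : ι → F) : Q ((Cfsg.reflectionMatrix (⇑Q) v) *ᵥ x) = Q x := by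
  rw [reflectionMatrix_mulVec, map_add_smul, QuadraticMap.polar_comm (⇑Q) x v]
  field_simp
  ring

/-- Determinant of the reflection matrix. -/
theorem reflectionMatrix_det [Field F] (Q : QuadraticForm F (ι → F)) (v : ι → F) (hv : Q v ≠ 0) :
    (Cfsg.reflectionMatrix (⇑Q) v).det = -1 := by
  have : Cfsg.reflectionMatrix (⇑Q) v = 1 + (-(Q v)⁻¹) • Matrix.vecMulVec v (Cfsg.polarVec (⇑Q) v) := by
    unfold Cfsg.reflectionMatrix
    rw [neg_smul, sub_eq_add_neg]
  rw [this, det_one_add_smul_vecMulVec, polarVec_dotProduct, QuadraticMap.polar_self]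
  field_simp
  ring

end Cfsg.Agent.Lib.Helper12
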