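-- Shared lemmas on the Hermitian form `Cfsg.hermForm` over a field with `q ^ 2` elements.
import Mathlib
import Cfsg.Prelude.Def_ClassicalGeometry

set_option autoImplicit false

namespace Cfsg.Agent.Lib.Helper12

open Matrix

variable {F : Type*} [Field F]

theorem hermForm_add_left (n q : ℕ) (x x' y : Fin n → F) :
    Cfsg.hermForm n F q (x + x') y = Cfsg.hermForm n F q x y + Cfsg.hermForm n F q x' y := by
  unfold Cfsg.hermForm
  rw [← Finset.sum_add_distrib]
  exact Finset.sum_congr rfl fun i _ => by rw [Pi.add_apply, add_mul]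

theorem hermForm_smul_left (n q : ℕ) (a : F) (x y : Fin n → F) :
    Cfsg.hermForm n F q (a • x) y = a * Cfsg.hermForm n F q x y := by
  unfold Cfsg.hermForm
  rw [Finset.mul_sum]
  exact Finset.sum_congr rfl fun i _ => by rw [Pi.smul_apply, smul_eq_mul, mul_assoc]

theorem hermForm_smul_right (n q : ℕ) (b : F) (x y : Fin n → F) :
    Cfsg.hermForm n F q x (b • y) = b ^ q * Cfsg.hermForm n F q x y := by
  unfold Cfsg.hermForm
  rw [Finset.mul_sum]
  exact Finset.sum_congr rfl fun i _ => by rw [Pi.smul_apply, smul_eq_mul, mul_pow]; ring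

section Finite

variable [Fintype F] {q : ℕ}

/-- When `|F| = q ^ 2`, the map `z ↦ z ^ q` is additive. -/
theorem add_pow_of_card (hF : Fintype.card F = q ^ 2) (a b : F) : (a + b) ^ q = a ^ q + b ^ q := by
  obtain ⟨p, hp⟩ := CharP.exists F
  obtain ⟨k, hpp, hk⟩ := FiniteField.card F p
  have : Fact p.Prime := ⟨hpp⟩
  have hdvd : q ∣ p ^ (k : ℕ) := by
    rw [← hk, hF]; exact Dvd.intro_left (q ^ 1) (by ring)
  obtain ⟨j, -, rfl⟩ := (Nat.dvd_prime_pow hpp).mp hdvd
  exact add_pow_char_pow a b p j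

theorem sum_pow_of_card (hF : Fintype.card F = q ^ 2) {ι : Type*} (s : Finset ι) (f : ι → F) :
    (∑ i ∈ s, f i) ^ q = ∑ i ∈ s, f i ^ q := by
  obtain ⟨p, hp⟩ := CharP.exists F
  obtain ⟨k, hpp, hk⟩ := FiniteField.card F p
  have : Fact p.Prime := ⟨hpp⟩
  have hdvd : q ∣ p ^ (k : ℕ) := by
    rw [← hk, hF]; exact Dvd.intro_left (q ^ 1) (by ring)
  obtain ⟨j, -, rfl⟩ := (Nat.dvd_prime_pow hpp).mp hdvd
  exact sum_pow_char_pow p j s f

theorem pow_pow_of_card (hF : Fintype.card F = q ^ 2) (a : F) : (a ^ q) ^ q = a := by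
  rw [← pow_mul, ← pow_two, ← hF, FiniteField.pow_card]

theorem hermForm_add_right (hF : Fintype.card F = q ^ 2) (n : ℕ) (x y y' : Fin n → F) :
    Cfsg.hermForm n F q x (y + y') = Cfsg.hermForm n F q x y + Cfsg.hermForm n F q x y' := by
  unfold Cfsg.hermForm
  rw [← Finset.sum_add_distrib]
  exact Finset.sum_congr rfl fun i _ => by rw [Pi.add_apply, add_pow_of_card hF, mul_add]

/-- Conjugate symmetry of the Hermitian form. -/
theorem hermForm_pow (hF : Fintype.card F = q ^ 2) (n : ℕ) (x y : Fin n → F) :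
    (Cfsg.hermForm n F q x y) ^ q = Cfsg.hermForm n F q y x := by
  unfold Cfsg.hermForm
  rw [sum_pow_of_card hF]
  exact Finset.sum_congr rfl fun i _ => by rw [mul_pow, pow_pow_of_card hF, mul_comm]

omit [Fintype F] in
/-- The unitary transvection matrix applied to a vector. -/
theorem unitaryTransvection_mulVec (n : ℕ) (v : Fin n → F) (c : F) (x : Fin n → F) :
    (Cfsg.unitaryTransvection n q v c) *ᵥ x = x + (c * Cfsg.hermForm n F q x v) • v := by
  unfold Cfsg.unitaryTransvection
  rw [Matrix.add_mulVec, Matrix.one_mulVec, Matrix.smul_mulVec, Matrix.vecMulVec_mulVec]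
  have : (fun j => v j ^ q) ⬝ᵥ x = Cfsg.hermForm n F q x v := by
    unfold Cfsg.hermForm dotProduct
    exact Finset.sum_congr rfl fun i _ => mul_comm _ _
  rw [this]
  ext i
  simp only [Pi.add_apply, Pi.smul_apply, smul_eq_mul, MulOpposite.smul_eq_mul_unop,
    MulOpposite.unop_op]
  ring

/-- The defect of a unitary transvection from being an isometry. -/
theorem hermForm_unitaryTransvection (hF : Fintype.card F = q ^ 2) (n : ℕ) (v : Fin n → F)
    (hv0 : Cfsg.hermForm n F q v v = 0) (c : F) (x y : Fin n → F) :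
    Cfsg.hermForm n F q ((Cfsg.unitaryTransvection n q v c) *ᵥ x)
        ((Cfsg.unitaryTransvection n q v c) *ᵥ y) =
      Cfsg.hermForm n F q x y + (c ^ q + c) * (Cfsg.hermForm n F q x v * Cfsg.hermForm n F q v y) := by
  rw [unitaryTransvection_mulVec, unitaryTransvection_mulVec, hermForm_add_left,
    hermForm_add_right hF, hermForm_add_right hF, hermForm_smul_left, hermForm_smul_left,
    hermForm_smul_right, hermForm_smul_right, hv0, mul_pow, hermForm_pow hF]
  ring

end Finite

end Cfsg.Agent.Lib.Helper12
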