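-- Basic theory of strongly p-embedded subgroups (`Cfsg.IsStronglyPEmbedded`).
import Mathlib
import Cfsg.Prelude.Def_EvenType

set_option autoImplicit false

namespace Cfsg.Agent.Lib.Helper12

open Pointwise

variable {G : Type*} [Group G]

/-- Conjugation of a subgroup, as used in the statements. -/
abbrev conjSub (g : G) (H : Subgroup G) : Subgroup G := H.map (MulAut.conj g).toMonoidHom

theorem mem_conjSub_iff (g : G) (H : Subgroup G) (x : G) : x ∈ conjSub g H ↔ g⁻¹ * x * g ∈ H := by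
  constructor
  · rintro ⟨y, hy, rfl⟩
    have : g⁻¹ * ((MulAut.conj g).toMonoidHom y) * g = y := by simp [MulAut.conj_apply]; group
    rw [this]; exact hy
  · intro h
    refine ⟨g⁻¹ * x * g, h, ?_⟩
    simp [MulAut.conj_apply]; group

theorem conj_mem_conjSub (g : G) (H : Subgroup G) {x : G} (hx : x ∈ H) : g * x * g⁻¹ ∈ conjSub g H :=
  ⟨x, hx, by simp [MulAut.conj_apply]⟩

/-- A nontrivial finite `p`-group has `p`-rank at least one, and conversely. -/
theorem not_pRankLE_zero_iff [Finite G] {p : ℕ} [Fact p.Prime] (Q : Subgroup G) (hQ : IsPGroup p Q) :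
    ¬ Cfsg.PRankLE p 0 ↥Q ↔ Q ≠ ⊥ := by
  constructor
  · intro h hbot
    apply h
    intro A _ _
    subst hbot
    rw [pow_zero]
    have h1 : Nat.card A ≤ Nat.card (⊥ : Subgroup G) := Subgroup.card_le_card_group A
    rwa [Subgroup.card_bot] at h1
  · intro hne hrank
    have hp : p.Prime := Fact.out
    obtain ⟨n, hn⟩ := IsPGroup.iff_card.mp hQ
    have hn0 : n ≠ 0 := by
      rintro rfl
      rw [pow_zero] at hn
      exact hne (Subgroup.card_eq_one.mp hn)
    have hdvd : p ∣ Nat.card Q := by rw [hn]; exact dvd_pow_self p hn0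
    obtain ⟨y, hy⟩ := exists_prime_orderOf_dvd_card' (G := Q) p hdvd
    have hA := hrank (Subgroup.zpowers y) inferInstance (by
      intro a ha
      obtain ⟨k, rfl⟩ := Subgroup.mem_zpowers_iff.mp ha
      rw [← zpow_natCast, ← zpow_mul, mul_comm, zpow_mul, zpow_natCast, ← hy, pow_orderOf_eq_one,
        one_zpow])
    rw [Nat.card_zpowers, hy, pow_zero] at hA
    exact absurd hA (not_le.mpr hp.one_lt)

/-- Unfolding of the `1`-generated `p`-core for a `p`-subgroup `P`. -/
theorem kGeneratedCore_one_le_iff [Finite G] {p : ℕ} [Fact p.Prime] (P : Subgroup G) (hP : IsPGroup p P)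
    (Y : Subgroup G) :
    Cfsg.kGeneratedCore p 1 P ≤ Y ↔
      ∀ Q : Subgroup G, Q ≤ P → Q ≠ ⊥ → Subgroup.normalizer (Q : Set G) ≤ Y := by
  unfold Cfsg.kGeneratedCore
  rw [iSup_le_iff]
  constructor
  · intro h Q hQP hQ1
    exact h ⟨Q, hQP, (not_pRankLE_zero_iff Q (hP.to_le hQP)).mpr hQ1⟩
  · rintro h ⟨Q, hQP, hQr⟩
    exact h Q hQP ((not_pRankLE_zero_iff Q (hP.to_le hQP)).mp hQr)

/-- The local condition: normalizers of nontrivial `p`-subgroups of `M` lie in `M`. -/
def NormalizersIn (p : ℕ) (M : Subgroup G) : Prop :=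
  ∀ A : Subgroup G, A ≤ M → IsPGroup p A → A ≠ ⊥ → Subgroup.normalizer (A : Set G) ≤ M

/-- Under the local condition, a `p`-subgroup meeting `M` nontrivially lies in `M`. -/
theorem le_of_normalizersIn [Finite G] {p : ℕ} [Fact p.Prime] {M : Subgroup G} (hM : NormalizersIn p M)
    (R : Subgroup G) (hR : IsPGroup p R) {x : G} (hxR : x ∈ R) (hxM : x ∈ M) (hx1 : x ≠ 1) : R ≤ M := by
  -- the centre of `R` centralizes `x`, hence normalizes `⟨x⟩`
  have hzx : Subgroup.zpowers x ≤ M := by rwa [Subgroup.zpowers_le]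
  have hzp : IsPGroup p (Subgroup.zpowers x) := hR.to_le (by rwa [Subgroup.zpowers_le])
  have hz1 : Subgroup.zpowers x ≠ ⊥ := by rwa [Ne, Subgroup.zpowers_eq_bot]
  have hN := hM _ hzx hzp hz1
  set Z : Subgroup G := (Subgroup.center R).map R.subtype with hZ
  have hZR : Z ≤ R := Subgroup.map_subtype_le _
  have hZM : Z ≤ M := by
    rintro _ ⟨z, hz, rfl⟩
    apply hN
    rw [Subgroup.mem_normalizer_iff]
    have hcomm : (z : G) * x = x * z := by
      have := Subgroup.mem_center_iff.mp hz ⟨x, hxR⟩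
      exact (congrArg Subtype.val this).symm
    have hconj : ∀ k : ℤ, (z : G) * x ^ k * (z : G)⁻¹ = x ^ k := by
      intro k
      have hc : Commute (z : G) (x ^ k) := (Commute.zpow_right hcomm k)
      rw [hc.eq]; group
    intro h
    constructor
    · intro hh
      obtain ⟨k, rfl⟩ := Subgroup.mem_zpowers_iff.mp hh
      rw [R.subtype_apply, hconj k]
      exact hh
    · intro hh
      obtain ⟨k, hk⟩ := Subgroup.mem_zpowers_iff.mp hh
      rw [R.subtype_apply] at hk
      have : h = x ^ k := by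
        have e : h = (z : G)⁻¹ * ((z : G) * h * (z : G)⁻¹) * (z : G) := by group
        rw [e, ← hk]
        have hc : Commute (z : G) (x ^ k) := (Commute.zpow_right hcomm k)
        calc (z : G)⁻¹ * x ^ k * (z : G) = (z : G)⁻¹ * ((z : G) * x ^ k) := by rw [hc.eq]; group
          _ = x ^ k := by group
      rw [this]
      exact Subgroup.zpow_mem_zpowers x k
  have hZp : IsPGroup p Z := hR.to_le hZR
  have hZ1 : Z ≠ ⊥ := by
    have hRnt : Nontrivial R := ⟨⟨⟨x, hxR⟩, 1, fun h => hx1 (congrArg Subtype.val h)⟩⟩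
    have hfin : Finite R := inferInstance
    have := hR.center_nontrivial
    obtain ⟨z, hz⟩ := exists_ne (1 : Subgroup.center R)
    intro hbot
    apply hz
    have hzZ : ((z : R) : G) ∈ Z := ⟨z, z.2, rfl⟩
    rw [hbot, Subgroup.mem_bot] at hzZ
    apply Subtype.ext; apply Subtype.ext; exact hzZ
  have hNZ := hM Z hZM hZp hZ1
  refine le_trans ?_ hNZ
  -- `R` normalizes its centre
  intro r hr
  rw [Subgroup.mem_normalizer_iff]
  intro h
  constructor
  · rintro ⟨z, hz, rfl⟩
    refine ⟨⟨r, hr⟩ * z * ⟨r, hr⟩⁻¹, ?_, by simp⟩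
    exact (inferInstance : (Subgroup.center R).Normal).conj_mem z hz ⟨r, hr⟩
  · rintro ⟨z, hz, hzh⟩
    refine ⟨⟨r, hr⟩⁻¹ * z * ⟨r, hr⟩, ?_, ?_⟩
    · have := (inferInstance : (Subgroup.center R).Normal).conj_mem z hz ⟨r, hr⟩⁻¹
      simpa using this
    · simp only [Subgroup.subtype_apply, Subgroup.coe_mul, Subgroup.coe_inv] at hzh ⊢
      rw [hzh]; group

/-- Conjugating a normalizing element. -/
theorem conj_mem_normalizer_conjSub (y n : G) (A : Subgroup G)
    (hn : n ∈ Subgroup.normalizer (A : Set G)) :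
    y * n * y⁻¹ ∈ Subgroup.normalizer ((conjSub y A : Subgroup G) : Set G) := by
  rw [Subgroup.mem_normalizer_iff]
  intro h
  rw [mem_conjSub_iff, mem_conjSub_iff]
  have e : y⁻¹ * (y * n * y⁻¹ * h * (y * n * y⁻¹)⁻¹) * y = n * (y⁻¹ * h * y) * n⁻¹ := by group
  rw [e]
  exact Subgroup.mem_normalizer_iff.mp hn (y⁻¹ * h * y)

/-- In a finite group, a subgroup `M` containing a Sylow `p`-subgroup `P`: every `p`-subgroup of `M`
is conjugate under `M` into `P`. -/
theorem exists_conj_le_sylow_of_le [Finite G] {p : ℕ} [Fact p.Prime] (P : Sylow p G) (M : Subgroup G)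
    (hPM : (P : Subgroup G) ≤ M) (A : Subgroup G) (hAM : A ≤ M) (hA : IsPGroup p A) :
    ∃ y ∈ M, conjSub y A ≤ (P : Subgroup G) := by
  classical
  have hA' : IsPGroup p (A.subgroupOf M) :=
    hA.comap_of_injective M.subtype (Subgroup.subtype_injective M)
  obtain ⟨S, hS⟩ := hA'.exists_le_sylow
  obtain ⟨y, hy⟩ := MulAction.exists_smul_eq M S (P.subtype hPM)
  refine ⟨y, y.2, ?_⟩
  rintro _ ⟨a, ha, rfl⟩
  have h1 : (⟨a, hAM ha⟩ : M) ∈ (S : Subgroup M) := hS (by simpa [Subgroup.mem_subgroupOf] using ha)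
  have h2 : y * ⟨a, hAM ha⟩ * y⁻¹ ∈ ((y • S : Sylow p M) : Subgroup M) := by
    rw [Sylow.smul_def, Sylow.pointwise_smul_def]
    exact Subgroup.smul_mem_pointwise_smul _ (MulAut.conj y) _ h1
  rw [hy, Sylow.coe_subtype, Subgroup.mem_subgroupOf] at h2
  simpa [MulAut.conj_apply] using h2

/-- A strongly `p`-embedded subgroup contains the normalizers of its nontrivial `p`-subgroups. -/
theorem normalizersIn_of_stronglyPEmbedded [Finite G] {p : ℕ} [Fact p.Prime] {M : Subgroup G}
    (hM : Cfsg.IsStronglyPEmbedded p M) : NormalizersIn p M := by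
  obtain ⟨hdvd, -, P, hP⟩ := hM
  rw [kGeneratedCore_one_le_iff (P : Subgroup G) P.2] at hP
  have hP1 : (P : Subgroup G) ≠ ⊥ := P.ne_bot_of_dvd_card hdvd
  have hPM : (P : Subgroup G) ≤ M := le_trans Subgroup.le_normalizer (hP _ le_rfl hP1)
  intro A hAM hA hA1 n hn
  obtain ⟨y, hyM, hyA⟩ := exists_conj_le_sylow_of_le P M hPM A hAM hA
  have hQ1 : conjSub y A ≠ ⊥ := by
    intro h
    apply hA1
    rw [Subgroup.eq_bot_iff_forall]
    intro a ha
    have := conj_mem_conjSub y A ha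
    rw [h, Subgroup.mem_bot] at this
    have e : a = y⁻¹ * (y * a * y⁻¹) * y := by group
    rw [e, this]; group
  have := hP _ hyA hQ1 (conj_mem_normalizer_conjSub y n A hn)
  have e : n = y⁻¹ * (y * n * y⁻¹) * y := by group
  rw [e]
  exact M.mul_mem (M.mul_mem (M.inv_mem hyM) this) hyM

/-- The local condition, together with properness and order divisible by `p`, gives strong
`p`-embedding. -/
theorem stronglyPEmbedded_of_normalizersIn [Finite G] {p : ℕ} [Fact p.Prime] {M : Subgroup G}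
    (hM : NormalizersIn p M) (hdvd : p ∣ Nat.card M) (htop : M ≠ ⊤) :
    Cfsg.IsStronglyPEmbedded p M := by
  refine ⟨hdvd.trans (Subgroup.card_subgroup_dvd_card M), htop, ?_⟩
  obtain ⟨x, hx⟩ := exists_prime_orderOf_dvd_card' (G := M) p hdvd
  have hp : p.Prime := Fact.out
  have hx1 : (x : G) ≠ 1 := by
    intro h
    have : x = 1 := Subtype.ext h
    rw [this, orderOf_one] at hx
    exact hp.one_lt.ne hx
  have hxo : orderOf (x : G) = p := by rw [Subgroup.orderOf_coe, hx]
  have hzp : IsPGroup p (Subgroup.zpowers (x : G)) :=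
    IsPGroup.of_card (n := 1) (by rw [Nat.card_zpowers, hxo, pow_one])
  obtain ⟨P, hP⟩ := hzp.exists_le_sylow
  have hxP : (x : G) ∈ (P : Subgroup G) := hP (Subgroup.mem_zpowers _)
  have hPM : (P : Subgroup G) ≤ M := le_of_normalizersIn hM P P.2 hxP x.2 hx1
  refine ⟨P, ?_⟩
  rw [kGeneratedCore_one_le_iff (P : Subgroup G) P.2]
  intro Q hQP hQ1
  exact hM Q (hQP.trans hPM) (P.2.to_le hQP) hQ1

/-- Control of fusion of `p`-elements: under the local condition, an element conjugating a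
nontrivial `p`-element of `M` into `M` lies in `M`. -/
theorem mem_of_normalizersIn_of_conj_mem [Finite G] {p : ℕ} [Fact p.Prime] {M : Subgroup G}
    (hM : NormalizersIn p M) (g x : G) (hxM : x ∈ M) (hx1 : x ≠ 1) (hxp : ∃ k : ℕ, x ^ p ^ k = 1)
    (hgx : g⁻¹ * x * g ∈ M) : g ∈ M := by
  classical
  set y : G := g⁻¹ * x * g with hy
  have hy1 : y ≠ 1 := by
    intro h
    apply hx1
    have e : x = g * y * g⁻¹ := by rw [hy]; group
    rw [e, h]; group
  have hyp : IsPGroup p (Subgroup.zpowers y) := by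
    obtain ⟨k, hk⟩ := hxp
    have hyk : y ^ p ^ k = 1 := by
      have : y = MulAut.conj g⁻¹ x := by simp [hy]
      rw [this, ← map_pow, hk, map_one]
    rintro ⟨z, hz⟩
    obtain ⟨j, rfl⟩ := Subgroup.mem_zpowers_iff.mp hz
    refine ⟨k, Subtype.ext ?_⟩
    simp only [Subgroup.coe_pow, Subgroup.coe_one]
    rw [← zpow_natCast, ← zpow_mul, mul_comm, zpow_mul, zpow_natCast, hyk, one_zpow]
  have hyM : Subgroup.zpowers y ≤ M := by rwa [Subgroup.zpowers_le]
  have hyp' : IsPGroup p ((Subgroup.zpowers y).subgroupOf M) :=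
    hyp.comap_of_injective M.subtype (Subgroup.subtype_injective M)
  obtain ⟨S₂, hS₂⟩ := hyp'.exists_le_sylow
  set S : Subgroup G := (S₂ : Subgroup M).map M.subtype with hS
  have hSM : S ≤ M := Subgroup.map_subtype_le _
  have hSp : IsPGroup p S := S₂.2.map _
  have hyS : y ∈ S := by
    refine ⟨⟨y, hgx⟩, hS₂ ?_, rfl⟩
    rw [Subgroup.mem_subgroupOf]
    exact Subgroup.mem_zpowers y
  have hS1 : S ≠ ⊥ := by
    intro h
    rw [h, Subgroup.mem_bot] at hyS
    exact hy1 hyS
  -- the conjugate `g S g⁻¹` contains `x`, hence lies in `M`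
  have hxR : x ∈ conjSub g S := by
    rw [mem_conjSub_iff]; exact hyS
  have hRM : conjSub g S ≤ M := le_of_normalizersIn hM _ (hSp.map _) hxR hxM hx1
  have hRp' : IsPGroup p ((conjSub g S).subgroupOf M) :=
    (hSp.map _).comap_of_injective M.subtype (Subgroup.subtype_injective M)
  obtain ⟨S₃, hS₃⟩ := hRp'.exists_le_sylow
  obtain ⟨m, hm⟩ := MulAction.exists_smul_eq M S₃ S₂
  -- `m * g` normalizes `S`
  have hk : (m : G) * g ∈ Subgroup.normalizer (S : Set G) := by
    apply Subgroup.mem_normalizer_fintype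
    intro s hs
    have h1 : g * s * g⁻¹ ∈ conjSub g S := conj_mem_conjSub g S hs
    have h2 : (⟨g * s * g⁻¹, hRM h1⟩ : M) ∈ (S₃ : Subgroup M) := hS₃ (by
      rw [Subgroup.mem_subgroupOf]; exact h1)
    have h3 : m * ⟨g * s * g⁻¹, hRM h1⟩ * m⁻¹ ∈ ((m • S₃ : Sylow p M) : Subgroup M) := by
      rw [Sylow.smul_def, Sylow.pointwise_smul_def]
      exact Subgroup.smul_mem_pointwise_smul _ (MulAut.conj m) _ h2
    rw [hm] at h3
    rw [SetLike.mem_coe, hS]
    refine ⟨_, h3, ?_⟩
    simp only [Subgroup.subtype_apply, Subgroup.coe_mul, Subgroup.coe_inv]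
    group
  have hkM := hM S hSM hSp hS1 hk
  have e : g = (m : G)⁻¹ * ((m : G) * g) := by group
  rw [e]
  exact M.mul_mem (M.inv_mem m.2) hkM

/-- The classical condition: `M ∩ gMg⁻¹` has order prime to `p` for `g ∉ M`. -/
theorem not_dvd_card_inf_conj_of_normalizersIn [Finite G] {p : ℕ} [Fact p.Prime] {M : Subgroup G}
    (hM : NormalizersIn p M) (g : G) (hg : g ∉ M) : ¬ p ∣ Nat.card ↥(M ⊓ conjSub g M) := by
  intro hdvd
  apply hg
  obtain ⟨x, hx⟩ := exists_prime_orderOf_dvd_card' (G := ↥(M ⊓ conjSub g M)) p hdvd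
  have hp : p.Prime := Fact.out
  have hxM : (x : G) ∈ M := x.2.1
  have hxg : g⁻¹ * (x : G) * g ∈ M := (mem_conjSub_iff g M _).mp x.2.2
  have hx1 : (x : G) ≠ 1 := by
    intro h
    have : x = 1 := Subtype.ext h
    rw [this, orderOf_one] at hx
    exact hp.one_lt.ne hx
  have hxp : ∃ k : ℕ, (x : G) ^ p ^ k = 1 := by
    refine ⟨1, ?_⟩
    rw [pow_one, ← Subgroup.coe_pow, ← hx, pow_orderOf_eq_one]; rfl
  exact mem_of_normalizersIn_of_conj_mem hM g x hxM hx1 hxp hxg

/-- The classical condition implies the local condition. -/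
theorem normalizersIn_of_classical [Finite G] {p : ℕ} [Fact p.Prime] {M : Subgroup G}
    (hM : ∀ g : G, g ∉ M → ¬ p ∣ Nat.card ↥(M ⊓ conjSub g M)) : NormalizersIn p M := by
  intro A hAM hA hA1 g hg
  by_contra hgM
  apply hM g hgM
  have hle : A ≤ M ⊓ conjSub g M := by
    intro a ha
    refine ⟨hAM ha, ?_⟩
    change a ∈ conjSub g M
    rw [mem_conjSub_iff]
    apply hAM
    have hg' : g⁻¹ ∈ Subgroup.normalizer (A : Set G) := Subgroup.inv_mem _ hg
    have := (Subgroup.mem_normalizer_iff.mp hg' a).mp ha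
    simpa using this
  obtain ⟨n, hn⟩ := IsPGroup.iff_card.mp hA
  have hn0 : n ≠ 0 := by
    rintro rfl
    rw [pow_zero] at hn
    exact hA1 (Subgroup.card_eq_one.mp hn)
  have : p ∣ Nat.card A := by rw [hn]; exact dvd_pow_self p hn0
  exact this.trans (Subgroup.card_dvd_of_le hle)

/-- The conjugation action on Sylow subgroups in terms of `conjSub`. -/
theorem coe_smul_sylow {p : ℕ} (g : G) (P : Sylow p G) :
    ((g • P : Sylow p G) : Subgroup G) = conjSub g (P : Subgroup G) := by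
  ext x
  rw [mem_conjSub_iff, Sylow.smul_def, Sylow.pointwise_smul_def,
    Subgroup.mem_pointwise_smul_iff_inv_smul_mem]
  simp [MulAut.smul_def]

theorem conjSub_mono (g : G) {A B : Subgroup G} (h : A ≤ B) : conjSub g A ≤ conjSub g B :=
  Subgroup.map_mono h

theorem conjSub_ne_bot (g : G) {A : Subgroup G} (h : A ≠ ⊥) : conjSub g A ≠ ⊥ := by
  intro hb
  apply h
  rw [Subgroup.eq_bot_iff_forall]
  intro a ha
  have := conj_mem_conjSub g A ha
  rw [hb, Subgroup.mem_bot] at this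
  have e : a = g⁻¹ * (g * a * g⁻¹) * g := by group
  rw [e, this]; group

theorem conjSub_inv_conjSub (g : G) (A : Subgroup G) : conjSub g⁻¹ (conjSub g A) = A := by
  ext x
  rw [mem_conjSub_iff, mem_conjSub_iff]
  have e : g⁻¹ * (g⁻¹⁻¹ * x * g⁻¹) * g = x := by group
  rw [e]

theorem conjSub_conjSub_inv (g : G) (A : Subgroup G) : conjSub g (conjSub g⁻¹ A) = A := by
  have := conjSub_inv_conjSub g⁻¹ A
  rwa [inv_inv] at this

/-- Strong `p`-embedding in terms of the `1`-generated core of a fixed Sylow subgroup. -/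
theorem stronglyPEmbedded_iff_exists_conj [Finite G] {p : ℕ} [Fact p.Prime] (T : Sylow p G)
    (M : Subgroup G) (htop : M ≠ ⊤) (hdvd : p ∣ Nat.card M) :
    Cfsg.IsStronglyPEmbedded p M ↔
      ∃ g : G, conjSub g (⨆ A : {A : Subgroup G // A ≤ (T : Subgroup G) ∧ A ≠ ⊥},
        Subgroup.normalizer ((A : Subgroup G) : Set G)) ≤ M := by
  constructor
  · intro hSE
    have hN := normalizersIn_of_stronglyPEmbedded hSE
    obtain ⟨hd, -, P, hP⟩ := hSE
    rw [kGeneratedCore_one_le_iff (P : Subgroup G) P.2] at hP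
    have hP1 : (P : Subgroup G) ≠ ⊥ := P.ne_bot_of_dvd_card hd
    have hPM : (P : Subgroup G) ≤ M := le_trans Subgroup.le_normalizer (hP _ le_rfl hP1)
    obtain ⟨g, hg⟩ := MulAction.exists_smul_eq G T P
    refine ⟨g, ?_⟩
    unfold conjSub
    rw [Subgroup.map_iSup, iSup_le_iff]
    rintro ⟨A, hAT, hA1⟩
    rintro _ ⟨n, hn, rfl⟩
    have h1 : g * n * g⁻¹ ∈ Subgroup.normalizer ((conjSub g A : Subgroup G) : Set G) :=
      conj_mem_normalizer_conjSub g n A hn
    have h2 : conjSub g A ≤ (P : Subgroup G) := by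
      rw [← hg, coe_smul_sylow]; exact conjSub_mono g hAT
    have := hP _ h2 (conjSub_ne_bot g hA1) h1
    simpa [MulAut.conj_apply] using this
  · rintro ⟨g, hg⟩
    refine ⟨hdvd.trans (Subgroup.card_subgroup_dvd_card M), htop, g • T, ?_⟩
    rw [kGeneratedCore_one_le_iff _ (g • T).2]
    intro Q hQ hQ1 n hn
    rw [coe_smul_sylow] at hQ
    have hA : conjSub g⁻¹ Q ≤ (T : Subgroup G) := by
      have := conjSub_mono g⁻¹ hQ
      rwa [conjSub_inv_conjSub] at this
    have hA1 : conjSub g⁻¹ Q ≠ ⊥ := conjSub_ne_bot g⁻¹ hQ1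
    have h1 := conj_mem_normalizer_conjSub g⁻¹ n Q hn
    rw [inv_inv] at h1
    have h2 : g⁻¹ * n * g ∈ (⨆ A : {A : Subgroup G // A ≤ (T : Subgroup G) ∧ A ≠ ⊥},
        Subgroup.normalizer ((A : Subgroup G) : Set G)) :=
      (le_iSup (fun A : {A : Subgroup G // A ≤ (T : Subgroup G) ∧ A ≠ ⊥} =>
        Subgroup.normalizer ((A : Subgroup G) : Set G)) ⟨conjSub g⁻¹ Q, hA, hA1⟩) h1
    apply hg
    rw [mem_conjSub_iff]
    exact h2

end Cfsg.Agent.Lib.Helper12
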