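import Mathlib

/-! Basic structure of `GL₂(F)`: the unitriangular subgroup `U`, the Borel subgroup `B = N(U)`,
fixed vectors of `p`-subgroups, Sylow `p`-subgroups in the defining characteristic. -/

set_option autoImplicit false

namespace Cfsg.Agent.Lib.Helper12.GL2

open Matrix

variable {F : Type*} [Field F]

local notation "GL2" => Matrix.GeneralLinearGroup (Fin 2)

theorem inv_coe (g : GL2 F) : ((g⁻¹ : GL2 F) : Matrix (Fin 2) (Fin 2) F) =
    ((g : Matrix (Fin 2) (Fin 2) F).det)⁻¹ • !![g 1 1, -g 0 1; -g 1 0, g 0 0] := by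
  rw [Matrix.coe_units_inv, Matrix.inv_def, Matrix.adjugate_fin_two, Ring.inverse_eq_inv']

theorem det_ne_zero (g : GL2 F) : (g : Matrix (Fin 2) (Fin 2) F).det ≠ 0 := by
  have := (Matrix.isUnit_iff_isUnit_det (g : Matrix (Fin 2) (Fin 2) F)).mp g.isUnit
  exact this.ne_zero

theorem det_eq (g : GL2 F) : (g : Matrix (Fin 2) (Fin 2) F).det = g 0 0 * g 1 1 - g 0 1 * g 1 0 :=
  Matrix.det_fin_two _

theorem mul_apply' (g h : GL2 F) (i j : Fin 2) : (g * h) i j = g i 0 * h 0 j + g i 1 * h 1 j := by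
  simp [Matrix.mul_apply, Fin.sum_univ_two]

theorem one_apply' (i j : Fin 2) : (1 : GL2 F) i j = if i = j then 1 else 0 := by
  simp [Matrix.one_apply]

theorem inv_apply00 (g : GL2 F) : (g⁻¹ : GL2 F) 0 0 = (g : Matrix (Fin 2) (Fin 2) F).det⁻¹ * g 1 1 := by
  rw [inv_coe]; simp
theorem inv_apply01 (g : GL2 F) : (g⁻¹ : GL2 F) 0 1 = -((g : Matrix (Fin 2) (Fin 2) F).det⁻¹ * g 0 1) := by
  rw [inv_coe]; simp
theorem inv_apply10 (g : GL2 F) : (g⁻¹ : GL2 F) 1 0 = -((g : Matrix (Fin 2) (Fin 2) F).det⁻¹ * g 1 0) := by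
  rw [inv_coe]; simp
theorem inv_apply11 (g : GL2 F) : (g⁻¹ : GL2 F) 1 1 = (g : Matrix (Fin 2) (Fin 2) F).det⁻¹ * g 0 0 := by
  rw [inv_coe]; simp

theorem ext4 {g h : GL2 F} (h00 : g 0 0 = h 0 0) (h01 : g 0 1 = h 0 1) (h10 : g 1 0 = h 1 0)
    (h11 : g 1 1 = h 1 1) : g = h := by
  apply Matrix.GeneralLinearGroup.ext
  intro i j
  fin_cases i <;> fin_cases j
  · exact h00
  · exact h01
  · exact h10
  · exact h11

/-- constructor from entries -/
noncomputable def mk (a b c d : F) (h : a * d - b * c ≠ 0) : GL2 F :=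
  Matrix.GeneralLinearGroup.mkOfDetNeZero !![a, b; c, d] (by rw [Matrix.det_fin_two_of]; exact h)

@[simp] theorem mk_00 (a b c d : F) (h : a * d - b * c ≠ 0) : (mk a b c d h) 0 0 = a := rfl
@[simp] theorem mk_01 (a b c d : F) (h : a * d - b * c ≠ 0) : (mk a b c d h) 0 1 = b := rfl
@[simp] theorem mk_10 (a b c d : F) (h : a * d - b * c ≠ 0) : (mk a b c d h) 1 0 = c := rfl
@[simp] theorem mk_11 (a b c d : F) (h : a * d - b * c ≠ 0) : (mk a b c d h) 1 1 = d := rfl

/-- the unitriangular element -/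
noncomputable def um (b : F) : GL2 F := mk 1 b 0 1 (by simp)

@[simp] theorem um_00 (b : F) : (um b) 0 0 = 1 := rfl
@[simp] theorem um_01 (b : F) : (um b) 0 1 = b := rfl
@[simp] theorem um_10 (b : F) : (um b) 1 0 = 0 := rfl
@[simp] theorem um_11 (b : F) : (um b) 1 1 = 1 := rfl

theorem um_zero : um (0 : F) = 1 := by
  apply ext4 <;> simp [one_apply']

theorem um_add (a b : F) : um (a + b) = um a * um b := by
  apply ext4 <;> simp [mul_apply'] <;> ring

theorem um_injective : Function.Injective (um : F → GL2 F) := by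
  intro a b h
  have := congrArg (fun g : GL2 F => g 0 1) h
  simpa using this

/-- The unitriangular subgroup. -/
def U (F : Type*) [Field F] : Subgroup (GL2 F) where
  carrier := {g | g 0 0 = 1 ∧ g 1 0 = 0 ∧ g 1 1 = 1}
  one_mem' := by simp [one_apply']
  mul_mem' := by
    rintro g h ⟨g00, g10, g11⟩ ⟨h00, h10, h11⟩
    refine ⟨?_, ?_, ?_⟩ <;> simp [mul_apply', g00, g10, g11, h00, h10, h11]
  inv_mem' := by
    rintro g ⟨g00, g10, g11⟩
    have hd : (g : Matrix (Fin 2) (Fin 2) F).det = 1 := by rw [det_eq, g00, g10, g11]; ring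
    refine ⟨?_, ?_, ?_⟩
    · rw [inv_apply00, hd, g11]; simp
    · rw [inv_apply10, hd, g10]; simp
    · rw [inv_apply11, hd, g00]; simp

theorem mem_U (g : GL2 F) : g ∈ U F ↔ g 0 0 = 1 ∧ g 1 0 = 0 ∧ g 1 1 = 1 := Iff.rfl

theorem um_mem_U (b : F) : um b ∈ U F := ⟨rfl, rfl, rfl⟩

theorem eq_um_of_mem_U {g : GL2 F} (hg : g ∈ U F) : g = um (g 0 1) := by
  obtain ⟨g00, g10, g11⟩ := hg
  apply ext4 <;> simp [g00, g10, g11]

/-- `U ≃ F`. -/
noncomputable def equivU : F ≃ U F where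
  toFun b := ⟨um b, um_mem_U b⟩
  invFun g := (g : GL2 F) 0 1
  left_inv b := rfl
  right_inv g := by
    apply Subtype.ext
    exact (eq_um_of_mem_U g.2).symm

theorem card_U [Fintype F] : Nat.card (U F) = Fintype.card F := by
  rw [← Nat.card_eq_fintype_card]
  exact (Nat.card_congr equivU).symm

/-- The Borel subgroup. -/
def B (F : Type*) [Field F] : Subgroup (GL2 F) where
  carrier := {g | g 1 0 = 0}
  one_mem' := by simp [one_apply']
  mul_mem' := by
    intro g h hg hh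
    simp only [Set.mem_setOf_eq] at hg hh ⊢
    simp [mul_apply', hg, hh]
  inv_mem' := by
    intro g hg
    simp only [Set.mem_setOf_eq] at hg ⊢
    rw [inv_apply10, hg]; simp

theorem mem_B (g : GL2 F) : g ∈ B F ↔ g 1 0 = 0 := Iff.rfl

theorem U_le_B : U F ≤ B F := fun _ hg => hg.2.1

theorem diag_ne_zero_of_mem_B {g : GL2 F} (hg : g ∈ B F) : g 0 0 ≠ 0 ∧ g 1 1 ≠ 0 := by
  have hd := det_ne_zero g
  rw [det_eq, (mem_B g).mp hg, mul_zero, sub_zero] at hd
  exact ⟨left_ne_zero_of_mul hd, right_ne_zero_of_mul hd⟩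

/-- `B ≃ Fˣ × Fˣ × F`. -/
noncomputable def equivB : (Fˣ × Fˣ × F) ≃ B F where
  toFun x := ⟨mk x.1 x.2.2 0 x.2.1 (by simp), rfl⟩
  invFun g := (Units.mk0 _ (diag_ne_zero_of_mem_B g.2).1, Units.mk0 _ (diag_ne_zero_of_mem_B g.2).2,
    (g : GL2 F) 0 1)
  left_inv x := by
    obtain ⟨a, d, b⟩ := x
    simp [Units.ext_iff]
  right_inv g := by
    apply Subtype.ext
    apply ext4 <;> simp
    exact ((mem_B _).mp g.2).symm

theorem card_B [Fintype F] : Nat.card (B F) = (Fintype.card F - 1) ^ 2 * Fintype.card F := by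
  classical
  rw [← Nat.card_congr equivB, Nat.card_prod, Nat.card_prod, Nat.card_units, Nat.card_eq_fintype_card]
  ring

/-! ### action on vectors -/

/-- first basis vector -/
def e1 : Fin 2 → F := ![1, 0]

theorem smul_apply (g : GL2 F) (v : Fin 2 → F) (i : Fin 2) :
    (g • v) i = g i 0 * v 0 + g i 1 * v 1 := by
  show ((g : Matrix (Fin 2) (Fin 2) F).mulVec v) i = _
  simp [Matrix.mulVec, dotProduct, Fin.sum_univ_two]

theorem smul_e1_eq_iff (g : GL2 F) : g • (e1 : Fin 2 → F) = e1 ↔ g 0 0 = 1 ∧ g 1 0 = 0 := by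
  constructor
  · intro h
    have h0 := congrFun h 0
    have h1 := congrFun h 1
    rw [smul_apply] at h0 h1
    simpa [e1] using And.intro h0 h1
  · rintro ⟨h0, h1⟩
    ext i
    fin_cases i <;> simp [smul_apply, e1, h0, h1]

theorem exists_smul_e1 {v : Fin 2 → F} (hv : v ≠ 0) : ∃ h : GL2 F, h • (e1 : Fin 2 → F) = v := by
  by_cases h0 : v 0 = 0
  · have h1 : v 1 ≠ 0 := by
      intro h1
      apply hv
      ext i
      fin_cases i
      · exact h0
      · exact h1
    refine ⟨mk (v 0) 1 (v 1) 0 (by simpa using h1), ?_⟩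
    ext i
    fin_cases i <;> simp [smul_apply, e1]
  · refine ⟨mk (v 0) 0 (v 1) 1 (by simpa using h0), ?_⟩
    ext i
    fin_cases i <;> simp [smul_apply, e1]

section char_p

variable [Fintype F] {p : ℕ} [Fact p.Prime] [CharP F p]

theorem exists_fixed_vector (T : Subgroup (GL2 F)) (hT : IsPGroup p T) :
    ∃ v : Fin 2 → F, v ≠ 0 ∧ ∀ g ∈ T, g • v = v := by
  classical
  have hpK : p ∣ Fintype.card F :=
    (CharP.cast_eq_zero_iff F p (Fintype.card F)).mp (Nat.cast_card_eq_zero F)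
  have hcard : p ∣ Nat.card (Fin 2 → F) := by
    rw [Nat.card_eq_fintype_card, Fintype.card_fun, Fintype.card_fin]
    exact dvd_pow hpK (by norm_num)
  have h0 : (0 : Fin 2 → F) ∈ MulAction.fixedPoints T (Fin 2 → F) := fun g => smul_zero g
  obtain ⟨v, hv, hv0⟩ :=
    hT.exists_fixed_point_of_prime_dvd_card_of_fixed_point (Fin 2 → F) hcard h0
  exact ⟨v, Ne.symm hv0, fun g hg => hv ⟨g, hg⟩⟩

theorem det_eq_one_of_pow (g : GL2 F) (k : ℕ) (hg : g ^ p ^ k = 1) :
    (g : Matrix (Fin 2) (Fin 2) F).det = 1 := by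
  have h1 : ((g ^ p ^ k : GL2 F) : Matrix (Fin 2) (Fin 2) F).det = 1 := by rw [hg]; simp
  rw [Units.val_pow_eq_pow_val, Matrix.det_pow] at h1
  have h2 : ((g : Matrix (Fin 2) (Fin 2) F).det - 1) ^ p ^ k = 0 := by
    rw [sub_pow_char_pow, h1, one_pow, sub_self]
  exact sub_eq_zero.mp
    ((pow_eq_zero_iff (pow_ne_zero k (Fact.out : p.Prime).ne_zero)).mp h2)

theorem mem_U_of_fixes_of_pow (g : GL2 F) (hfix : g • (e1 : Fin 2 → F) = e1) (k : ℕ)
    (hg : g ^ p ^ k = 1) : g ∈ U F := by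
  obtain ⟨h0, h1⟩ := (smul_e1_eq_iff g).mp hfix
  have hd := det_eq_one_of_pow g k hg
  rw [det_eq, h0, h1] at hd
  refine ⟨h0, h1, ?_⟩
  simpa using hd

/-- every `p`-subgroup is conjugate into `U` -/
theorem exists_conj_mem_U (T : Subgroup (GL2 F)) (hT : IsPGroup p T) :
    ∃ h : GL2 F, ∀ g ∈ T, h⁻¹ * g * h ∈ U F := by
  obtain ⟨v, hv, hfix⟩ := exists_fixed_vector T hT
  obtain ⟨h, hh⟩ := exists_smul_e1 hv
  refine ⟨h, fun g hg => ?_⟩
  obtain ⟨k, hk⟩ := hT ⟨g, hg⟩
  have hk' : g ^ p ^ k = 1 := by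
    have := congrArg Subtype.val hk
    simpa using this
  refine mem_U_of_fixes_of_pow _ ?_ k ?_
  · rw [mul_smul, mul_smul, hh, hfix g hg, ← hh, inv_smul_smul]
  · rw [show h⁻¹ * g * h = h⁻¹ * g * h⁻¹⁻¹ by rw [inv_inv], conj_pow, hk']
    simp

theorem isPGroup_U : IsPGroup p (U F) := by
  intro g
  refine ⟨1, ?_⟩
  apply Subtype.ext
  rw [Subgroup.coe_pow, Subgroup.coe_one, pow_one, eq_um_of_mem_U g.2]
  have : ∀ n : ℕ, um (g.1 0 1) ^ n = um ((n : F) * g.1 0 1) := by
    intro n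
    induction n with
    | zero => simp [um_zero]
    | succ n ih => rw [pow_succ, ih, ← um_add]; congr 1; push_cast; ring
  rw [this, CharP.cast_eq_zero, zero_mul, um_zero]

end char_p

/-! ### the normalizer of `U` -/

theorem mul_um_of_mem_B {g : GL2 F} (hg : g ∈ B F) (b : F) :
    g * um b = um (g 0 0 * b / g 1 1) * g := by
  have h10 := (mem_B g).mp hg
  obtain ⟨h00, h11⟩ := diag_ne_zero_of_mem_B hg
  apply ext4 <;> simp [mul_apply', h10]
  field_simp
  ring

theorem conj_um_of_mem_B {g : GL2 F} (hg : g ∈ B F) (b : F) :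
    g * um b * g⁻¹ = um (g 0 0 * b / g 1 1) := by
  rw [mul_um_of_mem_B hg, mul_inv_cancel_right]

theorem normalizer_U : Subgroup.normalizer (U F : Set (GL2 F)) = B F := by
  ext g
  rw [Subgroup.mem_normalizer_iff]
  constructor
  · intro h
    have h1 := (h (um 1)).mp (um_mem_U 1)
    have h2 := eq_um_of_mem_U h1
    have h3 : g * um 1 = um ((g * um 1 * g⁻¹ : GL2 F) 0 1) * g := by
      rw [← h2, inv_mul_cancel_right]
    have h4 := congrArg (fun x : GL2 F => x 1 1) h3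
    simp only [mul_apply', um_00, um_01, um_10, um_11] at h4
    rw [mem_B]
    linear_combination h4
  · intro hg h
    have key : ∀ (x : GL2 F), x ∈ B F → ∀ y ∈ U F, x * y * x⁻¹ ∈ U F := by
      intro x hx y hy
      rw [eq_um_of_mem_U hy, conj_um_of_mem_B hx]
      exact um_mem_U _
    constructor
    · exact key g hg h
    · intro hh
      have := key g⁻¹ ((B F).inv_mem hg) _ hh
      rw [inv_inv] at this
      have e : g⁻¹ * (g * h * g⁻¹) * g = h := by group
      rwa [e] at this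

/-! ### Sylow subgroups -/

section sylow

variable [Fintype F] {p : ℕ} [Fact p.Prime] [CharP F p]

theorem card_GL2 : Nat.card (GL2 F) =
    (Fintype.card F ^ 2 - 1) * (Fintype.card F ^ 2 - Fintype.card F) := by
  rw [Matrix.card_GL_field, Fin.prod_univ_two]
  simp

/-- `U` as a Sylow `p`-subgroup. -/
def USylow (F : Type*) [Field F] [Fintype F] (p : ℕ) [Fact p.Prime] [CharP F p] :
    Sylow p (GL2 F) where
  toSubgroup := U F
  isPGroup' := isPGroup_U
  is_maximal' := by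
    intro Q hQ hUQ
    obtain ⟨h, hh⟩ := exists_conj_mem_U Q hQ
    have hcard : Nat.card Q ≤ Nat.card (U F) :=
      Nat.card_le_card_of_injective (fun g : Q => (⟨h⁻¹ * g.1 * h, hh g.1 g.2⟩ : U F)) (by
        intro a b hab
        have := congrArg Subtype.val hab
        simp only at this
        apply Subtype.ext
        have h2 : h⁻¹ * a.1 = h⁻¹ * b.1 := mul_right_cancel this
        exact mul_left_cancel h2)
    exact (Subgroup.eq_of_le_of_card_ge hUQ hcard).symm

theorem USylow_coe : ((USylow F p : Sylow p (GL2 F)) : Subgroup (GL2 F)) = U F := rfl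

theorem two_le_card : 2 ≤ Fintype.card F := Fintype.one_lt_card

theorem card_normalizer_U :
    Nat.card (Subgroup.normalizer (U F : Set (GL2 F))) = (Fintype.card F - 1) ^ 2 * Fintype.card F := by
  rw [normalizer_U, card_B]

theorem card_sylow : Nat.card (Sylow p (GL2 F)) = Fintype.card F + 1 := by
  have h1 : Nat.card (Sylow p (GL2 F)) = (Subgroup.normalizer (U F : Set (GL2 F))).index :=
    Sylow.card_eq_index_normalizer (USylow F p)
  have h2 := Subgroup.card_mul_index (Subgroup.normalizer (U F : Set (GL2 F)))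
  rw [← h1, card_normalizer_U, card_GL2] at h2
  obtain ⟨m, hm⟩ : ∃ m, Fintype.card F = m + 2 := ⟨Fintype.card F - 2, by have := two_le_card (F := F); omega⟩
  rw [hm] at h2 ⊢
  have e1 : m + 2 - 1 = m + 1 := by omega
  have e2 : (m + 2) ^ 2 - 1 = (m + 1) * (m + 3) := by
    have : (m + 2) ^ 2 = (m + 1) * (m + 3) + 1 := by ring
    omega
  have e3 : (m + 2) ^ 2 - (m + 2) = (m + 2) * (m + 1) := by
    have : (m + 2) ^ 2 = (m + 2) * (m + 1) + (m + 2) := by ring
    omega
  rw [e1, e2, e3] at h2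
  have h3 : (m + 1) ^ 2 * (m + 2) * Nat.card (Sylow p (GL2 F)) = (m + 1) ^ 2 * (m + 2) * (m + 3) := by
    rw [h2]; ring
  exact Nat.eq_of_mul_eq_mul_left (by positivity) h3

theorem card_normalizer_sylow (P : Sylow p (GL2 F)) :
    Nat.card (Subgroup.normalizer ((P : Subgroup (GL2 F)) : Set (GL2 F))) =
      (Fintype.card F - 1) ^ 2 * Fintype.card F := by
  have h1 : Nat.card (Sylow p (GL2 F)) =
      (Subgroup.normalizer ((P : Subgroup (GL2 F)) : Set (GL2 F))).index :=
    Sylow.card_eq_index_normalizer P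
  have h2 := Subgroup.card_mul_index (Subgroup.normalizer ((P : Subgroup (GL2 F)) : Set (GL2 F)))
  have h1' : Nat.card (Sylow p (GL2 F)) = (Subgroup.normalizer (U F : Set (GL2 F))).index :=
    Sylow.card_eq_index_normalizer (USylow F p)
  have h2' := Subgroup.card_mul_index (Subgroup.normalizer (U F : Set (GL2 F)))
  rw [← h1] at h2
  rw [← h1', card_normalizer_U] at h2'
  rw [← h2'] at h2
  have hpos : 0 < Nat.card (Sylow p (GL2 F)) := by rw [card_sylow]; omega
  exact Nat.eq_of_mul_eq_mul_right hpos h2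

/-- every Sylow `p`-subgroup is a conjugate of `U` -/
theorem exists_conj_sylow (P : Sylow p (GL2 F)) :
    ∃ h : GL2 F, ∀ g : GL2 F, g ∈ P ↔ h⁻¹ * g * h ∈ U F := by
  obtain ⟨h, hh⟩ := exists_conj_mem_U (P : Subgroup (GL2 F)) P.isPGroup'
  refine ⟨h, fun g => ⟨fun hg => hh g hg, fun hg => ?_⟩⟩
  set Q : Subgroup (GL2 F) := (U F).map (MulAut.conj h).toMonoidHom with hQ
  have hQp : IsPGroup p Q := (isPGroup_U (F := F) (p := p)).map _
  have hPQ : (P : Subgroup (GL2 F)) ≤ Q := by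
    intro x hx
    rw [hQ, Subgroup.mem_map]
    refine ⟨h⁻¹ * x * h, hh x hx, ?_⟩
    show h * (h⁻¹ * x * h) * h⁻¹ = x
    group
  have hQP : Q = P := P.is_maximal' hQp hPQ
  have : g ∈ Q := by
    rw [hQ, Subgroup.mem_map]
    refine ⟨h⁻¹ * g * h, hg, ?_⟩
    show h * (h⁻¹ * g * h) * h⁻¹ = g
    group
  rw [hQP] at this
  exact this

theorem mem_B_of_mul_um {m : GL2 F} {b c : F} (hb : b ≠ 0) (h : m * um b = um c * m) :
    m ∈ B F := by
  have h4 := congrArg (fun x : GL2 F => x 1 1) h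
  simp only [mul_apply', um_00, um_01, um_10, um_11] at h4
  rw [mem_B]
  have : m 1 0 * b = 0 := by linear_combination h4
  rcases mul_eq_zero.mp this with h5 | h5
  · exact h5
  · exact absurd h5 hb

theorem um_ne_one {b : F} (hb : b ≠ 0) : um b ≠ 1 := by
  intro h
  apply hb
  have := congrArg (fun x : GL2 F => x 0 1) h
  simpa [one_apply'] using this

theorem eq_um_ne_zero_of_mem_U {g : GL2 F} (hg : g ∈ U F) (h1 : g ≠ 1) :
    ∃ b : F, b ≠ 0 ∧ g = um b := by
  refine ⟨g 0 1, ?_, eq_um_of_mem_U hg⟩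
  intro h0
  apply h1
  rw [eq_um_of_mem_U hg, h0, um_zero]

/-- distinct Sylow `p`-subgroups intersect trivially -/
theorem sylow_inf_eq_bot (P Q : Sylow p (GL2 F)) (hPQ : P ≠ Q) :
    (P : Subgroup (GL2 F)) ⊓ (Q : Subgroup (GL2 F)) = ⊥ := by
  rw [eq_bot_iff]
  intro a ha
  rw [Subgroup.mem_bot]
  by_contra ha1
  obtain ⟨h, hh⟩ := exists_conj_sylow P
  obtain ⟨k, hk⟩ := exists_conj_sylow Q
  have h1 := (hh a).mp ha.1
  have h2 := (hk a).mp ha.2
  have hne1 : h⁻¹ * a * h ≠ 1 := by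
    intro h0
    apply ha1
    have : a = h * (h⁻¹ * a * h) * h⁻¹ := by group
    rw [this, h0]; group
  have hne2 : k⁻¹ * a * k ≠ 1 := by
    intro h0
    apply ha1
    have : a = k * (k⁻¹ * a * k) * k⁻¹ := by group
    rw [this, h0]; group
  obtain ⟨b, hb, hb'⟩ := eq_um_ne_zero_of_mem_U h1 hne1
  obtain ⟨c, hc, hc'⟩ := eq_um_ne_zero_of_mem_U h2 hne2
  have hm : (k⁻¹ * h) * um b = um c * (k⁻¹ * h) := by
    rw [← hb', ← hc']; group
  have hmB : k⁻¹ * h ∈ B F := mem_B_of_mul_um hb hm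
  have hmN : k⁻¹ * h ∈ Subgroup.normalizer (U F : Set (GL2 F)) := by rw [normalizer_U]; exact hmB
  apply hPQ
  apply Sylow.ext
  ext g
  show g ∈ P ↔ g ∈ Q
  rw [hh g, hk g, Subgroup.mem_normalizer_iff.mp hmN (h⁻¹ * g * h)]
  have e : k⁻¹ * h * (h⁻¹ * g * h) * (k⁻¹ * h)⁻¹ = k⁻¹ * g * k := by group
  rw [e]

/-- centralizer of a nontrivial unitriangular element -/
theorem mem_centralizer_um {b : F} (hb : b ≠ 0) (g : GL2 F) :
    g ∈ Subgroup.centralizer ({um b} : Set (GL2 F)) ↔ g 1 0 = 0 ∧ g 0 0 = g 1 1 := by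
  rw [Subgroup.mem_centralizer_singleton_iff]
  constructor
  · intro h
    have h11 := congrArg (fun x : GL2 F => x 1 1) h
    have h01 := congrArg (fun x : GL2 F => x 0 1) h
    simp only [mul_apply', um_00, um_01, um_10, um_11] at h11 h01
    have e1 : g 1 0 * b = 0 := by linear_combination h11
    have e10 : g 1 0 = 0 := by
      rcases mul_eq_zero.mp e1 with h5 | h5
      · exact h5
      · exact absurd h5 hb
    refine ⟨e10, ?_⟩
    have e2 : (g 0 0 - g 1 1) * b = 0 := by linear_combination h01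
    rcases mul_eq_zero.mp e2 with h5 | h5
    · exact sub_eq_zero.mp h5
    · exact absurd h5 hb
  · rintro ⟨h10, h00⟩
    apply ext4 <;> simp [mul_apply', h10, h00]
    ring

noncomputable def equivCentralizerUm {b : F} (hb : b ≠ 0) :
    (Fˣ × F) ≃ Subgroup.centralizer ({um b} : Set (GL2 F)) where
  toFun x := ⟨mk x.1 x.2 0 x.1 (by simp), (mem_centralizer_um hb _).mpr ⟨rfl, rfl⟩⟩
  invFun g := (Units.mk0 ((g : GL2 F) 0 0)
    (diag_ne_zero_of_mem_B ((mem_B _).mpr ((mem_centralizer_um hb _).mp g.2).1)).1, (g : GL2 F) 0 1)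
  left_inv x := by
    obtain ⟨a, c⟩ := x
    simp [Units.ext_iff]
  right_inv g := by
    apply Subtype.ext
    obtain ⟨h10, h00⟩ := (mem_centralizer_um hb _).mp g.2
    apply ext4 <;> simp [h10, h00]

theorem card_centralizer_um {b : F} (hb : b ≠ 0) :
    Nat.card (Subgroup.centralizer ({um b} : Set (GL2 F))) = (Fintype.card F - 1) * Fintype.card F := by
  classical
  rw [← Nat.card_congr (equivCentralizerUm hb), Nat.card_prod, Nat.card_units,
    Nat.card_eq_fintype_card]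

theorem card_centralizer_conj (a h : GL2 F) :
    Nat.card (Subgroup.centralizer ({a} : Set (GL2 F))) =
      Nat.card (Subgroup.centralizer ({h⁻¹ * a * h} : Set (GL2 F))) := by
  apply Nat.card_congr
  refine Equiv.subtypeEquiv (MulAut.conj h⁻¹).toEquiv (fun g => ?_)
  rw [Subgroup.mem_centralizer_singleton_iff, Subgroup.mem_centralizer_singleton_iff]
  show _ ↔ h⁻¹ * g * h⁻¹⁻¹ * (h⁻¹ * a * h) = h⁻¹ * a * h * (h⁻¹ * g * h⁻¹⁻¹)
  constructor
  · intro e
    have e1 : h⁻¹ * g * h⁻¹⁻¹ * (h⁻¹ * a * h) = h⁻¹ * (g * a) * h := by group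
    rw [e1, e]; group
  · intro e
    have e1 : g * a = h * (h⁻¹ * g * h⁻¹⁻¹ * (h⁻¹ * a * h)) * h⁻¹ := by group
    rw [e1, e]; group

theorem card_centralizer_of_mem_sylow (P : Sylow p (GL2 F)) (a : GL2 F) (ha : a ∈ P) (ha1 : a ≠ 1) :
    Nat.card (Subgroup.centralizer ({a} : Set (GL2 F))) = (Fintype.card F - 1) * Fintype.card F := by
  obtain ⟨h, hh⟩ := exists_conj_sylow P
  have h1 := (hh a).mp ha
  have hne1 : h⁻¹ * a * h ≠ 1 := by
    intro h0
    apply ha1
    have : a = h * (h⁻¹ * a * h) * h⁻¹ := by group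
    rw [this, h0]; group
  obtain ⟨b, hb, hb'⟩ := eq_um_ne_zero_of_mem_U h1 hne1
  rw [card_centralizer_conj a h, hb', card_centralizer_um hb]

/-- elements of order `p` are conjugate to `um 1` -/
theorem isConj_um_one_of_orderOf (g : GL2 F) (hg : orderOf g = p) : IsConj (um (1 : F)) g := by
  have hT : IsPGroup p (Subgroup.zpowers g) := by
    apply IsPGroup.of_card (n := 1)
    rw [Nat.card_zpowers, hg, pow_one]
  obtain ⟨h, hh⟩ := exists_conj_mem_U _ hT
  have h1 := hh g (Subgroup.mem_zpowers g)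
  have hg1 : g ≠ 1 := by
    intro h0
    rw [h0, orderOf_one] at hg
    exact (Fact.out : p.Prime).one_lt.ne hg
  have hne1 : h⁻¹ * g * h ≠ 1 := by
    intro h0
    apply hg1
    have : g = h * (h⁻¹ * g * h) * h⁻¹ := by group
    rw [this, h0]; group
  obtain ⟨b, hb, hb'⟩ := eq_um_ne_zero_of_mem_U h1 hne1
  have hd : mk b 0 0 1 (by simpa using hb) ∈ B F := rfl
  have h2 := conj_um_of_mem_B hd (1 : F)
  simp only [mk_00, mk_11, mul_one, div_one] at h2
  rw [isConj_iff]
  refine ⟨h * mk b 0 0 1 (by simpa using hb), ?_⟩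
  have : g = h * (h⁻¹ * g * h) * h⁻¹ := by group
  rw [this, hb', ← h2]
  group

end sylow

end Cfsg.Agent.Lib.Helper12.GL2
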