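import Mathlib
import Cfsg.Agent.Lib.Helper12.C8
import Cfsg.Agent.S2303

set_option autoImplicit false

namespace Cfsg.Agent.Lib.Helper12.SL2

variable {F : Type*} [Field F]

local notation "SL2" => Matrix.SpecialLinearGroup (Fin 2)
local notation "M2" => Matrix (Fin 2) (Fin 2)

open Matrix.SpecialLinearGroup in
/-- in characteristic two, an element without eigenvector has centralizer of order `q + 1`. -/
theorem card_Tor_of_noeig_char_two [Fintype F] (h2 : (2 : F) = 0) (G : SL2 F)
    (hE : ∀ (c : F) (v : Fin 2 → F), v ≠ 0 → (G : M2 F).mulVec v ≠ c • v) :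
    Nat.card (Tor G) = Fintype.card F + 1 := by
  classical
  have hq : 2 ≤ Fintype.card F := Fintype.one_lt_card
  set G' : GL (Fin 2) F := toGL G with hG'
  set Cg : Subgroup (GL (Fin 2) F) := Subgroup.centralizer ({G'} : Set (GL (Fin 2) F)) with hCg
  have hcardCg : Nat.card Cg = Fintype.card F ^ 2 - 1 :=
    Cfsg.Agent.S2303.card_centralizer_noeig G' hE
  set f : GL (Fin 2) F →* Fˣ := Matrix.GeneralLinearGroup.det with hf
  -- det is surjective on Cg
  have hchar : ringChar F = 2 := by
    have : CharP F 2 := by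
      refine CharTwo.of_one_ne_zero_of_two_eq_zero one_ne_zero h2
    exact ringChar.eq F 2
  have hmap : Cg.map f = ⊤ := by
    rw [eq_top_iff]
    intro d _
    obtain ⟨e, he⟩ := FiniteField.isSquare_of_char_two hchar (d : F)
    have he0 : e ≠ 0 := by
      rintro rfl
      rw [mul_zero] at he
      exact d.ne_zero he
    rw [Subgroup.mem_map]
    refine ⟨Matrix.GeneralLinearGroup.scalar (Fin 2) (Units.mk0 e he0), ?_, ?_⟩
    · rw [hCg, Subgroup.mem_centralizer_singleton_iff]
      have := Matrix.GeneralLinearGroup.scalar_commute (n := Fin 2) (Units.mk0 e he0) G'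
      exact this
    · rw [hf, Matrix.GeneralLinearGroup.det_scalar]
      apply Units.ext
      simp [he, pow_two]
  have hrel : f.ker.relIndex Cg = Fintype.card F - 1 := by
    rw [Subgroup.relIndex_ker, hmap, Subgroup.card_top, Nat.card_units, Nat.card_eq_fintype_card]
  have h1 := (f.ker.subgroupOf Cg).index_mul_card
  have h3 : Nat.card (f.ker.subgroupOf Cg) = Nat.card ((f.ker ⊓ Cg : Subgroup (GL (Fin 2) F))) := by
    rw [← Subgroup.inf_subgroupOf_right]
    exact Nat.card_congr (Subgroup.subgroupOfEquivOfLe inf_le_right).toEquiv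
  have h4 : (Tor G).map toGL = f.ker ⊓ Cg := by
    ext u
    rw [Subgroup.mem_map, Subgroup.mem_inf, MonoidHom.mem_ker]
    constructor
    · rintro ⟨h, hh, rfl⟩
      refine ⟨?_, ?_⟩
      · apply Units.ext
        simp [hf]
      · rw [hCg, Subgroup.mem_centralizer_singleton_iff, hG', ← map_mul, ← map_mul]
        rw [Subgroup.mem_centralizer_singleton_iff] at hh
        rw [hh]
    · rintro ⟨hu1, hu2⟩
      have hdet : (u : M2 F).det = 1 := by
        have := congrArg Units.val hu1
        simpa [hf] using this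
      obtain ⟨h, hh⟩ : ∃ h : SL2 F, (h : M2 F) = (u : M2 F) := ⟨⟨_, hdet⟩, rfl⟩
      refine ⟨h, ?_, ?_⟩
      · rw [Subgroup.mem_centralizer_singleton_iff]
        rw [hCg, Subgroup.mem_centralizer_singleton_iff] at hu2
        apply Subtype.ext
        have := congrArg (fun x : GL (Fin 2) F => (x : M2 F)) hu2
        simp only [Matrix.GeneralLinearGroup.coe_mul] at this
        rw [Matrix.SpecialLinearGroup.coe_mul, Matrix.SpecialLinearGroup.coe_mul, hh]
        exact this
      · apply Units.ext
        exact hh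
  have h5 : Nat.card (Tor G) = Nat.card ((f.ker ⊓ Cg : Subgroup (GL (Fin 2) F))) := by
    rw [← h4]
    exact Nat.card_congr ((Tor G).equivMapOfInjective toGL toGL_injective).toEquiv
  rw [h5, ← h3]
  have h6 : (f.ker.subgroupOf Cg).index = Fintype.card F - 1 := hrel
  rw [h6, hcardCg] at h1
  have e : Fintype.card F ^ 2 - 1 = (Fintype.card F - 1) * (Fintype.card F + 1) := by
    obtain ⟨n, hn⟩ : ∃ n, Fintype.card F = n + 1 := ⟨Fintype.card F - 1, by omega⟩
    rw [hn]; simp only [Nat.add_sub_cancel]; ring_nf; omega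
  rw [e] at h1
  exact Nat.eq_of_mul_eq_mul_left (by omega) h1

end Cfsg.Agent.Lib.Helper12.SL2
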