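import Mathlib
import Cfsg.Agent.S3377
import Cfsg.Agent.Lib.Helper12.ConjOrbit

set_option autoImplicit false
open scoped Pointwise

/-! Counting subgroups isomorphic to `A₅` through `(2,3,5)`-generating pairs. -/

namespace Cfsg.Agent.Lib.Helper12.A5Count

open Cfsg.Agent.Lib.Helper12.ConjOrbit

local notation "A5" => alternatingGroup (Fin 5)

/-- the type of `(2,3,5)`-generating pairs of `A₅` -/
abbrev Q : Type := {p : A5 × A5 // p.1 ^ 3 = 1 ∧ p.2 ^ 5 = 1 ∧ (p.1 * p.2) ^ 2 = 1 ∧ p.1 ≠ 1}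

set_option maxRecDepth 100000 in
theorem card_Q : Fintype.card Q = 120 := by
  decide +kernel

/-- a group generated by `x`, `y` with `x³ = y⁵ = (xy)² = 1`, `x ≠ 1`, is `A₅` -/
theorem closure_equiv {G : Type*} [Group G] (x y : G) (hx : x ^ 3 = 1) (hy : y ^ 5 = 1)
    (hxy : (x * y) ^ 2 = 1) (hx1 : x ≠ 1) :
    Nonempty (Subgroup.closure ({x, y} : Set G) ≃* A5) := by
  obtain ⟨e⟩ := Cfsg.Agent.S3377.result
  let f : Fin 2 → G := ![x, y]
  have hrel : ∀ r ∈ ({FreeGroup.of (0 : Fin 2) ^ 3, FreeGroup.of (1 : Fin 2) ^ 5,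
        (FreeGroup.of (0 : Fin 2) * FreeGroup.of 1) ^ 2} : Set (FreeGroup (Fin 2))),
      FreeGroup.lift f r = 1 := by
    intro r hr
    simp only [Set.mem_insert_iff, Set.mem_singleton_iff] at hr
    rcases hr with rfl | rfl | rfl
    · simp [f, hx]
    · simp [f, hy]
    · simp [f, hxy]
  let φ := PresentedGroup.toGroup hrel
  let ψ : alternatingGroup (Fin 5) →* G := φ.comp e.symm.toMonoidHom
  have hinj : Function.Injective ψ := by
    rw [← MonoidHom.ker_eq_bot_iff]
    rcases (ψ.normal_ker).eq_bot_or_eq_top with h | h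
    · exact h
    · exfalso
      apply hx1
      have h1 : e (PresentedGroup.of 0) ∈ ψ.ker := by rw [h]; trivial
      rw [MonoidHom.mem_ker] at h1
      have h2 : ψ (e (PresentedGroup.of 0)) = x := by
        show φ (e.symm (e (PresentedGroup.of 0))) = x
        rw [MulEquiv.symm_apply_apply]
        show PresentedGroup.toGroup hrel (PresentedGroup.of 0) = x
        rw [PresentedGroup.toGroup.of]
        rfl
      rw [← h2, h1]
  have hrange : ψ.range = Subgroup.closure ({x, y} : Set G) := by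
    have h1 : ψ.range = φ.range := by
      apply le_antisymm
      · rintro _ ⟨a, rfl⟩
        exact ⟨e.symm a, rfl⟩
      · rintro _ ⟨a, rfl⟩
        exact ⟨e a, by show φ (e.symm (e a)) = φ a; rw [MulEquiv.symm_apply_apply]⟩
    rw [h1, MonoidHom.range_eq_map, ← PresentedGroup.closure_range_of, MonoidHom.map_closure]
    congr 1
    ext g
    simp only [Set.mem_image, Set.mem_range, Set.mem_insert_iff, Set.mem_singleton_iff]
    constructor
    · rintro ⟨_, ⟨i, rfl⟩, rfl⟩
      fin_cases i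
      · left
        show PresentedGroup.toGroup hrel (PresentedGroup.of 0) = x
        rw [PresentedGroup.toGroup.of]; rfl
      · right
        show PresentedGroup.toGroup hrel (PresentedGroup.of 1) = y
        rw [PresentedGroup.toGroup.of]; rfl
    · rintro (rfl | rfl)
      · refine ⟨_, ⟨0, rfl⟩, ?_⟩
        show PresentedGroup.toGroup hrel (PresentedGroup.of 0) = _
        rw [PresentedGroup.toGroup.of]; rfl
      · refine ⟨_, ⟨1, rfl⟩, ?_⟩
        show PresentedGroup.toGroup hrel (PresentedGroup.of 1) = _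
        rw [PresentedGroup.toGroup.of]; rfl
  exact ⟨((MonoidHom.ofInjective hinj).trans (MulEquiv.subgroupCongr hrange)).symm⟩


/-- the set of generating pairs -/
def Pset (G : Type*) [Group G] : Set (G × G) :=
  {p | p.1 ^ 3 = 1 ∧ p.2 ^ 5 = 1 ∧ (p.1 * p.2) ^ 2 = 1 ∧ p.1 ≠ 1}

/-- the set of subgroups isomorphic to `A₅` -/
def AA (G : Type*) [Group G] : Set (Subgroup G) := {H | Nonempty (H ≃* A5)}

variable {G : Type*} [Group G]

theorem closure_mem (p : G × G) (hp : p ∈ Pset G) :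
    Subgroup.closure ({p.1, p.2} : Set G) ∈ AA G := by
  obtain ⟨h1, h2, h3, h4⟩ := hp
  exact closure_equiv p.1 p.2 h1 h2 h3 h4

theorem card_A5 : Nat.card A5 = 60 := by
  rw [Nat.card_eq_fintype_card]
  decide +kernel

theorem card_of_mem (H : Subgroup G) (hH : H ∈ AA G) : Nat.card H = 60 := by
  obtain ⟨e⟩ := hH
  rw [Nat.card_congr e.toEquiv, card_A5]

theorem closure_eq_of_mem [Finite G] (H : Subgroup G) (hH : H ∈ AA G) (p : G × G)
    (hp : p ∈ Pset G) (h1 : p.1 ∈ H) (h2 : p.2 ∈ H) :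
    Subgroup.closure ({p.1, p.2} : Set G) = H := by
  apply Subgroup.eq_of_le_of_card_ge
  · rw [Subgroup.closure_le]
    intro x hx
    simp only [Set.mem_insert_iff, Set.mem_singleton_iff] at hx
    rcases hx with rfl | rfl
    · exact h1
    · exact h2
  · rw [card_of_mem H hH, card_of_mem _ (closure_mem p hp)]

theorem card_fibre [Finite G] (H : Subgroup G) (hH : H ∈ AA G) :
    Nat.card {p : Pset G // Subgroup.closure ({p.1.1, p.1.2} : Set G) = H} = 120 := by
  obtain ⟨e⟩ := hH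
  rw [← card_Q, ← Nat.card_eq_fintype_card]
  apply Nat.card_congr
  have hm1 : ∀ p : {p : Pset G // Subgroup.closure ({p.1.1, p.1.2} : Set G) = H}, p.1.1.1 ∈ H := by
    rintro ⟨p, hp⟩
    show p.1.1 ∈ H
    rw [← hp]
    exact Subgroup.subset_closure (Set.mem_insert _ _)
  have hm2 : ∀ p : {p : Pset G // Subgroup.closure ({p.1.1, p.1.2} : Set G) = H}, p.1.1.2 ∈ H := by
    rintro ⟨p, hp⟩
    show p.1.2 ∈ H
    rw [← hp]
    exact Subgroup.subset_closure (Set.mem_insert_of_mem _ rfl)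
  have hq : ∀ q : Q, ((e.symm q.1.1 : G), (e.symm q.1.2 : G)) ∈ Pset G := by
    intro q
    obtain ⟨h1, h2, h3, h4⟩ := q.2
    refine ⟨?_, ?_, ?_, ?_⟩
    · show ((e.symm q.1.1 : H) : G) ^ 3 = 1
      have : (e.symm q.1.1) ^ 3 = 1 := by rw [← map_pow, h1, map_one]
      have := congrArg Subtype.val this
      simpa using this
    · show ((e.symm q.1.2 : H) : G) ^ 5 = 1
      have : (e.symm q.1.2) ^ 5 = 1 := by rw [← map_pow, h2, map_one]
      have := congrArg Subtype.val this
      simpa using this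
    · show (((e.symm q.1.1 : H) : G) * ((e.symm q.1.2 : H) : G)) ^ 2 = 1
      have : (e.symm q.1.1 * e.symm q.1.2) ^ 2 = 1 := by rw [← map_mul, ← map_pow, h3, map_one]
      have := congrArg Subtype.val this
      simpa using this
    · show ((e.symm q.1.1 : H) : G) ≠ 1
      intro h
      apply h4
      have : e.symm q.1.1 = 1 := Subtype.ext h
      rw [← e.apply_symm_apply q.1.1, this, map_one]
  refine ⟨fun p => ⟨(e ⟨p.1.1.1, hm1 p⟩, e ⟨p.1.1.2, hm2 p⟩), ?_, ?_, ?_, ?_⟩,
    fun q => ⟨⟨((e.symm q.1.1 : G), (e.symm q.1.2 : G)), ?_⟩, ?_⟩, ?_, ?_⟩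
  · obtain ⟨h1, h2, h3, h4⟩ := p.1.2
    show e _ ^ 3 = 1
    rw [← map_pow]
    have : (⟨p.1.1.1, hm1 p⟩ : H) ^ 3 = 1 := Subtype.ext (by simpa using h1)
    rw [this, map_one]
  · obtain ⟨h1, h2, h3, h4⟩ := p.1.2
    show e _ ^ 5 = 1
    rw [← map_pow]
    have : (⟨p.1.1.2, hm2 p⟩ : H) ^ 5 = 1 := Subtype.ext (by simpa using h2)
    rw [this, map_one]
  · obtain ⟨h1, h2, h3, h4⟩ := p.1.2
    show (e _ * e _) ^ 2 = 1
    rw [← map_mul, ← map_pow]
    have : ((⟨p.1.1.1, hm1 p⟩ : H) * ⟨p.1.1.2, hm2 p⟩) ^ 2 = 1 := Subtype.ext (by simpa using h3)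
    rw [this, map_one]
  · obtain ⟨h1, h2, h3, h4⟩ := p.1.2
    show e _ ≠ 1
    intro h
    have : (⟨p.1.1.1, hm1 p⟩ : H) = 1 := by
      apply e.injective; rw [h, map_one]
    exact h4 (congrArg Subtype.val this)
  · exact hq q
  · exact closure_eq_of_mem H ⟨e⟩ _ (hq q) (e.symm q.1.1).2 (e.symm q.1.2).2
  · intro p
    apply Subtype.ext
    apply Subtype.ext
    simp
  · intro q
    apply Subtype.ext
    simp

theorem card_Pset [Finite G] : Nat.card (Pset G) = 120 * Nat.card (AA G) := by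
  classical
  let _ : Fintype (AA G) := Fintype.ofFinite _
  let f : Pset G → AA G := fun p => ⟨Subgroup.closure ({p.1.1, p.1.2} : Set G), closure_mem p.1 p.2⟩
  rw [← Nat.card_congr (Equiv.sigmaFiberEquiv f), Nat.card_sigma]
  have : ∀ H : AA G, Nat.card {p : Pset G // f p = H} = 120 := by
    intro H
    rw [← card_fibre H.1 H.2]
    apply Nat.card_congr
    apply Equiv.subtypeEquivRight
    intro p
    exact Subtype.ext_iff
  simp only [this, Finset.sum_const, Finset.card_univ, smul_eq_mul, Nat.card_eq_fintype_card]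
  ring


theorem mem_conjugates_iff (H W : Subgroup G) : W ∈ conjugates H ↔ ∃ g : G, MulAut.conj g • H = W := by
  constructor
  · rintro ⟨g, rfl⟩
    exact ⟨g, rfl⟩
  · rintro ⟨g, rfl⟩
    exact ⟨g, rfl⟩

theorem two_classes [Finite G] (S : Set (Subgroup G)) (hS : S.ncard = 22)
    (hconj : ∀ H ∈ S, ∀ g : G, MulAut.conj g • H ∈ S)
    (horb : ∀ H ∈ S, (conjugates H).ncard = 11) :
    ∃ H K : Subgroup G, H ∈ S ∧ K ∈ S ∧ (∀ g : G, MulAut.conj g • H ≠ K) ∧
      ∀ L ∈ S, ∃ g : G, MulAut.conj g • L = H ∨ MulAut.conj g • L = K := by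
  have hSne : S.Nonempty := by
    rw [← Set.ncard_pos, hS]; norm_num
  obtain ⟨H, hH⟩ := hSne
  have hsubH : conjugates H ⊆ S := by
    rintro W hW
    obtain ⟨g, rfl⟩ := (mem_conjugates_iff H W).mp hW
    exact hconj H hH g
  obtain ⟨K, hK, hKH⟩ := Set.exists_mem_notMem_of_ncard_lt_ncard
    (by rw [horb H hH, hS]; norm_num : (conjugates H).ncard < S.ncard) (Set.toFinite _)
  have hsubK : conjugates K ⊆ S := by
    rintro W hW
    obtain ⟨g, rfl⟩ := (mem_conjugates_iff K W).mp hW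
    exact hconj K hK g
  have hdisj : Disjoint (conjugates H) (conjugates K) := by
    rw [Set.disjoint_left]
    intro W hW1 hW2
    obtain ⟨g, rfl⟩ := (mem_conjugates_iff H W).mp hW1
    obtain ⟨g', hg'⟩ := (mem_conjugates_iff K _).mp hW2
    apply hKH
    rw [mem_conjugates_iff]
    refine ⟨g'⁻¹ * g, ?_⟩
    rw [map_mul, mul_smul, ← hg', map_inv, inv_smul_smul]
  have hunion : conjugates H ∪ conjugates K = S := by
    apply Set.eq_of_subset_of_ncard_le (Set.union_subset hsubH hsubK) _ (Set.toFinite _)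
    rw [Set.ncard_union_eq hdisj (Set.toFinite _) (Set.toFinite _), horb H hH, horb K hK, hS]
  refine ⟨H, K, hH, hK, ?_, ?_⟩
  · intro g hg
    apply hKH
    rw [mem_conjugates_iff]
    exact ⟨g, hg⟩
  · intro L hL
    rw [← hunion] at hL
    rcases hL with hL | hL
    · obtain ⟨g, rfl⟩ := (mem_conjugates_iff H L).mp hL
      exact ⟨g⁻¹, Or.inl (by rw [map_inv, inv_smul_smul])⟩
    · obtain ⟨g, rfl⟩ := (mem_conjugates_iff K L).mp hL
      exact ⟨g⁻¹, Or.inr (by rw [map_inv, inv_smul_smul])⟩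

theorem card_normalizer [Finite G] [IsSimpleGroup G] (hG : Nat.card G = 660) (H : Subgroup G)
    (hH : Nat.card H = 60) : Nat.card (Subgroup.normalizer (H : Set G)) = 60 := by
  have h1 : Nat.card H ∣ Nat.card (Subgroup.normalizer (H : Set G)) :=
    Subgroup.card_dvd_of_le Subgroup.le_normalizer
  have h2 : Nat.card (Subgroup.normalizer (H : Set G)) ∣ Nat.card G := Subgroup.card_subgroup_dvd_card _
  rw [hH] at h1
  rw [hG] at h2
  obtain ⟨k, hk⟩ := h1
  rw [hk] at h2 ⊢
  have hk11 : k ∣ 11 := by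
    have : 60 * k ∣ 60 * 11 := h2
    exact Nat.dvd_of_mul_dvd_mul_left (by norm_num) this
  rcases (Nat.dvd_prime (by norm_num : Nat.Prime 11)).mp hk11 with rfl | rfl
  · rfl
  · exfalso
    have htop : Subgroup.normalizer (H : Set G) = ⊤ := by
      apply Subgroup.eq_top_of_card_eq
      rw [hk, hG]
    have hn : H.Normal := Subgroup.normalizer_eq_top_iff.mp htop
    rcases hn.eq_bot_or_eq_top with h | h
    · rw [h, Subgroup.card_bot] at hH; norm_num at hH
    · rw [h, Subgroup.card_top, hG] at hH; norm_num at hH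


/-- the trace condition for elements of order five in `PSL₂` -/
def RR {K : Type*} [Ring K] (t : K) : Prop := t ^ 2 + t - 1 = 0 ∨ t ^ 2 - t - 1 = 0

instance decRR : DecidablePred (RR (K := ZMod 11)) := fun t => by unfold RR; infer_instance

/-- the conic condition -/
def CC {K : Type*} [Ring K] (p : K × K × K) : Prop :=
  -p.1 ^ 2 - p.2.1 * p.2.2 = 1 ∧ RR (p.2.2 - p.1 - p.2.1)

instance decCC : DecidablePred (CC (K := ZMod 11)) := fun t => by unfold CC; infer_instance

theorem card_CC_zmod : Fintype.card {p : ZMod 11 × ZMod 11 × ZMod 11 // CC p} = 48 := by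
  decide +kernel

theorem CC_map {K L : Type*} [Ring K] [Ring L] (φ : K ≃+* L) (p : K × K × K) :
    CC (φ p.1, φ p.2.1, φ p.2.2) ↔ CC p := by
  unfold CC RR
  simp only
  rw [← φ.injective.eq_iff (a := -p.1 ^ 2 - p.2.1 * p.2.2), ← φ.injective.eq_iff (a := (p.2.2 - p.1 - p.2.1) ^ 2 + (p.2.2 - p.1 - p.2.1) - 1), ← φ.injective.eq_iff (a := (p.2.2 - p.1 - p.2.1) ^ 2 - (p.2.2 - p.1 - p.2.1) - 1)]
  simp only [map_sub, map_neg, map_pow, map_mul, map_one, map_add, map_zero]

theorem card_CC {F : Type*} [Field F] [Fintype F] (hF : Fintype.card F = 11) :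
    Nat.card {p : F × F × F // CC p} = 48 := by
  have : Fact (Nat.Prime 11) := ⟨by norm_num⟩
  let φ : F ≃+* ZMod 11 := (ZMod.ringEquivOfPrime F (by norm_num) hF).symm
  rw [← card_CC_zmod, ← Nat.card_eq_fintype_card]
  apply Nat.card_congr
  refine Equiv.subtypeEquiv (Equiv.prodCongr φ.toEquiv (Equiv.prodCongr φ.toEquiv φ.toEquiv)) ?_
  intro p
  exact (CC_map φ p).symm


end Cfsg.Agent.Lib.Helper12.A5Count
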