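import Mathlib

/-! The affine group `K ⋊ Kˣ` of a field as an explicit structure, the orders of its elements, and
its subgroups `K ⋊ ⟨a⟩`. -/

set_option autoImplicit false

namespace Cfsg.Agent.Lib.Helper12.AffLine

/-- affine maps `x ↦ a x + v` -/
structure Aff (K : Type*) [Field K] where
  /-- translation part -/
  v : K
  /-- linear part -/
  a : Kˣ

namespace Aff

variable {K : Type*} [Field K]

theorem ext' {x y : Aff K} (hv : x.v = y.v) (ha : x.a = y.a) : x = y := by
  cases x; cases y; simp_all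

instance : Mul (Aff K) := ⟨fun x y => ⟨x.v + (x.a : K) * y.v, x.a * y.a⟩⟩
instance : One (Aff K) := ⟨⟨0, 1⟩⟩
instance : Inv (Aff K) := ⟨fun x => ⟨-(((x.a⁻¹ : Kˣ) : K) * x.v), x.a⁻¹⟩⟩

@[simp] theorem mul_v (x y : Aff K) : (x * y).v = x.v + (x.a : K) * y.v := rfl
@[simp] theorem mul_a (x y : Aff K) : (x * y).a = x.a * y.a := rfl
@[simp] theorem one_v : (1 : Aff K).v = 0 := rfl
@[simp] theorem one_a : (1 : Aff K).a = 1 := rfl
@[simp] theorem inv_v (x : Aff K) : (x⁻¹).v = -(((x.a⁻¹ : Kˣ) : K) * x.v) := rfl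
@[simp] theorem inv_a (x : Aff K) : (x⁻¹).a = x.a⁻¹ := rfl

instance : Group (Aff K) where
  mul_assoc x y z := by
    apply ext'
    · simp only [mul_v, mul_a, Units.val_mul]; ring
    · simp only [mul_a, mul_assoc]
  one_mul x := by
    apply ext' <;> simp
  mul_one x := by
    apply ext' <;> simp
  inv_mul_cancel x := by
    apply ext'
    · simp
    · simp

theorem pow_a (x : Aff K) (n : ℕ) : (x ^ n).a = x.a ^ n := by
  induction n with
  | zero => simp
  | succ n ih => rw [pow_succ, mul_a, ih, pow_succ]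

theorem pow_v (x : Aff K) (n : ℕ) :
    (x ^ n).v = (∑ i ∈ Finset.range n, (x.a : K) ^ i) * x.v := by
  induction n with
  | zero => simp
  | succ n ih =>
    rw [pow_succ, mul_v, ih, pow_a, Finset.sum_range_succ, Units.val_pow_eq_pow_val]
    ring

/-- translations have order dividing the characteristic -/
theorem pow_char_eq_one (p : ℕ) [CharP K p] (x : Aff K) (hx : x.a = 1) : x ^ p = 1 := by
  apply ext'
  · rw [pow_v, hx]
    simp
  · rw [pow_a, hx, one_pow]; rfl

theorem pow_eq_one_iff (x : Aff K) (hx : x.a ≠ 1) (n : ℕ) : x ^ n = 1 ↔ x.a ^ n = 1 := by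
  constructor
  · intro h
    rw [← pow_a, h]; rfl
  · intro h
    apply ext'
    · rw [pow_v]
      have hne : (x.a : K) - 1 ≠ 0 := by
        intro h0
        apply hx
        apply Units.ext
        rw [Units.val_one]
        exact sub_eq_zero.mp h0
      have hg := geom_sum_mul (x.a : K) n
      have h' : (x.a : K) ^ n = 1 := by
        rw [← Units.val_pow_eq_pow_val, h, Units.val_one]
      rw [h', sub_self] at hg
      rcases mul_eq_zero.mp hg with h0 | h0
      · rw [h0, zero_mul]; rfl
      · exact absurd h0 hne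
    · rw [pow_a, h]; rfl

theorem orderOf_eq (x : Aff K) (hx : x.a ≠ 1) : orderOf x = orderOf x.a := by
  rw [orderOf_eq_orderOf_iff]
  intro n
  exact pow_eq_one_iff x hx n

/-- the projection onto the linear part -/
def proj : Aff K →* Kˣ where
  toFun x := x.a
  map_one' := rfl
  map_mul' _ _ := rfl

/-- the translations -/
def trans : Multiplicative K →* Aff K where
  toFun v := ⟨Multiplicative.toAdd v, 1⟩
  map_one' := rfl
  map_mul' v w := by
    apply ext' <;> simp

/-- the homotheties -/
def homo : Kˣ →* Aff K where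
  toFun c := ⟨0, c⟩
  map_one' := rfl
  map_mul' c d := by
    apply ext' <;> simp

theorem homo_injective : Function.Injective (homo : Kˣ →* Aff K) := by
  intro c d h
  exact congrArg Aff.a h

instance : Group.IsSolvable (Aff K) := by
  apply solvable_of_ker_le_range (trans : Multiplicative K →* Aff K) (proj : Aff K →* Kˣ)
  intro x hx
  rw [MonoidHom.mem_ker] at hx
  refine ⟨Multiplicative.ofAdd x.v, ?_⟩
  apply ext'
  · rfl
  · exact hx.symm

instance [Finite K] : Finite (Aff K) :=
  Finite.of_injective (fun x : Aff K => (x.v, x.a)) (by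
    intro x y h
    simp only [Prod.mk.injEq] at h
    exact ext' h.1 h.2)

/-- the subgroup `K ⋊ ⟨a₀⟩` -/
def sub (a₀ : Kˣ) : Subgroup (Aff K) := (Subgroup.zpowers a₀).comap proj

theorem mem_sub (a₀ : Kˣ) (x : Aff K) : x ∈ sub a₀ ↔ x.a ∈ Subgroup.zpowers a₀ := Iff.rfl

/-- the spectrum of `K ⋊ ⟨a₀⟩` -/
theorem range_orderOf_sub (p : ℕ) [Fact p.Prime] [CharP K p] (a₀ : Kˣ) (ha₀ : orderOf a₀ ≠ 0) :
    Set.range (orderOf : sub a₀ → ℕ) = {n : ℕ | n ∣ p ∨ n ∣ orderOf a₀} := by
  ext n
  simp only [Set.mem_range, Set.mem_setOf_eq]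
  constructor
  · rintro ⟨⟨x, hx⟩, rfl⟩
    rw [Subgroup.orderOf_mk]
    by_cases h1 : x.a = 1
    · left
      exact orderOf_dvd_of_pow_eq_one (pow_char_eq_one p x h1)
    · right
      rw [orderOf_eq x h1]
      exact orderOf_dvd_of_mem_zpowers ((mem_sub a₀ x).mp hx)
  · rintro (h | h)
    · rcases (Nat.dvd_prime Fact.out).mp h with rfl | rfl
      · exact ⟨1, orderOf_one⟩
      · refine ⟨⟨⟨1, 1⟩, ?_⟩, ?_⟩
        · rw [mem_sub]; exact Subgroup.one_mem _
        · rw [Subgroup.orderOf_mk]
          apply orderOf_eq_prime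
          · exact pow_char_eq_one n _ rfl
          · intro h1
            have := congrArg Aff.v h1
            simp at this
    · refine ⟨⟨homo (a₀ ^ (orderOf a₀ / n)), ?_⟩, ?_⟩
      · rw [mem_sub]
        exact Subgroup.pow_mem _ (Subgroup.mem_zpowers a₀) _
      · rw [Subgroup.orderOf_mk, orderOf_injective homo homo_injective]
        exact orderOf_pow_orderOf_div ha₀ h

end Aff

end Cfsg.Agent.Lib.Helper12.AffLine
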