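import Mathlib
import Cfsg.Agent.S5077
import Cfsg.Agent.Lib.Helper29.OmegaNormal
import Cfsg.Agent.Lib.Helper29.ExtendableAut

/-!
# Fusion-system form of the Camina--Herzog criterion (helper12), part A

`F` a saturated fusion system on a finite 2-group `S`.
* `aut_eq_one_of_sq`: a subgroup `A ≤ Z(S)` has an automizer of odd order: an `F`-automorphism of `A`
  with trivial square is trivial.
* `exists_ext_central`: a map `⟨x⟩ → Z(S)` of the system extends to `C_S(x)`.
* `no_inv_fusion`: an element `s ∈ S` inducing an involutory automorphism on a subgroup `B`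
  which some map of the system sends into `Z(S)` centralizes `B`.
-/

set_option autoImplicit false
set_option maxHeartbeats 1000000

namespace Cfsg.Agent.Lib.Helper12.CH

open Cfsg Cfsg.Agent.Lib.Helper29

variable {Ω : Type*} [Group Ω] {S : Subgroup Ω}

/-- the centre of `S`, as a subgroup of the ambient group -/
def ZS (S : Subgroup Ω) : Subgroup Ω := S ⊓ Subgroup.centralizer (S : Set Ω)

theorem mem_ZS {z : Ω} : z ∈ ZS S ↔ z ∈ S ∧ ∀ g ∈ S, g * z = z * g := by
  unfold ZS
  rw [Subgroup.mem_inf, Subgroup.mem_centralizer_iff]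
  rfl

/-- the automizer in `F` of a subgroup of `Z(S)` has odd order -/
theorem aut_eq_one_of_sq [Finite S] (hS : IsPGroup 2 S) (F : FusionSystem S) (hF : F.IsSaturated 2)
    {A : Subgroup Ω} (hA : A ≤ ZS S) {γ : MulAut A} (hγ : γ ∈ F.autGroup A) (hγ2 : γ * γ = 1) :
    γ = 1 := by
  haveI : Fact (Nat.Prime 2) := ⟨Nat.prime_two⟩
  have hAS : A ≤ S := fun a ha => (hA ha).1
  haveI : Finite A := finite_of_le hAS
  have hSC : S ≤ Subgroup.centralizer (A : Set Ω) := by
    intro g hg
    rw [Subgroup.mem_centralizer_iff]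
    intro a ha
    exact ((mem_ZS.1 (hA ha)).2 g hg).symm
  have hNA : FusionSystem.normalizerIn S A = S :=
    le_antisymm inf_le_left (fun g hg => ⟨hg, Subgroup.centralizer_le_normalizer _ (hSC hg)⟩)
  have hfn : F.IsFullyNormalized A := by
    refine ⟨hAS, fun Q _ => ?_⟩
    rw [hNA]
    exact Subgroup.card_le_of_le (inf_le_left : FusionSystem.normalizerIn S Q ≤ S)
  obtain ⟨_, R, hR⟩ := (((Cfsg.Agent.S5077.result 2 hS F).1 hF).1 A hfn).2
  have hbot : autInducedBy S A = ⊥ := by
    unfold autInducedBy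
    rw [Subgroup.closure_eq_bot_iff]
    rintro α ⟨g, hg, hα⟩
    rw [Set.mem_singleton_iff]
    apply MulEquiv.ext
    intro x
    apply Subtype.ext
    rw [hα x, MulAut.one_apply]
    have := (mem_ZS.1 (hA x.2)).2 g hg
    rw [this, mul_inv_cancel_right]
  have hRbot : (R : Subgroup (F.autGroup A)) = ⊥ := by
    rw [hR, hbot]
    exact Subgroup.bot_subgroupOf _
  have hcard : Nat.card (R : Subgroup (F.autGroup A)) = 1 := by
    rw [hRbot]; exact Subgroup.card_bot
  have hmult := R.card_eq_multiplicity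
  have h2 : ¬ 2 ∣ Nat.card (F.autGroup A) := by
    intro hdvd
    have hpos : 0 < (Nat.card (F.autGroup A)).factorization 2 :=
      Nat.Prime.factorization_pos_of_dvd Nat.prime_two Nat.card_pos.ne' hdvd
    rw [hcard] at hmult
    have h3 : 2 ^ 1 ≤ 2 ^ (Nat.card (F.autGroup A)).factorization 2 :=
      Nat.pow_le_pow_right (by norm_num) hpos
    omega
  have hpow : (⟨γ, hγ⟩ : F.autGroup A) ^ 2 = 1 := by
    apply Subtype.ext
    show γ ^ 2 = 1
    rw [pow_two]; exact hγ2
  have hord : orderOf (⟨γ, hγ⟩ : F.autGroup A) ∣ 2 := orderOf_dvd_of_pow_eq_one hpow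
  rcases (Nat.dvd_prime Nat.prime_two).1 hord with h1 | h1
  · have := orderOf_eq_one_iff.1 h1
    exact congrArg Subtype.val this
  · exfalso
    apply h2
    rw [← h1]
    exact orderOf_dvd_natCard _

/-- a map of the system sending `x` into `Z(S)` extends to `C_S(x)` -/
theorem exists_ext_central [Finite S] (hS : IsPGroup 2 S) (F : FusionSystem S) (hF : F.IsSaturated 2)
    {x z : Ω} (hz : z ∈ ZS S) {φ : Subgroup.zpowers x →* Ω} (hφ : φ ∈ F.Hom (Subgroup.zpowers x))
    (hφx : φ ⟨x, Subgroup.mem_zpowers x⟩ = z) :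
    ∃ ψ ∈ F.Hom (FusionSystem.centralizerIn S (Subgroup.zpowers x)),
      ∀ (hx : x ∈ FusionSystem.centralizerIn S (Subgroup.zpowers x)), ψ ⟨x, hx⟩ = z := by
  haveI : Fact (Nat.Prime 2) := ⟨Nat.prime_two⟩
  have hr : φ.range = Subgroup.zpowers z := by
    ext y
    constructor
    · rintro ⟨a, rfl⟩
      obtain ⟨k, hk⟩ := Subgroup.mem_zpowers_iff.1 a.2
      have : a = (⟨x, Subgroup.mem_zpowers x⟩ : Subgroup.zpowers x) ^ k := by
        apply Subtype.ext
        rw [Subgroup.coe_zpow]
        exact hk.symm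
      rw [this, map_zpow, hφx]
      exact Subgroup.zpow_mem_zpowers z k
    · intro hy
      obtain ⟨k, rfl⟩ := Subgroup.mem_zpowers_iff.1 hy
      exact ⟨⟨x, Subgroup.mem_zpowers x⟩ ^ k, by rw [map_zpow, hφx]⟩
  have hAZ : Subgroup.zpowers z ≤ ZS S := by rw [Subgroup.zpowers_le]; exact hz
  have hAS : Subgroup.zpowers z ≤ S := fun a ha => (hAZ ha).1
  have hCA : FusionSystem.centralizerIn S (Subgroup.zpowers z) = S := by
    apply le_antisymm inf_le_left
    intro g hg
    refine ⟨hg, ?_⟩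
    show g ∈ Subgroup.centralizer ((Subgroup.zpowers z : Subgroup Ω) : Set Ω)
    rw [Subgroup.mem_centralizer_iff]
    intro a ha
    exact ((mem_ZS.1 (hAZ ha)).2 g hg).symm
  have hfc : F.IsFullyCentralized (Subgroup.zpowers z) := by
    refine ⟨hAS, fun Q _ => ?_⟩
    rw [hCA]
    exact Subgroup.card_le_of_le (inf_le_left : FusionSystem.centralizerIn S Q ≤ S)
  have hrec := ((Cfsg.Agent.S5077.result 2 hS F).1 hF).2 _ hfc
  obtain ⟨ψ, hψ, hψe⟩ := hrec.2 _ φ hφ hr
  have hle := centralizerIn_le_extender (S := S) (Subgroup.zpowers x) φ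
  refine ⟨ψ.comp (Subgroup.inclusion hle), restrict_mem F hle hψ, fun hx => ?_⟩
  have := hψe x (Subgroup.mem_zpowers x) (hle hx)
  rw [← hφx, ← this]
  rfl

end Cfsg.Agent.Lib.Helper12.CH
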