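import Mathlib
import Cfsg.Agent.Lib.Helper12.CHA

/-!
# Fusion-system form of the Camina--Herzog criterion (helper12), part B

`no_inv_fusion`: if a map `ψ` of a saturated fusion system on a 2-group `S` sends the subgroup `B`
generated by `T` into `Z(S)`, and `s ∈ S` normalizes `B` with `s²` centralizing `B`, then `s`
centralizes `B`.
-/

set_option autoImplicit false
set_option maxHeartbeats 1000000

namespace Cfsg.Agent.Lib.Helper12.CH

open Cfsg Cfsg.Agent.Lib.Helper29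

variable {Ω : Type*} [Group Ω] {S : Subgroup Ω}

theorem no_inv_fusion [Finite S] (hS : IsPGroup 2 S) (F : FusionSystem S) (hF : F.IsSaturated 2)
    {C : Subgroup Ω} {ψ : C →* Ω} (hψ : ψ ∈ F.Hom C) (T : Set Ω) (hTC : T ⊆ C) {s : Ω} (hs : s ∈ S)
    (h1 : ∀ t ∈ T, s * t * s⁻¹ ∈ Subgroup.closure T)
    (h2 : ∀ t (ht : t ∈ T), ψ ⟨t, hTC ht⟩ ∈ ZS S)
    (h3 : ∀ t ∈ T, s * (s * t * s⁻¹) * s⁻¹ = t) :
    ∀ t ∈ T, s * t * s⁻¹ = t := by
  haveI : Fact (Nat.Prime 2) := ⟨Nat.prime_two⟩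
  have hCS : C ≤ S := le_of_hom_mem F hψ
  obtain ⟨B, hBdef⟩ : ∃ B : Subgroup Ω, B = Subgroup.closure T := ⟨_, rfl⟩
  have hclC : Subgroup.closure T ≤ C := (Subgroup.closure_le C).2 hTC
  have hBC : B ≤ C := by rw [hBdef]; exact hclC
  have hBS : B ≤ S := hBC.trans hCS
  haveI : Finite B := finite_of_le hBS
  have hTB : T ⊆ B := by rw [hBdef]; exact Subgroup.subset_closure
  -- `s` normalizes `B`
  have ha : ∀ b ∈ B, s * b * s⁻¹ ∈ B := by
    intro b hb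
    rw [hBdef] at hb ⊢
    induction hb using Subgroup.closure_induction with
    | mem t ht => exact h1 t ht
    | one => rw [mul_one, mul_inv_cancel]; exact Subgroup.one_mem _
    | mul a b _ _ iha ihb =>
      have : s * (a * b) * s⁻¹ = (s * a * s⁻¹) * (s * b * s⁻¹) := by group
      rw [this]; exact Subgroup.mul_mem _ iha ihb
    | inv a _ iha =>
      have : s * a⁻¹ * s⁻¹ = (s * a * s⁻¹)⁻¹ := by group
      rw [this]; exact Subgroup.inv_mem _ iha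
  -- `s²` centralizes `B`
  have hb : ∀ b ∈ B, s * (s * b * s⁻¹) * s⁻¹ = b := by
    intro b hb
    rw [hBdef] at hb
    induction hb using Subgroup.closure_induction with
    | mem t ht => exact h3 t ht
    | one => group
    | mul a b _ _ iha ihb =>
      have : s * (s * (a * b) * s⁻¹) * s⁻¹ =
          (s * (s * a * s⁻¹) * s⁻¹) * (s * (s * b * s⁻¹) * s⁻¹) := by
        simp only [mul_assoc, inv_mul_cancel_left]
      rw [this, iha, ihb]
    | inv a _ iha =>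
      have : s * (s * a⁻¹ * s⁻¹) * s⁻¹ = (s * (s * a * s⁻¹) * s⁻¹)⁻¹ := by
        simp only [mul_inv_rev, inv_inv, mul_assoc]
      rw [this, iha]
  -- `ψ` maps `B` into `Z(S)`
  have key : ∀ b ∈ Subgroup.closure T, ∀ hbC : b ∈ C, ψ ⟨b, hbC⟩ ∈ ZS S := by
    intro b hb
    induction hb using Subgroup.closure_induction with
    | mem t ht => intro hbC; exact h2 t ht
    | one =>
      intro hbC
      have : (⟨1, hbC⟩ : C) = 1 := rfl
      rw [this, map_one]; exact (ZS S).one_mem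
    | mul a b haT hbT iha ihb =>
      intro habC
      have haC : a ∈ C := hclC haT
      have hbC : b ∈ C := hclC hbT
      have : (⟨a * b, habC⟩ : C) = ⟨a, haC⟩ * ⟨b, hbC⟩ := rfl
      rw [this, map_mul]
      exact (ZS S).mul_mem (iha haC) (ihb hbC)
    | inv a haT iha =>
      intro haC'
      have haC : a ∈ C := hclC haT
      have : (⟨a⁻¹, haC'⟩ : C) = (⟨a, haC⟩)⁻¹ := rfl
      rw [this, map_inv]
      exact (ZS S).inv_mem (iha haC)
  have hc : ∀ b (hb : b ∈ B), ψ ⟨b, hBC hb⟩ ∈ ZS S := by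
    intro b hb
    exact key b (by rw [← hBdef]; exact hb) _
  obtain ⟨ψB, hψBdef⟩ : ∃ ψB : B →* Ω, ψB = ψ.comp (Subgroup.inclusion hBC) := ⟨_, rfl⟩
  have hψB : ψB ∈ F.Hom B := by rw [hψBdef]; exact restrict_mem F hBC hψ
  have hψBv : ∀ b : B, ψB b = ψ ⟨b, hBC b.2⟩ := by intro b; rw [hψBdef]; rfl
  have hinj : Function.Injective ψB := F.injective_of_mem hψB
  have hAZ : ψB.range ≤ ZS S := by
    rintro _ ⟨b, rfl⟩
    rw [hψBv]; exact hc b b.2
  have hA'S : ψB.range ≤ S := fun a ha => (hAZ ha).1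
  haveI : Finite ψB.range := finite_of_le hA'S
  obtain ⟨ι, hι, hιv⟩ := exists_inv_iso F hψB rfl
  have hιB : ∀ a : ψB.range, ι a ∈ B := by
    rintro ⟨_, b, rfl⟩
    have h := hιv b ⟨b, rfl⟩
    show ι ⟨ψB b, ⟨b, rfl⟩⟩ ∈ B
    rw [h]; exact b.2
  have hcs : conjHom B s ∈ F.Hom B := F.conj_mem hBS hs
  have hcsB : ∀ b : B, conjHom B s b ∈ B := fun b => ha b b.2
  have hχ2 := F.comp_mem hι hcs hιB
  have hχ2B : ∀ a : ψB.range, ((conjHom B s).comp (ι.codRestrict B hιB)) a ∈ B := fun a => hcsB _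
  have hθ := F.comp_mem hχ2 hψB hχ2B
  have hθr : ∀ a : ψB.range,
      (ψB.comp (((conjHom B s).comp (ι.codRestrict B hιB)).codRestrict B hχ2B)) a ∈ ψB.range :=
    fun a => ⟨_, rfl⟩
  obtain ⟨γ, hγ, hγv⟩ := exists_aut_of_hom F hθ hθr
  have hval : ∀ b : B, ((γ ⟨ψB b, ⟨b, rfl⟩⟩ : ψB.range) : Ω) = ψB ⟨s * b * s⁻¹, ha b b.2⟩ := by
    intro b
    rw [hγv]
    show ψB ⟨conjHom B s ⟨ι ⟨ψB b, _⟩, _⟩, _⟩ = _
    congr 1
    apply Subtype.ext
    show s * (ι ⟨ψB b, ⟨b, rfl⟩⟩) * s⁻¹ = s * b * s⁻¹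
    rw [hιv b ⟨b, rfl⟩]
  have hγ2 : γ * γ = 1 := by
    apply MulEquiv.ext
    rintro ⟨_, b, rfl⟩
    apply Subtype.ext
    rw [MulAut.mul_apply, MulAut.one_apply]
    have e1 : γ ⟨ψB b, ⟨b, rfl⟩⟩ = ⟨ψB ⟨s * b * s⁻¹, ha b b.2⟩, ⟨_, rfl⟩⟩ := Subtype.ext (hval b)
    rw [e1, hval ⟨s * b * s⁻¹, ha b b.2⟩]
    congr 1
    apply Subtype.ext
    exact hb b b.2
  have hγ1 := aut_eq_one_of_sq hS F hF hAZ hγ hγ2
  intro t ht
  have htB : t ∈ B := hTB ht
  have h5 := hval ⟨t, htB⟩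
  rw [hγ1, MulAut.one_apply] at h5
  have h6 := hinj h5
  exact (congrArg Subtype.val h6).symm

end Cfsg.Agent.Lib.Helper12.CH
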