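import Mathlib
import Cfsg.Agent.Lib.Helper12.CHB

/-!
# Fusion-system form of the Camina--Herzog criterion (helper12), part C

Under the hypothesis that every element of `S` is `F`-conjugate into `Z(S)`:
involutions of `S` commute, `Ω₁(S)` is normal in `F`, and `Ω₁(S) ≤ Z(S)`.
-/

set_option autoImplicit false
set_option maxHeartbeats 1000000

namespace Cfsg.Agent.Lib.Helper12.CH

open Cfsg Cfsg.Agent.Lib.Helper29

variable {Ω : Type*} [Group Ω] {S : Subgroup Ω}

/-- every element of `S` is `F`-conjugate to an element of `Z(S)` -/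
def Hyp (F : FusionSystem S) : Prop :=
  ∀ x ∈ S, ∃ z ∈ S ⊓ Subgroup.centralizer (S : Set Ω), F.IsConjElt x z

/-- elements of order at most 2 of `S` commute -/
def IC (S : Subgroup Ω) : Prop :=
  ∀ u v : Ω, u ∈ S → v ∈ S → u * u = 1 → v * v = 1 → u * v = v * u

theorem ic_of_hyp [Finite S] (hS : IsPGroup 2 S) (F : FusionSystem S) (hF : F.IsSaturated 2)
    (h : Hyp F) : IC S := by
  intro u v hu hv hu2 hv2
  obtain ⟨z, hz, φ, hφ, hφz⟩ := h (u * v) (S.mul_mem hu hv)
  have huinv : u⁻¹ = u := inv_eq_of_mul_eq_one_left hu2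
  have hvinv : v⁻¹ = v := inv_eq_of_mul_eq_one_left hv2
  have hTC : ({u * v} : Set Ω) ⊆ (Subgroup.zpowers (u * v) : Subgroup Ω) := by
    intro t ht
    rw [Set.mem_singleton_iff] at ht
    rw [ht]
    exact Subgroup.mem_zpowers _
  have key := no_inv_fusion hS F hF hφ {u * v} hTC hu ?_ ?_ ?_ (u * v) rfl
  · rw [huinv] at key
    have e : u * (u * v) * u = (u * u) * (v * u) := by simp only [mul_assoc]
    rw [e, hu2, one_mul] at key
    exact key.symm
  · intro t ht
    rw [Set.mem_singleton_iff] at ht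
    rw [ht, huinv]
    have e : u * (u * v) * u = (u * v)⁻¹ := by
      rw [mul_inv_rev, huinv, hvinv]
      have e' : u * (u * v) * u = (u * u) * (v * u) := by simp only [mul_assoc]
      rw [e', hu2, one_mul]
    rw [e]
    exact Subgroup.inv_mem _ (Subgroup.subset_closure rfl)
  · intro t ht
    have ht' : t = u * v := ht
    subst ht'
    have hz' : z ∈ ZS S := hz
    rw [← hφz] at hz'
    exact hz'
  · intro t _
    rw [huinv]
    have e : u * (u * t * u) * u = (u * u) * t * (u * u) := by simp only [mul_assoc]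
    rw [e, hu2, one_mul, mul_one]

/-- the subgroup generated by the elements of order at most 2 of `S` -/
def Om (S : Subgroup Ω) : Subgroup Ω := Subgroup.closure {w | w ∈ S ∧ w * w = 1}

theorem mem_Om_iff (hic : IC S) {a : Ω} : a ∈ Om S ↔ a ∈ S ∧ a * a = 1 := by
  constructor
  · intro ha
    unfold Om at ha
    induction ha using Subgroup.closure_induction with
    | mem w hw => exact hw
    | one => exact ⟨S.one_mem, mul_one 1⟩
    | mul a b _ _ iha ihb =>
      refine ⟨S.mul_mem iha.1 ihb.1, ?_⟩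
      have hc := hic a b iha.1 ihb.1 iha.2 ihb.2
      have e : a * b * (a * b) = a * (b * a) * b := by simp only [mul_assoc]
      rw [e, ← hc]
      have e2 : a * (a * b) * b = (a * a) * (b * b) := by simp only [mul_assoc]
      rw [e2, iha.2, ihb.2, mul_one]
    | inv a _ iha =>
      refine ⟨S.inv_mem iha.1, ?_⟩
      rw [← mul_inv_rev, iha.2, inv_one]
  · intro ha
    exact Subgroup.subset_closure ha

theorem Om_le (hic : IC S) : Om S ≤ S := fun _ ha => ((mem_Om_iff hic).1 ha).1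

theorem om_stronglyClosed (F : FusionSystem S) (hic : IC S) : F.StronglyClosed (Om S) := by
  refine ⟨Om_le hic, fun R hR φ hφ x => ?_⟩
  have hx := (mem_Om_iff hic).1 (hR x.2)
  apply Subgroup.subset_closure
  refine ⟨(F.le_of_mem hφ).2 x, ?_⟩
  rw [← map_mul]
  have : x * x = 1 := Subtype.ext hx.2
  rw [this, map_one]

/-- the chain `1 ≤ Ω₁(S) ∩ P ≤ P` -/
def chainOm (S P : Subgroup Ω) : ℕ → Subgroup P
  | 0 => ⊥
  | 1 => (Om S).subgroupOf P
  | _ + 2 => ⊤

theorem om_le_centric_radical [Finite S] (hS : IsPGroup 2 S) (F : FusionSystem S) (hic : IC S)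
    {P : Subgroup Ω} (hc : F.IsCentric P) (hr : F.IsRadical 2 P) : Om S ≤ P := by
  haveI : Fact (Nat.Prime 2) := ⟨Nat.prime_two⟩
  have hsc := om_stronglyClosed F hic
  have hPS : P ≤ S := hc.1
  haveI : Finite P := finite_of_le hPS
  have hPp : IsPGroup 2 P := hS.to_le hPS
  have hconj := conj_mem_of_stronglyClosed F hsc
  have hmono : ∀ i, chainOm S P i ≤ chainOm S P (i + 1) := by
    intro i
    match i with
    | 0 => exact bot_le
    | 1 => exact le_top
    | _ + 2 => exact le_refl _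
  refine le_of_normal_pSubgroup_aut hS F hc hr (Om S) hsc.1
    (le_normalizer_of_conj_mem (fun g hg x hx => hconj g (hPS hg) x hx))
    (stabAut (F.autGroup P) (chainOm S P) hmono 2) ?_ ?_ ?_
  · exact stabAut_isPGroup hPp _ _ hmono 2 rfl (fun γ _ => ⟨0, fun x hx => by
      have hx1 : x = 1 := Subgroup.mem_bot.1 hx
      rw [hx1, map_one]⟩)
  · exact stabAut_normal _ _ hmono 2 (fun i α hα x hx => by
      match i with
      | 0 =>
        have hx1 : x = 1 := Subgroup.mem_bot.1 hx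
        rw [hx1, map_one]; exact Subgroup.one_mem _
      | 1 => exact aut_mem_of_stronglyClosed F hsc hPS hα x hx
      | _ + 2 => exact Subgroup.mem_top _)
  · intro g hg hgN
    have h0 : P.normalizerMonoidHom ⟨g, hgN⟩ ∈ F.autGroup P :=
      autInducedBy_le_autGroup F hPS (Subgroup.subset_closure ⟨g, hsc.1 hg, fun x => rfl⟩)
    have e : (P.normalizerMonoidHom ⟨g, hgN⟩)⁻¹ = P.normalizerMonoidHom ⟨g, hgN⟩⁻¹ :=
      (map_inv _ _).symm
    have hact1 : ∀ g ∈ Om S, ∀ x ∈ Om S, x⁻¹ * (g * x * g⁻¹) = 1 := by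
      intro g hg x hx
      have hg' := (mem_Om_iff hic).1 hg
      have hx' := (mem_Om_iff hic).1 hx
      have := hic g x hg'.1 hx'.1 hg'.2 hx'.2
      rw [this, mul_inv_cancel_right, inv_mul_cancel]
    have hact2 : ∀ g ∈ Om S, ∀ x ∈ P, x⁻¹ * (g * x * g⁻¹) ∈ Om S := by
      intro g hg x hx
      have e1 : x⁻¹ * (g * x * g⁻¹) = x⁻¹ * g * x⁻¹⁻¹ * g⁻¹ := by
        simp only [inv_inv, mul_assoc]
      rw [e1]
      exact (Om S).mul_mem (hconj x⁻¹ (hPS (inv_mem hx)) g hg) (inv_mem hg)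
    have hginv : g⁻¹ ∈ Om S := inv_mem hg
    refine ⟨h0, fun i hi x hx => ?_⟩
    match i, hi with
    | 0, _ =>
      constructor
      · exact Subgroup.mem_bot.2 (Subtype.ext (hact1 g hg x hx))
      · rw [e]
        exact Subgroup.mem_bot.2 (Subtype.ext (hact1 g⁻¹ hginv x hx))
    | 1, _ =>
      constructor
      · exact hact2 g hg x x.2
      · rw [e]
        exact hact2 g⁻¹ hginv x x.2

theorem om_le_ZS [Finite S] (hS : IsPGroup 2 S) (F : FusionSystem S) (hF : F.IsSaturated 2)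
    (h : Hyp F) (hic : IC S) : Om S ≤ ZS S := by
  haveI : Fact (Nat.Prime 2) := ⟨Nat.prime_two⟩
  have hn : F.IsNormal (Om S) := isNormal_of_stronglyClosed 2 hS F hF (Om S)
    (om_stronglyClosed F hic) (fun P hc hr => om_le_centric_radical hS F hic hc hr)
  intro w hw
  have hwS : w ∈ S := hn.1 hw
  refine mem_ZS.2 ⟨hwS, fun y hy => ?_⟩
  obtain ⟨z, hz, φ, hφ, hφz⟩ := h y hy
  obtain ⟨ψ, hψ, hψe, _⟩ := hn.2 _ φ hφ
  have hyP : y ∈ Subgroup.zpowers y ⊔ Om S := Subgroup.mem_sup_left (Subgroup.mem_zpowers y)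
  have hwP : w ∈ Subgroup.zpowers y ⊔ Om S := Subgroup.mem_sup_right hw
  have hψy : ψ ⟨y, hyP⟩ = z := by
    have := hψe ⟨y, Subgroup.mem_zpowers y⟩
    rw [← hφz, ← this]
    rfl
  have hψwS : ψ ⟨w, hwP⟩ ∈ S := (F.le_of_mem hψ).2 _
  have hcomm : ψ ⟨y, hyP⟩ * ψ ⟨w, hwP⟩ = ψ ⟨w, hwP⟩ * ψ ⟨y, hyP⟩ := by
    rw [hψy]
    exact ((mem_ZS.1 (hz : z ∈ ZS S)).2 _ hψwS).symm
  rw [← map_mul, ← map_mul] at hcomm
  have := F.injective_of_mem hψ hcomm
  exact congrArg Subtype.val this

end Cfsg.Agent.Lib.Helper12.CH
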