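import Mathlib
import Cfsg.Agent.Lib.Helper12.CHC

/-!
# Fusion-system form of the Camina--Herzog criterion (helper12), part D

If every element of the 2-group `S` is conjugate into `Z(S)` in a saturated fusion system on `S`,
then `S` is abelian: a non-central element `x` of least order has `x² ∈ Z(S)`; an element `s` of
`N_S(C_S(x)) ∖ C_S(x)` sends `x` to `x e` with `e` an involution, hence `e ∈ Z(S)`; then `s`
induces an automorphism of order 2 on `⟨x, e⟩`, which a map of the system sends into `Z(S)`.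
-/

set_option autoImplicit false
set_option maxHeartbeats 1000000

namespace Cfsg.Agent.Lib.Helper12.CH

open Cfsg Cfsg.Agent.Lib.Helper29

variable {Ω : Type*} [Group Ω] {S : Subgroup Ω}

theorem two_dvd_orderOf [Finite S] (hS : IsPGroup 2 S) {x : Ω} (hx : x ∈ S) (hx1 : x ≠ 1) :
    2 ∣ orderOf x ∧ 0 < orderOf x := by
  obtain ⟨k, hk⟩ := hS ⟨x, hx⟩
  have hk' : x ^ (2 ^ k) = 1 := by
    have := congrArg Subtype.val hk
    rwa [Subgroup.coe_pow] at this
  have hd : orderOf x ∣ 2 ^ k := orderOf_dvd_of_pow_eq_one hk'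
  obtain ⟨j, _, hj⟩ := (Nat.dvd_prime_pow Nat.prime_two).1 hd
  rcases Nat.eq_zero_or_pos j with h0 | h0
  · exfalso
    rw [h0, pow_zero, orderOf_eq_one_iff] at hj
    exact hx1 hj
  · rw [hj]
    exact ⟨dvd_pow_self 2 h0.ne', pow_pos (by norm_num) j⟩

theorem central_of_hyp [Finite S] (hS : IsPGroup 2 S) (F : FusionSystem S) (hF : F.IsSaturated 2)
    (h : Hyp F) : ∀ n : ℕ, ∀ x ∈ S, orderOf x = n → x ∈ ZS S := by
  haveI : Fact (Nat.Prime 2) := ⟨Nat.prime_two⟩
  have hic : IC S := ic_of_hyp hS F hF h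
  have hOm := om_le_ZS hS F hF h hic
  have hinvol : ∀ w ∈ S, w * w = 1 → w ∈ ZS S := fun w hw hw2 =>
    hOm (Subgroup.subset_closure ⟨hw, hw2⟩)
  intro n
  induction n using Nat.strong_induction_on with
  | _ n ih =>
    intro x hx hn
    by_contra hxZ
    have hx1 : x ≠ 1 := by
      rintro rfl
      exact hxZ (ZS S).one_mem
    have hxx : x * x ∈ ZS S := by
      obtain ⟨h2, hpos⟩ := two_dvd_orderOf hS hx hx1
      have hord : orderOf (x ^ 2) = orderOf x / 2 := orderOf_pow_of_dvd (by norm_num) h2
      have hlt : orderOf (x * x) < n := by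
        rw [← pow_two, hord, ← hn]
        exact Nat.div_lt_self hpos (by norm_num)
      exact ih _ hlt (x * x) (S.mul_mem hx hx) rfl
    -- the centralizer of `x` in `S`
    have hmemC : ∀ g, g ∈ FusionSystem.centralizerIn S (Subgroup.zpowers x) ↔
        g ∈ S ∧ g * x = x * g := by
      intro g
      constructor
      · rintro ⟨h1, h2⟩
        have h2' : g ∈ Subgroup.centralizer ((Subgroup.zpowers x : Subgroup Ω) : Set Ω) := h2
        rw [Subgroup.mem_centralizer_iff] at h2'
        exact ⟨h1, (h2' x (Subgroup.mem_zpowers x)).symm⟩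
      · rintro ⟨h1, h2⟩
        refine ⟨h1, ?_⟩
        show g ∈ Subgroup.centralizer ((Subgroup.zpowers x : Subgroup Ω) : Set Ω)
        rw [Subgroup.mem_centralizer_iff]
        intro a ha
        obtain ⟨k, rfl⟩ := Subgroup.mem_zpowers_iff.1 ha
        exact ((Commute.zpow_right (show Commute g x from h2) k)).symm.eq
    obtain ⟨C, hCdef⟩ : ∃ C, C = FusionSystem.centralizerIn S (Subgroup.zpowers x) := ⟨_, rfl⟩
    have hCS : C ≤ S := by rw [hCdef]; exact inf_le_left
    have hxC : x ∈ C := by rw [hCdef, hmemC]; exact ⟨hx, rfl⟩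
    have hCne : C ≠ S := by
      intro hCeq
      apply hxZ
      refine mem_ZS.2 ⟨hx, fun g hg => ?_⟩
      have : g ∈ C := by rw [hCeq]; exact hg
      rw [hCdef, hmemC] at this
      exact this.2
    obtain ⟨s, hsN, hsC⟩ := exists_mem_normalizerIn_not_mem hS (lt_of_le_of_ne hCS hCne)
    have hsS : s ∈ S := hsN.1
    have hsNorm : s ∈ Subgroup.normalizer (C : Set Ω) := hsN.2
    obtain ⟨y, hydef⟩ : ∃ y, y = s * x * s⁻¹ := ⟨_, rfl⟩
    have hyC : y ∈ C := by
      rw [hydef]
      exact (Subgroup.mem_normalizer_iff.1 hsNorm x).1 hxC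
    have hyS : y ∈ S := hCS hyC
    have hyx : y * x = x * y := by
      have := hyC
      rw [hCdef, hmemC] at this
      exact this.2
    obtain ⟨e, hedef⟩ : ∃ e, e = x⁻¹ * y := ⟨_, rfl⟩
    have heS : e ∈ S := by rw [hedef]; exact S.mul_mem (S.inv_mem hx) hyS
    have hyy : y * y = x * x := by
      have e1 : y * y = s * (x * x) * s⁻¹ := by
        rw [hydef]; simp only [mul_assoc, inv_mul_cancel_left]
      rw [e1, (mem_ZS.1 hxx).2 s hsS, mul_inv_cancel_right]
    have hyxi : y * x⁻¹ = x⁻¹ * y := by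
      have : x⁻¹ * (y * x) * x⁻¹ = x⁻¹ * (x * y) * x⁻¹ := by rw [hyx]
      simp only [mul_assoc, mul_inv_cancel, mul_one, inv_mul_cancel_left] at this
      exact this.symm
    have hee : e * e = 1 := by
      rw [hedef]
      have e1 : x⁻¹ * y * (x⁻¹ * y) = x⁻¹ * (y * x⁻¹) * y := by simp only [mul_assoc]
      rw [e1, hyxi]
      have e2 : x⁻¹ * (x⁻¹ * y) * y = x⁻¹ * x⁻¹ * (y * y) := by simp only [mul_assoc]
      rw [e2, hyy]
      simp only [mul_assoc, inv_mul_cancel_left, inv_mul_cancel]
    have hye : y = x * e := by rw [hedef, mul_inv_cancel_left]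
    have heZ : e ∈ ZS S := hinvol e heS hee
    have he1 : e ≠ 1 := by
      intro he
      apply hsC
      rw [hCdef, hmemC]
      refine ⟨hsS, ?_⟩
      rw [he, mul_one] at hye
      rw [hydef] at hye
      -- s * x * s⁻¹ = x
      have := congrArg (fun t => t * s) hye
      simp only [inv_mul_cancel_right] at this
      exact this
    have hse : s * e * s⁻¹ = e := by
      rw [(mem_ZS.1 heZ).2 s hsS, mul_inv_cancel_right]
    have heC : e ∈ C := by
      rw [hCdef, hmemC]
      exact ⟨heS, ((mem_ZS.1 heZ).2 x hx).symm⟩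
    -- the extension
    subst hCdef
    obtain ⟨z, hz, φ, hφ, hφz⟩ := h x hx
    obtain ⟨ψ, hψ, hψx⟩ := exists_ext_central hS F hF (hz : z ∈ ZS S) hφ hφz
    have hTC : ({x, e} : Set Ω) ⊆
        ((FusionSystem.centralizerIn S (Subgroup.zpowers x) : Subgroup Ω) : Set Ω) := by
      intro t ht
      rcases ht with rfl | ht
      · exact hxC
      · rw [Set.mem_singleton_iff] at ht
        rw [ht]; exact heC
    have hsx : s * x * s⁻¹ = x * e := by rw [← hydef, hye]
    have key := no_inv_fusion hS F hF hψ {x, e} hTC hsS ?_ ?_ ?_ x (Set.mem_insert _ _)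
    · rw [hsx] at key
      apply he1
      have := congrArg (fun t => x⁻¹ * t) key
      simp only [inv_mul_cancel_left, inv_mul_cancel] at this
      exact this
    · intro t ht
      rcases ht with rfl | ht
      · rw [hsx]
        exact Subgroup.mul_mem _ (Subgroup.subset_closure (Set.mem_insert _ _))
          (Subgroup.subset_closure (Set.mem_insert_of_mem _ rfl))
      · rw [Set.mem_singleton_iff] at ht
        rw [ht, hse]
        exact Subgroup.subset_closure (Set.mem_insert_of_mem _ rfl)
    · intro t ht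
      rcases ht with rfl | ht
      · rw [hψx]; exact hz
      · have ht' : t = e := ht
        subst ht'
        apply hinvol
        · exact (F.le_of_mem hψ).2 _
        · rw [← map_mul]
          have : (⟨t, hTC (Set.mem_insert_of_mem _ rfl)⟩ :
              FusionSystem.centralizerIn S (Subgroup.zpowers x)) *
              ⟨t, hTC (Set.mem_insert_of_mem _ rfl)⟩ = 1 :=
            Subtype.ext hee
          rw [this, map_one]
    · intro t ht
      rcases ht with rfl | ht
      · rw [hsx]
        have e1 : s * (t * e) * s⁻¹ = (s * t * s⁻¹) * (s * e * s⁻¹) := by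
          simp only [mul_assoc, inv_mul_cancel_left]
        rw [e1, hsx, hse, mul_assoc, hee, mul_one]
      · rw [Set.mem_singleton_iff] at ht
        rw [ht, hse, hse]

theorem comm_of_hyp [Finite S] (hS : IsPGroup 2 S) (F : FusionSystem S) (hF : F.IsSaturated 2)
    (h : Hyp F) {a b : Ω} (ha : a ∈ S) (hb : b ∈ S) : a * b = b * a :=
  (mem_ZS.1 (central_of_hyp hS F hF h _ b hb rfl)).2 a ha

end Cfsg.Agent.Lib.Helper12.CH
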