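import Cfsg.Agent.Lib.Helper12.DkP0
import Cfsg.Agent.Lib.Helper12.SL2b

/-!
`SL₂(q)`, `q` odd, is indecomposable modulo its centre (helper12).
-/

set_option autoImplicit false

namespace Cfsg.Agent.Lib.Helper12.CP

open Cfsg.Agent.Lib.Helper12.SL2

variable {F : Type*} [Field F]

local notation "SL2" => Matrix.SpecialLinearGroup (Fin 2)
local notation "M2" => Matrix (Fin 2) (Fin 2)

/-- the Weyl element -/
def wE : SL2 F := mk 0 1 (-1) 0 (by ring)

theorem lo_eq_conj (c : F) : lo c = wE * up (-c) * wE⁻¹ := by
  apply ext4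
  · rw [mul_apply', Cfsg.Agent.Lib.Helper12.SL2.inv_00, Cfsg.Agent.Lib.Helper12.SL2.inv_10]
    simp only [mul_apply', up, lo, wE, mk_00, mk_01, mk_10, mk_11]
    ring
  · rw [mul_apply', Cfsg.Agent.Lib.Helper12.SL2.inv_01, Cfsg.Agent.Lib.Helper12.SL2.inv_11]
    simp only [mul_apply', up, lo, wE, mk_00, mk_01, mk_10, mk_11]
    ring
  · rw [mul_apply', Cfsg.Agent.Lib.Helper12.SL2.inv_00, Cfsg.Agent.Lib.Helper12.SL2.inv_10]
    simp only [mul_apply', up, lo, wE, mk_00, mk_01, mk_10, mk_11]
    ring
  · rw [mul_apply', Cfsg.Agent.Lib.Helper12.SL2.inv_01, Cfsg.Agent.Lib.Helper12.SL2.inv_11]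
    simp only [mul_apply', up, lo, wE, mk_00, mk_01, mk_10, mk_11]
    ring

/-- a normal subgroup containing all `up b` is everything -/
theorem eq_top_of_up (X : Subgroup (SL2 F)) (hX : X.Normal) (hU : ∀ b, up b ∈ X) : X = ⊤ :=
  eq_top_of_up_lo X hU (fun c => by rw [lo_eq_conj]; exact hX.conj_mem _ (hU _) _)

/-- the element `-1` -/
def negOne : SL2 F := mk (-1) 0 0 (-1) (by ring)

theorem mem_center_iff_pm (g : SL2 F) : g ∈ Subgroup.center (SL2 F) ↔ g = 1 ∨ g = negOne := by
  rw [Cfsg.Agent.Lib.Helper12.DkG.mem_center_iff']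
  constructor
  · rintro (h | h)
    · left
      exact Subtype.ext h
    · right
      apply ext4
      · have := congrFun (congrFun h 0) 0; simpa [negOne] using this
      · have := congrFun (congrFun h 0) 1; simpa [negOne] using this
      · have := congrFun (congrFun h 1) 0; simpa [negOne] using this
      · have := congrFun (congrFun h 1) 1; simpa [negOne] using this
  · rintro (rfl | rfl)
    · left; rfl
    · right
      ext i j
      fin_cases i <;> fin_cases j <;> simp [negOne, mk]

/-- an element commuting with everything modulo the centre is central (`2 ≠ 0`) -/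
theorem central_of_comm_mod (h2 : (2 : F) ≠ 0) (y : SL2 F)
    (hy : ∀ s : SL2 F, y * s * y⁻¹ * s⁻¹ ∈ Subgroup.center (SL2 F)) :
    y ∈ Subgroup.center (SL2 F) := by
  have key : ∀ u : SL2 F, u 0 0 + u 1 1 = 2 → y * u = u * y := by
    intro u hu
    rcases (mem_center_iff_pm _).mp (hy u) with h | h
    · calc y * u = (y * u * y⁻¹ * u⁻¹) * u * y := by group
        _ = u * y := by rw [h, one_mul]
    · exfalso
      have h1 : y * u = negOne * u * y := by
        calc y * u = (y * u * y⁻¹ * u⁻¹) * u * y := by group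
          _ = negOne * u * y := by rw [h]
      have e00 := congrArg (fun t : SL2 F => t 0 0) h1
      have e11 := congrArg (fun t : SL2 F => t 1 1) h1
      have e01 := congrArg (fun t : SL2 F => t 0 1) h1
      have e10 := congrArg (fun t : SL2 F => t 1 0) h1
      simp only [mul_apply', negOne, mk_00, mk_01, mk_10, mk_11] at e00 e11 e01 e10
      have hd := det_eq y
      apply h2
      have h4 : (2 : F) * 2 * (y 0 0 * y 1 1 - y 0 1 * y 1 0) = 0 := by
        have h11 : u 1 1 = 2 - u 0 0 := by linear_combination hu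
        rw [h11] at e00 e11 e01 e10
        linear_combination (y 1 1) * e00 + (y 0 0) * e11 - (y 1 0) * e01 - (y 0 1) * e10
      rw [hd, mul_one] at h4
      rcases mul_eq_zero.mp h4 with h | h <;> exact h
  have hcent : Subgroup.centralizer ({y} : Set (SL2 F)) = ⊤ := by
    apply eq_top_of_up_lo
    · intro b
      rw [Subgroup.mem_centralizer_singleton_iff]
      exact (key _ (by show (1 : F) + 1 = 2; norm_num)).symm
    · intro c
      rw [Subgroup.mem_centralizer_singleton_iff]
      exact (key _ (by show (1 : F) + 1 = 2; norm_num)).symm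
  rw [Subgroup.mem_center_iff]
  intro g
  have : g ∈ Subgroup.centralizer ({y} : Set (SL2 F)) := by rw [hcent]; trivial
  rw [Subgroup.mem_centralizer_singleton_iff] at this
  exact this

end Cfsg.Agent.Lib.Helper12.CP
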