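import Cfsg.Agent.Lib.Helper12.CP0

/-!
`SL₂(q)`, `q` odd, is indecomposable modulo its centre: normal subgroups (helper12).
-/

set_option autoImplicit false

namespace Cfsg.Agent.Lib.Helper12.CP

open Cfsg.Agent.Lib.Helper12.SL2

variable {F : Type*} [Field F]

local notation "SL2" => Matrix.SpecialLinearGroup (Fin 2)
local notation "M2" => Matrix (Fin 2) (Fin 2)

theorem three_elements [Fintype F] (h2 : (2 : F) ≠ 0) (h3 : Fintype.card F = 3) (s : F) :
    s = 0 ∨ s = 1 ∨ s = -1 := by
  classical
  have hne : (1 : F) ≠ -1 := by
    intro h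
    apply h2
    linear_combination h
  have hcard : ({0, 1, -1} : Finset F).card = 3 := by
    rw [Finset.card_insert_of_notMem, Finset.card_insert_of_notMem, Finset.card_singleton]
    · simpa using hne
    · simp
  have huniv : ({0, 1, -1} : Finset F) = Finset.univ := by
    apply Finset.eq_univ_of_card
    rw [hcard, h3]
  have : s ∈ ({0, 1, -1} : Finset F) := by rw [huniv]; exact Finset.mem_univ s
  simpa using this

/-- a normal subgroup of `SL₂(q)`, `q` odd, of order divisible by the characteristic is everything -/
theorem eq_top_of_dvd [Fintype F] (p : ℕ) [Fact p.Prime] [CharP F p] (hodd : Odd (Fintype.card F))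
    (X : Subgroup (SL2 F)) (hX : X.Normal) (hp : p ∣ Nat.card X) : X = ⊤ := by
  classical
  have h2 : (2 : F) ≠ 0 := Cfsg.Agent.S2428.two_ne_zero_of_odd hodd
  obtain ⟨x, hx⟩ := exists_prime_orderOf_dvd_card' (G := X) p hp
  have hxo : orderOf (x : SL2 F) = p := by rw [Subgroup.orderOf_coe]; exact hx
  obtain ⟨k, b, hb, hk⟩ := exists_conj_up_of_orderOf (x : SL2 F) hxo
  have hupb : up b ∈ X := by
    rw [← hk]
    have := hX.conj_mem _ x.2 k⁻¹
    simpa using this
  by_cases h4 : 4 ≤ Fintype.card F
  · haveI : (Subgroup.center (SL2 F)).Normal := inferInstance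
    haveI := hX
    have hn : (X ⊔ Subgroup.center (SL2 F)).Normal := inferInstance
    rcases Cfsg.Agent.Lib.Helper12.DkP.normal_cases h4 _ hn le_sup_right with h | h
    · exfalso
      have hc : up b ∈ Subgroup.center (SL2 F) := h (le_sup_left (a := X) hupb)
      rcases (mem_center_iff_pm _).mp hc with h1 | h1
      · exact up_ne_one hb h1
      · have := congrArg (fun t : SL2 F => t 0 0) h1
        simp only [up, negOne, mk_00] at this
        apply h2
        linear_combination this
    · have claim : ∀ s : F, up s ∈ X ∨ up (s + s) ∈ X := by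
        intro s
        have hs : up s ∈ X ⊔ Subgroup.center (SL2 F) := by rw [h]; trivial
        rw [← SetLike.mem_coe, Subgroup.mul_normal] at hs
        obtain ⟨x', hx', z, hz, hxz⟩ := hs
        have hxz : x' * z = up s := hxz
        rcases (mem_center_iff_pm z).mp hz with rfl | rfl
        · left
          rw [← hxz, mul_one]
          exact hx'
        · right
          have : up (s + s) = x' * x' := by
            rw [up_add, ← hxz]
            apply ext4 <;> simp only [mul_apply', negOne, mk_00, mk_01, mk_10, mk_11] <;> ring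
          rw [this]
          exact X.mul_mem hx' hx'
      apply eq_top_of_up X hX
      intro t
      have ht : t = t / 2 + t / 2 := by field_simp; ring
      rcases claim (t / 2) with h1 | h1
      · rw [ht, up_add]
        exact X.mul_mem h1 h1
      · rw [ht]
        exact h1
  · have h3 : Fintype.card F = 3 := by
      have : 2 ≤ Fintype.card F := Fintype.one_lt_card
      obtain ⟨c, hc⟩ := hodd
      omega
    apply eq_top_of_up X hX
    intro t
    have ht : t = (t / b) * b := by field_simp
    rcases three_elements h2 h3 (t / b) with h | h | h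
    · rw [ht, h, zero_mul, up_zero]
      exact X.one_mem
    · rw [ht, h, one_mul]
      exact hupb
    · rw [ht, h]
      have : up (-1 * b) = (up b)⁻¹ := by
        rw [eq_inv_iff_mul_eq_one, ← up_add]
        have : -1 * b + b = 0 := by ring
        rw [this, up_zero]
      rw [this]
      exact X.inv_mem hupb

/-- **`SL₂(q)`, `q` odd, is indecomposable modulo its centre** -/
theorem indec [Fintype F] (hodd : Odd (Fintype.card F)) (X Y : Subgroup (SL2 F))
    (hX : X.Normal) (hY : Y.Normal)
    (hc : ∀ x ∈ X, ∀ y ∈ Y, x * y * x⁻¹ * y⁻¹ ∈ Subgroup.center (SL2 F))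
    (hXY : X ⊔ Y = ⊤) : X ≤ Subgroup.center (SL2 F) ∨ Y ≤ Subgroup.center (SL2 F) := by
  classical
  have h2 : (2 : F) ≠ 0 := Cfsg.Agent.S2428.two_ne_zero_of_odd hodd
  obtain ⟨p, hp⟩ := CharP.exists F
  haveI : Fact p.Prime := ⟨CharP.char_is_prime F p⟩
  have hpp : p.Prime := Fact.out
  have hpq : p ∣ Fintype.card F :=
    (CharP.cast_eq_zero_iff F p (Fintype.card F)).mp (Nat.cast_card_eq_zero F)
  have hpS : p ∣ Nat.card (SL2 F) := by
    rw [card_SL2]
    exact Dvd.dvd.mul_right hpq _
  have hdvd : Nat.card (SL2 F) ∣ Nat.card Y * Nat.card X := by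
    haveI := hY
    have h1 : Y.index = Y.relIndex X := by
      rw [← Subgroup.relIndex_sup_right X Y, hXY, Subgroup.relIndex_top_right]
    rw [← Subgroup.card_mul_index Y, h1]
    exact Nat.mul_dvd_mul_left _ (Subgroup.relIndex_dvd_card Y X)
  rcases (Nat.Prime.dvd_mul hpp).mp (hpS.trans hdvd) with h | h
  · -- `Y` is everything
    left
    have hYtop := eq_top_of_dvd p hodd Y hY h
    intro x hx
    apply central_of_comm_mod h2
    intro s
    exact hc x hx s (by rw [hYtop]; trivial)
  · right
    have hXtop := eq_top_of_dvd p hodd X hX h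
    intro y hy
    apply central_of_comm_mod h2
    intro s
    have := hc s (by rw [hXtop]; trivial) y hy
    have h3 := (Subgroup.center (SL2 F)).inv_mem this
    convert h3 using 1
    group

end Cfsg.Agent.Lib.Helper12.CP
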