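import Mathlib

/-!
Central products `L₁ ∘ L₂` of two groups which are indecomposable modulo their centres: the only
central-product decompositions are the obvious ones (helper12).
-/

set_option autoImplicit false

namespace Cfsg.Agent.Lib.Helper12.CP

variable {G : Type*} [Group G]

/-- elements of the join of two elementwise commuting subgroups are products -/
theorem mem_sup_of_commute (H K : Subgroup G) (hc : ∀ x ∈ H, ∀ y ∈ K, x * y = y * x) {g : G}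
    (hg : g ∈ H ⊔ K) : ∃ x ∈ H, ∃ y ∈ K, g = x * y := by
  let P : Subgroup G :=
    { carrier := {g | ∃ x ∈ H, ∃ y ∈ K, g = x * y}
      one_mem' := ⟨1, H.one_mem, 1, K.one_mem, by simp⟩
      mul_mem' := by
        rintro _ _ ⟨x, hx, y, hy, rfl⟩ ⟨x', hx', y', hy', rfl⟩
        refine ⟨x * x', H.mul_mem hx hx', y * y', K.mul_mem hy hy', ?_⟩
        calc x * y * (x' * y') = x * (y * x') * y' := by group
          _ = x * (x' * y) * y' := by rw [hc x' hx' y hy]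
          _ = x * x' * (y * y') := by group
      inv_mem' := by
        rintro _ ⟨x, hx, y, hy, rfl⟩
        refine ⟨x⁻¹, H.inv_mem hx, y⁻¹, K.inv_mem hy, ?_⟩
        rw [mul_inv_rev]
        exact (hc x⁻¹ (H.inv_mem hx) y⁻¹ (K.inv_mem hy)).symm }
  have hHP : H ≤ P := fun x hx => ⟨x, hx, 1, K.one_mem, by simp⟩
  have hKP : K ≤ P := fun y hy => ⟨1, H.one_mem, y, hy, by simp⟩
  exact (sup_le hHP hKP) hg

/-- the indecomposability hypothesis on a subgroup `L` -/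
def IndecModCenter (L : Subgroup G) : Prop :=
  ∀ X Y : Subgroup ↥L, X.Normal → Y.Normal →
    (∀ x ∈ X, ∀ y ∈ Y, x * y * x⁻¹ * y⁻¹ ∈ Subgroup.center ↥L) → X ⊔ Y = ⊤ →
    X ≤ Subgroup.center ↥L ∨ Y ≤ Subgroup.center ↥L

variable (L₁ L₂ A B : Subgroup G)

/-- one half of the decomposition lemma -/
theorem half (hc : ∀ x ∈ L₁, ∀ y ∈ L₂, x * y = y * x)
    (hcAB : ∀ x ∈ A, ∀ y ∈ B, x * y = y * x)
    (hAN : A ≤ L₁ ⊔ L₂) (hBN : B ≤ L₁ ⊔ L₂) (hN : L₁ ⊔ L₂ ≤ A ⊔ B)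
    (hAnorm : ∀ g ∈ L₁, ∀ a ∈ A, g * a * g⁻¹ ∈ A)
    (hBnorm : ∀ g ∈ L₁, ∀ a ∈ B, g * a * g⁻¹ ∈ B)
    (hI : IndecModCenter L₁)
    (hZ : ∀ z ∈ Subgroup.center ↥L₁, (z : G) ∈ L₂) :
    B ≤ L₂ ∨ A ≤ L₂ := by
  -- the projections of `A` and `B` to `L₁`
  have mkProj : ∀ (D : Subgroup G), (∀ g ∈ L₁, ∀ a ∈ D, g * a * g⁻¹ ∈ D) →
      ∃ X : Subgroup ↥L₁, X.Normal ∧ ∀ a : ↥L₁, a ∈ X ↔ ∃ b ∈ L₂, (a : G) * b ∈ D := by
    intro D hD
    let X : Subgroup ↥L₁ :=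
      { carrier := {a | ∃ b ∈ L₂, (a : G) * b ∈ D}
        one_mem' := ⟨1, L₂.one_mem, by simp [D.one_mem]⟩
        mul_mem' := by
          rintro a a' ⟨b, hb, hab⟩ ⟨b', hb', hab'⟩
          refine ⟨b * b', L₂.mul_mem hb hb', ?_⟩
          have : ((a * a' : ↥L₁) : G) * (b * b') = ((a : G) * b) * ((a' : G) * b') := by
            rw [Subgroup.coe_mul]
            calc (a : G) * a' * (b * b') = (a : G) * ((a' : G) * b) * b' := by group
              _ = (a : G) * (b * (a' : G)) * b' := by rw [hc _ a'.2 b hb]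
              _ = ((a : G) * b) * ((a' : G) * b') := by group
          rw [this]
          exact D.mul_mem hab hab'
        inv_mem' := by
          rintro a ⟨b, hb, hab⟩
          refine ⟨b⁻¹, L₂.inv_mem hb, ?_⟩
          have : ((a⁻¹ : ↥L₁) : G) * b⁻¹ = ((a : G) * b)⁻¹ := by
            rw [Subgroup.coe_inv, mul_inv_rev]
            exact hc _ (L₁.inv_mem a.2) _ (L₂.inv_mem hb)
          rw [this]
          exact D.inv_mem hab }
    refine ⟨X, ⟨?_⟩, fun a => Iff.rfl⟩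
    rintro a ⟨b, hb, hab⟩ g
    refine ⟨b, hb, ?_⟩
    have : ((g * a * g⁻¹ : ↥L₁) : G) * b = (g : G) * ((a : G) * b) * (g : G)⁻¹ := by
      rw [Subgroup.coe_mul, Subgroup.coe_mul, Subgroup.coe_inv]
      calc (g : G) * a * (g : G)⁻¹ * b = (g : G) * a * ((g : G)⁻¹ * b) := by group
        _ = (g : G) * a * (b * (g : G)⁻¹) := by rw [hc _ (L₁.inv_mem g.2) b hb]
        _ = (g : G) * ((a : G) * b) * (g : G)⁻¹ := by group
    rw [this]
    exact hD _ g.2 _ hab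
  obtain ⟨X, hXn, hX⟩ := mkProj A hAnorm
  obtain ⟨Y, hYn, hY⟩ := mkProj B hBnorm
  have hcomm : ∀ x ∈ X, ∀ y ∈ Y, x * y * x⁻¹ * y⁻¹ ∈ Subgroup.center ↥L₁ := by
    intro x hx y hy
    obtain ⟨b, hb, hxb⟩ := (hX x).mp hx
    obtain ⟨b', hb', hyb⟩ := (hY y).mp hy
    have h1 := hcAB _ hxb _ hyb
    -- the commutator lies in `L₂`
    have h2 : ((x * y * x⁻¹ * y⁻¹ : ↥L₁) : G) = b' * b * b'⁻¹ * b⁻¹ := by
      simp only [Subgroup.coe_mul, Subgroup.coe_inv]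
      have e1 : (x : G) * y * (b * b') = (y : G) * x * (b' * b) := by
        calc (x : G) * y * (b * b') = (x : G) * ((y : G) * b) * b' := by group
          _ = (x : G) * (b * (y : G)) * b' := by rw [hc _ y.2 b hb]
          _ = ((x : G) * b) * ((y : G) * b') := by group
          _ = ((y : G) * b') * ((x : G) * b) := h1
          _ = (y : G) * (b' * (x : G)) * b := by group
          _ = (y : G) * ((x : G) * b') * b := by rw [hc _ x.2 b' hb']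
          _ = (y : G) * x * (b' * b) := by group
      have e2 : (x : G) * y = (y : G) * x * (b' * b * (b * b')⁻¹) := by
        calc (x : G) * y = (x : G) * y * (b * b') * (b * b')⁻¹ := by group
          _ = (y : G) * x * (b' * b) * (b * b')⁻¹ := by rw [e1]
          _ = (y : G) * x * (b' * b * (b * b')⁻¹) := by group
      obtain ⟨w, hw⟩ : ∃ w : G, w = b' * b * (b * b')⁻¹ := ⟨_, rfl⟩
      have hwL : w ∈ L₂ := by
        rw [hw]
        exact L₂.mul_mem (L₂.mul_mem hb' hb) (L₂.inv_mem (L₂.mul_mem hb hb'))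
      rw [← hw] at e2
      have e3 : (x : G) * y * (x : G)⁻¹ * (y : G)⁻¹ = w := by
        rw [e2]
        calc (y : G) * x * w * (x : G)⁻¹ * (y : G)⁻¹
            = (y : G) * (x * w) * (x : G)⁻¹ * (y : G)⁻¹ := by group
          _ = (y : G) * (w * x) * (x : G)⁻¹ * (y : G)⁻¹ := by rw [hc _ x.2 w hwL]
          _ = ((y : G) * w) * (y : G)⁻¹ := by group
          _ = (w * (y : G)) * (y : G)⁻¹ := by rw [hc _ y.2 w hwL]
          _ = w := by group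
      rw [e3, hw]
      group
    rw [Subgroup.mem_center_iff]
    intro g
    apply Subtype.ext
    show (g : G) * ((x * y * x⁻¹ * y⁻¹ : ↥L₁) : G) = ((x * y * x⁻¹ * y⁻¹ : ↥L₁) : G) * (g : G)
    rw [h2]
    exact hc _ g.2 _ (L₂.mul_mem (L₂.mul_mem (L₂.mul_mem hb' hb) (L₂.inv_mem hb')) (L₂.inv_mem hb))
  have hsup : X ⊔ Y = ⊤ := by
    rw [eq_top_iff]
    intro a _
    have haN : (a : G) ∈ A ⊔ B := hN (le_sup_left (a := L₁) a.2)
    obtain ⟨α, hα, β, hβ, hab⟩ := mem_sup_of_commute A B hcAB haN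
    obtain ⟨a1, ha1, b1, hb1, rfl⟩ := mem_sup_of_commute L₁ L₂ hc (hAN hα)
    obtain ⟨a2, ha2, b2, hb2, rfl⟩ := mem_sup_of_commute L₁ L₂ hc (hBN hβ)
    -- `b1 * b2 ∈ L₁`
    have hbb : b1 * b2 = (a1 * a2)⁻¹ * (a : G) := by
      rw [hab]
      calc b1 * b2 = (a1 * a2)⁻¹ * (a1 * (a2 * b1) * b2) := by group
        _ = (a1 * a2)⁻¹ * (a1 * (b1 * a2) * b2) := by rw [hc a2 ha2 b1 hb1]
        _ = (a1 * a2)⁻¹ * (a1 * b1 * (a2 * b2)) := by group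
    have hbbL : b1 * b2 ∈ L₁ := by
      rw [hbb]
      exact L₁.mul_mem (L₁.inv_mem (L₁.mul_mem ha1 ha2)) a.2
    have hx1 : (⟨a1, ha1⟩ : ↥L₁) ∈ X := (hX _).mpr ⟨b1, hb1, hα⟩
    have hy1 : (⟨a2 * (b1 * b2), L₁.mul_mem ha2 hbbL⟩ : ↥L₁) ∈ Y := by
      refine (hY _).mpr ⟨(b1 * b2)⁻¹ * b2, L₂.mul_mem (L₂.inv_mem (L₂.mul_mem hb1 hb2)) hb2, ?_⟩
      have : a2 * (b1 * b2) * ((b1 * b2)⁻¹ * b2) = a2 * b2 := by group
      show a2 * (b1 * b2) * ((b1 * b2)⁻¹ * b2) ∈ B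
      rw [this]
      exact hβ
    have : a = (⟨a1, ha1⟩ : ↥L₁) * ⟨a2 * (b1 * b2), L₁.mul_mem ha2 hbbL⟩ := by
      apply Subtype.ext
      show (a : G) = a1 * (a2 * (b1 * b2))
      rw [hbb]
      group
    rw [this]
    exact Subgroup.mul_mem _ (Subgroup.mem_sup_left hx1) (Subgroup.mem_sup_right hy1)
  rcases hI X Y hXn hYn hcomm hsup with h | h
  · right
    intro α hα
    obtain ⟨a1, ha1, b1, hb1, rfl⟩ := mem_sup_of_commute L₁ L₂ hc (hAN hα)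
    have hx1 : (⟨a1, ha1⟩ : ↥L₁) ∈ X := (hX _).mpr ⟨b1, hb1, hα⟩
    exact L₂.mul_mem (hZ _ (h hx1)) hb1
  · left
    intro β hβ
    obtain ⟨a2, ha2, b2, hb2, rfl⟩ := mem_sup_of_commute L₁ L₂ hc (hBN hβ)
    have hy1 : (⟨a2, ha2⟩ : ↥L₁) ∈ Y := (hY _).mpr ⟨b2, hb2, hβ⟩
    exact L₂.mul_mem (hZ _ (h hy1)) hb2


/-- **the decomposition lemma**: another central-product decomposition `A ∘ B` of `L₁ ∘ L₂` -/
theorem decomp (hc : ∀ x ∈ L₁, ∀ y ∈ L₂, x * y = y * x)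
    (hcAB : ∀ x ∈ A, ∀ y ∈ B, x * y = y * x)
    (hAN : A ≤ L₁ ⊔ L₂) (hBN : B ≤ L₁ ⊔ L₂) (hN : L₁ ⊔ L₂ ≤ A ⊔ B)
    (hAnorm : ∀ g ∈ L₁ ⊔ L₂, ∀ a ∈ A, g * a * g⁻¹ ∈ A)
    (hBnorm : ∀ g ∈ L₁ ⊔ L₂, ∀ a ∈ B, g * a * g⁻¹ ∈ B)
    (hI1 : IndecModCenter L₁) (hZ1 : ∀ z ∈ Subgroup.center ↥L₁, (z : G) ∈ L₂)
    (hI2 : IndecModCenter L₂) (hZ2 : ∀ z ∈ Subgroup.center ↥L₂, (z : G) ∈ L₁)
    (hCB : ∀ x ∈ L₁ ⊔ L₂, (∀ b ∈ B, x * b = b * x) → x ∈ A) :
    L₁ ≤ A ∨ (A ≤ L₂ ∧ L₂ ≤ A) ∨ A ≤ L₁ ⊓ L₂ := by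
  have h12 := half L₁ L₂ A B hc hcAB hAN hBN hN
    (fun g hg => hAnorm g (Subgroup.mem_sup_left hg))
    (fun g hg => hBnorm g (Subgroup.mem_sup_left hg)) hI1 hZ1
  have hc' : ∀ x ∈ L₂, ∀ y ∈ L₁, x * y = y * x := fun x hx y hy => (hc y hy x hx).symm
  have h21 := half L₂ L₁ A B hc' hcAB (by rw [sup_comm]; exact hAN) (by rw [sup_comm]; exact hBN)
    (by rw [sup_comm]; exact hN)
    (fun g hg => hAnorm g (Subgroup.mem_sup_right hg))
    (fun g hg => hBnorm g (Subgroup.mem_sup_right hg)) hI2 hZ2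
  rcases h12 with hB2 | hA2
  · left
    intro a ha
    exact hCB a (Subgroup.mem_sup_left ha) (fun b hb => hc a ha b (hB2 hb))
  · rcases h21 with hB1 | hA1
    · right; left
      refine ⟨hA2, ?_⟩
      intro b hb
      exact hCB b (Subgroup.mem_sup_right hb) (fun β hβ => hc' b hb β (hB1 hβ))
    · right; right
      exact le_inf hA1 hA2

end Cfsg.Agent.Lib.Helper12.CP
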