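import Cfsg.Agent.Lib.Helper12.CP1
import Cfsg.Agent.Lib.Helper12.CP2

/-!
Two commuting copies of `SL₂(q)` of index two in an involution centralizer: an outer element
normalizes both or interchanges them (helper12).
-/

set_option autoImplicit false

namespace Cfsg.Agent.Lib.Helper12.CP

open Cfsg.Agent.Lib.Helper12.SL2

local notation "SL2" => Matrix.SpecialLinearGroup (Fin 2)

theorem mem_center_equiv {S T : Type*} [Group S] [Group T] (e : S ≃* T) (z : S) :
    z ∈ Subgroup.center S ↔ e z ∈ Subgroup.center T := by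
  rw [Subgroup.mem_center_iff, Subgroup.mem_center_iff]
  constructor
  · intro h g
    obtain ⟨g', rfl⟩ := e.surjective g
    rw [← map_mul, ← map_mul, h]
  · intro h g
    apply e.injective
    rw [map_mul, map_mul, h]

section transfer

variable {F : Type*} [Field F] {S : Type*} [Group S]

theorem indec_of_equiv [Fintype F] (hodd : Odd (Fintype.card F)) (e : S ≃* SL2 F)
    (X Y : Subgroup S) (hX : X.Normal) (hY : Y.Normal)
    (hcomm : ∀ x ∈ X, ∀ y ∈ Y, x * y * x⁻¹ * y⁻¹ ∈ Subgroup.center S) (hXY : X ⊔ Y = ⊤) :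
    X ≤ Subgroup.center S ∨ Y ≤ Subgroup.center S := by
  have hX' : (X.map e.toMonoidHom).Normal := hX.map _ e.surjective
  have hY' : (Y.map e.toMonoidHom).Normal := hY.map _ e.surjective
  have hc' : ∀ x ∈ X.map e.toMonoidHom, ∀ y ∈ Y.map e.toMonoidHom,
      x * y * x⁻¹ * y⁻¹ ∈ Subgroup.center (SL2 F) := by
    rintro _ ⟨x, hx, rfl⟩ _ ⟨y, hy, rfl⟩
    have := (mem_center_equiv e _).mp (hcomm x hx y hy)
    simpa using this
  have hsup : X.map e.toMonoidHom ⊔ Y.map e.toMonoidHom = ⊤ := by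
    rw [← Subgroup.map_sup, hXY, ← MonoidHom.range_eq_map, MonoidHom.range_eq_top]
    exact e.surjective
  rcases indec hodd _ _ hX' hY' hc' hsup with h | h
  · left
    intro x hx
    rw [mem_center_equiv e]
    exact h ⟨x, hx, rfl⟩
  · right
    intro y hy
    rw [mem_center_equiv e]
    exact h ⟨y, hy, rfl⟩

theorem center_unique (e : S ≃* SL2 F) (z w : S) (hz : z ∈ Subgroup.center S)
    (hw : w ∈ Subgroup.center S) (hz1 : z ≠ 1) (hw1 : w ≠ 1) : z = w := by
  apply e.injective
  rcases (mem_center_iff_pm _).mp ((mem_center_equiv e z).mp hz) with h | h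
  · exfalso
    apply hz1
    apply e.injective
    rw [h, map_one]
  · rcases (mem_center_iff_pm _).mp ((mem_center_equiv e w).mp hw) with h' | h'
    · exfalso
      apply hw1
      apply e.injective
      rw [h', map_one]
    · rw [h, h']

theorem card_ge [Fintype F] (hodd : Odd (Fintype.card F)) (e : S ≃* SL2 F) : 24 ≤ Nat.card S := by
  rw [Nat.card_congr e.toEquiv, card_SL2]
  have h2 : 2 ≤ Fintype.card F := Fintype.one_lt_card
  have h3 : 3 ≤ Fintype.card F := by
    obtain ⟨c, hc⟩ := hodd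
    omega
  have : 3 * (3 ^ 2 - 1) ≤ Fintype.card F * (Fintype.card F ^ 2 - 1) :=
    Nat.mul_le_mul h3 (Nat.sub_le_sub_right (Nat.pow_le_pow_left h3 2) 1)
  simpa using this

theorem card_SL2_inj {F₁ F₂ : Type*} [Field F₁] [Fintype F₁] [Field F₂] [Fintype F₂]
    (h : Nat.card (SL2 F₁) = Nat.card (SL2 F₂)) : Fintype.card F₁ = Fintype.card F₂ := by
  rw [card_SL2, card_SL2] at h
  have key : ∀ a b : ℕ, 2 ≤ a → a < b → a * (a ^ 2 - 1) < b * (b ^ 2 - 1) := by
    intro a b ha hab
    have h2 : a ^ 2 - 1 < b ^ 2 - 1 := by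
      have : a ^ 2 < b ^ 2 := Nat.pow_lt_pow_left hab (by norm_num)
      have : 1 ≤ a ^ 2 := Nat.one_le_pow _ _ (by omega)
      omega
    exact Nat.mul_lt_mul_of_lt_of_lt hab h2
  have h1 : 2 ≤ Fintype.card F₁ := Fintype.one_lt_card
  have h2 : 2 ≤ Fintype.card F₂ := Fintype.one_lt_card
  rcases Nat.lt_trichotomy (Fintype.card F₁) (Fintype.card F₂) with hlt | heq | hgt
  · have := key _ _ h1 hlt
    omega
  · exact heq
  · have := key _ _ h2 hgt
    omega

end transfer

end Cfsg.Agent.Lib.Helper12.CP
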