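import Cfsg.Agent.Lib.Helper12.CP3

/-!
Two commuting copies of `SL₂(q)` of index two in an involution centralizer: assembly (helper12).
-/

set_option autoImplicit false
set_option maxHeartbeats 1000000

namespace Cfsg.Agent.Lib.Helper12.CP

open Cfsg.Agent.Lib.Helper12.SL2

local notation "SL2" => Matrix.SpecialLinearGroup (Fin 2)

theorem main {G : Type*} [Group G] [Finite G]
    {F₁ : Type*} [Field F₁] [Fintype F₁] {F₂ : Type*} [Field F₂] [Fintype F₂]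
    (hF₁ : Odd (Fintype.card F₁)) (hF₂ : Odd (Fintype.card F₂)) (L₁ L₂ : Subgroup G)
    (e₁ : ↥L₁ ≃* SL2 F₁) (e₂ : ↥L₂ ≃* SL2 F₂)
    (hc : ∀ x ∈ L₁, ∀ y ∈ L₂, x * y = y * x) (j : G) (hj : orderOf j = 2)
    (hm : L₁ ⊓ L₂ = Subgroup.zpowers j)
    (hle : L₁ ⊔ L₂ ≤ Subgroup.centralizer ({j} : Set G))
    (hi : (L₁ ⊔ L₂).relIndex (Subgroup.centralizer ({j} : Set G)) = 2) (n : G)
    (hn : n ∈ Subgroup.centralizer ({j} : Set G)) (hn' : n ∉ L₁ ⊔ L₂) :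
    (L₁.map (MulAut.conj n).toMonoidHom = L₁ ∧ L₂.map (MulAut.conj n).toMonoidHom = L₂) ∨
      (L₁.map (MulAut.conj n).toMonoidHom = L₂ ∧ Fintype.card F₁ = Fintype.card F₂ ∧
        ∃ n' ∈ Subgroup.centralizer ({j} : Set G), n' ∉ L₁ ⊔ L₂ ∧
          L₁.map (MulAut.conj n').toMonoidHom = L₂ ∧ n' ^ 2 ∈ Subgroup.zpowers j) := by
  classical
  obtain ⟨C, hCdef⟩ : ∃ C : Subgroup G, C = Subgroup.centralizer ({j} : Set G) := ⟨_, rfl⟩
  rw [← hCdef] at hle hi hn ⊢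
  obtain ⟨N, hNdef⟩ : ∃ N : Subgroup G, N = L₁ ⊔ L₂ := ⟨_, rfl⟩
  have hL1N : L₁ ≤ N := by rw [hNdef]; exact le_sup_left
  have hL2N : L₂ ≤ N := by rw [hNdef]; exact le_sup_right
  have hjL : j ∈ L₁ ⊓ L₂ := by rw [hm]; exact Subgroup.mem_zpowers j
  have hj1 : j ∈ L₁ := hjL.1
  have hj2 : j ∈ L₂ := hjL.2
  have hjne : j ≠ 1 := by
    intro h
    rw [h, orderOf_one] at hj
    omega
  have hc' : ∀ x ∈ L₂, ∀ y ∈ L₁, x * y = y * x := fun x hx y hy => (hc y hy x hx).symm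
  -- `N` is normal in `C`
  have hidx : ((L₁ ⊔ L₂).subgroupOf C).index = 2 := hi
  have hnormal := Subgroup.normal_of_index_eq_two hidx
  have hNnorm : ∀ c ∈ C, ∀ x ∈ L₁ ⊔ L₂, c * x * c⁻¹ ∈ L₁ ⊔ L₂ := by
    intro c hcC x hx
    have := hnormal.conj_mem ⟨x, hle hx⟩ (by rw [Subgroup.mem_subgroupOf]; exact hx) ⟨c, hcC⟩
    rw [Subgroup.mem_subgroupOf] at this
    exact this
  have hNnorm' : ∀ c ∈ C, ∀ x ∈ L₁ ⊔ L₂, c⁻¹ * x * c ∈ L₁ ⊔ L₂ := by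
    intro c hcC x hx
    have := hNnorm c⁻¹ (C.inv_mem hcC) x hx
    rwa [inv_inv] at this
  have hsq : n * n ∈ L₁ ⊔ L₂ := by
    have := Subgroup.mul_self_mem_of_index_two hidx ⟨n, hn⟩
    rw [Subgroup.mem_subgroupOf] at this
    exact this
  -- centres
  have hZ1 : ∀ z ∈ Subgroup.center ↥L₁, (z : G) ∈ L₂ := by
    intro z hz
    by_cases h1 : z = 1
    · rw [h1]; exact L₂.one_mem
    · have hjc : (⟨j, hj1⟩ : ↥L₁) ∈ Subgroup.center ↥L₁ := by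
        rw [Subgroup.mem_center_iff]
        intro g
        apply Subtype.ext
        exact hc g g.2 j hj2
      have hjn : (⟨j, hj1⟩ : ↥L₁) ≠ 1 := by
        intro h
        exact hjne (congrArg Subtype.val h)
      rw [center_unique e₁ z _ hz hjc h1 hjn]
      exact hj2
  have hZ2 : ∀ z ∈ Subgroup.center ↥L₂, (z : G) ∈ L₁ := by
    intro z hz
    by_cases h1 : z = 1
    · rw [h1]; exact L₁.one_mem
    · have hjc : (⟨j, hj2⟩ : ↥L₂) ∈ Subgroup.center ↥L₂ := by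
        rw [Subgroup.mem_center_iff]
        intro g
        apply Subtype.ext
        exact hc' g g.2 j hj1
      have hjn : (⟨j, hj2⟩ : ↥L₂) ≠ 1 := by
        intro h
        exact hjne (congrArg Subtype.val h)
      rw [center_unique e₂ z _ hz hjc h1 hjn]
      exact hj1
  have hI1 : IndecModCenter L₁ := fun X Y hX hY hcomm hXY =>
    indec_of_equiv hF₁ e₁ X Y hX hY hcomm hXY
  have hI2 : IndecModCenter L₂ := fun X Y hX hY hcomm hXY =>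
    indec_of_equiv hF₂ e₂ X Y hX hY hcomm hXY
  -- `L₁` is normalized by `N`
  have hL1norm : ∀ g ∈ L₁ ⊔ L₂, ∀ a ∈ L₁, g * a * g⁻¹ ∈ L₁ := by
    intro g hg a ha
    obtain ⟨a1, ha1, b1, hb1, rfl⟩ := mem_sup_of_commute L₁ L₂ hc hg
    have : a1 * b1 * a * (a1 * b1)⁻¹ = a1 * a * a1⁻¹ := by
      calc a1 * b1 * a * (a1 * b1)⁻¹ = a1 * (b1 * a) * b1⁻¹ * a1⁻¹ := by group
        _ = a1 * (a * b1) * b1⁻¹ * a1⁻¹ := by rw [hc' b1 hb1 a ha]
        _ = a1 * a * a1⁻¹ := by group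
    rw [this]
    exact L₁.mul_mem (L₁.mul_mem ha1 ha) (L₁.inv_mem ha1)
  have hL2norm : ∀ g ∈ L₁ ⊔ L₂, ∀ b ∈ L₂, g * b * g⁻¹ ∈ L₂ := by
    intro g hg b hb
    obtain ⟨a1, ha1, b1, hb1, rfl⟩ := mem_sup_of_commute L₁ L₂ hc hg
    have : a1 * b1 * b * (a1 * b1)⁻¹ = b1 * b * b1⁻¹ := by
      calc a1 * b1 * b * (a1 * b1)⁻¹ = a1 * (b1 * b * b1⁻¹) * a1⁻¹ := by group
        _ = (b1 * b * b1⁻¹) * a1 * a1⁻¹ := by
            rw [hc a1 ha1 _ (L₂.mul_mem (L₂.mul_mem hb1 hb) (L₂.inv_mem hb1))]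
        _ = b1 * b * b1⁻¹ := by group
    rw [this]
    exact L₂.mul_mem (L₂.mul_mem hb1 hb) (L₂.inv_mem hb1)
  -- centralizers in `N`
  have hC2 : ∀ x ∈ L₁ ⊔ L₂, (∀ b ∈ L₂, x * b = b * x) → x ∈ L₁ := by
    intro x hx hxb
    obtain ⟨a1, ha1, b1, hb1, rfl⟩ := mem_sup_of_commute L₁ L₂ hc hx
    have hb1c : (⟨b1, hb1⟩ : ↥L₂) ∈ Subgroup.center ↥L₂ := by
      rw [Subgroup.mem_center_iff]
      intro g
      apply Subtype.ext
      show (g : G) * b1 = b1 * (g : G)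
      have h1 := hxb g g.2
      have h2 := hc a1 ha1 g g.2
      calc (g : G) * b1 = a1⁻¹ * ((g : G) * (a1 * b1)) := by
            rw [← mul_assoc (g : G), ← h2]; group
        _ = a1⁻¹ * (a1 * b1 * (g : G)) := by rw [h1]
        _ = b1 * (g : G) := by group
    exact L₁.mul_mem ha1 (hZ2 _ hb1c)
  have hC1 : ∀ x ∈ L₁ ⊔ L₂, (∀ a ∈ L₁, x * a = a * x) → x ∈ L₂ := by
    intro x hx hxa
    obtain ⟨a1, ha1, b1, hb1, rfl⟩ := mem_sup_of_commute L₁ L₂ hc hx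
    have ha1c : (⟨a1, ha1⟩ : ↥L₁) ∈ Subgroup.center ↥L₁ := by
      rw [Subgroup.mem_center_iff]
      intro g
      apply Subtype.ext
      show (g : G) * a1 = a1 * (g : G)
      have h1 := hxa g g.2
      have h2 := hc g g.2 b1 hb1
      calc (g : G) * a1 = ((g : G) * (a1 * b1)) * b1⁻¹ := by group
        _ = (a1 * b1 * (g : G)) * b1⁻¹ := by rw [h1]
        _ = a1 * (b1 * (g : G)) * b1⁻¹ := by group
        _ = a1 * ((g : G) * b1) * b1⁻¹ := by rw [h2]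
        _ = a1 * (g : G) := by group
    exact L₂.mul_mem (hZ1 _ ha1c) hb1
  -- the conjugates
  obtain ⟨A, hAdef⟩ : ∃ A : Subgroup G, A = L₁.map (MulAut.conj n).toMonoidHom := ⟨_, rfl⟩
  obtain ⟨B, hBdef⟩ : ∃ B : Subgroup G, B = L₂.map (MulAut.conj n).toMonoidHom := ⟨_, rfl⟩
  have memA : ∀ x, x ∈ A ↔ ∃ a ∈ L₁, n * a * n⁻¹ = x := by
    intro x
    rw [hAdef, Subgroup.mem_map]
    rfl
  have memB : ∀ x, x ∈ B ↔ ∃ b ∈ L₂, n * b * n⁻¹ = x := by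
    intro x
    rw [hBdef, Subgroup.mem_map]
    rfl
  have hAN : A ≤ L₁ ⊔ L₂ := by
    intro x hx
    obtain ⟨a, ha, rfl⟩ := (memA x).mp hx
    exact hNnorm n hn a (Subgroup.mem_sup_left ha)
  have hBN : B ≤ L₁ ⊔ L₂ := by
    intro x hx
    obtain ⟨b, hb, rfl⟩ := (memB x).mp hx
    exact hNnorm n hn b (Subgroup.mem_sup_right hb)
  have hNAB : L₁ ⊔ L₂ ≤ A ⊔ B := by
    intro x hx
    obtain ⟨a, ha, b, hb, hab⟩ := mem_sup_of_commute L₁ L₂ hc (hNnorm' n hn x hx)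
    have : x = (n * a * n⁻¹) * (n * b * n⁻¹) := by
      calc x = n * (n⁻¹ * x * n) * n⁻¹ := by group
        _ = n * (a * b) * n⁻¹ := by rw [hab]
        _ = (n * a * n⁻¹) * (n * b * n⁻¹) := by group
    rw [this]
    exact Subgroup.mul_mem _ (Subgroup.mem_sup_left ((memA _).mpr ⟨a, ha, rfl⟩))
      (Subgroup.mem_sup_right ((memB _).mpr ⟨b, hb, rfl⟩))
  have hcAB : ∀ x ∈ A, ∀ y ∈ B, x * y = y * x := by
    intro x hx y hy
    obtain ⟨a, ha, rfl⟩ := (memA x).mp hx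
    obtain ⟨b, hb, rfl⟩ := (memB y).mp hy
    calc n * a * n⁻¹ * (n * b * n⁻¹) = n * (a * b) * n⁻¹ := by group
      _ = n * (b * a) * n⁻¹ := by rw [hc a ha b hb]
      _ = n * b * n⁻¹ * (n * a * n⁻¹) := by group
  have hAnorm : ∀ g ∈ L₁ ⊔ L₂, ∀ x ∈ A, g * x * g⁻¹ ∈ A := by
    intro g hg x hx
    obtain ⟨a, ha, rfl⟩ := (memA x).mp hx
    refine (memA _).mpr ⟨(n⁻¹ * g * n) * a * (n⁻¹ * g * n)⁻¹,
      hL1norm _ (hNnorm' n hn g hg) a ha, ?_⟩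
    group
  have hBnorm : ∀ g ∈ L₁ ⊔ L₂, ∀ x ∈ B, g * x * g⁻¹ ∈ B := by
    intro g hg x hx
    obtain ⟨b, hb, rfl⟩ := (memB x).mp hx
    refine (memB _).mpr ⟨(n⁻¹ * g * n) * b * (n⁻¹ * g * n)⁻¹,
      hL2norm _ (hNnorm' n hn g hg) b hb, ?_⟩
    group
  have hCB : ∀ x ∈ L₁ ⊔ L₂, (∀ β ∈ B, x * β = β * x) → x ∈ A := by
    intro x hx hxB
    refine (memA _).mpr ⟨n⁻¹ * x * n, ?_, by group⟩
    apply hC2 _ (hNnorm' n hn x hx)
    intro b hb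
    have h1 := hxB _ ((memB _).mpr ⟨b, hb, rfl⟩)
    calc n⁻¹ * x * n * b = n⁻¹ * (x * (n * b * n⁻¹)) * n := by group
      _ = n⁻¹ * ((n * b * n⁻¹) * x) * n := by rw [h1]
      _ = b * (n⁻¹ * x * n) := by group
  have hcardA : Nat.card A = Nat.card L₁ := by
    rw [hAdef]
    exact Subgroup.card_map_of_injective (MulAut.conj n).injective
  have hcardB : Nat.card B = Nat.card L₂ := by
    rw [hBdef]
    exact Subgroup.card_map_of_injective (MulAut.conj n).injective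
  rw [← hAdef, ← hBdef]
  rcases decomp L₁ L₂ A B hc hcAB hAN hBN hNAB hAnorm hBnorm hI1 hZ1 hI2 hZ2 hCB with
    h | ⟨h1, h2⟩ | h
  · -- `A = L₁`
    left
    have hA : L₁ = A := Subgroup.eq_of_le_of_card_ge h (le_of_eq hcardA)
    refine ⟨hA.symm, ?_⟩
    apply Subgroup.eq_of_le_of_card_ge _ (le_of_eq hcardB.symm)
    intro β hβ
    apply hC1 β (hBN hβ)
    intro a ha
    exact (hcAB a (hA ▸ ha) β hβ).symm
  · -- `A = L₂`
    right
    have hA : A = L₂ := le_antisymm h1 h2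
    have hcard12 : Nat.card L₁ = Nat.card L₂ := by rw [← hcardA, hA]
    have hB : B = L₁ := by
      apply Subgroup.eq_of_le_of_card_ge _ (by rw [hcardB, hcard12])
      intro β hβ
      apply hC2 β (hBN hβ)
      intro b hb
      exact (hcAB b (hA ▸ hb) β hβ).symm
    refine ⟨hA, ?_, ?_⟩
    · apply card_SL2_inj
      rw [← Nat.card_congr e₁.toEquiv, ← Nat.card_congr e₂.toEquiv, hcard12]
    · obtain ⟨a, ha, b, hb, hab⟩ := mem_sup_of_commute L₁ L₂ hc hsq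
      have hb'2 : n * a * n⁻¹ ∈ L₂ := hA ▸ (memA _).mpr ⟨a, ha, rfl⟩
      have ha'1 : n * b * n⁻¹ ∈ L₁ := hB ▸ (memB _).mpr ⟨b, hb, rfl⟩
      -- `z = b * b'⁻¹ = a⁻¹ * a'`
      have hrel : (n * a * n⁻¹) * (n * b * n⁻¹) = a * b := by
        calc (n * a * n⁻¹) * (n * b * n⁻¹) = n * (a * b) * n⁻¹ := by group
          _ = n * (n * n) * n⁻¹ := by rw [hab]
          _ = n * n := by group
          _ = a * b := hab
      have hz : b * (n * a * n⁻¹)⁻¹ = a⁻¹ * (n * b * n⁻¹) := by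
        have h3 : (n * b * n⁻¹) * (n * a * n⁻¹) = a * b := by
          rw [hc _ ha'1 _ hb'2]; exact hrel
        calc b * (n * a * n⁻¹)⁻¹ = a⁻¹ * (a * b) * (n * a * n⁻¹)⁻¹ := by group
          _ = a⁻¹ * ((n * b * n⁻¹) * (n * a * n⁻¹)) * (n * a * n⁻¹)⁻¹ := by rw [h3]
          _ = a⁻¹ * (n * b * n⁻¹) := by group
      have hzL2 : b * (n * a * n⁻¹)⁻¹ ∈ L₂ := L₂.mul_mem hb (L₂.inv_mem hb'2)
      have hzL1 : b * (n * a * n⁻¹)⁻¹ ∈ L₁ := by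
        rw [hz]; exact L₁.mul_mem (L₁.inv_mem ha) ha'1
      have hzj : b * (n * a * n⁻¹)⁻¹ ∈ Subgroup.zpowers j := by
        rw [← hm]; exact ⟨hzL1, hzL2⟩
      refine ⟨n * a⁻¹, C.mul_mem hn (C.inv_mem (hle (Subgroup.mem_sup_left ha))), ?_, ?_, ?_⟩
      · intro hmem
        apply hn'
        have := Subgroup.mul_mem _ hmem (Subgroup.mem_sup_left (T := L₂) ha)
        rwa [inv_mul_cancel_right] at this
      · rw [← hA]
        ext x
        rw [memA, Subgroup.mem_map]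
        constructor
        · rintro ⟨a0, ha0, rfl⟩
          refine ⟨a⁻¹ * a0 * a, L₁.mul_mem (L₁.mul_mem (L₁.inv_mem ha) ha0) ha, ?_⟩
          show n * (a⁻¹ * a0 * a) * n⁻¹ = (n * a⁻¹) * a0 * (n * a⁻¹)⁻¹
          group
        · rintro ⟨a0, ha0, rfl⟩
          refine ⟨a * a0 * a⁻¹, L₁.mul_mem (L₁.mul_mem ha ha0) (L₁.inv_mem ha), ?_⟩
          show (n * a⁻¹) * (a * a0 * a⁻¹) * (n * a⁻¹)⁻¹ = n * a0 * n⁻¹
          group
      · have : (n * a⁻¹) ^ 2 = b * (n * a * n⁻¹)⁻¹ := by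
          rw [pow_two]
          calc n * a⁻¹ * (n * a⁻¹) = (n * a * n⁻¹)⁻¹ * (n * n) * a⁻¹ := by group
            _ = (n * a * n⁻¹)⁻¹ * (a * b) * a⁻¹ := by rw [hab]
            _ = (n * a * n⁻¹)⁻¹ * (b * a) * a⁻¹ := by rw [hc a ha b hb]
            _ = (n * a * n⁻¹)⁻¹ * (b * (n * a * n⁻¹)⁻¹) * (n * a * n⁻¹) := by group
            _ = (n * a * n⁻¹)⁻¹ * ((b * (n * a * n⁻¹)⁻¹) * (n * a * n⁻¹)) := by group
            _ = (n * a * n⁻¹)⁻¹ * ((n * a * n⁻¹) * (b * (n * a * n⁻¹)⁻¹)) := by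
                rw [hc _ hzL1 _ hb'2]
            _ = b * (n * a * n⁻¹)⁻¹ := by group
        rw [this]
        exact hzj
  · -- impossible
    exfalso
    rw [hm] at h
    have h1 : Nat.card A ≤ Nat.card (Subgroup.zpowers j) := Subgroup.card_le_of_le h
    rw [Nat.card_zpowers, hj, hcardA] at h1
    have := card_ge hF₁ e₁
    omega

end Cfsg.Agent.Lib.Helper12.CP
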