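import Mathlib

/-! Groups of class ≤ 2 and exponent dividing 4: commutators have order ≤ 2, squares are central,
`Ω₁(Z(G))` contains all squares and commutators. -/

set_option autoImplicit false

namespace Cfsg.Agent.Lib.Helper12.Class2Exp4

open scoped commutatorElement

/-- power of a product when the commutator is central -/
theorem mul_pow_cc {K : Type*} [Group K] (X Y : K)
    (hc : ∀ g : K, ⁅Y, X⁆ * g = g * ⁅Y, X⁆) (m : ℕ) :
    (X * Y) ^ m = X ^ m * Y ^ m * ⁅Y, X⁆ ^ (m.choose 2) := by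
  have hYX : ∀ k : ℕ, Y ^ k * X = X * Y ^ k * ⁅Y, X⁆ ^ k := by
    intro k
    induction k with
    | zero => simp
    | succ k ih =>
      have h1 : Y * X = X * Y * ⁅Y, X⁆ := by
        rw [← hc (X * Y), commutatorElement_def]; group
      calc Y ^ (k + 1) * X = Y ^ k * (Y * X) := by rw [pow_succ]; group
        _ = Y ^ k * (X * Y * ⁅Y, X⁆) := by rw [h1]
        _ = (Y ^ k * X) * Y * ⁅Y, X⁆ := by group
        _ = (X * Y ^ k * ⁅Y, X⁆ ^ k) * Y * ⁅Y, X⁆ := by rw [ih]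
        _ = X * Y ^ k * (⁅Y, X⁆ ^ k * Y) * ⁅Y, X⁆ := by group
        _ = X * Y ^ k * (Y * ⁅Y, X⁆ ^ k) * ⁅Y, X⁆ := by
            have : ⁅Y, X⁆ ^ k * Y = Y * ⁅Y, X⁆ ^ k := by
              have hcomm : Commute ⁅Y, X⁆ Y := hc Y
              exact (hcomm.pow_left k).eq
            rw [this]
        _ = X * Y ^ (k + 1) * ⁅Y, X⁆ ^ (k + 1) := by rw [pow_succ, pow_succ]; group
  induction m with
  | zero => simp
  | succ m ih =>
    have hcm : ∀ g : K, ⁅Y, X⁆ ^ (m.choose 2) * g = g * ⁅Y, X⁆ ^ (m.choose 2) := by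
      intro g
      have hcomm : Commute ⁅Y, X⁆ g := hc g
      exact (hcomm.pow_left _).eq
    calc (X * Y) ^ (m + 1) = (X * Y) ^ m * (X * Y) := pow_succ _ _
      _ = X ^ m * Y ^ m * ⁅Y, X⁆ ^ (m.choose 2) * (X * Y) := by rw [ih]
      _ = X ^ m * Y ^ m * ((X * Y) * ⁅Y, X⁆ ^ (m.choose 2)) := by rw [mul_assoc, hcm]
      _ = X ^ m * (Y ^ m * X) * Y * ⁅Y, X⁆ ^ (m.choose 2) := by group
      _ = X ^ m * (X * Y ^ m * ⁅Y, X⁆ ^ m) * Y * ⁅Y, X⁆ ^ (m.choose 2) := by rw [hYX]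
      _ = X ^ m * X * Y ^ m * (⁅Y, X⁆ ^ m * Y) * ⁅Y, X⁆ ^ (m.choose 2) := by group
      _ = X ^ m * X * Y ^ m * (Y * ⁅Y, X⁆ ^ m) * ⁅Y, X⁆ ^ (m.choose 2) := by
          have : ⁅Y, X⁆ ^ m * Y = Y * ⁅Y, X⁆ ^ m := by
            have hcomm : Commute ⁅Y, X⁆ Y := hc Y
            exact (hcomm.pow_left m).eq
          rw [this]
      _ = X ^ (m + 1) * Y ^ (m + 1) * ⁅Y, X⁆ ^ ((m + 1).choose 2) := by
          have h2 : (m + 1).choose 2 = m + m.choose 2 := by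
            rw [Nat.choose_succ_succ, Nat.choose_one_right]
          rw [h2, pow_add, pow_succ, pow_succ]; group

variable {P : Type*} [Group P]

/-- commutators have order at most 2 -/
theorem comm_sq (hcen : ∀ x y : P, ⁅x, y⁆ ∈ Subgroup.center P) (hexp : ∀ x : P, x ^ 4 = 1)
    (x y : P) : ⁅y, x⁆ ^ 2 = 1 := by
  have hc : ∀ g : P, ⁅y, x⁆ * g = g * ⁅y, x⁆ :=
    fun g => (Subgroup.mem_center_iff.mp (hcen y x) g).symm
  have h := mul_pow_cc x y hc 4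
  rw [hexp, hexp, hexp, one_mul, one_mul] at h
  have h6 : ⁅y, x⁆ ^ 6 = 1 := by
    have h46 : Nat.choose 4 2 = 6 := by decide
    rw [h46] at h
    exact h.symm
  have h4 := hexp ⁅y, x⁆
  calc ⁅y, x⁆ ^ 2 = ⁅y, x⁆ ^ 6 * (⁅y, x⁆ ^ 4)⁻¹ := by group
    _ = 1 := by rw [h6, h4, inv_one, one_mul]

/-- squares are central -/
theorem sq_mem_center (hcen : ∀ x y : P, ⁅x, y⁆ ∈ Subgroup.center P) (hexp : ∀ x : P, x ^ 4 = 1)
    (x : P) : x ^ 2 ∈ Subgroup.center P := by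
  rw [Subgroup.mem_center_iff]
  intro g
  have h1 : g * x * g⁻¹ = ⁅g, x⁆ * x := by rw [commutatorElement_def]; group
  have h2 : (g * x * g⁻¹) ^ 2 = g * x ^ 2 * g⁻¹ := conj_pow
  have h3 : Commute ⁅g, x⁆ x := (Subgroup.mem_center_iff.mp (hcen g x) x).symm
  have h4 : (⁅g, x⁆ * x) ^ 2 = ⁅g, x⁆ ^ 2 * x ^ 2 := h3.mul_pow 2
  rw [h1, h4, comm_sq hcen hexp x g, one_mul] at h2
  calc g * x ^ 2 = (g * x ^ 2 * g⁻¹) * g := by group
    _ = x ^ 2 * g := by rw [← h2]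

/-- `Ω₁(Z(P))`: central elements of order at most 2. -/
def omegaCenter (P : Type*) [Group P] : Subgroup P where
  carrier := {z | z ∈ Subgroup.center P ∧ z ^ 2 = 1}
  one_mem' := ⟨one_mem _, one_pow _⟩
  mul_mem' := by
    rintro a b ⟨ha, ha2⟩ ⟨hb, hb2⟩
    refine ⟨mul_mem ha hb, ?_⟩
    have hab : Commute a b := (Subgroup.mem_center_iff.mp ha b).symm
    show (a * b) ^ 2 = 1
    rw [hab.mul_pow, ha2, hb2, one_mul]
  inv_mem' := by
    rintro a ⟨ha, ha2⟩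
    exact ⟨inv_mem ha, by show a⁻¹ ^ 2 = 1; rw [inv_pow, ha2, inv_one]⟩

theorem mem_omegaCenter (z : P) : z ∈ omegaCenter P ↔ z ∈ Subgroup.center P ∧ z ^ 2 = 1 :=
  Iff.rfl

theorem omegaCenter_le_center : omegaCenter P ≤ Subgroup.center P := fun _ hz => hz.1

instance omegaCenter_normal : (omegaCenter P).Normal := ⟨fun n hn g => by
  have := Subgroup.mem_center_iff.mp hn.1 g
  rw [this, mul_inv_cancel_right]
  exact hn⟩

theorem commutator_le_omegaCenter (hcen : ∀ x y : P, ⁅x, y⁆ ∈ Subgroup.center P)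
    (hexp : ∀ x : P, x ^ 4 = 1) : commutator P ≤ omegaCenter P := by
  rw [commutator_def, Subgroup.commutator_le]
  intro a _ b _
  exact ⟨hcen a b, comm_sq hcen hexp b a⟩

theorem sq_mem_omegaCenter (hcen : ∀ x y : P, ⁅x, y⁆ ∈ Subgroup.center P)
    (hexp : ∀ x : P, x ^ 4 = 1) (x : P) : x ^ 2 ∈ omegaCenter P :=
  ⟨sq_mem_center hcen hexp x, by rw [← pow_mul]; exact hexp x⟩

end Cfsg.Agent.Lib.Helper12.Class2Exp4
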