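import Cfsg.Agent.Lib.Helper12.DkX2

/-!
Coatoms of `SL₂(F)` (odd characteristic) whose image in `PSL₂(F)` is `A₄`, `S₄` or `A₅`:
the field is generated by the traces (helper12).
-/

set_option autoImplicit false

namespace Cfsg.Agent.Lib.Helper12.DkX

open Cfsg.Agent.Lib.Helper12.SL2 Cfsg.Agent.Lib.Helper12.DkQ Cfsg.Agent.S0804 Equiv

/-! ### concrete facts -/

/-- a double transposition of `A₄` -/
def a4a : alternatingGroup (Fin 4) :=
  ⟨swap 0 1 * swap 2 3, Equiv.Perm.mem_alternatingGroup.mpr (by decide)⟩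
/-- another double transposition of `A₄` -/
def a4b : alternatingGroup (Fin 4) :=
  ⟨swap 0 2 * swap 1 3, Equiv.Perm.mem_alternatingGroup.mpr (by decide)⟩
theorem a4_pow : ∀ x : alternatingGroup (Fin 4), x ^ 2 = 1 ∨ x ^ 3 = 1 := by decide
theorem a4a_ord : a4a ^ 2 = 1 ∧ a4a ≠ 1 := by decide
theorem a4b_ord : a4b ^ 2 = 1 ∧ a4b ≠ 1 := by decide
theorem a4ab_ord : (a4a * a4b) ^ 2 = 1 ∧ a4a * a4b ≠ 1 := by decide

/-- a double transposition of `S₄` -/
def s4a : Perm (Fin 4) := swap 0 1 * swap 2 3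
/-- another double transposition of `S₄` -/
def s4b : Perm (Fin 4) := swap 0 2 * swap 1 3
set_option maxRecDepth 100000 in
theorem s4_even : ∀ x : Perm (Fin 4), Perm.sign x = 1 → x ^ 2 = 1 ∨ x ^ 3 = 1 := by decide
set_option maxRecDepth 100000 in
theorem s4_odd : ∀ x : Perm (Fin 4), Perm.sign x ≠ 1 → x ^ 2 = 1 ∨ x ^ 4 = 1 := by decide
theorem s4_facts : s4a ^ 2 = 1 ∧ s4a ≠ 1 ∧ Perm.sign s4a = 1 ∧ s4b ^ 2 = 1 ∧ s4b ≠ 1 ∧
    Perm.sign s4b = 1 ∧ (s4a * s4b) ^ 2 = 1 ∧ s4a * s4b ≠ 1 := by decide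

/-- a double transposition of `A₅` -/
def a5a : alternatingGroup (Fin 5) :=
  ⟨swap 0 1 * swap 2 3, Equiv.Perm.mem_alternatingGroup.mpr (by decide)⟩
/-- another double transposition of `A₅` -/
def a5b : alternatingGroup (Fin 5) :=
  ⟨swap 0 2 * swap 1 3, Equiv.Perm.mem_alternatingGroup.mpr (by decide)⟩
/-- a five-cycle -/
def a5c : alternatingGroup (Fin 5) :=
  ⟨finRotate 5, Equiv.Perm.mem_alternatingGroup.mpr (by decide)⟩
theorem a5c_ord : a5c ^ 5 = 1 ∧ a5c ≠ 1 := by decide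
theorem a5ab : a5a ^ 2 = 1 ∧ a5a ≠ 1 ∧ a5b ^ 2 = 1 ∧ a5b ≠ 1 ∧ (a5a * a5b) ^ 2 = 1 ∧
    a5a * a5b ≠ 1 := by decide
set_option maxRecDepth 100000 in
theorem a5_pow : ∀ x : alternatingGroup (Fin 5), x ^ 2 = 1 ∨ x ^ 3 = 1 ∨ x ^ 5 = 1 := by decide

theorem orderOf_two_of {G : Type*} [Group G] {a : G} (h : a ^ 2 = 1 ∧ a ≠ 1) : orderOf a = 2 :=
  orderOf_eq_prime h.1 h.2

variable {F : Type*} [Field F]

local notation "SL2" => Matrix.SpecialLinearGroup (Fin 2)
local notation "M2" => Matrix (Fin 2) (Fin 2)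
local notation "π" => QuotientGroup.mk' (Subgroup.center (Matrix.SpecialLinearGroup (Fin 2) F))

theorem tr_of_pow_two' (Y : SL2 F) (hY : NonScalar Y) (h : Sc (Y ^ 2)) : tr Y = 0 :=
  coeff_zero_of_scalar Y _ _ _ (isLin_pow2 Y) h hY

theorem tr_of_pow_four' (Y : SL2 F) (hY : NonScalar Y) (h : Sc (Y ^ 4)) :
    tr Y = 0 ∨ tr Y ^ 2 = 2 := by
  have := coeff_zero_of_scalar Y _ _ _ (isLin_pow4 Y) h hY
  have h2 : tr Y * (tr Y ^ 2 - 2) = 0 := by linear_combination this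
  rcases mul_eq_zero.mp h2 with h3 | h3
  · left; exact h3
  · right; exact sub_eq_zero.mp h3

theorem tr_of_pow_five' (Y : SL2 F) (hY : NonScalar Y) (h : Sc (Y ^ 5)) :
    tr Y ^ 2 + tr Y - 1 = 0 ∨ tr Y ^ 2 - tr Y - 1 = 0 := by
  have := coeff_zero_of_scalar Y _ _ _ (isLin_pow5 Y) h hY
  have h2 : (tr Y ^ 2 + tr Y - 1) * (tr Y ^ 2 - tr Y - 1) = 0 := by linear_combination this
  exact mul_eq_zero.mp h2

theorem small_mem (K : Subfield F) {t : F} (h : t = 2 ∨ t = -2 ∨ t = 0 ∨ t = 1 ∨ t = -1) :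
    t ∈ K := by
  have h2K : (2 : F) ∈ K := by exact_mod_cast natCast_mem K 2
  rcases h with h | h | h | h | h <;> rw [h]
  · exact h2K
  · exact K.neg_mem h2K
  · exact K.zero_mem
  · exact K.one_mem
  · exact K.neg_mem K.one_mem

variable [Fintype F] (p : ℕ) [Fact p.Prime] [CharP F p] {Mh : Subgroup (SL2 F)}

theorem le_card : p ≤ Fintype.card F := by
  obtain ⟨n, -, hn⟩ := FiniteField.card F p
  rw [hn]
  exact Nat.le_self_pow n.ne_zero p

theorem Kfix_one_ne_top (hq : Fintype.card F ≠ p) : Kfix F p 1 ≠ ⊤ := by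
  intro htop
  have := card_le_of_Kfix_eq_top p 1 one_pos htop
  rw [pow_one] at this
  exact hq (le_antisymm this (le_card p))

/-- `A₄`-type coatoms of order prime to `p` live over the prime field -/
theorem card_eq_of_A4 (h2 : (2 : F) ≠ 0) (hcoat : IsCoatom Mh)
    (e : ↥(Mh.map π) ≃* alternatingGroup (Fin 4)) (hp : ¬ p ∣ Nat.card Mh) :
    Fintype.card F = p := by
  by_contra hq
  have hK := Kfix_one_ne_top p hq
  obtain ⟨i, j, hi, hj, ti, tj, tk, -, -⟩ := exists_qpair_of_iso h2 e a4a a4b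
    (orderOf_two_of a4a_ord) (orderOf_two_of a4b_ord) (orderOf_two_of a4ab_ord)
  have htrK : ∀ g ∈ Mh, tr g ∈ Kfix F p 1 := by
    intro g hg
    apply small_mem
    rcases a4_pow (img e g hg) with h | h
    · rcases tr_of_pow_two g (sc_pow_of_img e g hg 2 h) with h | h | h
      · exact Or.inl h
      · exact Or.inr (Or.inl h)
      · exact Or.inr (Or.inr (Or.inl h))
    · rcases tr_of_pow_three g (sc_pow_of_img e g hg 3 h) with h | h | h | h
      · exact Or.inl h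
      · exact Or.inr (Or.inl h)
      · exact Or.inr (Or.inr (Or.inr (Or.inl h)))
      · exact Or.inr (Or.inr (Or.inr (Or.inr h)))
  have := card_dvd_of_traces p h2 _ hK hcoat i j ti tj tk 1
    (by rw [mul_one]; exact (Kfix F p 1).one_mem)
    (fun g hg => Or.inl ⟨htrK g hg, htrK _ (Mh.mul_mem hg hi), htrK _ (Mh.mul_mem hg hj),
      htrK _ (Mh.mul_mem hg (Mh.mul_mem hi hj))⟩)
  exact hp ((dvd_card_Kfix p 1).trans this)

/-- `S₄`-type coatoms of order prime to `p` live over the prime field -/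
theorem card_eq_of_S4 (h2 : (2 : F) ≠ 0) (hcoat : IsCoatom Mh)
    (e : ↥(Mh.map π) ≃* Perm (Fin 4)) (hp : ¬ p ∣ Nat.card Mh) :
    Fintype.card F = p := by
  by_contra hq
  have hK := Kfix_one_ne_top p hq
  obtain ⟨s4a2, s4a1, s4as, s4b2, s4b1, s4bs, s4ab2, s4ab1⟩ := s4_facts
  obtain ⟨i, j, hi, hj, ti, tj, tk, hia, hjb⟩ := exists_qpair_of_iso h2 e s4a s4b
    (orderOf_two_of ⟨s4a2, s4a1⟩) (orderOf_two_of ⟨s4b2, s4b1⟩) (orderOf_two_of ⟨s4ab2, s4ab1⟩)
  -- the scaling factor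
  obtain ⟨s, hsK, hs⟩ : ∃ s : F, s * s ∈ Kfix F p 1 ∧ ∀ t : F, t ^ 2 = 2 → t = s ∨ t = -s := by
    by_cases hex : ∃ s : F, s ^ 2 = 2
    · obtain ⟨s, hs⟩ := hex
      refine ⟨s, ?_, ?_⟩
      · rw [← pow_two, hs]; exact_mod_cast natCast_mem (Kfix F p 1) 2
      · intro t ht
        have : (t - s) * (t + s) = 0 := by linear_combination ht - hs
        rcases mul_eq_zero.mp this with h | h
        · left; exact sub_eq_zero.mp h
        · right; exact eq_neg_of_add_eq_zero_left h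
    · refine ⟨1, by rw [mul_one]; exact (Kfix F p 1).one_mem, ?_⟩
      intro t ht
      exact absurd ⟨t, ht⟩ hex
  have keven : ∀ g (hg : g ∈ Mh), Perm.sign (img e g hg) = 1 → tr g ∈ Kfix F p 1 := by
    intro g hg hsg
    apply small_mem
    rcases s4_even (img e g hg) hsg with h | h
    · rcases tr_of_pow_two g (sc_pow_of_img e g hg 2 h) with h | h | h
      · exact Or.inl h
      · exact Or.inr (Or.inl h)
      · exact Or.inr (Or.inr (Or.inl h))
    · rcases tr_of_pow_three g (sc_pow_of_img e g hg 3 h) with h | h | h | h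
      · exact Or.inl h
      · exact Or.inr (Or.inl h)
      · exact Or.inr (Or.inr (Or.inr (Or.inl h)))
      · exact Or.inr (Or.inr (Or.inr (Or.inr h)))
  have kodd : ∀ g (hg : g ∈ Mh), Perm.sign (img e g hg) ≠ 1 →
      ∃ c ∈ Kfix F p 1, tr g = s * c := by
    intro g hg hsg
    have hne : img e g hg ≠ 1 := by
      intro h1
      apply hsg
      rw [h1, map_one]
    have hNS := nonScalar_of_img_ne_one e g hg hne
    have h0 : tr g = 0 ∨ tr g ^ 2 = 2 := by
      rcases s4_odd (img e g hg) hsg with h | h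
      · left; exact tr_of_pow_two' g hNS (sc_pow_of_img e g hg 2 h)
      · exact tr_of_pow_four' g hNS (sc_pow_of_img e g hg 4 h)
    rcases h0 with h0 | h0
    · exact ⟨0, (Kfix F p 1).zero_mem, by rw [h0, mul_zero]⟩
    · rcases hs _ h0 with h1 | h1
      · exact ⟨1, (Kfix F p 1).one_mem, by rw [h1, mul_one]⟩
      · exact ⟨-1, (Kfix F p 1).neg_mem (Kfix F p 1).one_mem, by rw [h1]; ring⟩
  have hsi : Perm.sign (img e i hi) = 1 := by rw [hia]; exact s4as
  have hsj : Perm.sign (img e j hj) = 1 := by rw [hjb]; exact s4bs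
  have hsk : Perm.sign (img e (i * j) (Mh.mul_mem hi hj)) = 1 := by
    rw [img_mul e i j hi hj, map_mul, hsi, hsj, one_mul]
  have hsmul : ∀ g (hg : g ∈ Mh) u (hu : u ∈ Mh), Perm.sign (img e u hu) = 1 →
      Perm.sign (img e (g * u) (Mh.mul_mem hg hu)) = Perm.sign (img e g hg) := by
    intro g hg u hu hsu
    rw [img_mul e g u hg hu, map_mul, hsu, mul_one]
  have := card_dvd_of_traces p h2 _ hK hcoat i j ti tj tk s hsK (by
    intro g hg
    by_cases hsg : Perm.sign (img e g hg) = 1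
    · left
      refine ⟨keven g hg hsg, keven _ (Mh.mul_mem hg hi) ?_, keven _ (Mh.mul_mem hg hj) ?_,
        keven _ (Mh.mul_mem hg (Mh.mul_mem hi hj)) ?_⟩
      · rw [hsmul g hg i hi hsi, hsg]
      · rw [hsmul g hg j hj hsj, hsg]
      · rw [hsmul g hg _ _ hsk, hsg]
    · right
      refine ⟨kodd g hg hsg, kodd _ (Mh.mul_mem hg hi) ?_, kodd _ (Mh.mul_mem hg hj) ?_,
        kodd _ (Mh.mul_mem hg (Mh.mul_mem hi hj)) ?_⟩
      · rw [hsmul g hg i hi hsi]; exact hsg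
      · rw [hsmul g hg j hj hsj]; exact hsg
      · rw [hsmul g hg _ _ hsk]; exact hsg)
  exact hp ((dvd_card_Kfix p 1).trans this)

end Cfsg.Agent.Lib.Helper12.DkX
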