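import Cfsg.Agent.Lib.Helper12.DkX3

/-!
`A₅`-type coatoms of `SL₂(F)`: the field is `𝔽_p(√5)` (helper12).
-/

set_option autoImplicit false

namespace Cfsg.Agent.Lib.Helper12.DkX

open Cfsg.Agent.Lib.Helper12.SL2 Cfsg.Agent.Lib.Helper12.DkQ Cfsg.Agent.S0804 Equiv

variable {F : Type*} [Field F]

local notation "SL2" => Matrix.SpecialLinearGroup (Fin 2)
local notation "M2" => Matrix (Fin 2) (Fin 2)
local notation "π" => QuotientGroup.mk' (Subgroup.center (Matrix.SpecialLinearGroup (Fin 2) F))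

variable (p : ℕ) [Fact p.Prime] [CharP F p]

theorem castHom_mem (K : Subfield F) (c : ZMod p) : ZMod.castHom (dvd_refl p) F c ∈ K := by
  have : ZMod.castHom (dvd_refl p) F c = ((c.val : ℕ) : F) := by
    simp [ZMod.natCast_val]
  rw [this]
  exact natCast_mem K _

theorem five_ne_zero (hp5 : p ≠ 5) : (5 : F) ≠ 0 := by
  intro h
  have h' : ((5 : ℕ) : F) = 0 := by exact_mod_cast h
  rw [CharP.cast_eq_zero_iff F p 5] at h'
  rcases (Nat.dvd_prime (by norm_num : Nat.Prime 5)).mp h' with h1 | h1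
  · exact (Fact.out : p.Prime).one_lt.ne' h1
  · exact hp5 h1

theorem sq_five_mem_Kfix_two (hp2 : p ≠ 2) (hp5 : p ≠ 5) (s : F) (hs : s ^ 2 = 5) :
    s ∈ Kfix F p 2 := by
  rw [mem_Kfix]
  obtain ⟨k, hk⟩ := (Fact.out : p.Prime).odd_of_ne_two hp2
  have h5 := five_ne_zero (F := F) p hp5
  have hfrob : (5 : F) ^ p = 5 := by
    have := map_natCast (frobenius F p) 5
    rw [frobenius_def] at this
    exact_mod_cast this
  have hp1 : (5 : F) ^ (p - 1) = 1 := by
    have hpos : 1 ≤ p := (Fact.out : p.Prime).pos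
    have : (5 : F) ^ (p - 1) * 5 = 1 * 5 := by
      rw [← pow_succ, Nat.sub_add_cancel hpos, hfrob, one_mul]
    exact mul_right_cancel₀ h5 this
  have e : p ^ 2 = 2 * ((p - 1) * (k + 1)) + 1 := by
    rw [hk]
    simp only [Nat.add_sub_cancel]
    ring
  rw [e, pow_succ, pow_mul, hs, pow_mul, hp1, one_pow, one_mul]

theorem root_mem_of_sqrt (K : Subfield F) (h2 : (2 : F) ≠ 0)
    (hsq : ∀ s : F, s ^ 2 = 5 → s ∈ K) (t : F)
    (ht : t ^ 2 + t - 1 = 0 ∨ t ^ 2 - t - 1 = 0) : t ∈ K := by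
  have h2K : (2 : F) ∈ K := by exact_mod_cast natCast_mem K 2
  rcases ht with ht | ht
  · have hs : (2 * t + 1) ^ 2 = 5 := by linear_combination 4 * ht
    have := hsq _ hs
    have e : t = ((2 * t + 1) - 1) * (2 : F)⁻¹ := by field_simp; ring
    rw [e]
    exact K.mul_mem (K.sub_mem this K.one_mem) (K.inv_mem h2K)
  · have hs : (2 * t - 1) ^ 2 = 5 := by linear_combination 4 * ht
    have := hsq _ hs
    have e : t = ((2 * t - 1) + 1) * (2 : F)⁻¹ := by field_simp; ring
    rw [e]
    exact K.mul_mem (K.add_mem this K.one_mem) (K.inv_mem h2K)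

theorem exists_sqrt_five (h10 : p % 10 = 1 ∨ p % 10 = 9) :
    ∃ c : F, c ∈ Kfix F p 1 ∧ c * c = 5 := by
  haveI : Fact (Nat.Prime 5) := ⟨by norm_num⟩
  have hp2 : p ≠ 2 := by
    rintro rfl
    omega
  have hiff := ZMod.exists_sq_eq_prime_iff_of_mod_four_eq_one (p := 5) (q := p) (by norm_num) hp2
  have hsq : IsSquare ((p : ℕ) : ZMod 5) := by
    rw [← ZMod.natCast_mod p 5]
    rcases h10 with h | h
    · have : p % 5 = 1 := by omega
      rw [this]
      exact ⟨(1 : ZMod 5), by push_cast; norm_num⟩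
    · have : p % 5 = 4 := by omega
      rw [this]
      exact ⟨(2 : ZMod 5), by push_cast; norm_num⟩
  obtain ⟨c, hc⟩ := hiff.mp hsq
  refine ⟨ZMod.castHom (dvd_refl p) F c, castHom_mem p _ c, ?_⟩
  rw [← map_mul, ← hc, map_natCast]
  norm_num

variable [Fintype F] {Mh : Subgroup (SL2 F)}

/-- `A₅`-type coatoms live over `𝔽_p(√5)` -/
theorem card_of_A5 (h2 : (2 : F) ≠ 0) (hcoat : IsCoatom Mh)
    (e : ↥(Mh.map π) ≃* alternatingGroup (Fin 5)) (hp5 : p ≠ 5)
    (hp : ¬ p ∣ Nat.card Mh ∨ (p = 3 ∧ ¬ 9 ∣ Nat.card Mh)) :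
    Fintype.card F = p ∨ (Fintype.card F = p ^ 2 ∧ (p % 10 = 3 ∨ p % 10 = 7)) := by
  classical
  have hp2 : p ≠ 2 := by
    rintro rfl
    apply h2
    have := CharP.cast_eq_zero F 2
    exact_mod_cast this
  obtain ⟨a2, a1, b2, b1, ab2, ab1⟩ := a5ab
  obtain ⟨i, j, hi, hj, ti, tj, tk, -, -⟩ := exists_qpair_of_iso h2 e a5a a5b
    (orderOf_two_of ⟨a2, a1⟩) (orderOf_two_of ⟨b2, b1⟩) (orderOf_two_of ⟨ab2, ab1⟩)
  -- traces
  have htrK : ∀ K : Subfield F, (∀ s : F, s ^ 2 = 5 → s ∈ K) → ∀ g ∈ Mh, tr g ∈ K := by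
    intro K hsq g hg
    rcases a5_pow (img e g hg) with h | h | h
    · apply small_mem
      rcases tr_of_pow_two g (sc_pow_of_img e g hg 2 h) with h | h | h
      · exact Or.inl h
      · exact Or.inr (Or.inl h)
      · exact Or.inr (Or.inr (Or.inl h))
    · apply small_mem
      rcases tr_of_pow_three g (sc_pow_of_img e g hg 3 h) with h | h | h | h
      · exact Or.inl h
      · exact Or.inr (Or.inl h)
      · exact Or.inr (Or.inr (Or.inr (Or.inl h)))
      · exact Or.inr (Or.inr (Or.inr (Or.inr h)))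
    · rcases tr_of_pow_five g (sc_pow_of_img e g hg 5 h) with h | h | h | h
      · exact small_mem K (Or.inl h)
      · exact small_mem K (Or.inr (Or.inl h))
      · exact root_mem_of_sqrt K h2 hsq _ (Or.inl h)
      · exact root_mem_of_sqrt K h2 hsq _ (Or.inr h)
  have hdesc : ∀ K : Subfield F, K ≠ ⊤ → (∀ s : F, s ^ 2 = 5 → s ∈ K) →
      Nat.card K ∣ Nat.card Mh := by
    intro K hK hsq
    exact card_dvd_of_traces p h2 K hK hcoat i j ti tj tk 1
      (by rw [mul_one]; exact K.one_mem)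
      (fun g hg => Or.inl ⟨htrK K hsq g hg, htrK K hsq _ (Mh.mul_mem hg hi),
        htrK K hsq _ (Mh.mul_mem hg hj), htrK K hsq _ (Mh.mul_mem hg (Mh.mul_mem hi hj))⟩)
  -- step A : `Kfix 2 = ⊤`
  have hK2 : Kfix F p 2 = ⊤ := by
    by_contra hK
    have hdvd := hdesc _ hK (sq_five_mem_Kfix_two p hp2 hp5)
    rcases hp with hp | ⟨hp3, h9⟩
    · exact hp ((dvd_card_Kfix p 2).trans hdvd)
    · subst hp3
      haveI : Finite (Kfix F 3 2) :=
        Finite.of_injective (fun x : Kfix F 3 2 => (x : F)) Subtype.val_injective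
      letI : Fintype (Kfix F 3 2) := Fintype.ofFinite _
      haveI : CharP (Kfix F 3 2) 3 := RingHom.charP (Kfix F 3 2).subtype Subtype.val_injective 3
      obtain ⟨n, -, hn⟩ := FiniteField.card (Kfix F 3 2) 3
      have hn1 : (n : ℕ) = 1 := by
        by_contra hne
        have hn2 : 2 ≤ (n : ℕ) := by
          have := n.pos
          omega
        apply h9
        refine dvd_trans ?_ hdvd
        rw [Nat.card_eq_fintype_card, hn]
        exact pow_dvd_pow 3 hn2
      rw [hn1, pow_one] at hn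
      -- an element of order five
      obtain ⟨g, hg, hgc⟩ := exists_img_eq e a5c
      have hNS := nonScalar_of_img_ne_one e g hg (by rw [hgc]; exact a5c_ord.2)
      have hSc := sc_pow_of_img e g hg 5 (by rw [hgc]; exact a5c_ord.1)
      have hroot := tr_of_pow_five' g hNS hSc
      have hmem : tr g ∈ Kfix F 3 2 :=
        root_mem_of_sqrt _ h2 (sq_five_mem_Kfix_two 3 hp2 hp5) _ hroot
      have hcube : tr g ^ 3 = tr g := by
        have := FiniteField.pow_card (⟨tr g, hmem⟩ : Kfix F 3 2)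
        rw [hn] at this
        exact congrArg Subtype.val this
      rcases hroot with h | h
      · have h1 : tr g = 1 := by linear_combination hcube - (tr g - 1) * h
        rw [h1] at h
        norm_num at h
      · have h1 : tr g = -1 := by linear_combination hcube - (tr g + 1) * h
        rw [h1] at h
        norm_num at h
  -- step B
  have hle := card_le_of_Kfix_eq_top p 2 (by norm_num) hK2
  obtain ⟨n, -, hn⟩ := FiniteField.card F p
  have hp1 : 1 < p := (Fact.out : p.Prime).one_lt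
  have hn2 : (n : ℕ) ≤ 2 := by
    rw [hn] at hle
    exact (Nat.pow_le_pow_iff_right hp1).mp hle
  have hn0 := n.pos
  rcases Nat.lt_or_ge (n : ℕ) 2 with hlt | hge
  · left
    have : (n : ℕ) = 1 := by omega
    rw [hn, this, pow_one]
  · right
    have hn2' : (n : ℕ) = 2 := le_antisymm hn2 hge
    rw [hn2'] at hn
    refine ⟨hn, ?_⟩
    by_contra h37
    push Not at h37
    have h10 : p % 10 = 1 ∨ p % 10 = 9 := by
      have hodd : p % 2 = 1 := by
        rcases (Fact.out : p.Prime).eq_two_or_odd with h | h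
        · exact absurd h hp2
        · exact h
      have h5 : p % 5 ≠ 0 := by
        intro h
        have h5p : 5 ∣ p := Nat.dvd_of_mod_eq_zero h
        rcases (Nat.dvd_prime (Fact.out : p.Prime)).mp h5p with h1 | h1
        · norm_num at h1
        · exact hp5 h1.symm
      omega
    obtain ⟨c, hcK, hc5⟩ := exists_sqrt_five (F := F) p h10
    have hK1 : Kfix F p 1 ≠ ⊤ := by
      apply Kfix_one_ne_top
      rw [hn]
      intro h
      have : p * p = p * 1 := by rw [mul_one, ← pow_two]; exact h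
      have := Nat.eq_of_mul_eq_mul_left (by omega) this
      omega
    have hsq : ∀ s : F, s ^ 2 = 5 → s ∈ Kfix F p 1 := by
      intro s hs
      have : (s - c) * (s + c) = 0 := by linear_combination hs - hc5
      rcases mul_eq_zero.mp this with h | h
      · rw [sub_eq_zero.mp h]; exact hcK
      · rw [eq_neg_of_add_eq_zero_left h]; exact (Kfix F p 1).neg_mem hcK
    have hdvd := hdesc _ hK1 hsq
    rcases hp with hp | ⟨hp3, -⟩
    · exact hp ((dvd_card_Kfix p 1).trans hdvd)
    · omega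

end Cfsg.Agent.Lib.Helper12.DkX
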