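import Cfsg.Agent.Lib.Helper12.DkG
import Cfsg.Agent.Lib.Helper1.DkIso
import Cfsg.Agent.Lib.Lead.DicksonField5

/-!
Dickson assembly, part 2 (helper12): subgroups in standard position (conclusions (a), (c), (d)) and
subgroups with a normal Sylow `p`-subgroup (they fix a line).
-/

set_option autoImplicit false

namespace Cfsg.Agent.Lib.Helper12.DkH

open Cfsg.Agent.Lib.Lead.DicksonCA Cfsg.Agent.Lib.Lead.DicksonSL2 Cfsg.Agent.Lib.Lead.SL2Scalar
  Cfsg.Agent.Lib.Helper12.DkE Cfsg.Agent.Lib.Helper12.DkA Cfsg.Agent.Lib.Helper12.DkF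
  Cfsg.Agent.Lib.Helper12.DkG Cfsg.Agent.Lib.Lead.DicksonAbs
  Cfsg.Agent.Lib.Helper9.SL2Upper Cfsg.Agent.Lib.Lead.DicksonBase

variable {F : Type*} [Field F]

local notation "SL2" => Matrix.SpecialLinearGroup (Fin 2) F
local notation "M2" => Matrix (Fin 2) (Fin 2) F
local notation "PSL2" => Matrix.ProjectiveSpecialLinearGroup (Fin 2)
local notation "PGL2" => Matrix.ProjGenLinGroup (Fin 2)

/-- a finite field has a copy in `Type` -/
theorem exists_type0 (K0 : Type*) [Field K0] [Finite K0] :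
    ∃ (K : Type) (_ : Field K) (_ : Fintype K), Nonempty (K ≃+* K0) := by
  let e : Fin (Nat.card K0) ≃ K0 := (Finite.equivFin K0).symm
  letI : Field (Fin (Nat.card K0)) := e.field
  exact ⟨Fin (Nat.card K0), e.field, inferInstance, ⟨e.ringEquiv⟩⟩

variable {H : Subgroup (Matrix.SpecialLinearGroup (Fin 2) F)}

/-- in standard position, `p`-singular elements are not of abelian or dihedral type -/
theorem not_dvd_of_case (p : ℕ) [hp : Fact p.Prime] [CharP F p] [Finite H] (hne : PH H ≠ ⊥)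
    (hnB : ∃ y : H, (y : SL2) ∉ Cfsg.Agent.Lib.Lead.DicksonSL2.Borel) {g : H} (hg : g ∉ ZH H)
    (hcase : C g = ⊤ ∨ Nat.card H = 2 * Nat.card (C g)) : ¬ p ∣ Nat.card (C g) := by
  intro hd
  have hyp := hyp_of' p hne hnB
  obtain ⟨u, hu, hu1⟩ := exists_u hyp
  obtain ⟨_, h, hh⟩ := (p_type_iff hyp hu hu1 hg).mp hd
  have hC : C (h * g * h⁻¹) = C u := C_conj_eq_of_mem hyp.ca (not_mem_Z hyp hu hu1) hg hh
  have hcard : Nat.card (C g) =
      Nat.card (ZH H) * Nat.card ((sylowPH p hne : Sylow p H) : Subgroup H) := by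
    rw [← card_C_conj g h, hC, hyp.hPC u hu hu1, card_ZP hyp]
  rcases hcase with htop | h2
  · -- `Z P = ⊤`
    apply hyp.hn
    have h1 : Nat.card (C g) = Nat.card H := by rw [htop, Subgroup.card_top]
    have h3 : (ZH H ⊔ ((sylowPH p hne : Sylow p H) : Subgroup H) : Subgroup H) = ⊤ := by
      apply Subgroup.eq_top_of_card_eq
      rw [card_ZP hyp, ← hcard, h1]
    exact top_le_iff.mp (h3 ▸ ZP_le_N hyp)
  · obtain ⟨kb, hkb1, hN⟩ := exists_kb hyp
    have hH := card_H_eq (sylowPH p hne : Sylow p H)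
    have hdvd := card_dvd_index_sub_one hyp
    set n := (Subgroup.normalizer (((sylowPH p hne : Sylow p H) : Subgroup H) : Set H)).index
      with hn
    have hzpos : 0 < Nat.card (ZH H) := Nat.card_pos
    have hQpos : 0 < Nat.card ((sylowPH p hne : Sylow p H) : Subgroup H) := Nat.card_pos
    have h3 : n * kb = 2 := by
      have e : (n * kb) * (Nat.card (ZH H) * Nat.card ((sylowPH p hne : Sylow p H) : Subgroup H)) =
          2 * (Nat.card (ZH H) * Nat.card ((sylowPH p hne : Sylow p H) : Subgroup H)) := by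
        rw [← hcard, ← h2, hH, hN, hcard]; ring
      exact Nat.eq_of_mul_eq_mul_right (Nat.mul_pos hzpos hQpos) e
    have hn1 : n ≠ 1 := by
      intro h1
      exact hyp.hn (Subgroup.index_eq_one.mp h1)
    have hn2 : n = 2 := by
      have hdv : n ∣ 2 := Dvd.intro _ h3
      rcases (Nat.dvd_prime Nat.prime_two).mp hdv with h | h
      · exact absurd h hn1
      · exact h
    rw [hn2] at hdvd
    have hQ1 : Nat.card ((sylowPH p hne : Sylow p H) : Subgroup H) = 1 := Nat.dvd_one.mp hdvd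
    exact hyp.hP1 (Subgroup.card_eq_one.mp hQ1)

/-- subgroups of `SL₂(F)` in standard position -/
theorem T2 [Fintype F] (p : ℕ) [hp : Fact p.Prime] [CharP F p] {b : F} (hb : b ≠ 0)
    (h1 : (upper 1 : SL2) ∈ H) (hy : (lower b : SL2) ∈ H) :
    ConclAC (Fintype.card F) (Nat.card (ZH H)) (↥H ⧸ ZH H) ∨
    (∃ (K : Type) (_ : Field K) (_ : Fintype K) (m : ℕ), Fintype.card K ^ m = Fintype.card F ∧
      (Nonempty (↥(H.map (QuotientGroup.mk' (Subgroup.center SL2))) ≃* PSL2 K) ∨
        Nonempty (↥(H.map (QuotientGroup.mk' (Subgroup.center SL2))) ≃* PGL2 K))) := by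
  classical
  have hne : PH H ≠ ⊥ := by
    intro hbot
    have hmem : (⟨upper 1, h1⟩ : H) ∈ PH H := mem_PH.mpr (upper_mem_Uni 1)
    rw [hbot, Subgroup.mem_bot] at hmem
    have h2 := congrArg (fun x : H => ((x : SL2) : M2) 0 1) hmem
    simp at h2
  have hnB : ∃ y : H, (y : SL2) ∉ Cfsg.Agent.Lib.Lead.DicksonSL2.Borel := by
    refine ⟨⟨lower b, hy⟩, ?_⟩
    rw [mem_Borel]
    simpa using hb
  rcases hyp0_or_index p hne hnB with hyp0 | hidx
  · left
    apply T0 hyp0
    intro g hg hcase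
    exact disc_of_not_dvd p hg (not_dvd_of_case p hne hnB hg hcase)
  · right
    obtain ⟨K0, _, _, hle, hdec⟩ :=
      Cfsg.Agent.Lib.Lead.DicksonField.structure_of_index' p hb h1 hy hidx
    haveI : Finite K0 := Finite.of_injective (fun x : K0 => (x : F)) Subtype.val_injective
    obtain ⟨K, instK, instFK, ⟨e⟩⟩ := exists_type0 K0
    letI := instK
    letI := instFK
    set ι : K →+* F := (K0.subtype).comp (e : K →+* K0) with hι
    have hrange : ∀ x : F, x ∈ K0 → x ∈ ι.range := by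
      intro x hx
      refine ⟨e.symm ⟨x, hx⟩, ?_⟩
      rw [hι, RingHom.comp_apply]
      simp
    have hSLK : ∀ s : SL2, s ∈ Cfsg.Agent.Lib.Lead.DicksonField.SLK K0 →
        ∃ s' : Matrix.SpecialLinearGroup (Fin 2) K, Matrix.SpecialLinearGroup.map ι s' = s := by
      rintro _ ⟨x, rfl⟩
      refine ⟨Matrix.SpecialLinearGroup.map (e.symm : K0 →+* K) x, ?_⟩
      apply Matrix.SpecialLinearGroup.ext
      intro i j
      simp [Matrix.SpecialLinearGroup.map_apply_coe, RingHom.mapMatrix_apply, hι]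
    have hS : ∀ s : Matrix.SpecialLinearGroup (Fin 2) K, Matrix.SpecialLinearGroup.map ι s ∈ H := by
      intro s
      apply hle
      refine ⟨Matrix.SpecialLinearGroup.map (e : K →+* K0) s, ?_⟩
      apply Matrix.SpecialLinearGroup.ext
      intro i j
      simp [Matrix.SpecialLinearGroup.map_apply_coe, RingHom.mapMatrix_apply, hι]
    have hdec' : ∀ g ∈ H, ∃ (s : Matrix.SpecialLinearGroup (Fin 2) K) (a : F) (ha : a ≠ 0),
        a ^ 2 ∈ ι.range ∧
        g = Matrix.SpecialLinearGroup.map ι s * Cfsg.Agent.Lib.Helper12.SL2.dg a ha := by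
      intro g hg
      obtain ⟨s, hs, a, ha2, _, rfl⟩ := hdec g hg
      obtain ⟨s', rfl⟩ := hSLK s hs
      refine ⟨s', (a : F), a.ne_zero, hrange _ ha2, ?_⟩
      congr 1
      apply Cfsg.Agent.Lib.Helper12.SL2.ext4 <;>
        simp [Cfsg.Agent.Lib.Lead.DicksonField.dg, Cfsg.Agent.Lib.Helper12.SL2.dg]
    have hiso := Cfsg.Agent.Lib.Helper1.DkIso.iso_of_decomp ι H hS hdec'
    letI : Fintype K0 := Fintype.ofFinite K0
    refine ⟨K, instK, instFK, Module.finrank K0 F, ?_, hiso⟩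
    have hc1 : Fintype.card K = Fintype.card K0 := Fintype.card_congr e.toEquiv
    rw [hc1]
    exact (Module.card_eq_pow_finrank (K := K0) (V := F)).symm

/-- an element of `SL₂(F)` fixing two independent vectors is trivial -/
theorem eq_one_of_fix_two (u : SL2) (v w : Fin 2 → F) (hv : u • v = v) (hw : u • w = w)
    (hδ : v 0 * w 1 - v 1 * w 0 ≠ 0) : u = 1 := by
  have hv0 := congrFun hv 0
  have hv1 := congrFun hv 1
  have hw0 := congrFun hw 0
  have hw1 := congrFun hw 1
  rw [Cfsg.Agent.Lib.Helper12.SL2.smul_apply] at hv0 hv1 hw0 hw1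
  have e00 : (u 0 0 - 1) * (v 0 * w 1 - v 1 * w 0) = 0 := by
    linear_combination w 1 * hv0 - v 1 * hw0
  have e01 : u 0 1 * (v 0 * w 1 - v 1 * w 0) = 0 := by
    linear_combination v 0 * hw0 - w 0 * hv0
  have e10 : u 1 0 * (v 0 * w 1 - v 1 * w 0) = 0 := by
    linear_combination w 1 * hv1 - v 1 * hw1
  have e11 : (u 1 1 - 1) * (v 0 * w 1 - v 1 * w 0) = 0 := by
    linear_combination v 0 * hw1 - w 0 * hv1
  have f00 := (mul_eq_zero.mp e00).resolve_right hδ
  have f01 := (mul_eq_zero.mp e01).resolve_right hδ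
  have f10 := (mul_eq_zero.mp e10).resolve_right hδ
  have f11 := (mul_eq_zero.mp e11).resolve_right hδ
  apply Cfsg.Agent.Lib.Helper12.SL2.ext4
  · simpa using sub_eq_zero.mp f00
  · simpa using f01
  · simpa using f10
  · simpa using sub_eq_zero.mp f11

theorem exists_smul_of_det_zero (v w : Fin 2 → F) (hv : v ≠ 0)
    (hδ : v 0 * w 1 - v 1 * w 0 = 0) : ∃ c : F, w = c • v := by
  by_cases h0 : v 0 = 0
  · have h1 : v 1 ≠ 0 := by
      intro h1
      apply hv
      ext i
      fin_cases i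
      · exact h0
      · exact h1
    rw [h0, zero_mul, zero_sub, neg_eq_zero] at hδ
    have hw0 : w 0 = 0 := (mul_eq_zero.mp hδ).resolve_left h1
    refine ⟨w 1 / v 1, ?_⟩
    ext i
    fin_cases i
    · simp [h0, hw0]
    · simp [h1]
  · refine ⟨w 0 / v 0, ?_⟩
    ext i
    fin_cases i
    · simp [h0]
    · simp only [Fin.mk_one, Pi.smul_apply, smul_eq_mul]
      field_simp
      linear_combination hδ

/-- a subgroup with a unique nontrivial Sylow `p`-subgroup stabilizes a line -/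
theorem T3 [Fintype F] (p : ℕ) [hp : Fact p.Prime] [CharP F p] (hd : p ∣ Nat.card H)
    (hS : Subsingleton (Sylow p H)) :
    ∃ v : Fin 2 → F, v ≠ 0 ∧ ∀ g ∈ H, ∃ c : F, g • v = c • v := by
  classical
  obtain ⟨P⟩ := (Sylow.nonempty : Nonempty (Sylow p H))
  have hn : (P : Subgroup H).Normal := P.normal_of_subsingleton
  have hPne : (P : Subgroup H) ≠ ⊥ := P.ne_bot_of_dvd_card hd
  have hT : IsPGroup p ((P : Subgroup H).map H.subtype) := P.isPGroup'.map _
  obtain ⟨v, hv, hfix⟩ := Cfsg.Agent.Lib.Helper12.SL2.exists_fixed_vector _ hT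
  obtain ⟨u, hu, hu1⟩ : ∃ u ∈ (P : Subgroup H), u ≠ 1 := by
    by_contra hcon
    push Not at hcon
    exact hPne ((Subgroup.eq_bot_iff_forall _).mpr hcon)
  refine ⟨v, hv, ?_⟩
  intro g hg
  have hconj : (⟨g, hg⟩ : H)⁻¹ * u * (⟨g, hg⟩ : H) ∈ (P : Subgroup H) := by
    have := hn.conj_mem u hu (⟨g, hg⟩ : H)⁻¹
    rwa [inv_inv] at this
  have h1 : (g⁻¹ * (u : SL2) * g) • v = v := by
    apply hfix
    exact ⟨_, hconj, rfl⟩
  have h2 : (u : SL2) • (g • v) = g • v := by
    rw [mul_smul, mul_smul] at h1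
    have := congrArg (fun t => g • t) h1
    simpa using this
  have h3 : (u : SL2) • v = v := hfix _ ⟨u, hu, rfl⟩
  by_cases hδ : v 0 * (g • v) 1 - v 1 * (g • v) 0 = 0
  · exact exists_smul_of_det_zero v (g • v) hv hδ
  · exfalso
    apply hu1
    exact Subtype.ext (eq_one_of_fix_two (u : SL2) v (g • v) h3 h2 hδ)

end Cfsg.Agent.Lib.Helper12.DkH
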