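import Cfsg.Agent.Lib.Helper12.DkY
import Cfsg.Agent.Lib.Helper12.DkX4
import Cfsg.Agent.S0799

/-!
Coatoms of `SL₂(F)` in odd characteristic (helper12).
-/

set_option autoImplicit false

namespace Cfsg.Agent.Lib.Helper12.DkZ

open Cfsg.Agent.Lib.Helper12.SL2 Cfsg.Agent.Lib.Lead.DicksonCA Cfsg.Agent.Lib.Lead.DicksonSL2
  Cfsg.Agent.Lib.Lead.SL2Scalar Cfsg.Agent.Lib.Lead.DicksonStd Cfsg.Agent.Lib.Lead.DicksonField
  Cfsg.Agent.Lib.Helper9.SL2Upper Cfsg.Agent.Lib.Lead.DicksonBase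
  Cfsg.Agent.Lib.Helper12.DkA Cfsg.Agent.Lib.Helper12.DkE Cfsg.Agent.Lib.Helper12.DkM
  Cfsg.Agent.Lib.Helper12.DkN Cfsg.Agent.Lib.Helper12.DkW Cfsg.Agent.Lib.Helper12.DkX
  Cfsg.Agent.Lib.Helper12.DkY Cfsg.Agent.Lib.Helper12.DkG

variable {F : Type*} [Field F]

local notation "SL2" => Matrix.SpecialLinearGroup (Fin 2)
local notation "M2" => Matrix (Fin 2) (Fin 2)
local notation "PSL2" => Matrix.ProjectiveSpecialLinearGroup (Fin 2)
local notation "PGL2" => Matrix.ProjGenLinGroup (Fin 2)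
local notation "π" => QuotientGroup.mk' (Subgroup.center (Matrix.SpecialLinearGroup (Fin 2) F))

variable {H : Subgroup (Matrix.SpecialLinearGroup (Fin 2) F)}

/-- the cases of the structure theorem, keeping the exceptional isomorphisms -/
theorem hyp0_cases' [Fintype F] (hyp : Hyp0 (ZH H))
    (hss : ∀ g : H, g ∉ ZH H → (C g = ⊤ ∨ Nat.card H = 2 * Nat.card (C g)) →
      tr ((g : H) : SL2 F) ^ 2 ≠ 4) :
    (∀ x : H, x ∈ ZH H) ∨
    (∃ g : H, g ∉ ZH H ∧ tr ((g : H) : SL2 F) ^ 2 ≠ 4 ∧ H ≤ NTor ((g : H) : SL2 F)) ∨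
    Nonempty (↥H ⧸ ZH H ≃* alternatingGroup (Fin 4)) ∨
    Nonempty (↥H ⧸ ZH H ≃* Equiv.Perm (Fin 4)) ∨
    Nonempty (↥H ⧸ ZH H ≃* alternatingGroup (Fin 5)) := by
  classical
  haveI : Finite (SL2 F) := inferInstance
  obtain ⟨z, hz⟩ : ∃ z, Nat.card (ZH H) = z := ⟨_, rfl⟩
  obtain ⟨h, hG⟩ : ∃ h, Nat.card H = z * h := by
    rw [← hz]; exact Subgroup.card_subgroup_dvd_card _
  rcases structure_thm hyp hz hG with h1 | ⟨g, hg, hC⟩ | ⟨g, hg, hC⟩ | ⟨h12, g, hg, hc, hN⟩ |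
    ⟨h24, g, hg, hc, hN, hall⟩ |
    ⟨h60, g₁, g₂, g₃, hg₁, hg₂, hg₃, hc₁, hc₂, hc₃, hN₁, hN₂, hN₃, hcov⟩
  · exact Or.inl h1
  · exact Or.inr (Or.inl ⟨g, hg, hss g hg (Or.inl hC), le_NTor_of_abelian hC⟩)
  · exact Or.inr (Or.inl ⟨g, hg, hss g hg (Or.inr hC),
      le_NTor_of_index_two hg (hss g hg (Or.inr hC)) hC⟩)
  · subst h12
    exact Or.inr (Or.inr (Or.inl (Cfsg.Agent.Lib.Helper12.DkB.iso_A4 hyp hz hG hg hc hN)))
  · subst h24
    exact Or.inr (Or.inr (Or.inr (Or.inl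
      (Cfsg.Agent.Lib.Helper12.DkB.iso_S4 hyp hz hG hg hc hN hall))))
  · subst h60
    exact Or.inr (Or.inr (Or.inr (Or.inr
      (Cfsg.Agent.Lib.Helper12.DkC.iso_A5 hyp hz hG hg₁ hg₂ hg₃ hc₁ hc₂ hc₃ hN₁ hN₂ hN₃ hcov))))

/-- index route first -/
theorem hyp0_or_index'' (p : ℕ) [hp : Fact p.Prime] [CharP F p] [Finite H] (hne : PH H ≠ ⊥)
    (hnB : ∃ y : H, (y : SL2 F) ∉ Cfsg.Agent.Lib.Lead.DicksonSL2.Borel) :
    (BH H).index = Nat.card (PH H) + 1 ∨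
      (Nat.card (PH H) ≤ 3 ∧ Hyp0 (ZH H) ∧ (BH H).index ≠ Nat.card (PH H) + 1) := by
  by_cases hidx : (BH H).index = Nat.card (PH H) + 1
  · exact Or.inl hidx
  · right
    rcases hyp0_or_index' p hne hnB with ⟨hQ, hyp0⟩ | ⟨_, h⟩
    · exact ⟨hQ, hyp0, hidx⟩
    · exact absurd h hidx

/-- the dihedral case in odd characteristic -/
theorem dihedral_odd [Fintype F] (hodd : Odd (Fintype.card F)) (h4 : 4 ≤ Fintype.card F)
    {Mh : Subgroup (SL2 F)} (hcoat : IsCoatom Mh) (g : SL2 F) (hNS : NonScalar g)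
    (hΔ : tr g ^ 2 ≠ 4) (hle : Mh ≤ NTor g) :
    (∃ k : ℕ, 2 * k = Fintype.card F - 1 ∧ Nonempty (↥(Mh.map π) ≃* DihedralGroup k)) ∨
    (∃ k : ℕ, 2 * k = Fintype.card F + 1 ∧ Nonempty (↥(Mh.map π) ≃* DihedralGroup k)) := by
  have hM := eq_NTor_of_le h4 hcoat g hNS hΔ hle
  subst hM
  obtain ⟨m, hm⟩ := hodd
  have hg2 : Nat.gcd 2 (Fintype.card F - 1) = 2 := by
    rw [hm]
    simp
  have hsq := sq_ne_one_of_regular g hΔ
  rcases Cfsg.Agent.Lib.Helper12.DkV.card_Tor_exact g hNS hΔ with h | h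
  · left
    refine ⟨m, by omega, ?_⟩
    exact Cfsg.Agent.Lib.Helper12.DkU.normalizer_dihedral g hNS hΔ hsq
      (by rw [hg2]; rw [h]; omega)
  · right
    refine ⟨m + 1, by omega, ?_⟩
    exact Cfsg.Agent.Lib.Helper12.DkU.normalizer_dihedral g hNS hΔ hsq
      (by rw [hg2]; rw [h]; omega)

theorem card_A4 : Nat.card (alternatingGroup (Fin 4)) = 12 := by
  have := two_mul_card_alternatingGroup (α := Fin 4)
  rw [Fintype.card_perm, Fintype.card_fin] at this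
  rw [Nat.card_eq_fintype_card]
  have h4 : (4 : ℕ).factorial = 24 := rfl
  omega

theorem card_S4 : Nat.card (Equiv.Perm (Fin 4)) = 24 := by
  rw [Nat.card_eq_fintype_card, Fintype.card_perm, Fintype.card_fin]
  rfl

theorem card_A5 : Nat.card (alternatingGroup (Fin 5)) = 60 := by
  have := two_mul_card_alternatingGroup (α := Fin 5)
  rw [Fintype.card_perm, Fintype.card_fin] at this
  rw [Nat.card_eq_fintype_card]
  have h5 : (5 : ℕ).factorial = 120 := rfl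
  omega

/-- the order of `H` from the order of its image -/
theorem card_of_quot_iso [Fintype F] (hodd : Odd (Fintype.card F))
    (hZ : Subgroup.center (SL2 F) ≤ H) {X : Type*} [Group X] (e : ↥H ⧸ ZH H ≃* X) :
    Nat.card H = 2 * Nat.card X := by
  have h1 := Subgroup.card_eq_card_quotient_mul_card_subgroup (ZH H)
  rw [Cfsg.Agent.S0799.card_ZH_of_center_le hZ, Nat.card_congr e.toEquiv] at h1
  obtain ⟨m, hm⟩ := hodd
  have hg2 : Nat.gcd 2 (Fintype.card F - 1) = 2 := by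
    rw [hm]
    simp
  rw [h1, hg2, mul_comm]

/-- in standard position with `|P| = 3`, the groups of order `24` and `48` have Borel index 4 -/
theorem index_eq_four [Fintype F] (p : ℕ) [Fact p.Prime] [CharP F p]
    (hodd : Odd (Fintype.card F)) (hZ : Subgroup.center (SL2 F) ≤ H) (hne : PH H ≠ ⊥)
    (hnB : ∃ y : H, (y : SL2 F) ∉ Cfsg.Agent.Lib.Lead.DicksonSL2.Borel)
    (hQ : Nat.card (PH H) = 3) (hp3 : p = 3)
    (hcard : Nat.card H = 24 ∨ Nat.card H = 48) : (BH H).index = 4 := by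
  classical
  subst hp3
  have hidx : Nat.card (Sylow 3 H) = (BH H).index := by
    rw [Sylow.card_eq_index_normalizer (sylowPH 3 hne)]
    congr 1
    exact normalizer_PH hne
  have hmod := card_sylow_modEq_one 3 H
  rw [hidx] at hmod
  have hPB : PH H ≤ BH H := by
    intro x hx
    rw [mem_BH]
    exact Uni_le_Borel (mem_PH.mp hx)
  have hZB : ZH H ≤ BH H := by
    intro x hx
    rw [mem_BH, mem_Borel]
    rcases mem_ZH.mp hx with h | h
    · have := congrFun (congrFun h 1) 0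
      simpa [mat] using this
    · have := congrFun (congrFun h 1) 0
      simpa [mat] using this
  have h3 : 3 ∣ Nat.card (BH H) := by
    have := Subgroup.card_dvd_of_le hPB
    rwa [hQ] at this
  have h2' : 2 ∣ Nat.card (BH H) := by
    have hz : Nat.card (ZH H) = 2 := by
      rw [Cfsg.Agent.S0799.card_ZH_of_center_le hZ]
      obtain ⟨m, hm⟩ := hodd
      rw [hm]
      simp
    have := Subgroup.card_dvd_of_le hZB
    rwa [hz] at this
  have h6 : 6 ∣ Nat.card (BH H) :=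
    Nat.Coprime.mul_dvd_of_dvd_of_dvd (by norm_num : Nat.Coprime 2 3) h2' h3
  obtain ⟨n', hn'⟩ := h6
  have hmul := (BH H).card_mul_index
  have hne1 : (BH H).index ≠ 1 := by
    intro h1
    rw [Subgroup.index_eq_one] at h1
    obtain ⟨y, hy⟩ := hnB
    apply hy
    have : y ∈ BH H := by rw [h1]; trivial
    exact mem_BH.mp this
  have hi8 : (BH H).index ∣ 8 := by
    rcases hcard with h | h
    · rw [h, hn'] at hmul
      have : n' * (BH H).index = 4 := by nlinarith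
      exact dvd_trans (Dvd.intro_left _ this) (by norm_num)
    · rw [h, hn'] at hmul
      have : n' * (BH H).index = 8 := by nlinarith
      exact Dvd.intro_left _ this
  have hle : (BH H).index ≤ 8 := Nat.le_of_dvd (by norm_num) hi8
  have hmod' : (BH H).index % 3 = 1 := hmod
  generalize (BH H).index = i at *
  interval_cases i <;> omega

/-- the conclusions depending only on the isomorphism type -/
def ConclOdd (q p : ℕ) (X : Type*) [Group X] : Prop :=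
  (∃ k : ℕ, 2 * k = q - 1 ∧ Nonempty (X ≃* DihedralGroup k)) ∨
  (∃ k : ℕ, 2 * k = q + 1 ∧ Nonempty (X ≃* DihedralGroup k)) ∨
  (∃ (F₀ : Type) (_ : Field F₀) (_ : Fintype F₀), q = Fintype.card F₀ ^ 2 ∧
    Nonempty (X ≃* PGL2 F₀)) ∨
  (∃ (F₀ : Type) (_ : Field F₀) (_ : Fintype F₀) (r : ℕ), r.Prime ∧ Odd r ∧
    q = Fintype.card F₀ ^ r ∧ Nonempty (X ≃* PSL2 F₀)) ∨
  (p ≠ 5 ∧ (q = p ∨ (q = p ^ 2 ∧ (p % 10 = 3 ∨ p % 10 = 7))) ∧
    Nonempty (X ≃* alternatingGroup (Fin 5))) ∨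
  (q = p ∧ Nonempty (X ≃* alternatingGroup (Fin 4))) ∨
  (q = p ∧ Nonempty (X ≃* Equiv.Perm (Fin 4)))

theorem ConclOdd.congr {q p : ℕ} {X Y : Type*} [Group X] [Group Y] (e : X ≃* Y)
    (h : ConclOdd q p X) : ConclOdd q p Y := by
  rcases h with ⟨k, hk, ⟨f⟩⟩ | ⟨k, hk, ⟨f⟩⟩ | ⟨F₀, i1, i2, hq, ⟨f⟩⟩ | ⟨F₀, i1, i2, r, hr, hro, hq, ⟨f⟩⟩ |
    ⟨h5, hq, ⟨f⟩⟩ | ⟨hq, ⟨f⟩⟩ | ⟨hq, ⟨f⟩⟩
  · exact Or.inl ⟨k, hk, ⟨e.symm.trans f⟩⟩
  · exact Or.inr (Or.inl ⟨k, hk, ⟨e.symm.trans f⟩⟩)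
  · exact Or.inr (Or.inr (Or.inl ⟨F₀, i1, i2, hq, ⟨e.symm.trans f⟩⟩))
  · exact Or.inr (Or.inr (Or.inr (Or.inl ⟨F₀, i1, i2, r, hr, hro, hq, ⟨e.symm.trans f⟩⟩)))
  · exact Or.inr (Or.inr (Or.inr (Or.inr (Or.inl ⟨h5, hq, ⟨e.symm.trans f⟩⟩))))
  · exact Or.inr (Or.inr (Or.inr (Or.inr (Or.inr (Or.inl ⟨hq, ⟨e.symm.trans f⟩⟩)))))
  · exact Or.inr (Or.inr (Or.inr (Or.inr (Or.inr (Or.inr ⟨hq, ⟨e.symm.trans f⟩⟩)))))

/-- coatoms satisfying `Hyp0` -/
theorem hyp0_odd [Fintype F] (p : ℕ) [Fact p.Prime] [CharP F p] (hodd : Odd (Fintype.card F))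
    (h4 : 4 ≤ Fintype.card F) (hcoat : IsCoatom H)
    (hZ : Subgroup.center (SL2 F) ≤ H) (hyp0 : Hyp0 (ZH H))
    (hss : ∀ g : H, g ∉ ZH H → (C g = ⊤ ∨ Nat.card H = 2 * Nat.card (C g)) →
      tr ((g : H) : SL2 F) ^ 2 ≠ 4)
    (hp3 : p ∣ Nat.card H → p = 3 ∧ Nat.card H ≠ 24 ∧ Nat.card H ≠ 48) :
    ConclOdd (Fintype.card F) p ↥(H.map π) := by
  classical
  have h2 : (2 : F) ≠ 0 := Cfsg.Agent.S2428.two_ne_zero_of_odd hodd
  obtain ⟨qe⟩ := quot_equiv H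
  rcases hyp0_cases' hyp0 hss with hall | ⟨g, hg, hΔ, hle⟩ | ⟨⟨f⟩⟩ | ⟨⟨f⟩⟩ | ⟨⟨f⟩⟩
  · exact absurd hall (exists_not_mem_ZH h4 hcoat)
  · rcases dihedral_odd hodd h4 hcoat _ (nonScalar_of_not_mem hg) hΔ hle with h | h
    · exact Or.inl h
    · exact Or.inr (Or.inl h)
  · -- `A₄`
    have hcard : Nat.card H = 24 := by
      rw [card_of_quot_iso hodd hZ f, card_A4]
    have hnd : ¬ p ∣ Nat.card H := fun hd => (hp3 hd).2.1 hcard
    have hq := card_eq_of_A4 p h2 hcoat (qe.symm.trans f) hnd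
    exact Or.inr (Or.inr (Or.inr (Or.inr (Or.inr (Or.inl ⟨hq, ⟨qe.symm.trans f⟩⟩)))))
  · -- `S₄`
    have hcard : Nat.card H = 48 := by
      rw [card_of_quot_iso hodd hZ f, card_S4]
    have hnd : ¬ p ∣ Nat.card H := fun hd => (hp3 hd).2.2 hcard
    have hq := card_eq_of_S4 p h2 hcoat (qe.symm.trans f) hnd
    exact Or.inr (Or.inr (Or.inr (Or.inr (Or.inr (Or.inr ⟨hq, ⟨qe.symm.trans f⟩⟩)))))
  · -- `A₅`
    have hcard : Nat.card H = 120 := by
      rw [card_of_quot_iso hodd hZ f, card_A5]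
    have hp5 : p ≠ 5 := by
      rintro rfl
      have : 5 ∣ Nat.card H := by rw [hcard]; norm_num
      have := (hp3 this).1
      omega
    have hp : ¬ p ∣ Nat.card H ∨ (p = 3 ∧ ¬ 9 ∣ Nat.card H) := by
      by_cases hd : p ∣ Nat.card H
      · right
        refine ⟨(hp3 hd).1, ?_⟩
        rw [hcard]; norm_num
      · exact Or.inl hd
    have hq := card_of_A5 p h2 hcoat (qe.symm.trans f) hp5 hp
    exact Or.inr (Or.inr (Or.inr (Or.inr (Or.inl ⟨hp5, hq, ⟨qe.symm.trans f⟩⟩))))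

/-- coatoms in standard position, odd characteristic -/
theorem std_odd [Fintype F] (p : ℕ) [Fact p.Prime] [CharP F p] (hodd : Odd (Fintype.card F))
    (h4 : 4 ≤ Fintype.card F) (hcoat : IsCoatom H)
    (hZ : Subgroup.center (SL2 F) ≤ H) {b : F} (hb : b ≠ 0) (h1 : (upper 1 : SL2 F) ∈ H)
    (hy : (lower b : SL2 F) ∈ H) : ConclOdd (Fintype.card F) p ↥(H.map π) := by
  classical
  have h2 : (2 : F) ≠ 0 := Cfsg.Agent.S2428.two_ne_zero_of_odd hodd
  have hp2 : p ≠ 2 := by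
    rintro rfl
    apply h2
    have := CharP.cast_eq_zero F 2
    exact_mod_cast this
  have hne : PH H ≠ ⊥ := by
    intro hbot
    have hmem : (⟨upper 1, h1⟩ : H) ∈ PH H := mem_PH.mpr (upper_mem_Uni 1)
    rw [hbot, Subgroup.mem_bot] at hmem
    have h2 := congrArg (fun x : H => ((x : SL2 F) : M2 F) 0 1) hmem
    simp at h2
  have hnB : ∃ y : H, (y : SL2 F) ∉ Cfsg.Agent.Lib.Lead.DicksonSL2.Borel := by
    refine ⟨⟨lower b, hy⟩, ?_⟩
    rw [mem_Borel]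
    simpa using hb
  rcases hyp0_or_index'' p hne hnB with hidx | ⟨hQ, hyp0, hidx⟩
  · rcases subfield_odd p h2 hcoat hb h1 hy hidx with h | h
    · exact Or.inr (Or.inr (Or.inl h))
    · exact Or.inr (Or.inr (Or.inr (Or.inl h)))
  · have hss : ∀ g : H, g ∉ ZH H → (C g = ⊤ ∨ Nat.card H = 2 * Nat.card (C g)) →
        tr ((g : H) : SL2 F) ^ 2 ≠ 4 := by
      intro g hg hcase
      exact disc_of_not_dvd p hg (Cfsg.Agent.Lib.Helper12.DkH.not_dvd_of_case p hne hnB hg hcase)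
    -- `|P| = 3 = p`
    obtain ⟨k, hk⟩ := IsPGroup.iff_card.mp (PH_isPGroup (H := H) p)
    have hk0 : k ≠ 0 := by
      rintro rfl
      rw [pow_zero] at hk
      exact hne (Subgroup.card_eq_one.mp hk)
    have hple : p ≤ Nat.card (PH H) := by
      rw [hk]
      exact Nat.le_self_pow hk0 p
    have hp3 : p = 3 := by
      have := (Fact.out : p.Prime).two_le
      omega
    have hQ3 : Nat.card (PH H) = 3 := by omega
    apply hyp0_odd p hodd h4 hcoat hZ hyp0 hss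
    intro _
    refine ⟨hp3, ?_, ?_⟩
    · intro h24
      apply hidx
      rw [index_eq_four p hodd hZ hne hnB hQ3 hp3 (Or.inl h24), hQ3]
    · intro h48
      apply hidx
      rw [index_eq_four p hodd hZ hne hnB hQ3 hp3 (Or.inr h48), hQ3]

/-- **coatoms of `SL₂(F)`, odd characteristic** -/
theorem coatom_odd [Fintype F] (p : ℕ) [Fact p.Prime] [CharP F p] (hodd : Odd (Fintype.card F))
    (h4 : 4 ≤ Fintype.card F) {Mh : Subgroup (SL2 F)} (hcoat : IsCoatom Mh)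
    (hZ : Subgroup.center (SL2 F) ≤ Mh) :
    Nat.card Mh = (Fintype.card F - 1) * Fintype.card F ∨
      ConclOdd (Fintype.card F) p ↥(Mh.map π) := by
  classical
  by_cases hdvd : p ∣ Nat.card Mh
  · by_cases hS : Subsingleton (Sylow p Mh)
    · left
      obtain ⟨v, hv, hfix⟩ := Cfsg.Agent.Lib.Helper12.DkH.T3 p hdvd hS
      exact borel_coatom hcoat v hv hfix
    · right
      have hlt : 1 < Nat.card (Sylow p Mh) := by
        rw [Finite.one_lt_card_iff_nontrivial]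
        exact not_subsingleton_iff_nontrivial.mp hS
      obtain ⟨M, Mi, hM1, hM2, b, hb, hu, hl⟩ := exists_std p Mh hlt
      have hcoat' : IsCoatom (Mh.comap (conjHom M Mi hM1 hM2)) :=
        (Subgroup.isCoatom_comap (conjEquiv M Mi hM1 hM2)).mpr hcoat
      have hZ' : Subgroup.center (SL2 F) ≤ Mh.comap (conjHom M Mi hM1 hM2) := by
        intro z hz
        rw [Subgroup.mem_comap, Cfsg.Agent.S0799.conjHom_center M Mi hM1 hM2 z hz]
        exact hZ hz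
      obtain ⟨e⟩ := conj_iso M Mi hM1 hM2 Mh
      exact (std_odd p hodd h4 hcoat' hZ' hb (Subgroup.mem_comap.mpr hu)
        (Subgroup.mem_comap.mpr hl)).congr e
  · right
    have hyp0 := hyp0_of_not_dvd p hdvd
    have hss : ∀ g : Mh, g ∉ ZH Mh → (C g = ⊤ ∨ Nat.card Mh = 2 * Nat.card (C g)) →
        tr ((g : Mh) : SL2 F) ^ 2 ≠ 4 := by
      intro g hg _
      apply disc_of_not_dvd p hg
      intro hd
      exact hdvd (hd.trans (Subgroup.card_subgroup_dvd_card _))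
    exact hyp0_odd p hodd h4 hcoat hZ hyp0 hss (fun hd => absurd hd hdvd)

end Cfsg.Agent.Lib.Helper12.DkZ
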