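import Cfsg.Agent.S0808
import Cfsg.Agent.S0804
import Cfsg.Agent.Lib.Helper12.DkX3
import Cfsg.Agent.Lib.Helper1.DkOrders
import Cfsg.Agent.Lib.Helper12.DkZ

/-!
`A₄` is not maximal in `PSL₂(q)` when `q ≡ ±1 (mod 8)` or `q ≡ ±1 (mod 10)` (helper12).
-/

set_option autoImplicit false

namespace Cfsg.Agent.Lib.Helper12.DkA4

open Cfsg.Agent.Lib.Helper12.Klein Cfsg.Agent.Lib.Helper12.DkX Cfsg.Agent.Lib.Helper12.ConjOrbit
  Cfsg.Agent.Lib.Helper12.Quat Equiv

theorem a4_conj_a : ∀ x : alternatingGroup (Fin 4),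
    x * a4a * x⁻¹ = a4a ∨ x * a4a * x⁻¹ = a4b ∨ x * a4a * x⁻¹ = a4a * a4b := by decide

theorem a4_conj_b : ∀ x : alternatingGroup (Fin 4),
    x * a4b * x⁻¹ = a4a ∨ x * a4b * x⁻¹ = a4b ∨ x * a4b * x⁻¹ = a4a * a4b := by decide

theorem a4_facts : a4a * a4a = 1 ∧ a4b * a4b = 1 ∧ a4a * a4b = a4b * a4a ∧ a4a ≠ 1 ∧ a4b ≠ 1 ∧
    a4a ≠ a4b := by decide

/-- a subgroup isomorphic to `A₄` normalizes a four-group it contains -/
theorem exists_kleinFour_of_A4 {G : Type*} [Group G] (M : Subgroup G)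
    (e : M ≃* alternatingGroup (Fin 4)) :
    ∃ V : Subgroup G, IsKleinFour V ∧ V ≤ M ∧ M ≤ Subgroup.normalizer (V : Set G) := by
  obtain ⟨haa, hbb, hab, ha1, hb1, hne⟩ := a4_facts
  set a : G := ((e.symm a4a : M) : G) with ha
  set b : G := ((e.symm a4b : M) : G) with hb
  have haa' : a * a = 1 := by
    rw [ha, ← Subgroup.coe_mul, ← map_mul, haa, map_one, Subgroup.coe_one]
  have hbb' : b * b = 1 := by
    rw [hb, ← Subgroup.coe_mul, ← map_mul, hbb, map_one, Subgroup.coe_one]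
  have hab' : a * b = b * a := by
    rw [ha, hb, ← Subgroup.coe_mul, ← Subgroup.coe_mul, ← map_mul, ← map_mul, hab]
  have ha1' : a ≠ 1 := by
    intro h
    apply ha1
    have : e.symm a4a = 1 := Subtype.ext h
    exact (MulEquiv.map_eq_one_iff e.symm).mp this
  have hb1' : b ≠ 1 := by
    intro h
    apply hb1
    have : e.symm a4b = 1 := Subtype.ext h
    exact (MulEquiv.map_eq_one_iff e.symm).mp this
  have hne' : a ≠ b := by
    intro h
    apply hne
    exact e.symm.injective (Subtype.ext h)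
  refine ⟨kf a b haa' hbb' hab', isKleinFour_kf a b haa' hbb' hab' ha1' hb1' hne', ?_, ?_⟩
  · rintro x (rfl | rfl | rfl | rfl)
    · exact M.one_mem
    · exact (e.symm a4a).2
    · exact (e.symm a4b).2
    · exact M.mul_mem (e.symm a4a).2 (e.symm a4b).2
  · -- conjugation
    have hconj : ∀ m : M, ∀ c : alternatingGroup (Fin 4),
        (m : G) * ((e.symm c : M) : G) * (m : G)⁻¹ = ((e.symm (e m * c * (e m)⁻¹) : M) : G) := by
      intro m c
      rw [map_mul, map_mul, map_inv, MulEquiv.symm_apply_apply]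
      simp
    have hfa : ∀ m : M, (m : G) * a * (m : G)⁻¹ ∈ kf a b haa' hbb' hab' := by
      intro m
      have hx : (m : G) * a * (m : G)⁻¹ = ((e.symm (e m * a4a * (e m)⁻¹) : M) : G) := hconj m a4a
      rw [hx]
      rcases a4_conj_a (e m) with h | h | h <;> rw [h]
      · exact Or.inr (Or.inl rfl)
      · exact Or.inr (Or.inr (Or.inl rfl))
      · refine Or.inr (Or.inr (Or.inr ?_))
        rw [map_mul, Subgroup.coe_mul]
        rfl
    have hfb : ∀ m : M, (m : G) * b * (m : G)⁻¹ ∈ kf a b haa' hbb' hab' := by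
      intro m
      have hx : (m : G) * b * (m : G)⁻¹ = ((e.symm (e m * a4b * (e m)⁻¹) : M) : G) := hconj m a4b
      rw [hx]
      rcases a4_conj_b (e m) with h | h | h <;> rw [h]
      · exact Or.inr (Or.inl rfl)
      · exact Or.inr (Or.inr (Or.inl rfl))
      · refine Or.inr (Or.inr (Or.inr ?_))
        rw [map_mul, Subgroup.coe_mul]
        rfl
    have hfwd : ∀ m : M, ∀ x ∈ kf a b haa' hbb' hab',
        (m : G) * x * (m : G)⁻¹ ∈ kf a b haa' hbb' hab' := by
      rintro m x (rfl | rfl | rfl | rfl)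
      · simp [Subgroup.one_mem]
      · exact hfa m
      · exact hfb m
      · have : (m : G) * (a * b) * (m : G)⁻¹ =
            ((m : G) * a * (m : G)⁻¹) * ((m : G) * b * (m : G)⁻¹) := by group
        rw [this]
        exact Subgroup.mul_mem _ (hfa m) (hfb m)
    intro m hm
    rw [Subgroup.mem_normalizer_iff]
    intro x
    constructor
    · intro hx
      exact hfwd ⟨m, hm⟩ x hx
    · intro hx
      have := hfwd ⟨m⁻¹, M.inv_mem hm⟩ _ hx
      simpa [mul_assoc] using this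

/-- `A₄ ↪ A₅` -/
noncomputable def emb45 : alternatingGroup (Fin 4) →* alternatingGroup (Fin 5) :=
  ((Equiv.Perm.extendDomainHom (finSuccAboveEquiv (Fin.last 4))).comp
    (alternatingGroup (Fin 4)).subtype).codRestrict (alternatingGroup (Fin 5)) (fun x => by
      rw [Equiv.Perm.mem_alternatingGroup]
      show Perm.sign ((x : Perm (Fin 4)).extendDomain (finSuccAboveEquiv (Fin.last 4))) = 1
      rw [Equiv.Perm.sign_extendDomain]
      exact Equiv.Perm.mem_alternatingGroup.mp x.2)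

theorem emb45_injective : Function.Injective emb45 := by
  intro x y h
  have h1 := congrArg Subtype.val h
  apply Subtype.ext
  exact Equiv.Perm.extendDomainHom_injective (finSuccAboveEquiv (Fin.last 4)) h1

variable {F : Type*} [Field F] [Fintype F]

local notation "SL2" => Matrix.SpecialLinearGroup (Fin 2)
local notation "PSL2" => Matrix.ProjectiveSpecialLinearGroup (Fin 2)

theorem card_PSL2_two (hodd : Odd (Fintype.card F)) :
    Nat.card (PSL2 F) * 2 = Fintype.card F * (Fintype.card F - 1) * (Fintype.card F + 1) := by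
  have := Cfsg.Agent.Lib.Helper1.DkOrders.card_PSL2_mul (F := F)
  have hg2 : Nat.gcd 2 (Fintype.card F - 1) = 2 := by
    obtain ⟨m, hm⟩ := hodd
    rw [hm]
    simp
  rwa [hg2] at this

theorem card_normalizer_le (hodd : Odd (Fintype.card F)) (V : Subgroup (PSL2 F))
    (hV : IsKleinFour V) :
    Nat.card (Subgroup.normalizer ((V : Subgroup (PSL2 F)) : Set (PSL2 F))) ≤ 24 := by
  have h2 := Cfsg.Agent.S2428.two_ne_zero_of_odd hodd
  obtain ⟨α, β, hαβ, g, rfl⟩ := Cfsg.Agent.S0808.exists_conj_VV h2 V hV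
  rw [Cfsg.Agent.Lib.Helper12.SylTwo.normalizer_map_conj,
    Cfsg.Agent.Lib.Helper12.SylTwo.card_map_conj]
  exact card_normalizer_VV_le h2 α β hαβ

theorem card_normalizer_ge (hodd : Odd (Fintype.card F))
    (h8 : Fintype.card F % 8 = 1 ∨ Fintype.card F % 8 = 7) (V : Subgroup (PSL2 F))
    (hV : IsKleinFour V) :
    16 ≤ Nat.card (Subgroup.normalizer ((V : Subgroup (PSL2 F)) : Set (PSL2 F))) := by
  have h2 := Cfsg.Agent.S2428.two_ne_zero_of_odd hodd
  obtain ⟨s, hs⟩ : ∃ s : F, 2 * s ^ 2 = 1 := by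
    have : IsSquare (2 : F) := FiniteField.isSquare_two_iff.mpr (by omega)
    obtain ⟨w, hw⟩ := this
    have hw0 : w ≠ 0 := by
      rintro rfl
      apply h2
      rw [hw, mul_zero]
    refine ⟨w⁻¹, ?_⟩
    rw [hw]
    field_simp
  obtain ⟨α, β, hαβ, g, rfl⟩ := Cfsg.Agent.S0808.exists_conj_VV h2 V hV
  rw [Cfsg.Agent.Lib.Helper12.SylTwo.normalizer_map_conj,
    Cfsg.Agent.Lib.Helper12.SylTwo.card_map_conj]
  exact card_normalizer_VV_ge h2 α β hαβ s hs

theorem card_normalizer_eq (hodd : Odd (Fintype.card F))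
    (h8 : Fintype.card F % 8 = 3 ∨ Fintype.card F % 8 = 5) (V : Subgroup (PSL2 F))
    (hV : IsKleinFour V) :
    Nat.card (Subgroup.normalizer ((V : Subgroup (PSL2 F)) : Set (PSL2 F))) = 12 := by
  have hconj : conjugates V = Cfsg.Agent.S0808.KF (PSL2 F) := by
    apply Set.Subset.antisymm
    · exact Cfsg.Agent.S0808.conjugates_subset _ Cfsg.Agent.S0808.KF_conj V hV
    · intro W hW
      exact Cfsg.Agent.S0808.main1 hodd h8 V W hV hW
  have h1 := card_conjugates_mul V
  rw [hconj, ← Cfsg.Agent.S0808.card_KF hodd] at h1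
  have hpos : 0 < (Cfsg.Agent.S0808.KF (PSL2 F)).ncard := by
    rcases Nat.eq_zero_or_pos (Cfsg.Agent.S0808.KF (PSL2 F)).ncard with h0 | h0
    · have := Cfsg.Agent.S0808.card_KF (F := F) hodd
      rw [h0, mul_zero] at this
      have hG : 0 < Nat.card (PSL2 F) := Nat.card_pos
      omega
    · exact h0
  have : (Cfsg.Agent.S0808.KF (PSL2 F)).ncard *
      Nat.card (Subgroup.normalizer ((V : Subgroup (PSL2 F)) : Set (PSL2 F))) =
      (Cfsg.Agent.S0808.KF (PSL2 F)).ncard * 12 := by rw [h1, mul_comm]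
  exact Nat.eq_of_mul_eq_mul_left hpos this

/-- `A₄` is not maximal when `q ≡ ±1 (mod 8)` -/
theorem not_coatom_A4_mod8 (hodd : Odd (Fintype.card F)) (h5 : 5 ≤ Fintype.card F)
    (h8 : Fintype.card F % 8 = 1 ∨ Fintype.card F % 8 = 7) (M : Subgroup (PSL2 F))
    (e : Nonempty (M ≃* alternatingGroup (Fin 4))) : ¬ IsCoatom M := by
  intro hM
  obtain ⟨e⟩ := e
  obtain ⟨V, hV, -, hMN⟩ := exists_kleinFour_of_A4 M e
  have hcM : Nat.card M = 12 := by
    rw [Nat.card_congr e.toEquiv, Cfsg.Agent.Lib.Helper12.DkZ.card_A4]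
  have hge := card_normalizer_ge hodd h8 V hV
  have hle := card_normalizer_le hodd V hV
  rcases hM.le_iff.mp hMN with h | h
  · rw [h, Subgroup.card_top] at hle
    have hG := card_PSL2_two (F := F) hodd
    have hq7 : 7 ≤ Fintype.card F := by omega
    have : 7 * 6 * 8 ≤ Fintype.card F * (Fintype.card F - 1) * (Fintype.card F + 1) := by
      apply Nat.mul_le_mul (Nat.mul_le_mul hq7 (by omega)) (by omega)
    omega
  · rw [h, hcM] at hge
    omega

/-- `A₄` is not maximal when `q ≡ ±3 (mod 8)` and `q ≡ ±1 (mod 10)` -/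
theorem not_coatom_A4_mod10 (hodd : Odd (Fintype.card F)) (h5 : 5 ≤ Fintype.card F)
    (h8 : Fintype.card F % 8 = 3 ∨ Fintype.card F % 8 = 5)
    (h10 : Fintype.card F % 10 = 1 ∨ Fintype.card F % 10 = 9) (M : Subgroup (PSL2 F))
    (e : Nonempty (M ≃* alternatingGroup (Fin 4))) : ¬ IsCoatom M := by
  classical
  intro hM
  obtain ⟨e⟩ := e
  -- a copy of `A₅`
  have h5d : 5 ∣ Fintype.card F * (Fintype.card F ^ 2 - 1) := by
    have hq1 : 1 ≤ Fintype.card F := by omega
    obtain ⟨m, hm⟩ : ∃ m, Fintype.card F = m + 1 := ⟨Fintype.card F - 1, by omega⟩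
    have e1 : (m + 1) ^ 2 - 1 = m * (m + 2) := by
      have : (m + 1) ^ 2 = m * (m + 2) + 1 := by ring
      omega
    rw [hm, e1]
    rw [hm] at h10
    rcases h10 with h | h
    · have : 5 ∣ m := by omega
      exact Dvd.dvd.mul_left (Dvd.dvd.mul_right this _) _
    · have : 5 ∣ m + 2 := by omega
      exact Dvd.dvd.mul_left (Dvd.dvd.mul_left this _) _
  obtain ⟨L, ⟨eL⟩⟩ := (Cfsg.Agent.S0804.result (F := F) rfl).mpr h5d
  -- the copy of `A₄` inside
  set ψ : alternatingGroup (Fin 4) →* PSL2 F :=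
    L.subtype.comp (eL.symm.toMonoidHom.comp emb45) with hψ
  have hψinj : Function.Injective ψ := by
    rw [hψ]
    exact (Subgroup.subtype_injective L).comp (eL.symm.injective.comp emb45_injective)
  have hAL : ψ.range ≤ L := by
    rintro _ ⟨x, rfl⟩
    exact (eL.symm (emb45 x)).2
  have eA : ψ.range ≃* alternatingGroup (Fin 4) := (MonoidHom.ofInjective hψinj).symm
  obtain ⟨V, hV, -, hMN⟩ := exists_kleinFour_of_A4 M e
  obtain ⟨W, hW, -, hAN⟩ := exists_kleinFour_of_A4 ψ.range eA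
  have hcM : Nat.card M = 12 := by
    rw [Nat.card_congr e.toEquiv, Cfsg.Agent.Lib.Helper12.DkZ.card_A4]
  have hcA : Nat.card ψ.range = 12 := by
    rw [Nat.card_congr eA.toEquiv, Cfsg.Agent.Lib.Helper12.DkZ.card_A4]
  have hNV := card_normalizer_eq hodd h8 V hV
  have hNW := card_normalizer_eq hodd h8 W hW
  have hMeq : M = Subgroup.normalizer ((V : Subgroup (PSL2 F)) : Set (PSL2 F)) :=
    Subgroup.eq_of_le_of_card_ge hMN (by rw [hNV, hcM])
  have hAeq : ψ.range = Subgroup.normalizer ((W : Subgroup (PSL2 F)) : Set (PSL2 F)) :=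
    Subgroup.eq_of_le_of_card_ge hAN (by rw [hNW, hcA])
  obtain ⟨g, hg⟩ := Cfsg.Agent.S0808.main1 hodd h8 W V hW hV
  have hML : M ≤ L.map (MulAut.conj g).toMonoidHom := by
    rw [hMeq, hg, Cfsg.Agent.Lib.Helper12.SylTwo.normalizer_map_conj, ← hAeq]
    exact Subgroup.map_mono hAL
  have hcL : Nat.card (L.map (MulAut.conj g).toMonoidHom) = 60 := by
    rw [Cfsg.Agent.Lib.Helper12.SylTwo.card_map_conj, Nat.card_congr eL.toEquiv,
      Cfsg.Agent.Lib.Helper12.DkZ.card_A5]
  rcases hM.le_iff.mp hML with h | h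
  · rw [h, Subgroup.card_top] at hcL
    have hG := card_PSL2_two (F := F) hodd
    have hq11 : 11 ≤ Fintype.card F := by omega
    have : 11 * 10 * 12 ≤ Fintype.card F * (Fintype.card F - 1) * (Fintype.card F + 1) := by
      apply Nat.mul_le_mul (Nat.mul_le_mul hq11 (by omega)) (by omega)
    omega
  · rw [h, hcM] at hcL
    omega

end Cfsg.Agent.Lib.Helper12.DkA4
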