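import Cfsg.Agent.Lib.Helper12.DkA
import Cfsg.Agent.Lib.Helper24.DihIso

/-!
Identification of the quotient `H ⧸ Z` in the polyhedral cases `A₄`, `S₄` and in the dihedral case
(helper12).
-/

set_option autoImplicit false

namespace Cfsg.Agent.Lib.Helper12.DkB

open Subgroup Cfsg.Agent.Lib.Lead.DicksonCA Cfsg.Agent.Lib.Helper12.DkA

section General

variable {G : Type*} [Group G] [Finite G]

/-- the coset action modulo the core -/
theorem exists_hom_quot (M Z : Subgroup G) [Z.Normal] (n : ℕ) (hn : M.index = n)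
    (hcore : M.normalCore = Z) :
    ∃ f : G ⧸ Z →* Equiv.Perm (Fin n), Function.Injective f := by
  classical
  have : Fintype (G ⧸ M) := Fintype.ofFinite _
  have hc : Fintype.card (G ⧸ M) = n := by
    rw [← Nat.card_eq_fintype_card]; exact hn
  have e : (G ⧸ M) ≃ Fin n := Fintype.equivFinOfCardEq hc
  set f₀ : G →* Equiv.Perm (Fin n) :=
    (Equiv.permCongrHom e).toMonoidHom.comp (MulAction.toPermHom G (G ⧸ M)) with hf₀
  have hker : f₀.ker = Z := by
    rw [← hcore, Subgroup.normalCore_eq_ker]
    ext x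
    rw [MonoidHom.mem_ker, MonoidHom.mem_ker, hf₀, MonoidHom.comp_apply]
    constructor
    · intro h
      have : (Equiv.permCongrHom e) (MulAction.toPermHom G (G ⧸ M) x) =
          (Equiv.permCongrHom e) 1 := by
        rw [map_one]; exact h
      exact (Equiv.permCongrHom e).injective this
    · intro h
      rw [h]; exact map_one _
  refine ⟨(QuotientGroup.kerLift f₀).comp
    (QuotientGroup.quotientMulEquivOfEq hker.symm).toMonoidHom, ?_⟩
  rw [MonoidHom.coe_comp]
  exact Function.Injective.comp (QuotientGroup.kerLift_injective f₀)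
    (QuotientGroup.quotientMulEquivOfEq hker.symm).injective

theorem iso_A4_of_inj {G' : Type*} [Group G'] [Finite G'] (f : G' →* Equiv.Perm (Fin 4))
    (hf : Function.Injective f) (hcard : Nat.card G' = 12) :
    Nonempty (G' ≃* alternatingGroup (Fin 4)) := by
  classical
  have e : G' ≃* f.range := MonoidHom.ofInjective hf
  have hr : Nat.card f.range = 12 := by rw [← Nat.card_congr e.toEquiv, hcard]
  have hidx2 : f.range.index = 2 := by
    have h1 := f.range.card_mul_index
    rw [hr, Nat.card_eq_fintype_card, Fintype.card_perm, Fintype.card_fin] at h1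
    have : (4 : ℕ).factorial = 24 := rfl
    rw [this] at h1
    omega
  have := Equiv.Perm.eq_alternatingGroup_of_index_eq_two hidx2
  exact ⟨e.trans (MulEquiv.subgroupCongr this)⟩

theorem iso_S4_of_inj {G' : Type*} [Group G'] [Finite G'] (f : G' →* Equiv.Perm (Fin 4))
    (hf : Function.Injective f) (hcard : Nat.card G' = 24) :
    Nonempty (G' ≃* Equiv.Perm (Fin 4)) := by
  classical
  have : Fintype G' := Fintype.ofFinite _
  have hbij : Function.Bijective f := by
    rw [Fintype.bijective_iff_injective_and_card]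
    refine ⟨hf, ?_⟩
    rw [← Nat.card_eq_fintype_card, hcard, Fintype.card_perm, Fintype.card_fin]
    rfl
  exact ⟨MulEquiv.ofBijective f hbij⟩

theorem core_eq (M Z : Subgroup G) [Z.Normal] (hZM : Z ≤ M)
    (h : ∀ K : Subgroup G, K.Normal → Z ≤ K → K ≤ M → K ≤ Z) : M.normalCore = Z :=
  le_antisymm (h _ (Subgroup.normalCore_normal M) (Subgroup.normal_le_normalCore.mpr hZM)
    (Subgroup.normalCore_le M)) (Subgroup.normal_le_normalCore.mpr hZM)

theorem index_of_card {M : Subgroup G} {c n : ℕ} (hc : Nat.card M = c) (hG : Nat.card G = n * c) :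
    M.index = n := by
  have h1 := M.index_mul_card
  rw [hc, hG] at h1
  have hpos : 0 < c := by rw [← hc]; exact Nat.card_pos
  exact Nat.eq_of_mul_eq_mul_right hpos h1

end General

variable {H : Type*} [Group H] [Finite H] {Z : Subgroup H}

theorem card_quot [Z.Normal] {z h : ℕ} (hz : Nat.card Z = z) (hG : Nat.card H = z * h) :
    Nat.card (H ⧸ Z) = h := by
  have h1 := Subgroup.card_eq_card_quotient_mul_card_subgroup Z
  rw [hz, hG] at h1
  have hzpos : 0 < z := by rw [← hz]; exact Nat.card_pos
  have : z * h = z * Nat.card (H ⧸ Z) := by rw [h1]; ring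
  exact (Nat.eq_of_mul_eq_mul_left hzpos this).symm

/-- `x ^ 3 ∈ Z` for `x ∈ C g` when `|C g : Z| = 3` -/
theorem pow_mem_Z (hca : IsCA Z) {z a : ℕ} (hz : Nat.card Z = z) {g : H}
    (hc : Nat.card (C g) = z * a) {x : H} (hx : x ∈ C g) : x ^ a ∈ Z := by
  have hzpos : 0 < z := by rw [← hz]; exact Nat.card_pos
  have hle : Z ≤ C g := Z_le_C hca g
  have hnorm : (Z.subgroupOf (C g)).Normal := by
    refine ⟨fun n hn y => ?_⟩
    rw [Subgroup.mem_subgroupOf] at hn ⊢
    have hcomm := hca.central _ hn (y : H)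
    have : ((y * n * y⁻¹ : C g) : H) = (n : H) := by
      push_cast
      rw [← hcomm]; group
    rw [this]; exact hn
  have hidx : (Z.subgroupOf (C g)).index = a := by
    have h1 := (Z.subgroupOf (C g)).index_mul_card
    have h2 : Nat.card (Z.subgroupOf (C g)) = z := by
      rw [← hz]; exact Nat.card_congr (Subgroup.subgroupOfEquivOfLe hle).toEquiv
    rw [h2, hc] at h1
    have : (Z.subgroupOf (C g)).index * z = a * z := by rw [h1]; ring
    exact Nat.eq_of_mul_eq_mul_right hzpos this
  have := (Z.subgroupOf (C g)).pow_index_mem (⟨x, hx⟩ : C g)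
  rw [hidx, Subgroup.mem_subgroupOf] at this
  simpa using this

/-- squares of elements of `N(C g)` lie in `C g` when the index is two -/
theorem sq_mem_C {g : H} (hN : Nat.card (normalizer (C g : Set H)) = 2 * Nat.card (C g)) {x : H}
    (hx : x ∈ normalizer (C g : Set H)) : x ^ 2 ∈ C g := by
  have hleN : C g ≤ normalizer (C g : Set H) := Subgroup.le_normalizer
  have hpos : 0 < Nat.card (C g) := Nat.card_pos
  have hidx2 : ((C g).subgroupOf (normalizer (C g : Set H))).index = 2 := by
    have h1 := ((C g).subgroupOf (normalizer (C g : Set H))).index_mul_card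
    have h2 : Nat.card ((C g).subgroupOf (normalizer (C g : Set H))) = Nat.card (C g) :=
      Nat.card_congr (Subgroup.subgroupOfEquivOfLe hleN).toEquiv
    rw [h2, hN] at h1
    exact Nat.eq_of_mul_eq_mul_right hpos h1
  have := Subgroup.sq_mem_of_index_two hidx2 (⟨x, hx⟩ : normalizer (C g : Set H))
  rw [Subgroup.mem_subgroupOf] at this
  simpa using this

/-- products of two elements of `N(C g) \ C g` lie in `C g` -/
theorem inv_mul_mem_C {g : H} (hN : Nat.card (normalizer (C g : Set H)) = 2 * Nat.card (C g))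
    {x y : H} (hx : x ∈ normalizer (C g : Set H)) (hy : y ∈ normalizer (C g : Set H))
    (hxC : x ∉ C g) (hyC : y ∉ C g) : x⁻¹ * y ∈ C g := by
  have hleN : C g ≤ normalizer (C g : Set H) := Subgroup.le_normalizer
  have hpos : 0 < Nat.card (C g) := Nat.card_pos
  have hidx2 : ((C g).subgroupOf (normalizer (C g : Set H))).index = 2 := by
    have h1 := ((C g).subgroupOf (normalizer (C g : Set H))).index_mul_card
    have h2 : Nat.card ((C g).subgroupOf (normalizer (C g : Set H))) = Nat.card (C g) :=
      Nat.card_congr (Subgroup.subgroupOfEquivOfLe hleN).toEquiv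
    rw [h2, hN] at h1
    exact Nat.eq_of_mul_eq_mul_right hpos h1
  have := (Subgroup.mul_mem_iff_of_index_two hidx2
    (a := (⟨x, hx⟩ : normalizer (C g : Set H))⁻¹) (b := ⟨y, hy⟩)).mpr (by
      rw [Subgroup.inv_mem_iff, Subgroup.mem_subgroupOf, Subgroup.mem_subgroupOf]
      exact ⟨fun h => absurd h hxC, fun h => absurd h hyC⟩)
  rw [Subgroup.mem_subgroupOf] at this
  simpa using this

/-- elements of `N(C g) \ C g` square into `Z` -/
theorem sq_mem_Z (hca : IsCA Z) {g : H} (hg : g ∉ Z)
    (hN : Nat.card (normalizer (C g : Set H)) = 2 * Nat.card (C g)) {x : H}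
    (hx : x ∈ normalizer (C g : Set H)) (hxC : x ∉ C g) : x ^ 2 ∈ Z := by
  have h2 := sq_mem_C hN hx
  by_contra hcon
  apply hxC
  have hCeq : C (x ^ 2) = C g := C_eq hca hg hcon (mem_C.mp h2)
  rw [← hCeq, mem_C]
  rw [pow_two]; group

theorem normalizer_top_of_conj (hca : IsCA Z) {k : H}
    (h : ∀ x : H, C (x * k * x⁻¹) = C k) : normalizer (C k : Set H) = ⊤ := by
  rw [eq_top_iff]
  intro x _
  rw [mem_normalizer_iff]
  intro y
  have := h x
  constructor
  · intro hy
    rw [← this, mem_C_conj]
    have : x⁻¹ * (x * y * x⁻¹) * x = y := by group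
    rw [this]; exact hy
  · intro hy
    rw [← this, mem_C_conj] at hy
    have e : x⁻¹ * (x * y * x⁻¹) * x = y := by group
    rw [e] at hy; exact hy

theorem C_mul_central (hca : IsCA Z) (k : H) {w : H} (hw : w ∈ Z) : C (k * w) = C k := by
  ext a
  rw [mem_C, mem_C]
  have h1 := hca.central w hw a
  constructor
  · intro h
    have : a * k * w = k * a * w := by
      calc a * k * w = a * (k * w) := by group
        _ = k * w * a := h
        _ = k * (w * a) := by group
        _ = k * (a * w) := by rw [h1]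
        _ = k * a * w := by group
    exact mul_right_cancel this
  · intro h
    calc a * (k * w) = a * k * w := by group
      _ = k * a * w := by rw [h]
      _ = k * (a * w) := by group
      _ = k * (w * a) := by rw [h1]
      _ = k * w * a := by group

variable [hZn : Z.Normal]

/-- the case `A₄` -/
theorem iso_A4 (hyp : Hyp0 Z) {z : ℕ} (hz : Nat.card Z = z) (hG : Nat.card H = z * 12) {g : H}
    (hg : g ∉ Z) (hc : Nat.card (C g) = z * 3) (hN : Nat.card (normalizer (C g : Set H)) = z * 3) :
    Nonempty (H ⧸ Z ≃* alternatingGroup (Fin 4)) := by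
  have hzpos : 0 < z := by rw [← hz]; exact Nat.card_pos
  have hle : Z ≤ C g := Z_le_C hyp.ca g
  have hidx : (C g).index = 4 := index_of_card hc (by rw [hG]; ring)
  have hcore : (C g).normalCore = Z := by
    apply core_eq _ _ hle
    intro K hK hZK hKC
    obtain ⟨d, hd⟩ := Subgroup.card_dvd_of_le hZK
    obtain ⟨e, he⟩ := Subgroup.card_dvd_of_le hKC
    rw [hz] at hd
    rw [hc, hd] at he
    have hde : d * e = 3 := by
      have : z * 3 = z * (d * e) := by rw [he]; ring
      exact (Nat.eq_of_mul_eq_mul_left hzpos this).symm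
    have hd3 : d ∣ 3 := ⟨e, hde.symm⟩
    rcases (Nat.dvd_prime Nat.prime_three).mp hd3 with h1 | h3
    · subst h1
      have : Z = K := Subgroup.eq_of_le_of_card_ge hZK (by rw [hd, hz]; omega)
      rw [this]
    · exfalso
      subst h3
      have hKeq : K = C g := Subgroup.eq_of_le_of_card_ge hKC (by rw [hd, hc])
      rw [hKeq] at hK
      have : normalizer (C g : Set H) = ⊤ := Subgroup.normalizer_eq_top_iff.mpr hK
      rw [this, Subgroup.card_top, hG] at hN
      omega
  obtain ⟨f, hf⟩ := exists_hom_quot (C g) Z 4 hidx hcore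
  exact iso_A4_of_inj f hf (card_quot hz hG)

/-- the case `S₄` -/
theorem iso_S4 (hyp : Hyp0 Z) {z : ℕ} (hz : Nat.card Z = z) (hG : Nat.card H = z * 24) {g : H}
    (hg : g ∉ Z) (hc : Nat.card (C g) = z * 3)
    (hN : Nat.card (normalizer (C g : Set H)) = 2 * (z * 3))
    (hall : ∀ x : H, x ∉ Z → Nat.card (C x) ≤ z * 4) :
    Nonempty (H ⧸ Z ≃* Equiv.Perm (Fin 4)) := by
  have hzpos : 0 < z := by rw [← hz]; exact Nat.card_pos
  have hle : Z ≤ C g := Z_le_C hyp.ca g
  have hleN : C g ≤ normalizer (C g : Set H) := Subgroup.le_normalizer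
  have hN' : Nat.card (normalizer (C g : Set H)) = 2 * Nat.card (C g) := by rw [hN, hc]
  have hidx : (normalizer (C g : Set H)).index = 4 := index_of_card hN (by rw [hG]; ring)
  -- no non-central element has full normalizer
  have hno : ∀ k : H, k ∉ Z → normalizer (C k : Set H) ≠ ⊤ := by
    intro k hk htop
    have h1 := hall k hk
    have h2 : Nat.card (normalizer (C k : Set H)) = z * 24 := by
      rw [htop, Subgroup.card_top, hG]
    rcases hyp.hT k hk with h3 | h3 <;> omega
  have hcore : (normalizer (C g : Set H)).normalCore = Z := by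
    apply core_eq _ _ (le_trans hle hleN)
    intro K hK hZK hKM
    by_contra hcon
    obtain ⟨k, hkK, hkZ⟩ := Set.not_subset.mp hcon
    by_cases hsq : ∃ k ∈ K, k ∉ Z ∧ k ^ 2 ∉ Z
    · obtain ⟨k, hkK, hkZ, hk2⟩ := hsq
      -- every conjugate of k lies in C g
      have key : ∀ x : H, C (x * k * x⁻¹) = C g := by
        intro x
        have hxK : x * k * x⁻¹ ∈ K := hK.conj_mem k hkK x
        have hxZ : x * k * x⁻¹ ∉ Z := conj_not_mem hyp.ca hkZ x
        have hx2 : (x * k * x⁻¹) ^ 2 ∉ Z := by
          have : (x * k * x⁻¹) ^ 2 = x * k ^ 2 * x⁻¹ := by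
            rw [pow_two, pow_two]; group
          rw [this]
          exact conj_not_mem hyp.ca hk2 x
        have h2C : (x * k * x⁻¹) ^ 2 ∈ C g := sq_mem_C hN' (hKM hxK)
        have hCeq : C ((x * k * x⁻¹) ^ 2) = C g := C_eq hyp.ca hg hx2 (mem_C.mp h2C)
        have hmem : x * k * x⁻¹ ∈ C g := by
          rw [← hCeq, mem_C, pow_two]; group
        exact C_eq hyp.ca hg hxZ (mem_C.mp hmem)
      apply hno k hkZ
      apply normalizer_top_of_conj hyp.ca
      intro x
      rw [key x]
      have := key 1
      simp only [one_mul, inv_one, mul_one] at this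
      exact this.symm
    · push Not at hsq
      -- K ∩ C g = Z
      have hKC : ∀ c ∈ K, c ∈ C g → c ∈ Z := by
        intro c hcK hcC
        by_contra hcZ
        have h2 := hsq c hcK hcZ
        have h3 := pow_mem_Z hyp.ca hz hc hcC
        apply hcZ
        have : c = c ^ 3 * (c ^ 2)⁻¹ := by group
        rw [this]
        exact Z.mul_mem h3 (Z.inv_mem h2)
      have hkC : k ∉ C g := fun h => hkZ (hKC k hkK h)
      apply hno k hkZ
      apply normalizer_top_of_conj hyp.ca
      intro x
      have hxK : x * k * x⁻¹ ∈ K := hK.conj_mem k hkK x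
      have hxZ : x * k * x⁻¹ ∉ Z := conj_not_mem hyp.ca hkZ x
      have hxC : x * k * x⁻¹ ∉ C g := fun h => hxZ (hKC _ hxK h)
      have h1 : k⁻¹ * (x * k * x⁻¹) ∈ C g := inv_mul_mem_C hN' (hKM hkK) (hKM hxK) hkC hxC
      have h2 : k⁻¹ * (x * k * x⁻¹) ∈ Z := hKC _ (K.mul_mem (K.inv_mem hkK) hxK) h1
      have : x * k * x⁻¹ = k * (k⁻¹ * (x * k * x⁻¹)) := by group
      rw [this]
      exact C_mul_central hyp.ca k h2
  obtain ⟨f, hf⟩ := exists_hom_quot _ Z 4 hidx hcore
  exact iso_S4_of_inj f hf (card_quot hz hG)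

end Cfsg.Agent.Lib.Helper12.DkB
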