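import Cfsg.Agent.Lib.Helper12.DkB
import Cfsg.Agent.S0494

/-!
Identification of the quotient `H ⧸ Z` in the dihedral case and in the case `A₅` (helper12).
-/

set_option autoImplicit false

namespace Cfsg.Agent.Lib.Helper12.DkC

open Subgroup Cfsg.Agent.Lib.Lead.DicksonCA Cfsg.Agent.Lib.Helper12.DkA Cfsg.Agent.Lib.Helper12.DkB

variable {H : Type*} [Group H] [Finite H] {Z : Subgroup H} [hZn : Z.Normal]

/-- the dihedral case, from the CA property only -/
theorem iso_dihedral_ca (hca : IsCA Z) {z a : ℕ} (hz : Nat.card Z = z) {g : H} (hg : g ∉ Z)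
    (hc : Nat.card (C g) = z * a) (hG : Nat.card H = 2 * Nat.card (C g)) (hcyc : IsCyclic (C g)) :
    Nonempty (H ⧸ Z ≃* DihedralGroup a) := by
  classical
  have hzpos : 0 < z := by rw [← hz]; exact Nat.card_pos
  have hle : Z ≤ C g := Z_le_C hca g
  have hidx : (C g).index = 2 := index_of_card rfl hG
  have hnorm : (C g).Normal := Subgroup.normal_of_index_eq_two hidx
  have hNtop : normalizer (C g : Set H) = ⊤ := Subgroup.normalizer_eq_top_iff.mpr hnorm
  have hN' : Nat.card (normalizer (C g : Set H)) = 2 * Nat.card (C g) := by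
    rw [hNtop, Subgroup.card_top, hG]
  obtain ⟨c, hcgen⟩ := hcyc.exists_generator
  obtain ⟨x, hxC⟩ : ∃ x : H, x ∉ C g := by
    by_contra hcon
    push Not at hcon
    have : C g = ⊤ := by rw [eq_top_iff]; intro y _; exact hcon y
    rw [this, Subgroup.index_top] at hidx
    omega
  have hxN : x ∈ normalizer (C g : Set H) := by rw [hNtop]; exact Subgroup.mem_top x
  have hx2 : x ^ 2 ∈ Z := sq_mem_Z hca hg hN' hxN hxC
  have hxcC : x * (c : H) ∉ C g := by
    intro h
    apply hxC
    have : x = x * (c : H) * (c : H)⁻¹ := by group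
    rw [this]
    exact (C g).mul_mem h ((C g).inv_mem c.2)
  have hxcN : x * (c : H) ∈ normalizer (C g : Set H) := by rw [hNtop]; exact Subgroup.mem_top _
  have hxc2 : (x * (c : H)) ^ 2 ∈ Z := sq_mem_Z hca hg hN' hxcN hxcC
  set X : H ⧸ Z := QuotientGroup.mk' Z x with hX
  set Y : H ⧸ Z := QuotientGroup.mk' Z (x * (c : H)) with hY
  haveI : Fact (Nat.Prime 2) := ⟨Nat.prime_two⟩
  have hXo : orderOf X = 2 := by
    apply orderOf_eq_prime
    · rw [hX, ← map_pow]
      exact (QuotientGroup.eq_one_iff _).mpr hx2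
    · intro h
      rw [hX] at h
      exact hxC (hle ((QuotientGroup.eq_one_iff _).mp h))
  have hYo : orderOf Y = 2 := by
    apply orderOf_eq_prime
    · rw [hY, ← map_pow]
      exact (QuotientGroup.eq_one_iff _).mpr hxc2
    · intro h
      rw [hY] at h
      exact hxcC (hle ((QuotientGroup.eq_one_iff _).mp h))
  have hXY : X * Y = QuotientGroup.mk' Z (c : H) := by
    rw [hX, hY, ← map_mul]
    have : x * (x * (c : H)) = x ^ 2 * (c : H) := by rw [pow_two]; group
    have h1 : QuotientGroup.mk' Z (x ^ 2) = 1 := (QuotientGroup.eq_one_iff _).mpr hx2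
    rw [this, map_mul, h1, one_mul]
  obtain ⟨e⟩ := Cfsg.Agent.Lib.Helper24.closure_pair_equiv_dihedral hXo hYo
  have hcl : Subgroup.closure ({X, Y} : Set (H ⧸ Z)) = ⊤ := by
    rw [eq_top_iff]
    intro w _
    obtain ⟨y, rfl⟩ := QuotientGroup.mk'_surjective Z w
    have hXmem : X ∈ Subgroup.closure ({X, Y} : Set (H ⧸ Z)) :=
      Subgroup.subset_closure (by simp)
    have hYmem : Y ∈ Subgroup.closure ({X, Y} : Set (H ⧸ Z)) :=
      Subgroup.subset_closure (by simp)
    have hcmem : QuotientGroup.mk' Z (c : H) ∈ Subgroup.closure ({X, Y} : Set (H ⧸ Z)) := by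
      rw [← hXY]; exact Subgroup.mul_mem _ hXmem hYmem
    have hCmem : ∀ y : H, y ∈ C g → QuotientGroup.mk' Z y ∈
        Subgroup.closure ({X, Y} : Set (H ⧸ Z)) := by
      intro y hy
      obtain ⟨k, hk⟩ := Subgroup.mem_zpowers_iff.mp (hcgen ⟨y, hy⟩)
      have : y = (c : H) ^ k := by
        have := congrArg (fun t : C g => (t : H)) hk
        simpa using this.symm
      rw [this, map_zpow]
      exact Subgroup.zpow_mem _ hcmem k
    by_cases hy : y ∈ C g
    · exact hCmem y hy
    · have hyN : y ∈ normalizer (C g : Set H) := by rw [hNtop]; exact Subgroup.mem_top y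
      have h1 := inv_mul_mem_C hN' hxN hyN hxC hy
      have : y = x * (x⁻¹ * y) := by group
      rw [this, map_mul]
      exact Subgroup.mul_mem _ hXmem (hCmem _ h1)
  have e2 : (H ⧸ Z) ≃* DihedralGroup (orderOf (X * Y)) :=
    (Subgroup.topEquiv.symm.trans (MulEquiv.subgroupCongr hcl.symm)).trans e
  have hcard : Nat.card (H ⧸ Z) = 2 * a := by
    apply card_quot hz
    rw [hG, hc]; ring
  have hn : orderOf (X * Y) = a := by
    have h1 := Nat.card_congr e2.toEquiv
    rw [hcard, DihedralGroup.nat_card] at h1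
    omega
  rw [hn] at e2
  exact ⟨e2⟩

/-- the dihedral case -/
theorem iso_dihedral (hyp : Hyp0 Z) {z a : ℕ} (hz : Nat.card Z = z) {g : H} (hg : g ∉ Z)
    (hc : Nat.card (C g) = z * a) (hG : Nat.card H = 2 * Nat.card (C g)) (hcyc : IsCyclic (C g)) :
    Nonempty (H ⧸ Z ≃* DihedralGroup a) :=
  iso_dihedral_ca hyp.ca hz hg hc hG hcyc

/-- a normal subgroup containing `Z` contains a block or misses it -/
theorem block_dichotomy (hca : IsCA Z) {z a : ℕ} (hz : Nat.card Z = z) {K : Subgroup H}
    (hK : K.Normal) (hZK : Z ≤ K) {g : H} (hg : g ∉ Z) (ha : a.Prime)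
    (hc : Nat.card (C g) = z * a) :
    block Z g ⊆ K ∨ ∀ x ∈ block Z g, x ∉ K := by
  have hzpos : 0 < z := by rw [← hz]; exact Nat.card_pos
  by_cases h : ∃ x ∈ block Z g, x ∈ K
  · left
    obtain ⟨x, ⟨hxZ, y, hy⟩, hxK⟩ := h
    have hx'K : y * x * y⁻¹ ∈ K := hK.conj_mem x hxK y
    have hx'Z : y * x * y⁻¹ ∉ Z := conj_not_mem hca hxZ y
    have hle : Z ≤ C g := Z_le_C hca g
    have hZJ : Z ≤ K ⊓ C g := le_inf hZK hle
    have hJC : K ⊓ C g ≤ C g := inf_le_right
    obtain ⟨d, hd⟩ := Subgroup.card_dvd_of_le hZJ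
    obtain ⟨e, he⟩ := Subgroup.card_dvd_of_le hJC
    rw [hz] at hd
    rw [hc, hd] at he
    have hde : d * e = a := by
      have : z * a = z * (d * e) := by rw [he]; ring
      exact (Nat.eq_of_mul_eq_mul_left hzpos this).symm
    have hda : d ∣ a := ⟨e, hde.symm⟩
    have hCK : C g ≤ K := by
      rcases (Nat.dvd_prime ha).mp hda with h1 | h3
      · exfalso
        subst h1
        have : Z = K ⊓ C g := Subgroup.eq_of_le_of_card_ge hZJ (by rw [hd, hz]; omega)
        apply hx'Z
        rw [this]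
        exact ⟨hx'K, hy⟩
      · subst h3
        have : K ⊓ C g = C g := Subgroup.eq_of_le_of_card_ge hJC (by rw [hd, hc])
        rw [← this]
        exact inf_le_left
    rintro w ⟨_, y', hy'⟩
    have h1 : y' * w * y'⁻¹ ∈ K := hCK hy'
    have h2 := hK.conj_mem _ h1 y'⁻¹
    have e1 : y'⁻¹ * (y' * w * y'⁻¹) * y'⁻¹⁻¹ = w := by group
    rw [e1] at h2
    exact h2
  · right
    push Not at h
    exact h

/-- the case `A₅`: the quotient is simple -/
theorem simple_A5 (hyp : Hyp0 Z) {z : ℕ} (hz : Nat.card Z = z) (hG : Nat.card H = z * 60)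
    {g₁ g₂ g₃ : H} (hg₁ : g₁ ∉ Z) (hg₂ : g₂ ∉ Z) (hg₃ : g₃ ∉ Z)
    (hc₁ : Nat.card (C g₁) = z * 2) (hc₂ : Nat.card (C g₂) = z * 3)
    (hc₃ : Nat.card (C g₃) = z * 5)
    (hN₁ : Nat.card (normalizer (C g₁ : Set H)) = 2 * (z * 2))
    (hN₂ : Nat.card (normalizer (C g₂ : Set H)) = 2 * (z * 3))
    (hN₃ : Nat.card (normalizer (C g₃ : Set H)) = 2 * (z * 5))
    (hcov : ∀ x : H, x ∉ Z → x ∈ block Z g₁ ∨ x ∈ block Z g₂ ∨ x ∈ block Z g₃) :
    IsSimpleGroup (H ⧸ Z) := by
  classical
  have hzpos : 0 < z := by rw [← hz]; exact Nat.card_pos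
  -- block sizes
  have hβ₁ : Nat.card (block Z g₁) = z * 15 := by
    have h1 := card_block hyp.ca hg₁
    rw [hN₁, hG, hc₁, hz] at h1
    have e0 : z * 2 - z = z := by omega
    rw [e0] at h1
    have : Nat.card (block Z g₁) * (2 * (z * 2)) = z * 15 * (2 * (z * 2)) := by rw [h1]; ring
    exact Nat.eq_of_mul_eq_mul_right (by omega) this
  have hβ₂ : Nat.card (block Z g₂) = z * 20 := by
    have h1 := card_block hyp.ca hg₂
    rw [hN₂, hG, hc₂, hz] at h1
    have e0 : z * 3 - z = z * 2 := by omega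
    rw [e0] at h1
    have : Nat.card (block Z g₂) * (2 * (z * 3)) = z * 20 * (2 * (z * 3)) := by rw [h1]; ring
    exact Nat.eq_of_mul_eq_mul_right (by omega) this
  have hβ₃ : Nat.card (block Z g₃) = z * 24 := by
    have h1 := card_block hyp.ca hg₃
    rw [hN₃, hG, hc₃, hz] at h1
    have e0 : z * 5 - z = z * 4 := by omega
    rw [e0] at h1
    have : Nat.card (block Z g₃) * (2 * (z * 5)) = z * 24 * (2 * (z * 5)) := by rw [h1]; ring
    exact Nat.eq_of_mul_eq_mul_right (by omega) this
  -- disjointness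
  have hd12 : Disjoint (block Z g₁) (block Z g₂) := by
    rw [Set.disjoint_left]
    intro x h1 h2
    have e1 := card_C_of_mem_block hyp.ca hg₁ h1
    have e2 := card_C_of_mem_block hyp.ca hg₂ h2
    rw [hc₁] at e1; rw [hc₂] at e2
    omega
  have hd13 : Disjoint (block Z g₁) (block Z g₃) := by
    rw [Set.disjoint_left]
    intro x h1 h2
    have e1 := card_C_of_mem_block hyp.ca hg₁ h1
    have e2 := card_C_of_mem_block hyp.ca hg₃ h2
    rw [hc₁] at e1; rw [hc₃] at e2
    omega
  have hd23 : Disjoint (block Z g₂) (block Z g₃) := by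
    rw [Set.disjoint_left]
    intro x h1 h2
    have e1 := card_C_of_mem_block hyp.ca hg₂ h1
    have e2 := card_C_of_mem_block hyp.ca hg₃ h2
    rw [hc₂] at e1; rw [hc₃] at e2
    omega
  -- normal subgroups containing Z
  have key : ∀ K : Subgroup H, K.Normal → Z ≤ K → K = Z ∨ K = ⊤ := by
    intro K hK hZK
    set S₁ : Set H := (K : Set H) ∩ block Z g₁ with hS₁
    set S₂ : Set H := (K : Set H) ∩ block Z g₂ with hS₂
    set S₃ : Set H := (K : Set H) ∩ block Z g₃ with hS₃
    have hKeq : (K : Set H) = (Z : Set H) ∪ (S₁ ∪ (S₂ ∪ S₃)) := by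
      ext x
      constructor
      · intro hx
        by_cases hxZ : x ∈ Z
        · exact Or.inl hxZ
        · right
          rcases hcov x hxZ with h | h | h
          · exact Or.inl ⟨hx, h⟩
          · exact Or.inr (Or.inl ⟨hx, h⟩)
          · exact Or.inr (Or.inr ⟨hx, h⟩)
      · rintro (hx | hx | hx | hx)
        · exact hZK hx
        · exact hx.1
        · exact hx.1
        · exact hx.1
    have hdis23 : Disjoint S₂ S₃ :=
      Set.disjoint_of_subset Set.inter_subset_right Set.inter_subset_right hd23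
    have hdis1 : Disjoint S₁ (S₂ ∪ S₃) := by
      rw [Set.disjoint_union_right]
      exact ⟨Set.disjoint_of_subset Set.inter_subset_right Set.inter_subset_right hd12,
        Set.disjoint_of_subset Set.inter_subset_right Set.inter_subset_right hd13⟩
    have hdisZ : Disjoint (Z : Set H) (S₁ ∪ (S₂ ∪ S₃)) := by
      rw [Set.disjoint_left]
      rintro x hxZ (hx | hx | hx)
      · exact hx.2.1 hxZ
      · exact hx.2.1 hxZ
      · exact hx.2.1 hxZ
    have hcardK : Nat.card K = z + (S₁.ncard + (S₂.ncard + S₃.ncard)) := by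
      have h0 : Nat.card K = (K : Set H).ncard := (Nat.card_coe_set_eq _)
      rw [h0, hKeq, Set.ncard_union_eq hdisZ (Set.toFinite _) (Set.toFinite _),
        Set.ncard_union_eq hdis1 (Set.toFinite _) (Set.toFinite _),
        Set.ncard_union_eq hdis23 (Set.toFinite _) (Set.toFinite _)]
      have hZc : (Z : Set H).ncard = z := by
        rw [← Nat.card_coe_set_eq]; exact hz
      rw [hZc]
    have hS₁c : S₁.ncard = 0 ∨ S₁.ncard = z * 15 := by
      rcases block_dichotomy hyp.ca hz hK hZK hg₁ Nat.prime_two hc₁ with h | h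
      · right
        have : S₁ = block Z g₁ := Set.inter_eq_right.mpr h
        rw [this, ← Nat.card_coe_set_eq, hβ₁]
      · left
        have : S₁ = ∅ := by
          rw [Set.eq_empty_iff_forall_notMem]
          rintro x ⟨hxK, hxB⟩
          exact h x hxB hxK
        rw [this, Set.ncard_empty]
    have hS₂c : S₂.ncard = 0 ∨ S₂.ncard = z * 20 := by
      rcases block_dichotomy hyp.ca hz hK hZK hg₂ Nat.prime_three hc₂ with h | h
      · right
        have : S₂ = block Z g₂ := Set.inter_eq_right.mpr h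
        rw [this, ← Nat.card_coe_set_eq, hβ₂]
      · left
        have : S₂ = ∅ := by
          rw [Set.eq_empty_iff_forall_notMem]
          rintro x ⟨hxK, hxB⟩
          exact h x hxB hxK
        rw [this, Set.ncard_empty]
    have hS₃c : S₃.ncard = 0 ∨ S₃.ncard = z * 24 := by
      rcases block_dichotomy hyp.ca hz hK hZK hg₃ Nat.prime_five hc₃ with h | h
      · right
        have : S₃ = block Z g₃ := Set.inter_eq_right.mpr h
        rw [this, ← Nat.card_coe_set_eq, hβ₃]
      · left
        have : S₃ = ∅ := by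
          rw [Set.eq_empty_iff_forall_notMem]
          rintro x ⟨hxK, hxB⟩
          exact h x hxB hxK
        rw [this, Set.ncard_empty]
    have hdvd : Nat.card K ∣ z * 60 := by
      rw [← hG]; exact Subgroup.card_subgroup_dvd_card K
    have hcases : Nat.card K = z * 1 ∨ Nat.card K = z * 60 := by
      rcases hS₁c with h1 | h1 <;> rcases hS₂c with h2 | h2 <;> rcases hS₃c with h3 | h3 <;>
        rw [h1, h2, h3] at hcardK
      · left; omega
      · exfalso
        have e : Nat.card K = z * 25 := by omega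
        rw [e] at hdvd
        have := (Nat.mul_dvd_mul_iff_left hzpos).mp hdvd
        omega
      · exfalso
        have e : Nat.card K = z * 21 := by omega
        rw [e] at hdvd
        have := (Nat.mul_dvd_mul_iff_left hzpos).mp hdvd
        omega
      · exfalso
        have e : Nat.card K = z * 45 := by omega
        rw [e] at hdvd
        have := (Nat.mul_dvd_mul_iff_left hzpos).mp hdvd
        omega
      · exfalso
        have e : Nat.card K = z * 16 := by omega
        rw [e] at hdvd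
        have := (Nat.mul_dvd_mul_iff_left hzpos).mp hdvd
        omega
      · exfalso
        have e : Nat.card K = z * 40 := by omega
        rw [e] at hdvd
        have := (Nat.mul_dvd_mul_iff_left hzpos).mp hdvd
        omega
      · exfalso
        have e : Nat.card K = z * 36 := by omega
        rw [e] at hdvd
        have := (Nat.mul_dvd_mul_iff_left hzpos).mp hdvd
        omega
      · right; omega
    rcases hcases with h | h
    · left
      exact (Subgroup.eq_of_le_of_card_ge hZK (by rw [h, hz]; omega)).symm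
    · right
      apply Subgroup.eq_top_of_card_eq
      rw [h, hG]
  haveI : Nontrivial (H ⧸ Z) := by
    rw [← Finite.one_lt_card_iff_nontrivial, card_quot hz hG]
    omega
  refine ⟨fun N hN => ?_⟩
  have hKn : (N.comap (QuotientGroup.mk' Z)).Normal := hN.comap _
  have hZK : Z ≤ N.comap (QuotientGroup.mk' Z) := by
    intro w hw
    rw [Subgroup.mem_comap]
    have : QuotientGroup.mk' Z w = 1 := (QuotientGroup.eq_one_iff _).mpr hw
    rw [this]; exact N.one_mem
  rcases key _ hKn hZK with h | h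
  · left
    rw [eq_bot_iff]
    intro n hn
    obtain ⟨x, rfl⟩ := QuotientGroup.mk'_surjective Z n
    have : x ∈ N.comap (QuotientGroup.mk' Z) := hn
    rw [h] at this
    rw [Subgroup.mem_bot]
    exact (QuotientGroup.eq_one_iff _).mpr this
  · right
    rw [eq_top_iff]
    intro n _
    obtain ⟨x, rfl⟩ := QuotientGroup.mk'_surjective Z n
    have : x ∈ N.comap (QuotientGroup.mk' Z) := by rw [h]; exact Subgroup.mem_top x
    exact this

/-- the case `A₅` -/
theorem iso_A5 (hyp : Hyp0 Z) {z : ℕ} (hz : Nat.card Z = z) (hG : Nat.card H = z * 60)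
    {g₁ g₂ g₃ : H} (hg₁ : g₁ ∉ Z) (hg₂ : g₂ ∉ Z) (hg₃ : g₃ ∉ Z)
    (hc₁ : Nat.card (C g₁) = z * 2) (hc₂ : Nat.card (C g₂) = z * 3)
    (hc₃ : Nat.card (C g₃) = z * 5)
    (hN₁ : Nat.card (normalizer (C g₁ : Set H)) = 2 * (z * 2))
    (hN₂ : Nat.card (normalizer (C g₂ : Set H)) = 2 * (z * 3))
    (hN₃ : Nat.card (normalizer (C g₃ : Set H)) = 2 * (z * 5))
    (hcov : ∀ x : H, x ∉ Z → x ∈ block Z g₁ ∨ x ∈ block Z g₂ ∨ x ∈ block Z g₃) :
    Nonempty (H ⧸ Z ≃* alternatingGroup (Fin 5)) := by
  haveI := simple_A5 hyp hz hG hg₁ hg₂ hg₃ hc₁ hc₂ hc₃ hN₁ hN₂ hN₃ hcov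
  exact Cfsg.Agent.S0494.result (card_quot hz hG)

end Cfsg.Agent.Lib.Helper12.DkC
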