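import Cfsg.Agent.Lib.Helper12.DkE
import Cfsg.Agent.Lib.Lead.DicksonAbs7

/-!
Abstract consequences of the Dickson hypotheses (helper12): `Hyp0` when the Sylow subgroup is
small, and the congruence `|P| ∣ |H : N(P)| - 1`; the index formula in every characteristic.
-/

set_option autoImplicit false

namespace Cfsg.Agent.Lib.Helper12.DkF

open Subgroup Cfsg.Agent.Lib.Lead.DicksonCA Cfsg.Agent.Lib.Lead.DicksonAbs

section abstract

variable {G : Type*} [Group G] [Finite G] {Z : Subgroup G} {p : ℕ} [hp : Fact p.Prime]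
  {P : Sylow p G}

/-- when `|P| ≤ 3` the hypotheses `Hyp0` hold -/
theorem hyp0_of_hyp (hyp : Hyp Z p P) (hQ : Nat.card (P : Subgroup G) ≤ 3) :
    Cfsg.Agent.Lib.Helper12.DkA.Hyp0 Z where
  ca := hyp.ca
  hT := by
    intro g hg
    by_cases hd : p ∣ Nat.card (C g)
    · obtain ⟨u, hu, hu1⟩ := exists_u hyp
      have hb := (p_type_iff hyp hu hu1 hg).mp hd
      obtain ⟨_, h, hh⟩ := hb
      have hC : C (h * g * h⁻¹) = C u :=
        C_conj_eq_of_mem hyp.ca (not_mem_Z hyp hu hu1) hg hh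
      rw [← card_normalizer_C_conj g h, ← card_C_conj g h, hC, hyp.hPC u hu hu1,
        normalizer_ZP hyp, card_ZP hyp]
      obtain ⟨kb, hkb1, hN⟩ := exists_kb hyp
      have hlt := kb_lt hyp rfl rfl hN
      rw [hN]
      have hkb : kb = 1 ∨ kb = 2 := by omega
      rcases hkb with rfl | rfl
      · left; ring
      · right; ring
    · exact hyp.hT g hg hd

/-- the Sylow subgroups form a TI set -/
theorem mem_normalizer_of_inter (hyp : Hyp Z p P) {x u : G} (hu : u ∈ (P : Subgroup G))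
    (hu1 : u ≠ 1) (hxu : x⁻¹ * u * x ∈ (P : Subgroup G)) :
    x ∈ normalizer ((P : Subgroup G) : Set G) := by
  have h1 := hyp.hPC u hu hu1
  have hu1' : x⁻¹ * u * x ≠ 1 := by
    intro h
    apply hu1
    have e : u = x * (x⁻¹ * u * x) * x⁻¹ := by group
    rw [e, h]; group
  have h2 := hyp.hPC _ hxu hu1'
  rw [← normalizer_ZP hyp, mem_normalizer_iff]
  intro a
  constructor
  · intro ha
    rw [← h2, mem_C] at ha
    rw [← h1, mem_C]
    calc x * a * x⁻¹ * u = x * (a * (x⁻¹ * u * x)) * x⁻¹ := by group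
      _ = x * ((x⁻¹ * u * x) * a) * x⁻¹ := by rw [ha]
      _ = u * (x * a * x⁻¹) := by group
  · intro ha
    rw [← h1, mem_C] at ha
    rw [← h2, mem_C]
    calc a * (x⁻¹ * u * x) = x⁻¹ * ((x * a * x⁻¹) * u) * x := by group
      _ = x⁻¹ * (u * (x * a * x⁻¹)) * x := by rw [ha]
      _ = x⁻¹ * u * x * a := by group

/-- a `p`-element of the normalizer of a Sylow `p`-subgroup lies in it -/
theorem mem_of_conj_mem_normalizer {u b : G} (hu : u ∈ (P : Subgroup G))
    (hy : b⁻¹ * u * b ∈ normalizer ((P : Subgroup G) : Set G)) :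
    b⁻¹ * u * b ∈ (P : Subgroup G) := by
  have hQ : IsPGroup p (zpowers (b⁻¹ * u * b)) := by
    have h1 : IsPGroup p (zpowers u) := P.isPGroup'.to_le (zpowers_le.mpr hu)
    have h2 := h1.map (MulAut.conj b⁻¹).toMonoidHom
    rw [MonoidHom.map_zpowers] at h2
    have e : (MulAut.conj b⁻¹).toMonoidHom u = b⁻¹ * u * b := by
      simp [MulAut.conj_apply]
    rwa [e] at h2
  have h3 : P ∈ MulAction.fixedPoints (zpowers (b⁻¹ * u * b)) (Sylow p G) :=
    (Subgroup.sylow_mem_fixedPoints_iff _).mpr (zpowers_le.mpr hy)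
  have h4 := (hQ.sylow_mem_fixedPoints_iff).mp h3
  exact h4 (mem_zpowers _)

/-- the action of `P × N` on the complement of `N` -/
def actPN (A N : Subgroup G) (hAN : A ≤ N) : MulAction (A × N) {x : G // x ∉ N} where
  smul g x := ⟨(g.1 : G) * x.1 * ((g.2 : G))⁻¹, fun h => x.2 (by
      have e : x.1 = (g.1 : G)⁻¹ * ((g.1 : G) * x.1 * (g.2 : G)⁻¹) * (g.2 : G) := by group
      rw [e]
      exact N.mul_mem (N.mul_mem (N.inv_mem (hAN g.1.2)) h) g.2.2)⟩
  one_smul x := by
    apply Subtype.ext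
    show ((1 : A × N).1 : G) * x.1 * (((1 : A × N).2 : G))⁻¹ = x.1
    simp
  mul_smul g g' x := by
    apply Subtype.ext
    show (((g * g').1 : A) : G) * x.1 * ((((g * g').2 : N) : G))⁻¹ =
      (g.1 : G) * ((g'.1 : G) * x.1 * ((g'.2 : G))⁻¹) * ((g.2 : G))⁻¹
    simp only [Prod.fst_mul, Prod.snd_mul, Subgroup.coe_mul, mul_inv_rev]
    group

theorem card_dvd_index_sub_one (hyp : Hyp Z p P) :
    Nat.card (P : Subgroup G) ∣ (normalizer ((P : Subgroup G) : Set G)).index - 1 := by
  classical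
  set N := normalizer ((P : Subgroup G) : Set G) with hN
  have hPN : (P : Subgroup G) ≤ N := le_normalizer
  letI := actPN (P : Subgroup G) N hPN
  have hsmul : ∀ (g : ↥(P : Subgroup G) × ↥N) (x : {x : G // x ∉ N}),
      ((g • x : {x : G // x ∉ N}) : G) = (g.1 : G) * x.1 * ((g.2 : G))⁻¹ := fun _ _ => rfl
  have hfree : ∀ b : {x : G // x ∉ N}, MulAction.stabilizer (↥(P : Subgroup G) × ↥N) b = ⊥ := by
    intro b
    rw [Subgroup.eq_bot_iff_forall]
    intro g hg
    have h1 : ((g • b : {x : G // x ∉ N}) : G) = b.1 := by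
      rw [MulAction.mem_stabilizer_iff.mp hg]
    rw [hsmul] at h1
    have h2 : (b.1)⁻¹ * (g.1 : G) * b.1 = (g.2 : G) := by
      have e : (g.1 : G) * b.1 = b.1 * (g.2 : G) := by
        calc (g.1 : G) * b.1 = (g.1 : G) * b.1 * ((g.2 : G))⁻¹ * (g.2 : G) := by group
          _ = b.1 * (g.2 : G) := by rw [h1]
      calc (b.1)⁻¹ * (g.1 : G) * b.1 = (b.1)⁻¹ * ((g.1 : G) * b.1) := by group
        _ = (b.1)⁻¹ * (b.1 * (g.2 : G)) := by rw [e]
        _ = (g.2 : G) := by group
    have hg1 : (g.1 : G) = 1 := by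
      by_contra hne
      have h3 : (b.1)⁻¹ * (g.1 : G) * b.1 ∈ N := by rw [h2]; exact g.2.2
      have h4 := mem_of_conj_mem_normalizer (P := P) g.1.2 h3
      exact b.2 (mem_normalizer_of_inter hyp g.1.2 hne h4)
    have hg2 : (g.2 : G) = 1 := by
      rw [← h2, hg1]; group
    apply Prod.ext
    · exact Subtype.ext hg1
    · exact Subtype.ext hg2
  have e := MulAction.selfEquivOrbitsQuotientProd hfree
  have hc := Nat.card_congr e
  rw [Nat.card_prod, Nat.card_prod] at hc
  -- card of the complement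
  have hcompl : Nat.card {x : G // x ∉ N} + Nat.card N = Nat.card G := by
    have h1 : Nat.card {x : G // x ∉ N} = ((N : Set G)ᶜ).ncard := by
      rw [← Nat.card_coe_set_eq]; rfl
    have h2 : Nat.card N = (N : Set G).ncard := Nat.card_coe_set_eq _
    rw [h1, h2, add_comm, Set.ncard_add_ncard_compl]
  have hG := card_H_eq P
  rw [← hN] at hG
  have hNpos : 0 < Nat.card N := Nat.card_pos
  set m := Nat.card (Quotient (MulAction.orbitRel (↥(P : Subgroup G) × ↥N) {x : G // x ∉ N}))
  have h5 : (m * Nat.card (P : Subgroup G) + 1) * Nat.card N = N.index * Nat.card N := by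
    rw [← hG, ← hcompl, hc]; ring
  have h6 : m * Nat.card (P : Subgroup G) + 1 = N.index := Nat.eq_of_mul_eq_mul_right hNpos h5
  rw [← h6, Nat.add_sub_cancel]
  exact Dvd.intro_left m rfl

end abstract

section SL2

open Cfsg.Agent.Lib.Lead.DicksonSL2 Cfsg.Agent.Lib.Helper12.DkE

variable {F : Type*} [Field F] {H : Subgroup (Matrix.SpecialLinearGroup (Fin 2) F)}

/-- for a subgroup of `SL₂(F)` with nontrivial `P_H`, not contained in the Borel subgroup: either
`Hyp0` holds or `|H : B_H| = |P_H| + 1` -/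
theorem hyp0_or_index (p : ℕ) [hp : Fact p.Prime] [CharP F p] [Finite H] (hne : PH H ≠ ⊥)
    (hnB : ∃ y : H, (y : Matrix.SpecialLinearGroup (Fin 2) F) ∉ Cfsg.Agent.Lib.Lead.DicksonSL2.Borel) :
    Cfsg.Agent.Lib.Helper12.DkA.Hyp0 (ZH H) ∨ (BH H).index = Nat.card (PH H) + 1 := by
  have hyp := hyp_of' p hne hnB
  by_cases hQ : Nat.card (PH H) ≤ 3
  · left
    exact hyp0_of_hyp hyp (by rw [sylowPH_coe]; exact hQ)
  · right
    push Not at hQ
    by_cases hp2 : p = 2
    · have hQ2 : 2 ∣ Nat.card (PH H) := by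
        obtain ⟨k, hk⟩ := IsPGroup.iff_card.mp (PH_isPGroup (H := H) p)
        have hk0 : k ≠ 0 := by
          intro h0
          rw [h0, pow_zero] at hk
          omega
        rw [hk, hp2]
        exact dvd_pow_self 2 hk0
      have := main2 hyp (by rw [sylowPH_coe]; omega) (by rw [sylowPH_coe]; exact hQ2)
        (card_dvd_index_sub_one hyp)
      rw [sylowPH_coe, normalizer_PH hne] at this
      exact this
    · have h2 : (2 : F) ≠ 0 := by
        intro h
        exact hp2 (p_eq_two_of p h)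
      have := main' hyp hp2 (card_ZH_dvd h2)
      rw [sylowPH_coe, normalizer_PH hne] at this
      rcases this with h | ⟨h, _⟩
      · exact h
      · omega

end SL2

end Cfsg.Agent.Lib.Helper12.DkF
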