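import Cfsg.Agent.Lib.Helper12.DkF
import Cfsg.Agent.Lib.Helper12.DkC
import Cfsg.Agent.Lib.Helper1.DkTorus

/-!
Dickson assembly, part 1 (helper12): the image in `PSL₂(F)` of a subgroup of `SL₂(F)` as a quotient
by its scalars; conclusions (a) and (c) from `Hyp0`.
-/

set_option autoImplicit false

namespace Cfsg.Agent.Lib.Helper12.DkG

open Cfsg.Agent.Lib.Lead.DicksonCA Cfsg.Agent.Lib.Lead.DicksonSL2 Cfsg.Agent.Lib.Lead.SL2Scalar
  Cfsg.Agent.Lib.Helper12.DkE Cfsg.Agent.Lib.Helper12.DkA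

variable {F : Type*} [Field F]

local notation "SL2" => Matrix.SpecialLinearGroup (Fin 2) F
local notation "M2" => Matrix (Fin 2) (Fin 2) F
local notation "PSL2" => Matrix.ProjectiveSpecialLinearGroup (Fin 2) F

theorem mem_center_iff' (g : SL2) :
    g ∈ Subgroup.center SL2 ↔ (g : M2) = 1 ∨ (g : M2) = -1 := by
  rw [Matrix.SpecialLinearGroup.mem_center_iff]
  constructor
  · rintro ⟨r, hr, h⟩
    rw [Fintype.card_fin] at hr
    have h2 : (r - 1) * (r + 1) = 0 := by linear_combination hr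
    rcases mul_eq_zero.mp h2 with h1 | h1
    · left
      rw [← h, sub_eq_zero.mp h1, map_one]
    · right
      rw [← h, eq_neg_of_add_eq_zero_left h1, map_neg, map_one]
  · rintro (h | h)
    · exact ⟨1, one_pow _, by rw [h, map_one]⟩
    · refine ⟨-1, ?_, by rw [h, map_neg, map_one]⟩
      rw [Fintype.card_fin]; norm_num

variable (H : Subgroup (Matrix.SpecialLinearGroup (Fin 2) F))

instance ZH_normal : (ZH H).Normal := ⟨fun z hz g => by
  have h := ZH_central hz g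
  have e : g * z * g⁻¹ = z := by rw [← h]; group
  rw [e]; exact hz⟩

/-- the image of `H` in `PSL₂(F)` is `H` modulo its scalars -/
theorem quot_equiv : Nonempty ((↥H ⧸ ZH H) ≃*
    ↥(H.map (QuotientGroup.mk' (Subgroup.center SL2)))) := by
  set f := (QuotientGroup.mk' (Subgroup.center SL2)).subgroupMap H with hf
  have hsurj : Function.Surjective f := MonoidHom.subgroupMap_surjective _ _
  have hker : f.ker = ZH H := by
    ext x
    rw [MonoidHom.mem_ker, mem_ZH, Subtype.ext_iff]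
    show (QuotientGroup.mk' (Subgroup.center SL2)) (x : SL2) = 1 ↔ _
    rw [QuotientGroup.mk'_apply, QuotientGroup.eq_one_iff, mem_center_iff']
    rfl
  exact ⟨(QuotientGroup.quotientMulEquivOfEq hker.symm).trans
    (QuotientGroup.quotientKerEquivOfSurjective f hsurj)⟩

/-- conclusions (a) and (c) of Dickson's theorem for an abstract group -/
def ConclAC (q z : ℕ) (X : Type*) [Group X] : Prop :=
  (∃ k : ℕ, (k ∣ (q + 1) / z ∨ k ∣ (q - 1) / z) ∧
    ((IsCyclic X ∧ Nat.card X = k) ∨ Nonempty (X ≃* DihedralGroup k))) ∨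
  Nonempty (X ≃* alternatingGroup (Fin 4)) ∨ Nonempty (X ≃* Equiv.Perm (Fin 4)) ∨
  Nonempty (X ≃* alternatingGroup (Fin 5))

theorem ConclAC.congr {q z : ℕ} {X Y : Type*} [Group X] [Group Y] (e : X ≃* Y)
    (h : ConclAC q z X) : ConclAC q z Y := by
  rcases h with ⟨k, hk, h | ⟨⟨f⟩⟩⟩ | ⟨⟨f⟩⟩ | ⟨⟨f⟩⟩ | ⟨⟨f⟩⟩
  · left
    refine ⟨k, hk, Or.inl ⟨?_, ?_⟩⟩
    · haveI := h.1
      exact isCyclic_of_surjective e e.surjective
    · rw [← h.2]; exact (Nat.card_congr e.toEquiv).symm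
  · left
    exact ⟨k, hk, Or.inr ⟨e.symm.trans f⟩⟩
  · right; left; exact ⟨e.symm.trans f⟩
  · right; right; left; exact ⟨e.symm.trans f⟩
  · right; right; right; exact ⟨e.symm.trans f⟩

variable {H}

/-- the centralizer in `H` of a regular semisimple element is cyclic of order dividing `q ∓ 1` -/
theorem torus_in [Fintype F] {g : H} (hg : g ∉ ZH H)
    (hΔ : Cfsg.Agent.Lib.Helper12.SL2.tr (g : SL2) ^ 2 ≠ 4) :
    IsCyclic (C g) ∧ (Nat.card (C g) ∣ Fintype.card F - 1 ∨ Nat.card (C g) ∣ Fintype.card F + 1) := by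
  obtain ⟨hcyc, hdvd⟩ := Cfsg.Agent.Lib.Helper1.DkTorus.torus (g : SL2)
    (nonScalar_of_not_mem hg) hΔ
  let f : C g →* Subgroup.centralizer ({(g : SL2)} : Set SL2) :=
    { toFun := fun x => ⟨((x : H) : SL2), by
        rw [Subgroup.mem_centralizer_singleton_iff]
        have := mem_C.mp x.2
        rw [← Subgroup.coe_mul, ← Subgroup.coe_mul, this]⟩
      map_one' := rfl
      map_mul' := fun _ _ => rfl }
  have hf : Function.Injective f := by
    intro x y hxy
    have := congrArg (fun t : Subgroup.centralizer ({(g : SL2)} : Set SL2) => (t : SL2)) hxy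
    exact Subtype.ext (Subtype.ext this)
  refine ⟨isCyclic_of_injective f hf, ?_⟩
  have hd := Subgroup.card_dvd_of_injective f hf
  rcases hdvd with h | h
  · exact Or.inl (dvd_trans hd h)
  · exact Or.inr (dvd_trans hd h)

/-- conclusions (a), (c) from `Hyp0`, when the relevant elements are semisimple -/
theorem T0 [Fintype F] (hyp : Hyp0 (ZH H))
    (hss : ∀ g : H, g ∉ ZH H → (C g = ⊤ ∨ Nat.card H = 2 * Nat.card (C g)) →
      Cfsg.Agent.Lib.Helper12.SL2.tr (g : SL2) ^ 2 ≠ 4) :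
    ConclAC (Fintype.card F) (Nat.card (ZH H)) (↥H ⧸ ZH H) := by
  classical
  obtain ⟨z, hz⟩ : ∃ z, Nat.card (ZH H) = z := ⟨_, rfl⟩
  obtain ⟨h, hG⟩ : ∃ h, Nat.card H = z * h := by
    rw [← hz]; exact Subgroup.card_subgroup_dvd_card _
  have hzpos : 0 < z := by rw [← hz]; exact Nat.card_pos
  rw [hz]
  have hquot := Cfsg.Agent.Lib.Helper12.DkB.card_quot hz hG
  rcases structure_thm hyp hz hG with h1 | ⟨g, hg, hC⟩ | ⟨g, hg, hC⟩ | ⟨h12, g, hg, hc, hN⟩ |
    ⟨h24, g, hg, hc, hN, hall⟩ |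
    ⟨h60, g₁, g₂, g₃, hg₁, hg₂, hg₃, hc₁, hc₂, hc₃, hN₁, hN₂, hN₃, hcov⟩
  · -- trivial quotient
    left
    have hsub : Subsingleton (↥H ⧸ ZH H) := by
      refine ⟨fun a b => ?_⟩
      obtain ⟨a, rfl⟩ := QuotientGroup.mk_surjective a
      obtain ⟨b, rfl⟩ := QuotientGroup.mk_surjective b
      rw [QuotientGroup.eq]
      exact h1 _
    refine ⟨1, Or.inl (one_dvd _), Or.inl ⟨isCyclic_of_subsingleton, ?_⟩⟩
    exact Nat.card_of_subsingleton 1
  · -- abelian
    left
    obtain ⟨hcyc, hdvd⟩ := torus_in hg (hss g hg (Or.inl hC))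
    have hcard : Nat.card (C g) = z * h := by
      rw [hC, Subgroup.card_top, hG]
    rw [hcard] at hdvd
    have hHcyc : IsCyclic H := by
      have e : (C g) ≃* H := by
        rw [hC]; exact Subgroup.topEquiv
      exact isCyclic_of_surjective e e.surjective
    refine ⟨h, ?_, Or.inl ⟨isCyclic_of_surjective (QuotientGroup.mk' (ZH H))
      (QuotientGroup.mk'_surjective _), hquot⟩⟩
    rcases hdvd with hd | hd
    · exact Or.inr (Nat.dvd_div_of_mul_dvd hd)
    · exact Or.inl (Nat.dvd_div_of_mul_dvd hd)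
  · -- dihedral
    left
    obtain ⟨hcyc, hdvd⟩ := torus_in hg (hss g hg (Or.inr hC))
    obtain ⟨a, ha⟩ : ∃ a, Nat.card (C g) = z * a := by
      rw [← hz]
      exact Subgroup.card_dvd_of_le (Z_le_C hyp.ca g)
    rw [ha] at hdvd
    refine ⟨a, ?_, Or.inr (Cfsg.Agent.Lib.Helper12.DkC.iso_dihedral hyp hz hg ha hC hcyc)⟩
    rcases hdvd with hd | hd
    · exact Or.inr (Nat.dvd_div_of_mul_dvd hd)
    · exact Or.inl (Nat.dvd_div_of_mul_dvd hd)
  · right; left
    subst h12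
    exact Cfsg.Agent.Lib.Helper12.DkB.iso_A4 hyp hz hG hg hc hN
  · right; right; left
    subst h24
    exact Cfsg.Agent.Lib.Helper12.DkB.iso_S4 hyp hz hG hg hc hN hall
  · right; right; right
    subst h60
    exact Cfsg.Agent.Lib.Helper12.DkC.iso_A5 hyp hz hG hg₁ hg₂ hg₃ hc₁ hc₂ hc₃ hN₁ hN₂ hN₃ hcov

/-- `p'`-subgroups -/
theorem T1 [Fintype F] (p : ℕ) [hp : Fact p.Prime] [CharP F p] (hnd : ¬ p ∣ Nat.card H) :
    ConclAC (Fintype.card F) (Nat.card (ZH H)) (↥H ⧸ ZH H) := by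
  apply T0 (hyp0_of_not_dvd p hnd)
  intro g hg _
  exact disc_of_not_dvd p hg (fun h => hnd (dvd_trans h (Subgroup.card_subgroup_dvd_card _)))

end Cfsg.Agent.Lib.Helper12.DkG
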