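import Cfsg.Agent.Lib.Helper12.DkU

/-!
Internal structure of subgroups of `SL₂(F)` for the maximal-subgroup statements (helper12).
-/

set_option autoImplicit false

namespace Cfsg.Agent.Lib.Helper12.DkM

open Cfsg.Agent.Lib.Helper12.SL2 Cfsg.Agent.Lib.Lead.DicksonCA Cfsg.Agent.Lib.Lead.DicksonSL2
  Cfsg.Agent.Lib.Lead.SL2Scalar Cfsg.Agent.Lib.Helper12.DkT Cfsg.Agent.Lib.Helper12.DkU
  Cfsg.Agent.Lib.Helper12.DkA Cfsg.Agent.Lib.Helper12.DkE Cfsg.Agent.Lib.Helper12.DkF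
  Cfsg.Agent.Lib.Lead.DicksonAbs

variable {F : Type*} [Field F]

local notation "SL2" => Matrix.SpecialLinearGroup (Fin 2)
local notation "M2" => Matrix (Fin 2) (Fin 2)
local notation "PSL2" => Matrix.ProjectiveSpecialLinearGroup (Fin 2)

variable {H : Subgroup (Matrix.SpecialLinearGroup (Fin 2) F)}

/-- refined form of `hyp0_or_index` -/
theorem hyp0_or_index' (p : ℕ) [hp : Fact p.Prime] [CharP F p] [Finite H] (hne : PH H ≠ ⊥)
    (hnB : ∃ y : H, (y : SL2 F) ∉ Cfsg.Agent.Lib.Lead.DicksonSL2.Borel) :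
    (Nat.card (PH H) ≤ 3 ∧ Hyp0 (ZH H)) ∨
      (4 ≤ Nat.card (PH H) ∧ (BH H).index = Nat.card (PH H) + 1) := by
  have hyp := hyp_of' p hne hnB
  by_cases hQ : Nat.card (PH H) ≤ 3
  · left
    exact ⟨hQ, hyp0_of_hyp hyp (by rw [sylowPH_coe]; exact hQ)⟩
  · right
    push Not at hQ
    refine ⟨hQ, ?_⟩
    by_cases hp2 : p = 2
    · have hQ2 : 2 ∣ Nat.card (PH H) := by
        obtain ⟨k, hk⟩ := IsPGroup.iff_card.mp (PH_isPGroup (H := H) p)
        have hk0 : k ≠ 0 := by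
          intro h0
          rw [h0, pow_zero] at hk
          omega
        rw [hk, hp2]
        exact dvd_pow_self 2 hk0
      have := main2 hyp (by rw [sylowPH_coe]; omega) (by rw [sylowPH_coe]; exact hQ2)
        (card_dvd_index_sub_one hyp)
      rw [sylowPH_coe, normalizer_PH hne] at this
      exact this
    · have h2 : (2 : F) ≠ 0 := by
        intro h
        exact hp2 (p_eq_two_of p h)
      have := main' hyp hp2 (card_ZH_dvd h2)
      rw [sylowPH_coe, normalizer_PH hne] at this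
      rcases this with h | ⟨h, _⟩
      · exact h
      · omega

theorem sq_ne_one_of_regular (Y : SL2 F) (hΔ : tr Y ^ 2 ≠ 4) : Y * Y ≠ 1 := by
  intro h
  have hinv : Y = Y⁻¹ := eq_inv_of_mul_eq_one_left h
  have h00 := congrArg (fun g : SL2 F => g 0 0) hinv
  have h01 := congrArg (fun g : SL2 F => g 0 1) hinv
  have h10 := congrArg (fun g : SL2 F => g 1 0) hinv
  simp only [Cfsg.Agent.Lib.Helper12.SL2.inv_00, Cfsg.Agent.Lib.Helper12.SL2.inv_01,
    Cfsg.Agent.Lib.Helper12.SL2.inv_10] at h00 h01 h10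
  have hd := det_eq Y
  apply hΔ
  unfold tr
  have e1 : 2 * Y 0 1 = 0 := by linear_combination h01
  have e2 : 2 * Y 1 0 = 0 := by linear_combination h10
  linear_combination 4 * hd + (Y 0 0 - Y 1 1) * h00 + (2 * Y 1 0) * e1

/-- `|N(T)| = 2 |T|` -/
theorem card_NTor [Fintype F] (Y : SL2 F) (hNS : NonScalar Y) (hΔ : tr Y ^ 2 ≠ 4) :
    Nat.card (NTor Y) = 2 * Nat.card (Tor Y) := by
  classical
  haveI : Finite (SL2 F) := inferInstance
  have hY2 := sq_ne_one_of_regular Y hΔ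
  obtain ⟨H, hH⟩ : ∃ H : Subgroup (SL2 F), H = NTor Y := ⟨_, rfl⟩
  have hTH : Tor Y ≤ H := by rw [hH]; exact Subgroup.le_normalizer
  have hYT : Y ∈ Tor Y := by rw [Subgroup.mem_centralizer_singleton_iff]
  set g : H := ⟨Y, hTH hYT⟩ with hg
  have hgZ : g ∉ ZH H := by
    intro hmem
    have hc : Y ∈ Subgroup.center (SL2 F) :=
      (Cfsg.Agent.Lib.Helper12.DkG.mem_center_iff' Y).mpr hmem
    exact (nonScalar_iff Y).mp hNS hc
  have hCeq : C g = (Tor Y).subgroupOf H := by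
    ext x
    rw [mem_C, Subgroup.mem_subgroupOf, Subgroup.mem_centralizer_singleton_iff]
    constructor
    · intro h
      have := congrArg (fun t : H => (t : SL2 F)) h
      simpa using this
    · intro h
      apply Subtype.ext
      simpa using h
  have hCcard : Nat.card (C g) = Nat.card (Tor Y) := by
    rw [hCeq]
    exact Nat.card_congr (Subgroup.subgroupOfEquivOfLe hTH).toEquiv
  have hΔ' : tr ((g : H) : SL2 F) ^ 2 ≠ 4 := hΔ
  have hNtop : Subgroup.normalizer ((C g : Subgroup H) : Set H) = ⊤ := by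
    rw [hCeq]
    subst hH
    exact Subgroup.normalizer_eq_top_iff.mpr Subgroup.normal_in_normalizer
  have hcases := card_normalizer_C' hgZ hΔ'
  rw [hNtop, Subgroup.card_top] at hcases
  obtain ⟨w, hw⟩ := exists_inverting' Y hΔ
  have hwH : w ∈ H := by rw [hH]; exact mem_normalizer_of_inverting Y w hw
  have hwT : w ∉ Tor Y := by
    intro hwt
    rw [Subgroup.mem_centralizer_singleton_iff] at hwt
    apply hY2
    have e : w * Y * w⁻¹ = Y := by rw [hwt]; group
    rw [e] at hw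
    calc Y * Y = Y * Y⁻¹ := by rw [← hw]
      _ = 1 := mul_inv_cancel Y
  rw [← hH, ← hCcard]
  rcases hcases with h | h
  · exfalso
    have htop : C g = ⊤ := (Subgroup.card_eq_iff_eq_top _).mp h.symm
    have : (⟨w, hwH⟩ : H) ∈ C g := by rw [htop]; exact Subgroup.mem_top _
    rw [hCeq, Subgroup.mem_subgroupOf] at this
    exact hwT this
  · exact h

theorem NTor_ne_top [Fintype F] (hq : 4 ≤ Fintype.card F) (Y : SL2 F) (hNS : NonScalar Y)
    (hΔ : tr Y ^ 2 ≠ 4) : NTor Y ≠ ⊤ := by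
  intro htop
  have h1 := card_NTor Y hNS hΔ
  rw [htop, Subgroup.card_top, card_SL2] at h1
  obtain ⟨-, hdvd⟩ := Cfsg.Agent.Lib.Helper1.DkTorus.torus Y hNS hΔ
  have hle : Nat.card (Tor Y) ≤ Fintype.card F + 1 := by
    show Nat.card (Subgroup.centralizer ({Y} : Set (SL2 F))) ≤ Fintype.card F + 1
    rcases hdvd with h | h
    · have := Nat.le_of_dvd (by omega) h
      omega
    · exact Nat.le_of_dvd (by omega) h
  have hbig : 2 * (Fintype.card F + 1) < Fintype.card F * (Fintype.card F ^ 2 - 1) := by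
    obtain ⟨n, hn⟩ : ∃ n, Fintype.card F = n + 4 := ⟨Fintype.card F - 4, by omega⟩
    rw [hn]
    have : (n + 4) ^ 2 - 1 = n ^ 2 + 8 * n + 15 := by
      have : (n + 4) ^ 2 = n ^ 2 + 8 * n + 15 + 1 := by ring
      omega
    rw [this]
    nlinarith
  omega

/-- dihedral type: `H ≤ N(T)` -/
theorem le_NTor_of_index_two [Finite H] {g : H} (hg : g ∉ ZH H)
    (hΔ : tr ((g : H) : SL2 F) ^ 2 ≠ 4) (hG : Nat.card H = 2 * Nat.card (C g)) :
    H ≤ NTor ((g : H) : SL2 F) := by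
  have hidx : (C g).index = 2 := Cfsg.Agent.Lib.Helper12.DkB.index_of_card rfl hG
  have hnorm : (C g).Normal := Subgroup.normal_of_index_eq_two hidx
  intro x hx
  have h1 : (⟨x, hx⟩ : H) * g * (⟨x, hx⟩ : H)⁻¹ ∈ C g := hnorm.conj_mem g (self_mem_C g) _
  have hc : (x * (g : SL2 F) * x⁻¹) * (g : SL2 F) = (g : SL2 F) * (x * (g : SL2 F) * x⁻¹) := by
    have := congrArg (fun t : H => (t : SL2 F)) (mem_C.mp h1)
    simpa using this
  have htr : tr (x * (g : SL2 F) * x⁻¹) = tr ((g : H) : SL2 F) := tr_conj x _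
  rcases Cfsg.Agent.Lib.Helper12.DkD.eq_or_eq_inv_of_tr ((g : H) : SL2 F) _
    (nonScalar_of_not_mem hg) hΔ hc htr with h | h
  · apply Subgroup.le_normalizer
    rw [Subgroup.mem_centralizer_singleton_iff]
    calc x * (g : SL2 F) = x * (g : SL2 F) * x⁻¹ * x := by group
      _ = (g : SL2 F) * x := by rw [h]
  · exact mem_normalizer_of_inverting _ x h

theorem le_NTor_of_abelian {g : H} (hC : C g = ⊤) : H ≤ NTor ((g : H) : SL2 F) := by
  intro x hx
  apply Subgroup.le_normalizer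
  rw [Subgroup.mem_centralizer_singleton_iff]
  have h1 : (⟨x, hx⟩ : H) ∈ C g := by rw [hC]; exact Subgroup.mem_top _
  have := congrArg (fun t : H => (t : SL2 F)) (mem_C.mp h1)
  simpa using this

/-- the cases of the structure theorem, internally -/
theorem hyp0_cases [Fintype F] (hyp : Hyp0 (ZH H))
    (hss : ∀ g : H, g ∉ ZH H → (C g = ⊤ ∨ Nat.card H = 2 * Nat.card (C g)) →
      tr ((g : H) : SL2 F) ^ 2 ≠ 4) :
    (∀ x : H, x ∈ ZH H) ∨
    (∃ g : H, g ∉ ZH H ∧ tr ((g : H) : SL2 F) ^ 2 ≠ 4 ∧ H ≤ NTor ((g : H) : SL2 F)) ∨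
    (4 ∣ Nat.card H) := by
  classical
  haveI : Finite (SL2 F) := inferInstance
  obtain ⟨z, hz⟩ : ∃ z, Nat.card (ZH H) = z := ⟨_, rfl⟩
  obtain ⟨h, hG⟩ : ∃ h, Nat.card H = z * h := by
    rw [← hz]; exact Subgroup.card_subgroup_dvd_card _
  rcases structure_thm hyp hz hG with h1 | ⟨g, hg, hC⟩ | ⟨g, hg, hC⟩ | ⟨h12, _⟩ |
    ⟨h24, _⟩ | ⟨h60, _⟩
  · exact Or.inl h1
  · exact Or.inr (Or.inl ⟨g, hg, hss g hg (Or.inl hC), le_NTor_of_abelian hC⟩)
  · exact Or.inr (Or.inl ⟨g, hg, hss g hg (Or.inr hC),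
      le_NTor_of_index_two hg (hss g hg (Or.inr hC)) hC⟩)
  · right; right; rw [hG, h12]; exact Dvd.dvd.mul_left (by norm_num) z
  · right; right; rw [hG, h24]; exact Dvd.dvd.mul_left (by norm_num) z
  · right; right; rw [hG, h60]; exact Dvd.dvd.mul_left (by norm_num) z

end Cfsg.Agent.Lib.Helper12.DkM
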