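import Cfsg.Agent.Lib.Helper12.DkM
import Cfsg.Agent.Lib.Lead.DicksonStd
import Cfsg.Agent.Lib.Lead.DicksonField5

/-!
Coatoms of `SL₂(F)`: the Borel case and the subfield case (helper12).
-/

set_option autoImplicit false

namespace Cfsg.Agent.Lib.Helper12.DkN

open Cfsg.Agent.Lib.Helper12.SL2 Cfsg.Agent.Lib.Lead.DicksonCA Cfsg.Agent.Lib.Lead.DicksonSL2
  Cfsg.Agent.Lib.Lead.SL2Scalar Cfsg.Agent.Lib.Lead.DicksonStd Cfsg.Agent.Lib.Lead.DicksonField
  Cfsg.Agent.Lib.Helper9.SL2Upper Cfsg.Agent.Lib.Lead.DicksonBase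

variable {F : Type*} [Field F]

local notation "SL2" => Matrix.SpecialLinearGroup (Fin 2)
local notation "M2" => Matrix (Fin 2) (Fin 2)

/-- a coatom of `SL₂(F)` stabilizing a line has order `q (q - 1)` -/
theorem borel_coatom [Fintype F] {Mh : Subgroup (SL2 F)} (hcoat : IsCoatom Mh)
    (v : Fin 2 → F) (hv : v ≠ 0) (hfix : ∀ g ∈ Mh, ∃ c : F, g • v = c • v) :
    Nat.card Mh = (Fintype.card F - 1) * Fintype.card F := by
  classical
  obtain ⟨k, hk⟩ := exists_smul_e1 hv
  have h1 : ((k : SL2 F) : M2 F) * ((k⁻¹ : SL2 F) : M2 F) = 1 := by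
    rw [← Matrix.SpecialLinearGroup.coe_mul, mul_inv_cancel, Matrix.SpecialLinearGroup.coe_one]
  have h2 : ((k⁻¹ : SL2 F) : M2 F) * ((k : SL2 F) : M2 F) = 1 := by
    rw [← Matrix.SpecialLinearGroup.coe_mul, inv_mul_cancel, Matrix.SpecialLinearGroup.coe_one]
  have hconj : ∀ g : SL2 F, conjHom _ _ h1 h2 g = k * g * k⁻¹ := by
    intro g
    apply Subtype.ext
    rw [conjHom_coe, Matrix.SpecialLinearGroup.coe_mul, Matrix.SpecialLinearGroup.coe_mul]
  obtain ⟨M', hM'⟩ : ∃ M' : Subgroup (SL2 F), M' = Mh.comap (conjHom _ _ h1 h2) := ⟨_, rfl⟩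
  have hcoat' : IsCoatom M' := by
    rw [hM']
    exact (Subgroup.isCoatom_comap (conjEquiv _ _ h1 h2)).mpr hcoat
  have hle : M' ≤ Cfsg.Agent.Lib.Helper1.DkOrders.Bor F := by
    intro g hg
    rw [hM', Subgroup.mem_comap, hconj] at hg
    obtain ⟨c, hc⟩ := hfix _ hg
    rw [Cfsg.Agent.Lib.Helper1.DkOrders.mem_Bor]
    have e : g • (![1, 0] : Fin 2 → F) = c • ![1, 0] := by
      have h3 : k⁻¹ • v = ![1, 0] := by rw [← hk, inv_smul_smul]
      have h4 := congrArg (fun w => k⁻¹ • w) hc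
      simp only [mul_smul, inv_smul_smul, smul_comm _ c, h3] at h4
      exact h4
    have := congrFun e 1
    rw [Cfsg.Agent.Lib.Helper12.SL2.smul_apply] at this
    simpa using this
  have hne : Cfsg.Agent.Lib.Helper1.DkOrders.Bor F ≠ ⊤ := by
    intro htop
    have := Cfsg.Agent.Lib.Helper1.DkOrders.index_Bor (F := F)
    rw [htop, Subgroup.index_top] at this
    have hq : 2 ≤ Fintype.card F := Fintype.one_lt_card
    omega
  have heq : Cfsg.Agent.Lib.Helper1.DkOrders.Bor F = M' := by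
    rcases hcoat'.le_iff.mp hle with h | h
    · exact absurd h hne
    · exact h
  obtain ⟨e⟩ := nonempty_comap_equiv _ _ h1 h2 Mh
  rw [← Nat.card_congr e.toEquiv, ← hM', ← heq, Cfsg.Agent.Lib.Helper1.DkOrders.card_Bor]


/-- intermediate fields of a finite field extension of non-prime degree -/
theorem exists_intermediate {F : Type*} [Field F] [Fintype F] (K0 : Subfield F) (hne : K0 ≠ ⊤)
    (hnp : ¬ (Module.finrank K0 F).Prime) :
    ∃ K1 : Subfield F, K0 < K1 ∧ K1 < ⊤ := by
  classical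
  have hcard : Nat.card (F ≃ₐ[K0] F) = Module.finrank K0 F := IsGalois.card_aut_eq_finrank K0 F
  have hm1 : Module.finrank K0 F ≠ 1 := by
    intro h1
    apply hne
    have h2 := IntermediateField.bot_eq_top_iff_finrank_eq_one.mpr h1
    rw [eq_top_iff]
    intro x _
    have hx : x ∈ (⊤ : IntermediateField K0 F) := IntermediateField.mem_top
    rw [← h2, IntermediateField.mem_bot] at hx
    obtain ⟨y, rfl⟩ := hx
    exact y.2
  obtain ⟨ℓ, hℓ, hdvd⟩ := Nat.exists_prime_and_dvd hm1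
  have : Fact ℓ.Prime := ⟨hℓ⟩
  rw [← hcard] at hdvd
  obtain ⟨σ, hσ⟩ := exists_prime_orderOf_dvd_card' ℓ hdvd
  have hG'card : Nat.card (Subgroup.zpowers σ) = ℓ := by rw [Nat.card_zpowers, hσ]
  have hG'bot : Subgroup.zpowers σ ≠ ⊥ := by
    intro h
    rw [h, Subgroup.card_bot] at hG'card
    exact hℓ.one_lt.ne hG'card
  have hG'top : Subgroup.zpowers σ ≠ ⊤ := by
    intro h
    rw [h, Subgroup.card_top, hcard] at hG'card
    rw [hG'card] at hnp
    exact hnp hℓ
  refine ⟨(IntermediateField.fixedField (Subgroup.zpowers σ)).toSubfield, ?_, ?_⟩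
  · refine lt_of_le_of_ne ?_ ?_
    · intro x hx
      exact (IntermediateField.fixedField (Subgroup.zpowers σ)).algebraMap_mem ⟨x, hx⟩
    · intro h
      apply hG'top
      have h3 : IntermediateField.fixedField (Subgroup.zpowers σ) = ⊥ := by
        rw [eq_bot_iff]
        intro x hx
        rw [IntermediateField.mem_bot]
        have : x ∈ (IntermediateField.fixedField (Subgroup.zpowers σ)).toSubfield := hx
        rw [← h] at this
        exact ⟨⟨x, this⟩, rfl⟩
      have h4 := IntermediateField.fixingSubgroup_fixedField (Subgroup.zpowers σ)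
      rw [h3, IntermediateField.fixingSubgroup_bot] at h4
      exact h4.symm
  · refine lt_of_le_of_ne le_top ?_
    intro h
    apply hG'bot
    have h3 : IntermediateField.fixedField (Subgroup.zpowers σ) = ⊤ := by
      rw [eq_top_iff]
      intro x _
      have : x ∈ (IntermediateField.fixedField (Subgroup.zpowers σ)).toSubfield := by
        rw [h]; exact Subfield.mem_top x
      exact this
    have h4 := IntermediateField.fixingSubgroup_fixedField (Subgroup.zpowers σ)
    rw [h3, IntermediateField.fixingSubgroup_top] at h4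
    exact h4.symm

theorem upper_mem_SLK_iff (K : Subfield F) (t : F) : (upper t : SL2 F) ∈ SLK K ↔ t ∈ K := by
  constructor
  · rintro ⟨x, hx⟩
    have := congrArg (fun g : SL2 F => (g : M2 F) 0 1) hx
    simp only [Matrix.SpecialLinearGroup.map_apply_coe, RingHom.mapMatrix_apply, upper_coe] at this
    have h2 : ((x : M2 K) 0 1 : F) = t := by simpa using this
    rw [← h2]
    exact ((x : M2 K) 0 1).2
  · exact upper_mem_SLK K

theorem lower_mem_SLK_iff (K : Subfield F) (t : F) : (lower t : SL2 F) ∈ SLK K ↔ t ∈ K := by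
  constructor
  · rintro ⟨x, hx⟩
    have := congrArg (fun g : SL2 F => (g : M2 F) 1 0) hx
    simp only [Matrix.SpecialLinearGroup.map_apply_coe, RingHom.mapMatrix_apply, lower_coe] at this
    have h2 : ((x : M2 K) 1 0 : F) = t := by simpa using this
    rw [← h2]
    exact ((x : M2 K) 1 0).2
  · exact lower_mem_SLK K

theorem SLK_mono {K0 K1 : Subfield F} (h : K0 ≤ K1) : SLK K0 ≤ SLK K1 :=
  SLK_le K0 (fun t ht => upper_mem_SLK K1 (h ht)) (fun t ht => lower_mem_SLK K1 (h ht))

theorem SLK_lt {K0 K1 : Subfield F} (h : K0 < K1) : SLK K0 < SLK K1 := by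
  refine lt_of_le_of_ne (SLK_mono h.le) ?_
  intro heq
  obtain ⟨t, ht1, ht0⟩ := SetLike.exists_of_lt h
  apply ht0
  rw [← upper_mem_SLK_iff, heq]
  exact upper_mem_SLK K1 ht1

theorem SLK_ne_top {K : Subfield F} (h : K ≠ ⊤) : SLK K ≠ ⊤ := by
  intro htop
  apply h
  rw [eq_top_iff]
  intro t _
  rw [← upper_mem_SLK_iff, htop]
  exact Subgroup.mem_top _

theorem dg_mem_SLK (K : Subfield F) (a : Fˣ) (ha : (a : F) ∈ K) :
    Cfsg.Agent.Lib.Lead.DicksonField.dg a ∈ SLK K := by
  have ha' : ((a⁻¹ : Fˣ) : F) ∈ K := by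
    rw [Units.val_inv_eq_inv_val]; exact K.inv_mem ha
  refine ⟨Cfsg.Agent.Lib.Helper12.SL2.mk (⟨(a : F), ha⟩ : K) 0 0 ⟨((a⁻¹ : Fˣ) : F), ha'⟩ ?_, ?_⟩
  · apply Subtype.ext
    simp
  · apply Cfsg.Agent.Lib.Helper12.SL2.ext4 <;> rw [Cfsg.Agent.S0805.slmap_apply] <;>
      simp [Cfsg.Agent.Lib.Lead.DicksonField.dg]

/-- in characteristic two, square roots of elements of a finite subfield lie in it -/
theorem mem_of_sq_mem [Finite F] (h2 : (2 : F) = 0) (K : Subfield F) (a : F) (ha : a ^ 2 ∈ K) :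
    a ∈ K := by
  have hinj : Function.Injective (fun x : K => x * x) := by
    intro x y hxy
    have h1 : ((x : F) - y) ^ 2 = 0 := by
      have := congrArg (fun t : K => (t : F)) hxy
      simp only [Subfield.coe_mul] at this
      linear_combination this + ((y : F) ^ 2 - (x : F) * (y : F)) * h2
    exact Subtype.ext (sub_eq_zero.mp ((pow_eq_zero_iff two_ne_zero).mp h1))
  obtain ⟨b, hb⟩ := Finite.surjective_of_injective hinj ⟨a ^ 2, ha⟩
  have hb' : (b : F) * b = a ^ 2 := by
    have := congrArg (fun t : K => (t : F)) hb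
    simpa using this
  have h1 : (a - b) ^ 2 = 0 := by linear_combination (-1 : F) * hb' + ((b : F) ^ 2 - a * (b : F)) * h2
  have : a = b := sub_eq_zero.mp ((pow_eq_zero_iff two_ne_zero).mp h1)
  rw [this]
  exact b.2

variable {H : Subgroup (Matrix.SpecialLinearGroup (Fin 2) F)}

theorem card_PH_eq (K0 : Subfield F) (hKu : ∀ t : F, (upper t : SL2 F) ∈ H ↔ t ∈ K0) :
    Nat.card (PH H) = Nat.card K0 := by
  apply Nat.card_congr
  refine ⟨fun x => ⟨(((x : H) : SL2 F) : M2 F) 0 1, ?_⟩, fun t => ⟨⟨upper (t : F), (hKu _).mpr t.2⟩, ?_⟩,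
    ?_, ?_⟩
  · have hx := mem_PH.mp x.2
    rw [mem_Uni_iff_upper] at hx
    rw [← hKu, ← hx]
    exact (x : H).2
  · rw [mem_PH]
    exact upper_mem_Uni _
  · intro x
    have hx := mem_PH.mp x.2
    rw [mem_Uni_iff_upper] at hx
    apply Subtype.ext
    apply Subtype.ext
    exact hx.symm
  · intro t
    apply Subtype.ext
    simp

end Cfsg.Agent.Lib.Helper12.DkN
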