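import Cfsg.Agent.Lib.Helper12.DkZ2
import Cfsg.Agent.Lib.Helper29.PGLQuotient

/-!
Maximal subgroups of `PGL₂(F)` (odd `q`) not containing `PSL₂(F)`: the preimage `H` in `SL₂(F)`,
the conjugation action of `GL₂(F)` and the invariance tool (helper12).
-/

set_option autoImplicit false

namespace Cfsg.Agent.Lib.Helper12.DkP

open Cfsg.Agent.Lib.Lead.DicksonSL2 Cfsg.Agent.Lib.Helper12.SL2

variable {F : Type*} [Field F]

local notation "SL2" => Matrix.SpecialLinearGroup (Fin 2)
local notation "M2" => Matrix (Fin 2) (Fin 2)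
local notation "GL2" => Matrix.GeneralLinearGroup (Fin 2)
local notation "PSL2" => Matrix.ProjectiveSpecialLinearGroup (Fin 2)
local notation "PGL2" => Matrix.ProjGenLinGroup (Fin 2)

/-- the natural map `SL₂(F) → PGL₂(F)` -/
abbrev tP (F : Type*) [Field F] : SL2 F →* PGL2 F :=
  Matrix.ProjGenLinGroup.mk.comp Matrix.SpecialLinearGroup.toGL

/-- conjugation by `m ∈ GL₂(F)` on `SL₂(F)` -/
def cj (m : GL2 F) : SL2 F →* SL2 F :=
  conjHom (m : M2 F) ((m⁻¹ : GL2 F) : M2 F) (Units.mul_inv m) (Units.inv_mul m)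

theorem cj_coe (m : GL2 F) (x : SL2 F) :
    ((cj m x : SL2 F) : M2 F) = (m : M2 F) * (x : M2 F) * ((m⁻¹ : GL2 F) : M2 F) := rfl

theorem cj_mul_eq (m : GL2 F) (x : SL2 F) :
    ((cj m x : SL2 F) : M2 F) * (m : M2 F) = (m : M2 F) * (x : M2 F) := by
  rw [cj_coe, mul_assoc, Units.inv_mul, mul_one]

theorem toGL_cj (m : GL2 F) (x : SL2 F) :
    Matrix.SpecialLinearGroup.toGL (cj m x) = m * Matrix.SpecialLinearGroup.toGL x * m⁻¹ := by
  apply Units.ext
  rw [Units.val_mul, Units.val_mul]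
  exact cj_coe m x

theorem tP_cj (m : GL2 F) (x : SL2 F) :
    tP F (cj m x) = Matrix.ProjGenLinGroup.mk m * tP F x * (Matrix.ProjGenLinGroup.mk m)⁻¹ := by
  show Matrix.ProjGenLinGroup.mk (Matrix.SpecialLinearGroup.toGL (cj m x)) = _
  rw [toGL_cj, map_mul, map_mul, map_inv]
  rfl

theorem cj_cj (m m' : GL2 F) (x : SL2 F) : cj m (cj m' x) = cj (m * m') x := by
  apply Subtype.ext
  rw [cj_coe, cj_coe, cj_coe, mul_inv_rev, Units.val_mul, Units.val_mul]
  simp only [mul_assoc]

theorem cj_one (x : SL2 F) : cj (1 : GL2 F) x = x := by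
  apply Subtype.ext
  rw [cj_coe]
  simp

theorem cj_inv_cj (m : GL2 F) (x : SL2 F) : cj m⁻¹ (cj m x) = x := by
  rw [cj_cj, inv_mul_cancel, cj_one]

theorem cj_cj_inv (m : GL2 F) (x : SL2 F) : cj m (cj m⁻¹ x) = x := by
  rw [cj_cj, mul_inv_cancel, cj_one]

theorem cj_injective (m : GL2 F) : Function.Injective (cj m) := by
  intro x y h
  rw [← cj_inv_cj m x, h, cj_inv_cj]

theorem tr_cj (m : GL2 F) (x : SL2 F) : tr (cj m x) = tr x := by
  have h1 : ∀ y : SL2 F, tr y = (y : M2 F).trace := by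
    intro y
    simp [tr, Matrix.trace, Fin.sum_univ_two]
  rw [h1, h1, cj_coe]
  exact Matrix.trace_units_conj m (x : M2 F)

theorem cj_toGL (y x : SL2 F) : cj (Matrix.SpecialLinearGroup.toGL y) x = y * x * y⁻¹ := by
  apply Subtype.ext
  rw [cj_coe, Matrix.SpecialLinearGroup.coe_mul, Matrix.SpecialLinearGroup.coe_mul]
  congr 1

theorem cj_center (m : GL2 F) {z : SL2 F} (hz : z ∈ Subgroup.center (SL2 F)) : cj m z = z := by
  rw [Matrix.SpecialLinearGroup.mem_center_iff] at hz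
  obtain ⟨r, -, hr⟩ := hz
  apply Subtype.ext
  rw [cj_coe, ← hr]
  have : (m : M2 F) * (Matrix.scalar (Fin 2) r) = (Matrix.scalar (Fin 2) r) * (m : M2 F) :=
    (Matrix.scalar_commute r (fun _ => Commute.all _ _) (m : M2 F)).symm.eq
  rw [this, mul_assoc, Units.mul_inv, mul_one]

variable (M : Subgroup (PGL2 F))

/-- the preimage of `M` in `SL₂(F)` -/
def Hh : Subgroup (SL2 F) := M.comap (tP F)

/-- the preimage of `M` in `GL₂(F)` -/
def Mh : Subgroup (GL2 F) := M.comap Matrix.ProjGenLinGroup.mk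

variable {M}

theorem mem_Hh {x : SL2 F} : x ∈ Hh M ↔ tP F x ∈ M := Iff.rfl

theorem mem_Mh {m : GL2 F} : m ∈ Mh M ↔ Matrix.ProjGenLinGroup.mk m ∈ M := Iff.rfl

theorem center_le_Hh : Subgroup.center (SL2 F) ≤ Hh M := by
  intro z hz
  rw [mem_Hh]
  have : z ∈ (tP F).ker := by
    rw [Matrix.SpecialLinearGroup.toPGL_ker]
    exact hz
  rw [MonoidHom.mem_ker] at this
  rw [this]
  exact M.one_mem

theorem cj_mem_Hh {m : GL2 F} (hm : m ∈ Mh M) {x : SL2 F} (hx : x ∈ Hh M) : cj m x ∈ Hh M := by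
  rw [mem_Hh, tP_cj]
  exact M.mul_mem (M.mul_mem hm hx) (M.inv_mem hm)

theorem toGL_mem_Mh {x : SL2 F} (hx : x ∈ Hh M) : Matrix.SpecialLinearGroup.toGL x ∈ Mh M := hx

theorem Hh_ne_top (hML : ¬ (tP F).range ≤ M) : Hh M ≠ ⊤ := by
  intro htop
  apply hML
  rintro _ ⟨x, rfl⟩
  have : x ∈ Hh M := by rw [htop]; trivial
  exact this

local notation "π" => QuotientGroup.mk' (Subgroup.center (Matrix.SpecialLinearGroup (Fin 2) F))

theorem range_tP_eq : (tP F).range =
    (Matrix.ProjectiveSpecialLinearGroup.toPGL : PSL2 F →* PGL2 F).range := by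
  ext x
  constructor
  · rintro ⟨s, rfl⟩
    exact ⟨QuotientGroup.mk s, rfl⟩
  · rintro ⟨s, rfl⟩
    induction s using QuotientGroup.induction_on with | H s => exact ⟨s, rfl⟩

theorem gcd_two_of_odd {q : ℕ} (hodd : Odd q) : Nat.gcd 2 (q - 1) = 2 := by
  obtain ⟨m, hm⟩ := hodd
  rw [hm]
  simp

theorem exists_hom_two [Fintype F] (hodd : Odd (Fintype.card F)) :
    ∃ g : PGL2 F →* Multiplicative (ZMod 2), Function.Surjective g ∧ g.ker = (tP F).range := by
  have key := Cfsg.Agent.Lib.Helper29.pgl_mod_psl (F := F) rfl 2 (by norm_num)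
  rw [gcd_two_of_odd hodd] at key
  obtain ⟨g, hg1, hg2⟩ := key
  exact ⟨g, hg1, by rw [hg2, range_tP_eq]⟩

theorem range_tP_normal [Fintype F] (hodd : Odd (Fintype.card F)) : ((tP F).range).Normal := by
  obtain ⟨g, -, hg⟩ := exists_hom_two (F := F) hodd
  rw [← hg]
  infer_instance

theorem range_tP_index [Fintype F] (hodd : Odd (Fintype.card F)) : ((tP F).range).index = 2 := by
  obtain ⟨g, hs, hg⟩ := exists_hom_two (F := F) hodd
  rw [← hg, Subgroup.index_ker, MonoidHom.range_eq_top.mpr hs, Subgroup.card_top, Nat.card_eq_fintype_card]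
  rfl

theorem range_tP_ne_top [Fintype F] (hodd : Odd (Fintype.card F)) : (tP F).range ≠ ⊤ := by
  intro h
  have := range_tP_index (F := F) hodd
  rw [h, Subgroup.index_top] at this
  omega

variable {M : Subgroup (PGL2 F)}

theorem not_le_range [Fintype F] (hodd : Odd (Fintype.card F)) (hM : IsCoatom M)
    (hML : ¬ (tP F).range ≤ M) : ¬ M ≤ (tP F).range := by
  intro hle
  rcases hM.le_iff.mp hle with h | h
  · exact range_tP_ne_top hodd h
  · exact hML (le_of_eq h)

theorem card_Hh [Fintype F] (hodd : Odd (Fintype.card F)) :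
    Nat.card (Hh M) = 2 * Nat.card ((tP F).range ⊓ M : Subgroup (PGL2 F)) := by
  obtain ⟨qe⟩ := Cfsg.Agent.Lib.Helper12.DkG.quot_equiv (Hh M)
  rw [Cfsg.Agent.Lib.Helper12.DkZ.card_of_quot_iso hodd center_le_Hh qe]
  congr 1
  have h1 : ((Hh M).map π).map Matrix.ProjectiveSpecialLinearGroup.toPGL = (tP F).range ⊓ M := by
    rw [Subgroup.map_map]
    have : (Matrix.ProjectiveSpecialLinearGroup.toPGL : PSL2 F →* PGL2 F).comp π = tP F := rfl
    rw [this]
    exact Subgroup.map_comap_eq (tP F) M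
  rw [← h1]
  exact (Subgroup.card_map_of_injective Matrix.ProjectiveSpecialLinearGroup.toPGL_injective).symm

theorem card_M [Fintype F] (hodd : Odd (Fintype.card F)) (hM : IsCoatom M)
    (hML : ¬ (tP F).range ≤ M) : Nat.card M = Nat.card (Hh M) := by
  have := range_tP_normal (F := F) hodd
  rw [card_Hh hodd]
  have h1 : ((tP F).range).relIndex M ∣ 2 := by
    have := Subgroup.relIndex_dvd_index_of_normal ((tP F).range) M
    rwa [range_tP_index (F := F) hodd] at this
  have h2 : ((tP F).range).relIndex M ≠ 1 := by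
    intro h
    exact not_le_range hodd hM hML (Subgroup.relIndex_eq_one.mp h)
  have h3 : ((tP F).range).relIndex M = 2 := by
    rcases (Nat.dvd_prime Nat.prime_two).mp h1 with h | h
    · exact absurd h h2
    · exact h
  have h4 := Subgroup.card_mul_index (((tP F).range).subgroupOf M)
  rw [← Subgroup.relIndex, h3] at h4
  rw [← h4, mul_comm]
  congr 1
  rw [← Subgroup.inf_subgroupOf_right]
  exact Nat.card_congr (Subgroup.subgroupOfEquivOfLe inf_le_right).toEquiv



/-- a normal subgroup of `SL₂(F)` containing the centre is the centre or everything -/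
theorem normal_cases [Fintype F] (h4 : 4 ≤ Fintype.card F) (X : Subgroup (SL2 F)) (hXn : X.Normal)
    (hZX : Subgroup.center (SL2 F) ≤ X) : X ≤ Subgroup.center (SL2 F) ∨ X = ⊤ := by
  have : IsSimpleGroup (PSL2 F) :=
    Matrix.ProjectiveSpecialLinearGroup.rank_two_simple
      (by rw [Nat.card_eq_fintype_card]; exact h4)
  have hn : (X.map π).Normal := Subgroup.Normal.map hXn π (QuotientGroup.mk'_surjective _)
  rcases hn.eq_bot_or_eq_top with hb | ht
  · left
    intro x hx
    have : π x ∈ X.map π := ⟨x, hx, rfl⟩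
    rw [hb, Subgroup.mem_bot] at this
    exact (QuotientGroup.eq_one_iff x).mp this
  · right
    rw [eq_top_iff]
    intro x _
    have : π x ∈ X.map π := by rw [ht]; trivial
    obtain ⟨x', hx', he⟩ := this
    have h2 : x'⁻¹ * x ∈ Subgroup.center (SL2 F) := by
      have : π (x'⁻¹ * x) = 1 := by rw [map_mul, map_inv, he, inv_mul_cancel]
      exact (QuotientGroup.eq_one_iff _).mp this
    have h3 := X.mul_mem hx' (hZX h2)
    rwa [mul_inv_cancel_left] at h3

/-- **the invariance tool** -/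
theorem inv_tool [Fintype F] (h4 : 4 ≤ Fintype.card F) (hM : IsCoatom M)
    (X : Subgroup (SL2 F)) (hle : Hh M ≤ X) (hne : X ≠ ⊤)
    (hinv : ∀ m ∈ Mh M, ∀ x ∈ X, cj m x ∈ X) : X = Hh M := by
  classical
  obtain ⟨Y, hY⟩ : ∃ Y : Subgroup (PGL2 F), Y = X.map (tP F) := ⟨_, rfl⟩
  have hZX : Subgroup.center (SL2 F) ≤ X := center_le_Hh.trans hle
  have key : ∀ m ∈ Mh M, ∀ h ∈ Y, Matrix.ProjGenLinGroup.mk m * h *
      (Matrix.ProjGenLinGroup.mk m)⁻¹ ∈ Y := by
    intro m hm h hh
    rw [hY] at hh ⊢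
    obtain ⟨x, hx, rfl⟩ := hh
    exact ⟨cj m x, hinv m hm x hx, tP_cj m x⟩
  have hMN : M ≤ Subgroup.normalizer (Y : Set (PGL2 F)) := by
    intro g hg
    obtain ⟨m, rfl⟩ := Matrix.ProjGenLinGroup.mk_surjective g
    have hm : m ∈ Mh M := hg
    rw [Subgroup.mem_normalizer_iff]
    intro h
    constructor
    · exact key m hm h
    · intro hh
      have := key m⁻¹ ((Mh M).inv_mem hm) _ hh
      rw [map_inv] at this
      convert this using 1
      group
  rcases hM.le_iff.mp hMN with htop | heq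
  · have hYn : Y.Normal := Subgroup.normalizer_eq_top_iff.mp htop
    have hXn : X.Normal := by
      constructor
      intro x hx y
      have h1 : tP F (y * x * y⁻¹) ∈ Y := by
        rw [map_mul, map_mul, map_inv]
        exact hYn.conj_mem _ (by rw [hY]; exact ⟨x, hx, rfl⟩) _
      rw [hY] at h1
      obtain ⟨x', hx', he⟩ := h1
      have h2 : x'⁻¹ * (y * x * y⁻¹) ∈ (tP F).ker := by
        rw [MonoidHom.mem_ker, map_mul, map_inv, he, inv_mul_cancel]
      rw [Matrix.SpecialLinearGroup.toPGL_ker] at h2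
      have h3 := X.mul_mem hx' (hZX h2)
      rwa [mul_inv_cancel_left] at h3
    rcases normal_cases h4 X hXn hZX with h | h
    · exact le_antisymm (h.trans center_le_Hh) hle
    · exact absurd h hne
  · apply le_antisymm _ hle
    intro x hx
    rw [mem_Hh, ← heq]
    exact Subgroup.le_normalizer (show tP F x ∈ Y from by rw [hY]; exact ⟨x, hx, rfl⟩)

/-! ### conjugating `M` -/

/-- the conjugate `c⁻¹ M c` -/
def conjM (c : PGL2 F) (M : Subgroup (PGL2 F)) : Subgroup (PGL2 F) :=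
  M.comap ((MulAut.conj c : PGL2 F ≃* PGL2 F) : PGL2 F →* PGL2 F)

theorem mem_conjM {c x : PGL2 F} : x ∈ conjM c M ↔ c * x * c⁻¹ ∈ M := Iff.rfl

theorem conjM_coatom (c : PGL2 F) (hM : IsCoatom M) : IsCoatom (conjM c M) :=
  (Subgroup.isCoatom_comap (MulAut.conj c : PGL2 F ≃* PGL2 F)).mpr hM

theorem conjM_not_le [Fintype F] (hodd : Odd (Fintype.card F)) (c : PGL2 F)
    (hML : ¬ (tP F).range ≤ M) : ¬ (tP F).range ≤ conjM c M := by
  have hn := range_tP_normal (F := F) hodd
  intro hle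
  apply hML
  intro y hy
  have h1 : c⁻¹ * y * c⁻¹⁻¹ ∈ (tP F).range := hn.conj_mem y hy c⁻¹
  have h2 := hle h1
  rw [mem_conjM] at h2
  convert h2 using 1
  group

theorem conjM_equiv (c : PGL2 F) (M : Subgroup (PGL2 F)) : Nonempty (↥(conjM c M) ≃* ↥M) := by
  have hmap : (conjM c M).map ((MulAut.conj c : PGL2 F ≃* PGL2 F) : PGL2 F →* PGL2 F) = M := by
    ext z
    constructor
    · rintro ⟨g, hg, rfl⟩
      exact hg
    · intro hz
      refine ⟨c⁻¹ * z * c, ?_, ?_⟩
      · show c * (c⁻¹ * z * c) * c⁻¹ ∈ M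
        convert hz using 1
        group
      · show c * (c⁻¹ * z * c) * c⁻¹ = z
        group
  exact ⟨(Subgroup.equivMapOfInjective _ _ (MulAut.conj c).injective).trans
    (MulEquiv.subgroupCongr hmap)⟩

theorem Hh_conjM (m0 : GL2 F) :
    Hh (conjM (Matrix.ProjGenLinGroup.mk m0) M) = (Hh M).comap (cj m0) := by
  ext x
  rw [mem_Hh, mem_conjM, Subgroup.mem_comap, mem_Hh, tP_cj]

end Cfsg.Agent.Lib.Helper12.DkP
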