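import Cfsg.Agent.Lib.Helper12.DkP0

/-!
Maximal subgroups of `PGL₂(F)`: the Borel case (helper12).
-/

set_option autoImplicit false

namespace Cfsg.Agent.Lib.Helper12.DkP

open Cfsg.Agent.Lib.Lead.DicksonSL2 Cfsg.Agent.Lib.Helper12.SL2

variable {F : Type*} [Field F]

local notation "SL2" => Matrix.SpecialLinearGroup (Fin 2)
local notation "M2" => Matrix (Fin 2) (Fin 2)
local notation "GL2" => Matrix.GeneralLinearGroup (Fin 2)
local notation "PSL2" => Matrix.ProjectiveSpecialLinearGroup (Fin 2)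
local notation "PGL2" => Matrix.ProjGenLinGroup (Fin 2)

variable {M : Subgroup (PGL2 F)}

theorem gl_det_ne_zero (m : GL2 F) :
    (m : M2 F) 0 0 * (m : M2 F) 1 1 - (m : M2 F) 0 1 * (m : M2 F) 1 0 ≠ 0 := by
  have h1 : IsUnit (m : M2 F).det := (Matrix.isUnit_iff_isUnit_det _).mp m.isUnit
  rw [Matrix.det_fin_two] at h1
  exact h1.ne_zero

/-- entries of the relation `(cj m x) * m = m * x` -/
theorem cj_entries (m : GL2 F) (x : SL2 F) (i j : Fin 2) :
    (cj m x) i 0 * (m : M2 F) 0 j + (cj m x) i 1 * (m : M2 F) 1 j =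
      (m : M2 F) i 0 * x 0 j + (m : M2 F) i 1 * x 1 j := by
  have := congrFun (congrFun (cj_mul_eq m x) i) j
  simpa [Matrix.mul_apply, Fin.sum_univ_two] using this

/-- the Borel case in standard position -/
theorem borel_std [Fintype F] (hodd : Odd (Fintype.card F)) (h4 : 4 ≤ Fintype.card F)
    (hM : IsCoatom M) (hML : ¬ (tP F).range ≤ M)
    (hle : Hh M ≤ Cfsg.Agent.Lib.Helper1.DkOrders.Bor F) {u : SL2 F} (hu : u ∈ Hh M)
    (hu1 : u ≠ 1) (htr : u 0 0 + u 1 1 = 2) :
    Nat.card M = Fintype.card F * (Fintype.card F - 1) := by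
  have hu10 : u 1 0 = 0 := hle hu
  have hdet := det_eq u
  rw [hu10, mul_zero, sub_zero] at hdet
  have hu00 : u 0 0 = 1 := by
    have : (u 0 0 - 1) ^ 2 = 0 := by linear_combination (-1 : F) * hdet + u 0 0 * htr
    have := pow_eq_zero_iff (two_ne_zero) |>.mp this
    exact sub_eq_zero.mp this
  have hu11 : u 1 1 = 1 := by rw [hu00] at htr; linear_combination htr
  have hb : u 0 1 ≠ 0 := by
    intro h
    apply hu1
    apply ext4 <;> simp [hu00, hu11, hu10, h]
  -- elements of `Mh M` are upper triangular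
  have hγ : ∀ m ∈ Mh M, (m : M2 F) 1 0 = 0 := by
    intro m hm
    have hy : (cj m u) 1 0 = 0 := hle (cj_mem_Hh hm hu)
    have e10 := cj_entries m u 1 0
    have e11 := cj_entries m u 1 1
    rw [hy, hu00, hu10] at e10
    rw [hy, hu11] at e11
    by_contra hne
    have h1 : (cj m u) 1 1 = 1 := by
      have : ((cj m u) 1 1 - 1) * (m : M2 F) 1 0 = 0 := by linear_combination e10
      rcases mul_eq_zero.mp this with h | h
      · exact sub_eq_zero.mp h
      · exact absurd h hne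
    rw [h1] at e11
    have : (m : M2 F) 1 0 * u 0 1 = 0 := by linear_combination (-1 : F) * e11
    rcases mul_eq_zero.mp this with h | h
    · exact hne h
    · exact hb h
  have hinv : ∀ m ∈ Mh M, ∀ x ∈ Cfsg.Agent.Lib.Helper1.DkOrders.Bor F,
      cj m x ∈ Cfsg.Agent.Lib.Helper1.DkOrders.Bor F := by
    intro m hm x hx
    rw [Cfsg.Agent.Lib.Helper1.DkOrders.mem_Bor] at hx ⊢
    have e10 := cj_entries m x 1 0
    have hd := gl_det_ne_zero m
    rw [hγ m hm, hx] at e10
    rw [hγ m hm] at hd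
    have hα : (m : M2 F) 0 0 ≠ 0 := by
      intro h
      apply hd
      rw [h]; ring
    have : (cj m x) 1 0 * (m : M2 F) 0 0 = 0 := by linear_combination e10
    rcases mul_eq_zero.mp this with h | h
    · exact h
    · exact absurd h hα
  have hne : Cfsg.Agent.Lib.Helper1.DkOrders.Bor F ≠ ⊤ := by
    intro htop
    have := Cfsg.Agent.Lib.Helper1.DkOrders.index_Bor (F := F)
    rw [htop, Subgroup.index_top] at this
    omega
  have heq := inv_tool h4 hM _ hle hne hinv
  rw [card_M hodd hM hML, ← heq, Cfsg.Agent.Lib.Helper1.DkOrders.card_Bor, mul_comm]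

/-- the Borel case -/
theorem borel_case [Fintype F] (p : ℕ) [Fact p.Prime] [CharP F p] (hodd : Odd (Fintype.card F))
    (h4 : 4 ≤ Fintype.card F) (hM : IsCoatom M) (hML : ¬ (tP F).range ≤ M)
    (hd : p ∣ Nat.card (Hh M)) (hS : Subsingleton (Sylow p (Hh M))) :
    Nat.card M = Fintype.card F * (Fintype.card F - 1) := by
  classical
  obtain ⟨v, hv, hfix⟩ := Cfsg.Agent.Lib.Helper12.DkH.T3 p hd hS
  obtain ⟨k, hk⟩ := exists_smul_e1 hv
  obtain ⟨M', hM'⟩ : ∃ M' : Subgroup (PGL2 F),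
    M' = conjM (Matrix.ProjGenLinGroup.mk (Matrix.SpecialLinearGroup.toGL k)) M := ⟨_, rfl⟩
  have hmem : ∀ x : SL2 F, x ∈ Hh M' ↔ k * x * k⁻¹ ∈ Hh M := by
    intro x
    rw [hM', Hh_conjM, Subgroup.mem_comap, cj_toGL]
  have hle : Hh M' ≤ Cfsg.Agent.Lib.Helper1.DkOrders.Bor F := by
    intro g hg
    rw [hmem] at hg
    obtain ⟨c, hc⟩ := hfix _ hg
    rw [Cfsg.Agent.Lib.Helper1.DkOrders.mem_Bor]
    have e : g • (![1, 0] : Fin 2 → F) = c • ![1, 0] := by
      have h3 : k⁻¹ • v = ![1, 0] := by rw [← hk, inv_smul_smul]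
      have h4 := congrArg (fun w => k⁻¹ • w) hc
      simp only [mul_smul, inv_smul_smul, smul_comm _ c, h3] at h4
      exact h4
    have := congrFun e 1
    rw [Cfsg.Agent.Lib.Helper12.SL2.smul_apply] at this
    simpa using this
  -- an element of order `p`
  obtain ⟨u0, hu0⟩ := exists_prime_orderOf_dvd_card' (G := Hh M) p hd
  have hu0' : orderOf (u0 : SL2 F) = p := by rw [Subgroup.orderOf_coe]; exact hu0
  obtain ⟨u, hu⟩ : ∃ u : SL2 F, u = k⁻¹ * (u0 : SL2 F) * k := ⟨_, rfl⟩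
  have huM : u ∈ Hh M' := by
    rw [hmem, hu]
    have : k * (k⁻¹ * (u0 : SL2 F) * k) * k⁻¹ = (u0 : SL2 F) := by group
    rw [this]
    exact u0.2
  have hord : orderOf u = p := by
    rw [hu, ← hu0']
    have hs : SemiconjBy k⁻¹ (u0 : SL2 F) (k⁻¹ * (u0 : SL2 F) * k) := by
      show k⁻¹ * (u0 : SL2 F) = k⁻¹ * (u0 : SL2 F) * k * k⁻¹
      group
    exact (SemiconjBy.orderOf_eq _ hs).symm
  have hu1 : u ≠ 1 := by
    intro h
    rw [h, orderOf_one] at hord
    exact (Fact.out : p.Prime).one_lt.ne hord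
  have htr : u 0 0 + u 1 1 = 2 := by
    have hT : IsPGroup p (Subgroup.zpowers u) := by
      apply IsPGroup.of_card (n := 1)
      rw [Nat.card_zpowers, hord, pow_one]
    obtain ⟨w, hw, hfw⟩ := exists_fixed_vector _ hT
    exact trace_eq_two_of_fix u w hw (hfw u (Subgroup.mem_zpowers u))
  have hMc : IsCoatom M' := by rw [hM']; exact conjM_coatom _ hM
  have hMLc : ¬ (tP F).range ≤ M' := by rw [hM']; exact conjM_not_le hodd _ hML
  have := borel_std hodd h4 hMc hMLc hle huM hu1 htr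
  obtain ⟨e⟩ := conjM_equiv (Matrix.ProjGenLinGroup.mk (Matrix.SpecialLinearGroup.toGL k)) M
  rw [← Nat.card_congr e.toEquiv, ← hM']
  exact this

end Cfsg.Agent.Lib.Helper12.DkP
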