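import Cfsg.Agent.Lib.Helper12.DkP9

/-!
Maximal subgroups of `PGL₂(F)`: the exceptional cases (helper12).
-/

set_option autoImplicit false

namespace Cfsg.Agent.Lib.Helper12.DkP

open Cfsg.Agent.Lib.Helper12.SL2 Cfsg.Agent.Lib.Helper16.DkMax

variable {F : Type*} [Field F]

local notation "SL2" => Matrix.SpecialLinearGroup (Fin 2)
local notation "M2" => Matrix (Fin 2) (Fin 2)
local notation "GL2" => Matrix.GeneralLinearGroup (Fin 2)
local notation "PSL2" => Matrix.ProjectiveSpecialLinearGroup (Fin 2)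
local notation "PGL2" => Matrix.ProjGenLinGroup (Fin 2)
local notation "π" => QuotientGroup.mk' (Subgroup.center (Matrix.SpecialLinearGroup (Fin 2) F))
local notation "toPGL'" => (Matrix.ProjectiveSpecialLinearGroup.toPGL :
  Matrix.ProjectiveSpecialLinearGroup (Fin 2) F →* Matrix.ProjGenLinGroup (Fin 2) F)

variable {M : Subgroup (PGL2 F)}

/-- transport of `HasPair` from the image of `H` to `M` -/
theorem hasPair_of_iso {X : Type*} [Group X] (f : ↥((Hh M).map π) ≃* X) (hX : HasPair X) :
    HasPair M := by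
  have h1 : HasPair ↥((Hh M).map π) := HasPair.of_injective f.symm.toMonoidHom f.symm.injective hX
  let j : ↥((Hh M).map π) →* M :=
    MonoidHom.codRestrict ((toPGL').comp (Subgroup.subtype _)) M (fun x => by
      have : (x : PSL2 F) ∈ M.comap toPGL' := by rw [comap_toPGL_eq]; exact x.2
      exact this)
  have hj : Function.Injective j := by
    intro x y hxy
    have h2 := congrArg Subtype.val hxy
    exact Subtype.ext (Matrix.ProjectiveSpecialLinearGroup.toPGL_injective h2)
  exact HasPair.of_injective j hj h1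

theorem prod_lt_of_seven_le {q : ℕ} (h : 7 ≤ q) : 240 < q * (q ^ 2 - 1) := by
  have h1 : 48 ≤ q ^ 2 - 1 := by
    have : 49 ≤ q ^ 2 := by nlinarith
    omega
  calc 240 < 7 * 48 := by norm_num
    _ ≤ q * (q ^ 2 - 1) := Nat.mul_le_mul h h1

/-- the possible orders `24`, `48`, `120` -/
theorem exc_orders [Fintype F] (p : ℕ) [Fact p.Prime] [CharP F p] (hp2 : p ≠ 2)
    (hpair : HasPair M) (hcases : Nat.card M = 24 ∨ Nat.card M = 48 ∨ Nat.card M = 120) :
    (Nat.card M = 24 ∧ (Nonempty (M ≃* Equiv.Perm (Fin 4)) ∨ p = 3)) ∨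
      (Nat.card M = 120 ∧ p = 5) := by
  rcases routeK p hp2 M hpair with ⟨⟨f⟩⟩ | ⟨⟨f⟩⟩ | ⟨⟨f⟩⟩ | ⟨K', i1, i2, hpK, h⟩
  · exfalso
    have := Nat.card_congr f.toEquiv
    rw [card_A4] at this
    omega
  · left
    have := Nat.card_congr f.toEquiv
    rw [card_S4] at this
    exact ⟨this, Or.inl ⟨f⟩⟩
  · exfalso
    have := Nat.card_congr f.toEquiv
    rw [card_A5] at this
    omega
  · letI := i1
    letI := i2
    rcases h with ⟨⟨f⟩⟩ | ⟨⟨f⟩⟩
    · exfalso
      -- `K'` has odd order
      obtain ⟨p', hp'⟩ := CharP.exists K'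
      haveI : Fact p'.Prime := ⟨CharP.char_is_prime K' p'⟩
      obtain ⟨n, -, hn⟩ := FiniteField.card K' p'
      have hpp : p = p' := by
        rw [hn] at hpK
        exact (Nat.prime_dvd_prime_iff_eq (Fact.out : p.Prime) (Fact.out : p'.Prime)).mp
          ((Fact.out : p.Prime).dvd_of_dvd_pow hpK)
      have hoddK : Odd (Fintype.card K') := by
        rw [hn, ← hpp]
        exact Odd.pow ((Fact.out : p.Prime).odd_of_ne_two hp2)
      have h1 := two_mul_card_PSL2 (K := K') hoddK
      have h2 := Nat.card_congr f.toEquiv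
      rw [← h2] at h1
      have hq' : Fintype.card K' < 7 := by
        by_contra hge
        have := prod_lt_of_seven_le (not_lt.mp hge)
        omega
      have hq2 : 2 ≤ Fintype.card K' := Fintype.one_lt_card
      generalize Fintype.card K' = q' at *
      interval_cases q' <;> omega
    · have h1 := card_PGL2_eq (K := K')
      have h2 := Nat.card_congr f.toEquiv
      rw [← h2] at h1
      have hq' : Fintype.card K' < 7 := by
        by_contra hge
        have := prod_lt_of_seven_le (not_lt.mp hge)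
        omega
      have hq2 : 2 ≤ Fintype.card K' := Fintype.one_lt_card
      have hpp := (Fact.out : p.Prime)
      generalize Fintype.card K' = q' at *
      interval_cases q'
      · omega
      · left
        refine ⟨by omega, Or.inr ?_⟩
        exact (Nat.prime_dvd_prime_iff_eq hpp Nat.prime_three).mp hpK
      · omega
      · right
        refine ⟨by omega, ?_⟩
        exact (Nat.prime_dvd_prime_iff_eq hpp Nat.prime_five).mp hpK
      · omega

/-- in a group of order `12` with a normal subgroup of order `4`, the involutions lie in it -/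
theorem mem_of_sq_eq_one {G : Type*} [Group G] (P V : Subgroup G) (hVP : V ≤ P)
    (hPN : P ≤ Subgroup.normalizer (V : Set G)) (hcP : Nat.card P = 12) (hcV : Nat.card V = 4)
    {x : G} (hx : x ∈ P) (hxx : x * x = 1) : x ∈ V := by
  have : Finite P := Nat.finite_of_card_ne_zero (by rw [hcP]; norm_num)
  haveI hn : (V.subgroupOf P).Normal := (Subgroup.normal_subgroupOf_iff_le_normalizer hVP).mpr hPN
  have hc0 : Nat.card (V.subgroupOf P) = 4 := by
    rw [← hcV]
    exact Nat.card_congr (Subgroup.subgroupOfEquivOfLe hVP).toEquiv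
  have hcq : Nat.card (↥P ⧸ V.subgroupOf P) = 3 := by
    have := Subgroup.card_eq_card_quotient_mul_card_subgroup (V.subgroupOf P)
    rw [hcP, hc0] at this
    omega
  have h3 : (QuotientGroup.mk' (V.subgroupOf P) ⟨x, hx⟩) ^ 3 = 1 := by
    have := pow_card_eq_one' (G := ↥P ⧸ V.subgroupOf P)
      (x := QuotientGroup.mk' (V.subgroupOf P) ⟨x, hx⟩)
    rwa [hcq] at this
  have h2 : (QuotientGroup.mk' (V.subgroupOf P) ⟨x, hx⟩) ^ 2 = 1 := by
    rw [← map_pow, pow_two]
    have : (⟨x, hx⟩ : P) * ⟨x, hx⟩ = 1 := Subtype.ext hxx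
    rw [this, map_one]
  have h1 : QuotientGroup.mk' (V.subgroupOf P) ⟨x, hx⟩ = 1 := by
    have : (QuotientGroup.mk' (V.subgroupOf P) ⟨x, hx⟩) ^ 3 =
        (QuotientGroup.mk' (V.subgroupOf P) ⟨x, hx⟩) ^ 2 *
          QuotientGroup.mk' (V.subgroupOf P) ⟨x, hx⟩ := pow_succ _ 2
    rw [h3, h2, one_mul] at this
    exact this.symm
  have := (QuotientGroup.eq_one_iff _).mp h1
  exact Subgroup.mem_subgroupOf.mp this

/-- the `A₄` case forces `q ≡ ±3 (mod 8)` -/
theorem mod8_of_A4 [Fintype F] (hodd : Odd (Fintype.card F)) (h4 : 4 ≤ Fintype.card F)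
    (hM : IsCoatom M) (e : ↥((Hh M).map π) ≃* alternatingGroup (Fin 4)) :
    Fintype.card F % 8 = 3 ∨ Fintype.card F % 8 = 5 := by
  classical
  obtain ⟨V, hV, hVM, hMN⟩ := Cfsg.Agent.Lib.Helper12.DkA4.exists_kleinFour_of_A4 _ e
  have hcV : Nat.card V = 4 := hV.card_four
  have hcP : Nat.card ((Hh M).map π) = 12 := by
    rw [Nat.card_congr e.toEquiv, card_A4]
  have hsqV : ∀ v ∈ V, v * v = 1 := by
    intro v hv
    have := Monoid.pow_exponent_eq_one (⟨v, hv⟩ : V)
    rw [hV.exponent_two, pow_two] at this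
    exact congrArg Subtype.val this
  have hnorm := le_normalizer_map (M := M) hodd
  have key : ∀ g ∈ M, ∀ y ∈ V.map toPGL', g * y * g⁻¹ ∈ V.map toPGL' := by
    rintro g hg _ ⟨v, hv, rfl⟩
    have h1 : g * toPGL' v * g⁻¹ ∈ ((Hh M).map π).map toPGL' :=
      (Subgroup.mem_normalizer_iff.mp (hnorm hg) _).mp ⟨v, hVM hv, rfl⟩
    obtain ⟨x, hx, hxe⟩ := h1
    have hxx : x * x = 1 := by
      apply Matrix.ProjectiveSpecialLinearGroup.toPGL_injective
      rw [map_mul, hxe, map_one]
      have : g * toPGL' v * g⁻¹ * (g * toPGL' v * g⁻¹) = g * (toPGL' v * toPGL' v) * g⁻¹ := by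
        group
      rw [this, ← map_mul, hsqV v hv, map_one, mul_one, mul_inv_cancel]
    exact ⟨x, mem_of_sq_eq_one _ V hVM hMN hcP hcV hx hxx, hxe⟩
  have hMV : M ≤ Subgroup.normalizer ((V.map toPGL' : Subgroup (PGL2 F)) : Set (PGL2 F)) := by
    intro g hg
    rw [Subgroup.mem_normalizer_iff]
    intro y
    constructor
    · exact key g hg y
    · intro hy
      have := key g⁻¹ (M.inv_mem hg) _ hy
      convert this using 1
      group
  have hV1 : V ≠ ⊥ := by
    intro h
    rw [h, Subgroup.card_bot] at hcV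
    omega
  have hV2 : V ≠ ⊤ := by
    intro h
    have h5 := Subgroup.card_le_card_group ((Hh M).map π)
    rw [h, Subgroup.card_top] at hcV
    omega
  have hN := normalizer_le_of_normalized h4 hM V hV1 hV2 hMV
  have hNc := Subgroup.card_le_of_le hN
  rw [hcP] at hNc
  by_contra hcon
  have h8 : Fintype.card F % 8 = 1 ∨ Fintype.card F % 8 = 7 := by
    obtain ⟨k, hk⟩ := hodd
    omega
  have := Cfsg.Agent.Lib.Helper12.DkA4.card_normalizer_ge hodd h8 V hV
  omega

end Cfsg.Agent.Lib.Helper12.DkP
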