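import Cfsg.Agent.Lib.Helper12.DkP1
import Cfsg.Agent.Lib.Helper16.DkMax2

/-!
Maximal subgroups of `PGL₂(F)`: the subfield case (helper12).
-/

set_option autoImplicit false

namespace Cfsg.Agent.Lib.Helper12.DkP

open Cfsg.Agent.Lib.Lead.DicksonSL2 Cfsg.Agent.Lib.Helper12.SL2 Cfsg.Agent.Lib.Lead.DicksonField
  Cfsg.Agent.Lib.Helper9.SL2Upper Cfsg.Agent.Lib.Lead.DicksonBase

variable {F : Type*} [Field F]

local notation "SL2" => Matrix.SpecialLinearGroup (Fin 2)
local notation "M2" => Matrix (Fin 2) (Fin 2)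
local notation "GL2" => Matrix.GeneralLinearGroup (Fin 2)
local notation "PSL2" => Matrix.ProjectiveSpecialLinearGroup (Fin 2)
local notation "PGL2" => Matrix.ProjGenLinGroup (Fin 2)

theorem gl_map_apply {K : Type*} [Field K] (ι : K →+* F) (g : GL2 K) (i j : Fin 2) :
    ((Matrix.GeneralLinearGroup.map ι g : GL2 F) : M2 F) i j = ι ((g : M2 K) i j) := rfl

theorem gl_scalar_apply (u : Fˣ) (i j : Fin 2) :
    ((Matrix.GeneralLinearGroup.scalar (Fin 2) u : GL2 F) : M2 F) i j = if i = j then (u : F) else 0 := by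
  rw [Matrix.GeneralLinearGroup.coe_scalar, Matrix.scalar_apply, Matrix.diagonal_apply]

/-- `PGL₂(K) → PGL₂(F)` is injective -/
theorem pgl_map_injective {K : Type*} [Field K] (ι : K →+* F) :
    Function.Injective (Matrix.ProjGenLinGroup.map (n := Fin 2) ι) := by
  rw [injective_iff_map_eq_one]
  intro x hx
  induction x using Matrix.ProjGenLinGroup.induction_on with | mk g =>
  rw [Matrix.ProjGenLinGroup.map_mk, Matrix.ProjGenLinGroup.mk_eq_one,
    Matrix.GeneralLinearGroup.center_eq_range_scalar] at hx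
  obtain ⟨u, hu⟩ := hx
  have e : ∀ i j, (if i = j then (u : F) else 0) = ι ((g : M2 K) i j) := by
    intro i j
    rw [← gl_scalar_apply, ← gl_map_apply, hu]
  have h00 := e 0 0
  have h01 := e 0 1
  have h10 := e 1 0
  have h11 := e 1 1
  simp only [if_true] at h00 h11
  rw [if_neg (by decide)] at h01 h10
  have hg00 : (g : M2 K) 0 0 ≠ 0 := by
    intro h
    rw [h, map_zero] at h00
    exact u.ne_zero h00
  rw [Matrix.ProjGenLinGroup.mk_eq_one, Matrix.GeneralLinearGroup.center_eq_range_scalar]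
  refine ⟨Units.mk0 _ hg00, ?_⟩
  apply Units.ext
  ext i j
  rw [gl_scalar_apply]
  fin_cases i <;> fin_cases j
  · simp
  · simp
    exact ι.injective (by rw [← h01, map_zero])
  · simp
    exact ι.injective (by rw [← h10, map_zero])
  · simp
    exact ι.injective (by rw [← h00, h11])

/-- membership in the image of `PGL₂(K)` -/
theorem mem_range_pgl_map {K : Type*} [Field K] (ι : K →+* F) (m : GL2 F) (l : F) (hl : l ≠ 0)
    (hm : ∀ i j, ∃ c : K, (m : M2 F) i j = l * ι c) :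
    Matrix.ProjGenLinGroup.mk m ∈ (Matrix.ProjGenLinGroup.map (n := Fin 2) ι).range := by
  choose c hc using hm
  have hdet : (Matrix.of c : M2 K).det ≠ 0 := by
    intro h
    apply gl_det_ne_zero m
    rw [hc 0 0, hc 1 1, hc 0 1, hc 1 0]
    rw [Matrix.det_fin_two] at h
    simp only [Matrix.of_apply] at h
    have := congrArg ι h
    rw [map_zero, map_sub, map_mul, map_mul] at this
    linear_combination l ^ 2 * this
  refine ⟨Matrix.ProjGenLinGroup.mk (Matrix.GeneralLinearGroup.mkOfDetNeZero (Matrix.of c) hdet), ?_⟩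
  rw [Matrix.ProjGenLinGroup.map_mk, Matrix.ProjGenLinGroup.mk_eq_mk_iff]
  refine ⟨Units.mk0 l hl, ?_⟩
  apply Units.ext
  ext i j
  rw [Units.val_mul, Matrix.mul_apply, Fin.sum_univ_two, gl_scalar_apply, gl_scalar_apply,
    gl_map_apply, gl_map_apply, hc i j]
  fin_cases j <;> simp [Matrix.GeneralLinearGroup.mkOfDetNeZero] <;> ring

theorem card_range_pgl_map {K : Type*} [Field K] [Fintype K] (ι : K →+* F) :
    Nat.card (Matrix.ProjGenLinGroup.map (n := Fin 2) ι).range =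
      Fintype.card K * (Fintype.card K ^ 2 - 1) := by
  rw [← Cfsg.Agent.Lib.Helper16.DkMax.card_PGL2_eq]
  exact (Nat.card_congr (MonoidHom.ofInjective (pgl_map_injective ι)).toEquiv).symm

theorem range_pgl_map_ne_top [Fintype F] {K : Type*} [Field K] [Fintype K] (ι : K →+* F)
    (hlt : Fintype.card K < Fintype.card F) :
    (Matrix.ProjGenLinGroup.map (n := Fin 2) ι).range ≠ ⊤ := by
  intro h
  have h1 := card_range_pgl_map ι
  rw [h, Subgroup.card_top, Cfsg.Agent.Lib.Helper16.DkMax.card_PGL2_eq] at h1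
  have hk : 2 ≤ Fintype.card K := Fintype.one_lt_card
  have h2 : Fintype.card K ^ 2 - 1 < Fintype.card F ^ 2 - 1 := by
    have : Fintype.card K ^ 2 < Fintype.card F ^ 2 := Nat.pow_lt_pow_left hlt (by norm_num)
    have : 1 ≤ Fintype.card K ^ 2 := Nat.one_le_pow _ _ (by omega)
    omega
  have h3 : Fintype.card K * (Fintype.card K ^ 2 - 1) < Fintype.card F * (Fintype.card F ^ 2 - 1) :=
    Nat.mul_lt_mul_of_lt_of_lt hlt h2
  omega


/-- unipotent elements of `H` lie in `SL₂(K0)` -/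
theorem unip_mem_SLK (h2 : (2 : F) ≠ 0) (K0 : Subfield F) {H : Subgroup (SL2 F)}
    (hdec : ∀ g ∈ H, ∃ s ∈ SLK K0, ∃ a : Fˣ, (a : F) ^ 2 ∈ K0 ∧ Cfsg.Agent.Lib.Lead.DicksonField.dg a ∈ H ∧ g = s * Cfsg.Agent.Lib.Lead.DicksonField.dg a)
    {y : SL2 F} (hy : y ∈ H) (htr : y 0 0 + y 1 1 = 2) : y ∈ SLK K0 := by
  obtain ⟨s, hs, a, ha2, -, rfl⟩ := hdec y hy
  have h00 : (s * Cfsg.Agent.Lib.Lead.DicksonField.dg a) 0 0 = s 0 0 * (a : F) := by
    rw [mul_apply']
    simp [Cfsg.Agent.Lib.Lead.DicksonField.dg]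
  have h11 : (s * Cfsg.Agent.Lib.Lead.DicksonField.dg a) 1 1 = s 1 1 * ((a⁻¹ : Fˣ) : F) := by
    rw [mul_apply']
    simp [Cfsg.Agent.Lib.Lead.DicksonField.dg]
  rw [h00, h11] at htr
  have hs00 := Cfsg.Agent.Lib.Helper12.DkY.entries_of_mem_SLK K0 hs 0 0
  have hs11 := Cfsg.Agent.Lib.Helper12.DkY.entries_of_mem_SLK K0 hs 1 1
  have ha0 : (a : F) ≠ 0 := a.ne_zero
  have hainv : ((a⁻¹ : Fˣ) : F) = (a : F)⁻¹ := by simp
  have e : (a : F) = (s 0 0 * (a : F) ^ 2 + s 1 1) / 2 := by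
    rw [hainv] at htr
    field_simp at htr
    rw [eq_div_iff h2]
    linear_combination (-1 : F) * htr
  have haK : (a : F) ∈ K0 := by
    rw [e]
    have h2K : (2 : F) ∈ K0 := by exact_mod_cast natCast_mem K0 2
    exact K0.div_mem (K0.add_mem (K0.mul_mem hs00 ha2) hs11) h2K
  exact (SLK K0).mul_mem hs (Cfsg.Agent.Lib.Helper12.DkN.dg_mem_SLK K0 a haK)

/-- the third unipotent element -/
def u3 : SL2 F := lower 1 * upper 1 * lower (-1)

theorem u3_apply : ((u3 : SL2 F) : M2 F) = !![0, 1; -1, 2] := by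
  rw [u3, Matrix.SpecialLinearGroup.coe_mul, Matrix.SpecialLinearGroup.coe_mul]
  ext i j
  fin_cases i <;> fin_cases j <;>
    simp [lower, upper, Matrix.mul_apply, Fin.sum_univ_two] <;> ring


theorem scalar_aux (x l X c D : F) (hc : c ≠ 0) (hD : D ≠ 0) (h1 : x * l = X * D)
    (h2 : l * l = c * D) : x = l * (X / c) := by
  rw [← mul_div_assoc, eq_div_iff hc]
  apply mul_right_cancel₀ hD
  linear_combination l * h1 - x * h2

/-- from three unipotent conjugates with entries in `K0`: `m` is a scalar times a matrix over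
`K0` -/
theorem scalar_form (h2 : (2 : F) ≠ 0) (K0 : Subfield F) (α β γ δ : F)
    (hD : α * δ - β * γ ≠ 0)
    (a1 b1 c1 d1 a2 b2 c2 d2 a3 b3 c3 d3 : F)
    (ha1 : a1 ∈ K0) (hb1 : b1 ∈ K0) (hc1 : c1 ∈ K0) (hd1 : d1 ∈ K0)
    (ha2 : a2 ∈ K0) (hb2 : b2 ∈ K0) (hc2 : c2 ∈ K0) (hd2 : d2 ∈ K0)
    (ha3 : a3 ∈ K0) (hb3 : b3 ∈ K0) (hc3 : c3 ∈ K0) (hd3 : d3 ∈ K0)
    -- `y1 * m = m * upper 1`
    (e1_00 : a1 * α + b1 * γ = α) (e1_01 : a1 * β + b1 * δ = α + β)
    (e1_10 : c1 * α + d1 * γ = γ) (e1_11 : c1 * β + d1 * δ = γ + δ)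
    -- `y2 * m = m * lower 1`
    (e2_00 : a2 * α + b2 * γ = α + β) (e2_01 : a2 * β + b2 * δ = β)
    (e2_10 : c2 * α + d2 * γ = γ + δ) (e2_11 : c2 * β + d2 * δ = δ)
    -- `y3 * m = m * u3`
    (e3_00 : a3 * α + b3 * γ = -β) (e3_01 : a3 * β + b3 * δ = α + 2 * β)
    (e3_10 : c3 * α + d3 * γ = -δ) (e3_11 : c3 * β + d3 * δ = γ + 2 * δ) :
    ∃ l : F, l ≠ 0 ∧ (∃ c ∈ K0, α = l * c) ∧ (∃ c ∈ K0, β = l * c) ∧ (∃ c ∈ K0, γ = l * c) ∧
      (∃ c ∈ K0, δ = l * c) := by
  obtain ⟨D, hDdef⟩ : ∃ D, D = α * δ - β * γ := ⟨_, rfl⟩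
  rw [← hDdef] at hD
  have h2K : (2 : F) ∈ K0 := by exact_mod_cast natCast_mem K0 2
  have h1K : (1 : F) ∈ K0 := K0.one_mem
  have pαα : α * α = b1 * D := by rw [hDdef]; linear_combination β * e1_00 - α * e1_01
  have pγγ : γ * γ = (-c1) * D := by rw [hDdef]; linear_combination δ * e1_10 - γ * e1_11
  have pαγ : α * γ = (d1 - 1) * D := by rw [hDdef]; linear_combination β * e1_10 - α * e1_11
  have pββ : β * β = (-b2) * D := by rw [hDdef]; linear_combination α * e2_01 - β * e2_00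
  have pδδ : δ * δ = c2 * D := by rw [hDdef]; linear_combination γ * e2_11 - δ * e2_10
  have pβδ : β * δ = (a2 - 1) * D := by rw [hDdef]; linear_combination γ * e2_01 - δ * e2_00
  have pab : (α + β) * (α + β) = b3 * D := by rw [hDdef]; linear_combination β * e3_00 - α * e3_01
  have pcd : (γ + δ) * (γ + δ) = (-c3) * D := by
    rw [hDdef]; linear_combination δ * e3_10 - γ * e3_11
  have pac : (α + β) * (γ + δ) = (d3 - 1) * D := by
    rw [hDdef]; linear_combination β * e3_10 - α * e3_11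
  have pαβ : α * β = ((b3 - b1 + b2) / 2) * D := by
    field_simp
    linear_combination pab - pαα - pββ
  have pγδ : γ * δ = ((-c3 + c1 - c2) / 2) * D := by
    field_simp
    linear_combination pcd - pγγ - pδδ
  have psum : α * δ + β * γ = ((d3 - 1) - (d1 - 1) - (a2 - 1)) * D := by
    linear_combination pac - pαγ - pβδ
  have pαδ : α * δ = (((d3 - 1) - (d1 - 1) - (a2 - 1) + 1) / 2) * D := by
    field_simp
    linear_combination psum + hDdef.symm
  have pβγ : β * γ = (((d3 - 1) - (d1 - 1) - (a2 - 1) - 1) / 2) * D := by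
    field_simp
    linear_combination psum - hDdef.symm
  have kαβ : (b3 - b1 + b2) / 2 ∈ K0 := K0.div_mem (K0.add_mem (K0.sub_mem hb3 hb1) hb2) h2K
  have kγδ : (-c3 + c1 - c2) / 2 ∈ K0 :=
    K0.div_mem (K0.sub_mem (K0.add_mem (K0.neg_mem hc3) hc1) hc2) h2K
  have ks : (d3 - 1) - (d1 - 1) - (a2 - 1) ∈ K0 :=
    K0.sub_mem (K0.sub_mem (K0.sub_mem hd3 h1K) (K0.sub_mem hd1 h1K)) (K0.sub_mem ha2 h1K)
  have kαδ : ((d3 - 1) - (d1 - 1) - (a2 - 1) + 1) / 2 ∈ K0 :=
    K0.div_mem (K0.add_mem ks h1K) h2K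
  have kβγ : ((d3 - 1) - (d1 - 1) - (a2 - 1) - 1) / 2 ∈ K0 :=
    K0.div_mem (K0.sub_mem ks h1K) h2K
  by_cases hα : α = 0
  · -- `γ ≠ 0`
    have hγ : γ ≠ 0 := by
      intro h
      apply hD
      rw [hDdef, hα, h]; ring
    have hc : -c1 ≠ 0 := by
      intro h
      rw [h, zero_mul] at pγγ
      exact hγ (mul_self_eq_zero.mp pγγ)
    refine ⟨γ, hγ, ⟨0, K0.zero_mem, by rw [hα, mul_zero]⟩,
      ⟨_ / (-c1), K0.div_mem kβγ (K0.neg_mem hc1), ?_⟩,
      ⟨1, h1K, by rw [mul_one]⟩, ⟨_ / (-c1), K0.div_mem kγδ (K0.neg_mem hc1), ?_⟩⟩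
    · exact scalar_aux β γ _ _ D hc hD pβγ pγγ
    · exact scalar_aux δ γ _ _ D hc hD (by rw [mul_comm]; exact pγδ) pγγ
  · have hc : b1 ≠ 0 := by
      intro h
      rw [h, zero_mul] at pαα
      exact hα (mul_self_eq_zero.mp pαα)
    refine ⟨α, hα, ⟨1, h1K, by rw [mul_one]⟩, ⟨_ / b1, K0.div_mem kαβ hb1, ?_⟩,
      ⟨(d1 - 1) / b1, K0.div_mem (K0.sub_mem hd1 h1K) hb1, ?_⟩, ⟨_ / b1, K0.div_mem kαδ hb1, ?_⟩⟩
    · exact scalar_aux β α _ _ D hc hD (by rw [mul_comm]; exact pαβ) pαα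
    · exact scalar_aux γ α _ _ D hc hD (by rw [mul_comm]; exact pαγ) pαα
    · exact scalar_aux δ α _ _ D hc hD (by rw [mul_comm]; exact pαδ) pαα


theorem card_lt_of_ne_top [Fintype F] (K : Subfield F) [Fintype K] (hK : K ≠ ⊤) :
    Fintype.card K < Fintype.card F := by
  by_contra hlt
  push Not at hlt
  apply hK
  rw [eq_top_iff]
  intro x _
  have hbij : Function.Bijective (fun y : K => (y : F)) :=
    Function.Injective.bijective_of_nat_card_le Subtype.val_injective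
      (by rw [Nat.card_eq_fintype_card, Nat.card_eq_fintype_card]; exact hlt)
  obtain ⟨y, rfl⟩ := hbij.2 x
  exact y.2

theorem card_lt_of_lt' [Fintype F] (K0 K1 : Subfield F) [Fintype K0] [Fintype K1] (h : K0 < K1) :
    Fintype.card K0 < Fintype.card K1 := by
  classical
  have h1 : (K0 : Set F) ⊂ (K1 : Set F) := h
  have := Set.ncard_lt_ncard h1 (Set.toFinite _)
  rw [← Nat.card_coe_set_eq, ← Nat.card_coe_set_eq] at this
  rw [← Nat.card_eq_fintype_card, ← Nat.card_eq_fintype_card]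
  exact this

/-- when `|F| = |K|²`, every element of `K` is a square in `F` -/
theorem isSquare_of_mem [Fintype F] (h2 : (2 : F) ≠ 0) (K : Subfield F) [Fintype K]
    (hq : Fintype.card F = Fintype.card K ^ 2) {x : F} (hx : x ∈ K) (hx0 : x ≠ 0) :
    IsSquare x := by
  have hchar : ringChar F ≠ 2 := Cfsg.Agent.Lib.Helper12.DkY.ringChar_ne_two F h2
  rw [FiniteField.isSquare_iff hchar hx0]
  have hoddF : Fintype.card F % 2 = 1 := FiniteField.odd_card_of_char_ne_two hchar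
  have hoddK : Fintype.card K % 2 = 1 := by
    rw [hq, Nat.pow_mod] at hoddF
    rcases Nat.mod_two_eq_zero_or_one (Fintype.card K) with h | h
    · rw [h] at hoddF; norm_num at hoddF
    · exact h
  obtain ⟨k, hk⟩ : ∃ k, Fintype.card K = 2 * k + 1 := ⟨Fintype.card K / 2, by omega⟩
  have e : Fintype.card F / 2 = (Fintype.card K - 1) * (k + 1) := by
    rw [hq, hk]
    have : (2 * k + 1) ^ 2 = 2 * (2 * k * (k + 1)) + 1 := by ring
    rw [this]
    have : (2 * (2 * k * (k + 1)) + 1) / 2 = 2 * k * (k + 1) := by omega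
    rw [this, Nat.add_sub_cancel]
  rw [e, pow_mul]
  have h1 : (⟨x, hx⟩ : K) ^ (Fintype.card K - 1) = 1 :=
    FiniteField.pow_card_sub_one_eq_one _ (by
      intro h
      apply hx0
      exact congrArg Subtype.val h)
  have h2' : x ^ (Fintype.card K - 1) = 1 := by
    have := congrArg Subtype.val h1
    simpa using this
  rw [h2', one_pow]

/-- an element of `GL₂(F)` with square determinant maps into the image of `SL₂(F)` -/
theorem mk_mem_range_tP (m : GL2 F) (d : F) (hd : (m : M2 F).det = d * d) :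
    Matrix.ProjGenLinGroup.mk m ∈ (tP F).range := by
  have hd0 : d ≠ 0 := by
    intro h
    have h1 : IsUnit (m : M2 F).det := (Matrix.isUnit_iff_isUnit_det _).mp m.isUnit
    rw [hd, h, mul_zero] at h1
    exact not_isUnit_zero h1
  have hdet : (d⁻¹ • (m : M2 F)).det = 1 := by
    rw [Matrix.det_smul, hd, Fintype.card_fin]
    field_simp
  refine ⟨⟨d⁻¹ • (m : M2 F), hdet⟩, ?_⟩
  show Matrix.ProjGenLinGroup.mk (Matrix.SpecialLinearGroup.toGL _) = _
  rw [Matrix.ProjGenLinGroup.mk_eq_mk_iff]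
  refine ⟨Units.mk0 d hd0, ?_⟩
  apply Units.ext
  ext i j
  have hcoe : ∀ a b, ((Matrix.SpecialLinearGroup.toGL (⟨d⁻¹ • (m : M2 F), hdet⟩ : SL2 F) : GL2 F) :
      M2 F) a b = d⁻¹ * (m : M2 F) a b := by
    intro a b
    rfl
  rw [Units.val_mul, Matrix.mul_apply, Fin.sum_univ_two, gl_scalar_apply, gl_scalar_apply,
    hcoe, hcoe]
  fin_cases j <;> simp <;> field_simp

end Cfsg.Agent.Lib.Helper12.DkP
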