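import Cfsg.Agent.Lib.Helper12.DkP2

/-!
Maximal subgroups of `PGL₂(F)`: the subfield case, assembled (helper12).
-/

set_option autoImplicit false

namespace Cfsg.Agent.Lib.Helper12.DkP

open Cfsg.Agent.Lib.Lead.DicksonSL2 Cfsg.Agent.Lib.Helper12.SL2 Cfsg.Agent.Lib.Lead.DicksonField
  Cfsg.Agent.Lib.Helper9.SL2Upper Cfsg.Agent.Lib.Lead.DicksonBase

variable {F : Type*} [Field F]

local notation "SL2" => Matrix.SpecialLinearGroup (Fin 2)
local notation "M2" => Matrix (Fin 2) (Fin 2)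
local notation "GL2" => Matrix.GeneralLinearGroup (Fin 2)
local notation "PSL2" => Matrix.ProjectiveSpecialLinearGroup (Fin 2)
local notation "PGL2" => Matrix.ProjGenLinGroup (Fin 2)

variable {M : Subgroup (PGL2 F)}

/-- in the subfield situation, `M` lies in the image of `PGL₂(K')` for every `K' ⊇ K0` -/
theorem le_range_of_subfield (h2 : (2 : F) ≠ 0) (K0 : Subfield F)
    (hKl : ∀ t : F, lower t ∈ Hh M ↔ t ∈ K0) (h1 : upper 1 ∈ Hh M)
    (hdec : ∀ g ∈ Hh M, ∃ s ∈ SLK K0, ∃ a : Fˣ, (a : F) ^ 2 ∈ K0 ∧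
      Cfsg.Agent.Lib.Lead.DicksonField.dg a ∈ Hh M ∧ g = s * Cfsg.Agent.Lib.Lead.DicksonField.dg a)
    {K' : Type*} [Field K'] (j : K' →+* F) (hj : ∀ c ∈ K0, ∃ c' : K', j c' = c) :
    M ≤ (Matrix.ProjGenLinGroup.map (n := Fin 2) j).range := by
  intro g hg
  obtain ⟨m, rfl⟩ := Matrix.ProjGenLinGroup.mk_surjective g
  have hm : m ∈ Mh M := hg
  have hl1 : lower 1 ∈ Hh M := (hKl 1).mpr K0.one_mem
  have hlm1 : lower (-1) ∈ Hh M := (hKl (-1)).mpr (K0.neg_mem K0.one_mem)
  have hu3 : (u3 : SL2 F) ∈ Hh M := (Hh M).mul_mem ((Hh M).mul_mem hl1 h1) hlm1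
  have htr : ∀ x : SL2 F, x ∈ Hh M → x 0 0 + x 1 1 = 2 → cj m x ∈ SLK K0 := by
    intro x hx hxt
    apply unip_mem_SLK h2 K0 hdec (cj_mem_Hh hm hx)
    have := tr_cj m x
    simp only [tr] at this
    rw [this, hxt]
  have hy1 := htr _ h1 (by simp [upper]; norm_num)
  have hy2 := htr _ hl1 (by simp [lower]; norm_num)
  have hy3 := htr _ hu3 (by rw [u3_apply]; simp)
  have en := fun (y : SL2 F) (hy : y ∈ SLK K0) (a b : Fin 2) =>
    Cfsg.Agent.Lib.Helper12.DkY.entries_of_mem_SLK K0 hy a b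
  have hdet := gl_det_ne_zero m
  have r1 := cj_entries m (upper 1)
  have r2 := cj_entries m (lower 1)
  have r3 := cj_entries m (u3 : SL2 F)
  have hu3e : ∀ a b, (u3 : SL2 F) a b = (!![0, 1; -1, 2] : M2 F) a b := by
    intro a b
    rw [← u3_apply]
  obtain ⟨l, hl, ⟨c00, hc00, e00⟩, ⟨c01, hc01, e01⟩, ⟨c10, hc10, e10⟩, ⟨c11, hc11, e11⟩⟩ :=
    scalar_form h2 K0 _ _ _ _ hdet _ _ _ _ _ _ _ _ _ _ _ _
      (en _ hy1 0 0) (en _ hy1 0 1) (en _ hy1 1 0) (en _ hy1 1 1)
      (en _ hy2 0 0) (en _ hy2 0 1) (en _ hy2 1 0) (en _ hy2 1 1)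
      (en _ hy3 0 0) (en _ hy3 0 1) (en _ hy3 1 0) (en _ hy3 1 1)
      (by have := r1 0 0; simpa [upper] using this)
      (by have := r1 0 1; simpa [upper] using this)
      (by have := r1 1 0; simpa [upper] using this)
      (by have := r1 1 1; simpa [upper] using this)
      (by have := r2 0 0; simpa [lower] using this)
      (by have := r2 0 1; simpa [lower] using this)
      (by have := r2 1 0; simpa [lower] using this)
      (by have := r2 1 1; simpa [lower] using this)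
      (by have := r3 0 0; rw [hu3e, hu3e] at this; simpa using this)
      (by have := r3 0 1; rw [hu3e, hu3e] at this; simpa [mul_comm] using this)
      (by have := r3 1 0; rw [hu3e, hu3e] at this; simpa using this)
      (by have := r3 1 1; rw [hu3e, hu3e] at this; simpa [mul_comm] using this)
  apply mem_range_pgl_map j m l hl
  intro a b
  fin_cases a <;> fin_cases b
  · obtain ⟨c', hc'⟩ := hj _ hc00
    exact ⟨c', by rw [hc']; exact e00⟩
  · obtain ⟨c', hc'⟩ := hj _ hc01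
    exact ⟨c', by rw [hc']; exact e01⟩
  · obtain ⟨c', hc'⟩ := hj _ hc10
    exact ⟨c', by rw [hc']; exact e10⟩
  · obtain ⟨c', hc'⟩ := hj _ hc11
    exact ⟨c', by rw [hc']; exact e11⟩

theorem cube_strict {a b : ℕ} (ha : 2 ≤ a) (h : a < b) : a * (a ^ 2 - 1) < b * (b ^ 2 - 1) := by
  have h2 : a ^ 2 - 1 < b ^ 2 - 1 := by
    have : a ^ 2 < b ^ 2 := Nat.pow_lt_pow_left h (by norm_num)
    have : 1 ≤ a ^ 2 := Nat.one_le_pow _ _ (by omega)
    omega
  exact Nat.mul_lt_mul_of_lt_of_lt h h2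

/-- the subfield case -/
theorem subfield_case [Fintype F] (p : ℕ) [Fact p.Prime] [CharP F p]
    (hodd : Odd (Fintype.card F)) (hM : IsCoatom M)
    (hML : ¬ (tP F).range ≤ M) {b : F} (hb : b ≠ 0) (h1 : upper 1 ∈ Hh M)
    (hy : lower b ∈ Hh M) (hidx : (BH (Hh M)).index = Nat.card (PH (Hh M)) + 1) :
    ∃ (F₀ : Type) (_ : Field F₀) (_ : Fintype F₀) (r : ℕ), r.Prime ∧ Odd r ∧
      Fintype.card F = Fintype.card F₀ ^ r ∧ Nonempty (M ≃* PGL2 F₀) := by
  classical
  have h2 : (2 : F) ≠ 0 := Cfsg.Agent.S2428.two_ne_zero_of_odd hodd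
  obtain ⟨K0, -, hKl, hle, hdec⟩ :=
    Cfsg.Agent.Lib.Lead.DicksonField.structure_of_index' p hb h1 hy hidx
  haveI : Finite K0 := Finite.of_injective (fun x : K0 => (x : F)) Subtype.val_injective
  letI : Fintype K0 := Fintype.ofFinite K0
  obtain ⟨K, instK, instFK, ⟨e⟩⟩ := Cfsg.Agent.Lib.Helper12.DkH.exists_type0 K0
  letI := instK
  letI := instFK
  have hc1 : Fintype.card K = Fintype.card K0 := Fintype.card_congr e.toEquiv
  obtain ⟨ι, hι⟩ : ∃ ι : K →+* F, ι = (K0.subtype).comp (e : K →+* K0) := ⟨_, rfl⟩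
  have hrange : ∀ x : F, x ∈ K0 → ∃ c' : K, ι c' = x := by
    intro x hx
    refine ⟨e.symm ⟨x, hx⟩, ?_⟩
    rw [hι, RingHom.comp_apply]
    simp
  have hK0top : K0 ≠ ⊤ := by
    intro h
    apply Hh_ne_top hML
    rw [eq_top_iff, ← Cfsg.Agent.Lib.Helper12.DkW.SLK_top, ← h]
    exact hle
  have hlt : Fintype.card K < Fintype.card F := by
    rw [hc1]; exact card_lt_of_ne_top K0 hK0top
  have hMle := le_range_of_subfield h2 K0 hKl h1 hdec ι hrange
  have hMeq : M = (Matrix.ProjGenLinGroup.map (n := Fin 2) ι).range := by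
    rcases hM.le_iff.mp hMle with h | h
    · exact absurd h (range_pgl_map_ne_top ι hlt)
    · exact h.symm
  have hpowq : Fintype.card F = Fintype.card K0 ^ Module.finrank K0 F :=
    Module.card_eq_pow_finrank (K := K0) (V := F)
  have hk2 : 2 ≤ Fintype.card K0 := Fintype.one_lt_card
  have hprime : Nat.Prime (Module.finrank K0 F) := by
    by_contra hnp
    obtain ⟨K1, h01, h1t⟩ := Cfsg.Agent.Lib.Helper12.DkN.exists_intermediate K0 hK0top hnp
    haveI : Finite K1 := Finite.of_injective (fun x : K1 => (x : F)) Subtype.val_injective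
    letI : Fintype K1 := Fintype.ofFinite K1
    have hMle1 := le_range_of_subfield h2 K0 hKl h1 hdec K1.subtype
      (fun c hc => ⟨⟨c, h01.le hc⟩, rfl⟩)
    have hlt1 : Fintype.card K1 < Fintype.card F := card_lt_of_ne_top K1 (ne_of_lt h1t)
    have hMeq1 : M = (Matrix.ProjGenLinGroup.map (n := Fin 2) K1.subtype).range := by
      rcases hM.le_iff.mp hMle1 with h | h
      · exact absurd h (range_pgl_map_ne_top _ hlt1)
      · exact h.symm
    have hc : Nat.card M = Fintype.card K * (Fintype.card K ^ 2 - 1) := by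
      conv_lhs => rw [hMeq]
      exact card_range_pgl_map ι
    have hc' : Nat.card M = Fintype.card K1 * (Fintype.card K1 ^ 2 - 1) := by
      conv_lhs => rw [hMeq1]
      exact card_range_pgl_map _
    have h01' : Fintype.card K0 < Fintype.card K1 := card_lt_of_lt' K0 K1 h01
    have := cube_strict hk2 h01'
    rw [hc1] at hc
    omega
  have hoddr : Odd (Module.finrank K0 F) := by
    rcases hprime.eq_two_or_odd' with h2r | hodd'
    · exfalso
      rw [h2r] at hpowq
      apply not_le_range hodd hM hML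
      rw [hMeq]
      rintro _ ⟨x, rfl⟩
      induction x using Matrix.ProjGenLinGroup.induction_on with | mk g =>
      rw [Matrix.ProjGenLinGroup.map_mk]
      have hdetK : ι ((g : M2 K).det) ∈ K0 := by
        rw [hι, RingHom.comp_apply]
        exact (e _).2
      have hdet0 : ι ((g : M2 K).det) ≠ 0 := by
        have h1 : IsUnit (g : M2 K).det := (Matrix.isUnit_iff_isUnit_det _).mp g.isUnit
        exact (map_ne_zero ι).mpr h1.ne_zero
      obtain ⟨d, hd⟩ := isSquare_of_mem h2 K0 hpowq hdetK hdet0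
      apply mk_mem_range_tP _ d
      rw [← hd]
      have : ((Matrix.GeneralLinearGroup.map ι g : GL2 F) : M2 F) = (ι.mapMatrix (g : M2 K)) := rfl
      rw [this, ← RingHom.map_det]
    · exact hodd'
  refine ⟨K, instK, instFK, Module.finrank K0 F, hprime, hoddr, by rw [hc1]; exact hpowq, ?_⟩
  exact ⟨(MulEquiv.subgroupCongr hMeq).trans
    (MonoidHom.ofInjective (pgl_map_injective ι)).symm⟩

end Cfsg.Agent.Lib.Helper12.DkP
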