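import Cfsg.Agent.Lib.Helper12.DkP3

/-!
Maximal subgroups of `PGL₂(F)`: the torus case, invariance (helper12).
-/

set_option autoImplicit false

namespace Cfsg.Agent.Lib.Helper12.DkP

open Cfsg.Agent.Lib.Lead.DicksonSL2 Cfsg.Agent.Lib.Helper12.SL2

variable {F : Type*} [Field F]

local notation "SL2" => Matrix.SpecialLinearGroup (Fin 2)
local notation "M2" => Matrix (Fin 2) (Fin 2)
local notation "GL2" => Matrix.GeneralLinearGroup (Fin 2)
local notation "PSL2" => Matrix.ProjectiveSpecialLinearGroup (Fin 2)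
local notation "PGL2" => Matrix.ProjGenLinGroup (Fin 2)

variable {M : Subgroup (PGL2 F)}

theorem nonScalar_of_pow_four (h : SL2 F) (h4 : h ^ 4 ≠ 1) : NonScalar h := by
  rintro ⟨h01, h10, h00⟩
  apply h4
  have hd := det_eq h
  rw [h01, zero_mul, sub_zero, ← h00] at hd
  have h2 : h * h = 1 := by
    apply ext4 <;> simp only [mul_apply', h01, h10, ← h00] <;> simp [hd]
  have : h ^ 4 = (h * h) * (h * h) := by
    rw [show (4 : ℕ) = 2 + 2 from rfl, pow_add, pow_two]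
  rw [this, h2, mul_one]

theorem pow_four_of_sq (h : SL2 F) (hs : ((h * h : SL2 F) : M2 F) = -1) : h ^ 4 = 1 := by
  have : h ^ 4 = (h * h) * (h * h) := by
    rw [show (4 : ℕ) = 2 + 2 from rfl, pow_add, pow_two]
  rw [this]
  apply Subtype.ext
  rw [Matrix.SpecialLinearGroup.coe_mul, hs]
  simp

/-- the torus case: `H = N(T)` and `M̂` permutes `{g, g⁻¹}` -/
theorem torus_inv [Fintype F] (hodd : Odd (Fintype.card F)) (h4 : 4 ≤ Fintype.card F)
    (hM : IsCoatom M) (g : SL2 F) (hΔ : tr g ^ 2 ≠ 4)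
    (hle : Hh M ≤ NTor g) (h0 : SL2 F) (hh0 : h0 ∈ Hh M) (h04 : h0 ^ 4 ≠ 1) :
    Hh M = NTor g ∧ ∀ m ∈ Mh M, cj m g = g ∨ cj m g = g⁻¹ := by
  have h2 : (2 : F) ≠ 0 := Cfsg.Agent.S2428.two_ne_zero_of_odd hodd
  have hNS := nonScalar_of_tr g hΔ
  have claimB : ∀ h ∈ Hh M, h ^ 4 ≠ 1 → h ∈ Tor g := by
    intro h hh h4'
    by_contra hT
    exact h4' (pow_four_of_sq h (sq_of_not_mem h2 g hΔ h (hle hh) hT))
  have h0T := claimB h0 hh0 h04
  rw [Subgroup.mem_centralizer_singleton_iff] at h0T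
  have key : ∀ m ∈ Mh M, cj m g = g ∨ cj m g = g⁻¹ := by
    intro m hm
    have h1H : cj m h0 ∈ Hh M := cj_mem_Hh hm hh0
    have h14 : (cj m h0) ^ 4 ≠ 1 := by
      rw [← map_pow]
      intro h
      apply h04
      apply cj_injective m
      rw [h, map_one]
    have h1T := claimB _ h1H h14
    rw [Subgroup.mem_centralizer_singleton_iff] at h1T
    have hNS1 := nonScalar_of_pow_four _ h14
    have hc1 : cj m g * cj m h0 = cj m h0 * cj m g := by
      rw [← map_mul, ← map_mul, h0T]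
    have hc := commute_of_commute (cj m h0) (cj m g) g hNS1 hc1 h1T.symm
    exact eq_or_eq_inv_of_tr_eq h2 g (cj m g) hΔ hc (tr_cj m g)
  have keyinv : ∀ m ∈ Mh M, ∀ y : SL2 F, (y = g ∨ y = g⁻¹) → (cj m y = g ∨ cj m y = g⁻¹) := by
    intro m hm y hy
    rcases hy with rfl | rfl
    · exact key m hm
    · rw [map_inv]
      rcases key m hm with h | h
      · right; rw [h]
      · left; rw [h, inv_inv]
  have conjinv : ∀ x ∈ NTor g, ∀ y : SL2 F, (y = g ∨ y = g⁻¹) →
      (x * y * x⁻¹ = g ∨ x * y * x⁻¹ = g⁻¹) := by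
    intro x hx y hy
    have hx' := (mem_normalizer_centralizer_iff h2 g hΔ x).mp hx
    rcases hy with rfl | rfl
    · exact hx'
    · have e : x * g⁻¹ * x⁻¹ = (x * g * x⁻¹)⁻¹ := by group
      rw [e]
      rcases hx' with h | h
      · right; rw [h]
      · left; rw [h, inv_inv]
  refine ⟨?_, key⟩
  symm
  apply inv_tool h4 hM _ hle (Cfsg.Agent.Lib.Helper12.DkM.NTor_ne_top h4 g hNS hΔ)
  intro m hm x hx
  rw [mem_normalizer_centralizer_iff h2 g hΔ]
  have h1 := keyinv m⁻¹ ((Mh M).inv_mem hm) g (Or.inl rfl)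
  have h2' := conjinv x hx _ h1
  have h3 := keyinv m hm _ h2'
  have e : cj m (x * cj m⁻¹ g * x⁻¹) = cj m x * g * (cj m x)⁻¹ := by
    rw [map_mul, map_mul, map_inv, cj_cj_inv]
  rw [e] at h3
  exact h3

end Cfsg.Agent.Lib.Helper12.DkP
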