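import Cfsg.Agent.Lib.Helper12.DkP4
import Cfsg.Agent.Lib.Helper24.DihIso

/-!
Maximal subgroups of `PGL₂(F)`: the torus case, the dihedral structure (helper12).
-/

set_option autoImplicit false

namespace Cfsg.Agent.Lib.Helper12.DkP

open Cfsg.Agent.Lib.Lead.DicksonSL2 Cfsg.Agent.Lib.Helper12.SL2

variable {F : Type*} [Field F]

local notation "SL2" => Matrix.SpecialLinearGroup (Fin 2)
local notation "M2" => Matrix (Fin 2) (Fin 2)
local notation "GL2" => Matrix.GeneralLinearGroup (Fin 2)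
local notation "PSL2" => Matrix.ProjectiveSpecialLinearGroup (Fin 2)
local notation "PGL2" => Matrix.ProjGenLinGroup (Fin 2)

/-- an abstract recognition of dihedral groups -/
theorem dih_of_index_two {G : Type*} [Group G] [Finite G] (M C : Subgroup G) (hC : IsCyclic C)
    (hCM : C ≤ M) (s : G) (hsM : s ∈ M) (hsC : s ∉ C)
    (hinv : ∀ x ∈ M, x ∉ C → x * x = 1)
    (hcos : ∀ x ∈ M, ∀ y ∈ M, x ∉ C → y ∉ C → x⁻¹ * y ∈ C) (n : ℕ)
    (hn : Nat.card M = 2 * n) : Nonempty (M ≃* DihedralGroup n) := by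
  obtain ⟨c, hc⟩ := hC.exists_generator
  have hcM : (c : G) ∈ M := hCM c.2
  have hscC : s * (c : G) ∉ C := by
    intro h
    apply hsC
    have : s = s * (c : G) * (c : G)⁻¹ := by group
    rw [this]
    exact C.mul_mem h (C.inv_mem c.2)
  have hscM : s * (c : G) ∈ M := M.mul_mem hsM hcM
  haveI : Fact (Nat.Prime 2) := ⟨Nat.prime_two⟩
  have hXo : orderOf s = 2 := by
    apply orderOf_eq_prime
    · rw [pow_two]; exact hinv s hsM hsC
    · intro h
      apply hsC
      rw [h]; exact C.one_mem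
  have hYo : orderOf (s * (c : G)) = 2 := by
    apply orderOf_eq_prime
    · rw [pow_two]; exact hinv _ hscM hscC
    · intro h
      apply hscC
      rw [h]; exact C.one_mem
  obtain ⟨e⟩ := Cfsg.Agent.Lib.Helper24.closure_pair_equiv_dihedral hXo hYo
  have hcl : Subgroup.closure ({s, s * (c : G)} : Set G) = M := by
    apply le_antisymm
    · rw [Subgroup.closure_le]
      intro x hx
      rcases hx with rfl | hx
      · exact hsM
      · rw [Set.mem_singleton_iff] at hx
        rw [hx]; exact hscM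
    · intro x hx
      have hXmem : s ∈ Subgroup.closure ({s, s * (c : G)} : Set G) :=
        Subgroup.subset_closure (by simp)
      have hYmem : s * (c : G) ∈ Subgroup.closure ({s, s * (c : G)} : Set G) :=
        Subgroup.subset_closure (by simp)
      have hcmem : (c : G) ∈ Subgroup.closure ({s, s * (c : G)} : Set G) := by
        have h1 := Subgroup.mul_mem _ (Subgroup.inv_mem _ hXmem) hYmem
        rwa [inv_mul_cancel_left] at h1
      have hCmem : ∀ y : G, y ∈ C → y ∈ Subgroup.closure ({s, s * (c : G)} : Set G) := by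
        intro y hy
        obtain ⟨k, hk⟩ := Subgroup.mem_zpowers_iff.mp (hc ⟨y, hy⟩)
        have : y = (c : G) ^ k := by
          have := congrArg (fun t : C => (t : G)) hk
          simpa using this.symm
        rw [this]
        exact Subgroup.zpow_mem _ hcmem k
      by_cases hxC : x ∈ C
      · exact hCmem x hxC
      · have h1 := hcos s hsM x hx hsC hxC
        have : x = s * (s⁻¹ * x) := by group
        rw [this]
        exact Subgroup.mul_mem _ hXmem (hCmem _ h1)
  have e2 : M ≃* DihedralGroup (orderOf (s * (s * (c : G)))) :=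
    (MulEquiv.subgroupCongr hcl.symm).trans e
  have hk : orderOf (s * (s * (c : G))) = n := by
    have h1 := Nat.card_congr e2.toEquiv
    rw [hn, DihedralGroup.nat_card] at h1
    omega
  rw [hk] at e2
  exact ⟨e2⟩

/-- an element inverting a non-scalar `g` has trace zero and scalar square -/
theorem inverting_sq (m : GL2 F) (g : SL2 F) (hNS : NonScalar g) (h : cj m g = g⁻¹) :
    Matrix.ProjGenLinGroup.mk m * Matrix.ProjGenLinGroup.mk m = 1 := by
  have e := cj_entries m g
  rw [h] at e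
  have e00 := e 0 0
  have e01 := e 0 1
  have e10 := e 1 0
  have e11 := e 1 1
  rw [Cfsg.Agent.Lib.Helper12.SL2.inv_00, Cfsg.Agent.Lib.Helper12.SL2.inv_01] at e00 e01
  rw [Cfsg.Agent.Lib.Helper12.SL2.inv_10, Cfsg.Agent.Lib.Helper12.SL2.inv_11] at e10 e11
  obtain ⟨s, hs⟩ : ∃ s, s = (m : M2 F) 0 0 + (m : M2 F) 1 1 := ⟨_, rfl⟩
  have h1 : s * g 0 1 = 0 := by rw [hs]; linear_combination (-1 : F) * e01
  have h2 : s * g 1 0 = 0 := by rw [hs]; linear_combination (-1 : F) * e10
  have h3 : s * (g 1 1 - g 0 0) = 0 := by rw [hs]; linear_combination e00 - e11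
  have hs0 : s = 0 := by
    by_contra hne
    apply hNS
    refine ⟨(mul_eq_zero.mp h1).resolve_left hne, (mul_eq_zero.mp h2).resolve_left hne, ?_⟩
    have := (mul_eq_zero.mp h3).resolve_left hne
    exact (sub_eq_zero.mp this).symm
  have hδ : (m : M2 F) 1 1 = -(m : M2 F) 0 0 := by
    rw [hs] at hs0
    linear_combination hs0
  have hdet := gl_det_ne_zero m
  rw [hδ] at hdet
  have hu : (m : M2 F) 0 0 * (m : M2 F) 0 0 + (m : M2 F) 0 1 * (m : M2 F) 1 0 ≠ 0 := by
    intro h0
    apply hdet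
    linear_combination (-1 : F) * h0
  rw [← map_mul, Matrix.ProjGenLinGroup.mk_eq_one,
    Matrix.GeneralLinearGroup.center_eq_range_scalar]
  refine ⟨Units.mk0 _ hu, ?_⟩
  apply Units.ext
  ext i j
  rw [gl_scalar_apply, Units.val_mul, Matrix.mul_apply, Fin.sum_univ_two]
  fin_cases i <;> fin_cases j <;> simp [hδ] <;> ring

/-- `a ↦ a² / det a` -/
noncomputable def sqd (a : GL2 F) : SL2 F :=
  ⟨(a : M2 F).det⁻¹ • ((a : M2 F) * (a : M2 F)), by
    have h1 : IsUnit (a : M2 F).det := (Matrix.isUnit_iff_isUnit_det _).mp a.isUnit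
    rw [Matrix.det_smul, Matrix.det_mul, Fintype.card_fin]
    have := h1.ne_zero
    field_simp⟩

theorem sqd_coe (a : GL2 F) :
    ((sqd a : SL2 F) : M2 F) = (a : M2 F).det⁻¹ • ((a : M2 F) * (a : M2 F)) := rfl

theorem sqd_mul (a b : GL2 F) (h : a * b = b * a) : sqd (a * b) = sqd a * sqd b := by
  apply Subtype.ext
  rw [Matrix.SpecialLinearGroup.coe_mul, sqd_coe, sqd_coe, sqd_coe, Units.val_mul,
    Matrix.det_mul, smul_mul_smul_comm, mul_inv]
  congr 1
  have h' : (a : M2 F) * (b : M2 F) = (b : M2 F) * (a : M2 F) := by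
    rw [← Units.val_mul, ← Units.val_mul, h]
  calc (a : M2 F) * (b : M2 F) * ((a : M2 F) * (b : M2 F))
      = (a : M2 F) * ((b : M2 F) * (a : M2 F)) * (b : M2 F) := by simp only [mul_assoc]
    _ = (a : M2 F) * ((a : M2 F) * (b : M2 F)) * (b : M2 F) := by rw [h']
    _ = _ := by simp only [mul_assoc]

theorem sqd_comm (a : GL2 F) (g : SL2 F)
    (h : a * Matrix.SpecialLinearGroup.toGL g = Matrix.SpecialLinearGroup.toGL g * a) :
    sqd a * g = g * sqd a := by
  have h' : (a : M2 F) * (g : M2 F) = (g : M2 F) * (a : M2 F) := by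
    have := congrArg (fun x : GL2 F => (x : M2 F)) h
    simpa using this
  apply Subtype.ext
  rw [Matrix.SpecialLinearGroup.coe_mul, Matrix.SpecialLinearGroup.coe_mul, sqd_coe,
    smul_mul_assoc, mul_smul_comm]
  congr 1
  calc (a : M2 F) * (a : M2 F) * (g : M2 F) = (a : M2 F) * ((a : M2 F) * (g : M2 F)) := by
        rw [mul_assoc]
    _ = (a : M2 F) * ((g : M2 F) * (a : M2 F)) := by rw [h']
    _ = ((a : M2 F) * (g : M2 F)) * (a : M2 F) := by rw [mul_assoc]
    _ = _ := by rw [h', mul_assoc]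

theorem sqd_eq_one (h2 : (2 : F) ≠ 0) (a : GL2 F) (h : sqd a = 1) :
    Matrix.ProjGenLinGroup.mk a = 1 := by
  have hM := congrArg (fun x : SL2 F => (x : M2 F)) h
  simp only [sqd_coe, Matrix.SpecialLinearGroup.coe_one] at hM
  have hdet := gl_det_ne_zero a
  have hD : (a : M2 F).det ≠ 0 := by rw [Matrix.det_fin_two]; exact hdet
  have hM' : (a : M2 F) * (a : M2 F) = (a : M2 F).det • (1 : M2 F) := by
    rw [← hM, smul_smul, mul_inv_cancel₀ hD, one_smul]
  rw [Matrix.det_fin_two] at hM'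
  have e00 := congrFun (congrFun hM' 0) 0
  have e01 := congrFun (congrFun hM' 0) 1
  have e10 := congrFun (congrFun hM' 1) 0
  have e11 := congrFun (congrFun hM' 1) 1
  simp only [Matrix.mul_apply, Fin.sum_univ_two, Matrix.smul_apply, Matrix.one_apply_eq,
    Matrix.one_apply_ne, smul_eq_mul, mul_one, mul_zero, ne_eq, zero_ne_one, one_ne_zero,
    not_false_eq_true] at e00 e01 e10 e11
  have hs : (a : M2 F) 0 0 + (a : M2 F) 1 1 ≠ 0 := by
    intro hs
    have hδ : (a : M2 F) 1 1 = -(a : M2 F) 0 0 := by linear_combination hs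
    rw [hδ] at e00 hdet
    apply hdet
    have : 2 * ((a : M2 F) 0 0 * -(a : M2 F) 0 0 - (a : M2 F) 0 1 * (a : M2 F) 1 0) = 0 := by
      linear_combination (-1 : F) * e00
    exact (mul_eq_zero.mp this).resolve_left h2
  have hβ : (a : M2 F) 0 1 = 0 := by
    have : (a : M2 F) 0 1 * ((a : M2 F) 0 0 + (a : M2 F) 1 1) = 0 := by linear_combination e01
    exact (mul_eq_zero.mp this).resolve_right hs
  have hγ : (a : M2 F) 1 0 = 0 := by
    have : (a : M2 F) 1 0 * ((a : M2 F) 0 0 + (a : M2 F) 1 1) = 0 := by linear_combination e10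
    exact (mul_eq_zero.mp this).resolve_right hs
  rw [hβ, hγ] at e00 hdet
  have hα0 : (a : M2 F) 0 0 ≠ 0 := by
    intro h0
    apply hdet
    rw [h0]; ring
  have hαδ : (a : M2 F) 0 0 = (a : M2 F) 1 1 := by
    have : (a : M2 F) 0 0 * ((a : M2 F) 0 0 - (a : M2 F) 1 1) = 0 := by linear_combination e00
    exact sub_eq_zero.mp ((mul_eq_zero.mp this).resolve_left hα0)
  rw [Matrix.ProjGenLinGroup.mk_eq_one, Matrix.GeneralLinearGroup.center_eq_range_scalar]
  refine ⟨Units.mk0 _ hα0, ?_⟩
  apply Units.ext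
  ext i j
  rw [gl_scalar_apply]
  fin_cases i <;> fin_cases j <;> simp [hβ, hγ, hαδ]

end Cfsg.Agent.Lib.Helper12.DkP
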