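import Cfsg.Agent.Lib.Helper12.DkP5

/-!
Maximal subgroups of `PGL₂(F)`: the torus case, assembled (helper12).
-/

set_option autoImplicit false

namespace Cfsg.Agent.Lib.Helper12.DkP

open Cfsg.Agent.Lib.Lead.DicksonSL2 Cfsg.Agent.Lib.Helper12.SL2

variable {F : Type*} [Field F]

local notation "SL2" => Matrix.SpecialLinearGroup (Fin 2)
local notation "M2" => Matrix (Fin 2) (Fin 2)
local notation "GL2" => Matrix.GeneralLinearGroup (Fin 2)
local notation "PSL2" => Matrix.ProjectiveSpecialLinearGroup (Fin 2)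
local notation "PGL2" => Matrix.ProjGenLinGroup (Fin 2)

theorem cj_central {z : GL2 F} (hz : z ∈ Subgroup.center (GL2 F)) (x : SL2 F) : cj z x = x := by
  apply Subtype.ext
  rw [cj_coe]
  have h := Subgroup.mem_center_iff.mp hz (Matrix.SpecialLinearGroup.toGL x)
  have h' : (z : M2 F) * (x : M2 F) = (x : M2 F) * (z : M2 F) := by
    have := congrArg (fun y : GL2 F => (y : M2 F)) h
    simpa using this.symm
  rw [h', mul_assoc, Units.mul_inv, mul_one]

theorem mem_centralizer_iff_cj (m : GL2 F) (g : SL2 F) :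
    m ∈ Subgroup.centralizer ({Matrix.SpecialLinearGroup.toGL g} : Set (GL2 F)) ↔ cj m g = g := by
  rw [Subgroup.mem_centralizer_singleton_iff]
  constructor
  · intro h
    apply Subtype.ext
    rw [cj_coe]
    have h' : (m : M2 F) * (g : M2 F) = (g : M2 F) * (m : M2 F) := by
      have := congrArg (fun y : GL2 F => (y : M2 F)) h
      simpa using this
    rw [h', mul_assoc, Units.mul_inv, mul_one]
  · intro h
    apply Units.ext
    rw [Units.val_mul, Units.val_mul]
    have := cj_mul_eq m g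
    rw [h] at this
    exact this.symm

theorem mk_mem_map_iff (m : GL2 F) (g : SL2 F) :
    Matrix.ProjGenLinGroup.mk m ∈
      (Subgroup.centralizer ({Matrix.SpecialLinearGroup.toGL g} : Set (GL2 F))).map
        Matrix.ProjGenLinGroup.mk ↔ cj m g = g := by
  constructor
  · rintro ⟨a, ha, hma⟩
    rw [Matrix.ProjGenLinGroup.mk_eq_mk_iff'] at hma
    obtain ⟨z, hz, rfl⟩ := hma
    rw [← cj_cj, cj_central hz]
    exact (mem_centralizer_iff_cj a g).mp ha
  · intro h
    exact ⟨m, (mem_centralizer_iff_cj m g).mpr h, rfl⟩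

/-- the image in `PGL₂(F)` of the centralizer of a regular semisimple element is cyclic -/
theorem cyclic_image [Fintype F] (h2 : (2 : F) ≠ 0) (g : SL2 F) (hNS : NonScalar g)
    (hΔ : tr g ^ 2 ≠ 4) :
    IsCyclic ((Subgroup.centralizer ({Matrix.SpecialLinearGroup.toGL g} : Set (GL2 F))).map
      Matrix.ProjGenLinGroup.mk) := by
  classical
  obtain ⟨A, hA⟩ : ∃ A : Subgroup (GL2 F),
    A = Subgroup.centralizer ({Matrix.SpecialLinearGroup.toGL g} : Set (GL2 F)) := ⟨_, rfl⟩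
  rw [← hA]
  have hx : ∀ c : F, (g : M2 F) ≠ c • 1 := by
    intro c hc
    apply hNS
    refine ⟨?_, ?_, ?_⟩
    · have := congrFun (congrFun hc 0) 1
      simpa using this
    · have := congrFun (congrFun hc 1) 0
      simpa using this
    · have h00 := congrFun (congrFun hc 0) 0
      have h11 := congrFun (congrFun hc 1) 1
      simp at h00 h11
      rw [h00, h11]
  have hmat : ∀ a ∈ A, (g : M2 F) * (a : M2 F) = (a : M2 F) * (g : M2 F) := by
    intro a ha
    rw [hA, Subgroup.mem_centralizer_singleton_iff] at ha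
    have := congrArg (fun y : GL2 F => (y : M2 F)) ha
    simpa using this.symm
  have hcomm : ∀ a ∈ A, ∀ b ∈ A, a * b = b * a := by
    intro a ha b hb
    apply Units.ext
    rw [Units.val_mul, Units.val_mul]
    exact Cfsg.Agent.Lib.Helper15.TwoByTwo.comm_of_span (g : M2 F) _ _
      (Cfsg.Agent.Lib.Helper15.TwoByTwo.comm_nonscalar _ _ hx (hmat a ha))
      (Cfsg.Agent.Lib.Helper15.TwoByTwo.comm_nonscalar _ _ hx (hmat b hb))
  let θ : A →* SL2 F := MonoidHom.mk' (fun a => sqd (a : GL2 F))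
    (fun a b => sqd_mul _ _ (hcomm a a.2 b b.2))
  have hθ : ∀ a : A, θ a = sqd (a : GL2 F) := fun a => rfl
  have hrange : θ.range ≤ Tor g := by
    rintro _ ⟨a, rfl⟩
    rw [Subgroup.mem_centralizer_singleton_iff, hθ]
    apply sqd_comm
    have h1 : (a : GL2 F) ∈ Subgroup.centralizer
        ({Matrix.SpecialLinearGroup.toGL g} : Set (GL2 F)) := hA ▸ a.2
    exact Subgroup.mem_centralizer_singleton_iff.mp h1
  have : IsCyclic (Tor g) := (Cfsg.Agent.Lib.Helper1.DkTorus.torus g hNS hΔ).1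
  have : IsCyclic θ.range := Subgroup.isCyclic_of_le hrange
  obtain ⟨⟨y0, ⟨a0, rfl⟩⟩, hy0⟩ := IsCyclic.exists_generator (α := θ.range)
  have hle : A.map Matrix.ProjGenLinGroup.mk ≤
      Subgroup.zpowers (Matrix.ProjGenLinGroup.mk (a0 : GL2 F)) := by
    rintro _ ⟨a, ha, rfl⟩
    obtain ⟨k, hk⟩ := Subgroup.mem_zpowers_iff.mp (hy0 ⟨θ ⟨a, ha⟩, ⟨_, rfl⟩⟩)
    have hk' : θ a0 ^ k = θ ⟨a, ha⟩ := by
      have := congrArg Subtype.val hk
      simpa using this
    have h1 : θ (⟨a, ha⟩ * a0 ^ (-k)) = 1 := by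
      rw [map_mul, map_zpow, zpow_neg, hk', mul_inv_cancel]
    rw [hθ] at h1
    have h3 := sqd_eq_one h2 _ h1
    rw [Subgroup.mem_zpowers_iff]
    refine ⟨k, ?_⟩
    have h4 : ((⟨a, ha⟩ * a0 ^ (-k) : A) : GL2 F) = a * (a0 : GL2 F) ^ (-k) := by
      simp
    rw [h4, map_mul, map_zpow, zpow_neg, mul_inv_eq_one] at h3
    exact h3.symm
  exact Subgroup.isCyclic_of_le hle

variable {M : Subgroup (PGL2 F)}

/-- the torus case -/
theorem torus_case [Fintype F] (hodd : Odd (Fintype.card F)) (h4 : 4 ≤ Fintype.card F)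
    (hM : IsCoatom M) (hML : ¬ (tP F).range ≤ M) (g : SL2 F) (hΔ : tr g ^ 2 ≠ 4)
    (hle : Hh M ≤ NTor g) (h0 : SL2 F) (hh0 : h0 ∈ Hh M) (h04 : h0 ^ 4 ≠ 1) :
    (Fintype.card F ≠ 5 ∧ Nonempty (M ≃* DihedralGroup (Fintype.card F - 1))) ∨
      Nonempty (M ≃* DihedralGroup (Fintype.card F + 1)) := by
  classical
  have h2 : (2 : F) ≠ 0 := Cfsg.Agent.S2428.two_ne_zero_of_odd hodd
  have hNS := nonScalar_of_tr g hΔ
  obtain ⟨hHeq, key⟩ := torus_inv hodd h4 hM g hΔ hle h0 hh0 h04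
  have hcardM : Nat.card M = 2 * Nat.card (Tor g) := by
    rw [card_M hodd hM hML, hHeq, Cfsg.Agent.Lib.Helper12.DkM.card_NTor g hNS hΔ]
  obtain ⟨C, hCdef⟩ : ∃ C : Subgroup (PGL2 F), C =
    (Subgroup.centralizer ({Matrix.SpecialLinearGroup.toGL g} : Set (GL2 F))).map
      Matrix.ProjGenLinGroup.mk ⊓ M := ⟨_, rfl⟩
  have hcyc : IsCyclic C := by
    have := cyclic_image h2 g hNS hΔ
    rw [hCdef]
    exact Subgroup.isCyclic_of_le inf_le_left
  have hCM : C ≤ M := by rw [hCdef]; exact inf_le_right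
  have hmemC : ∀ m : GL2 F, m ∈ Mh M → (Matrix.ProjGenLinGroup.mk m ∈ C ↔ cj m g = g) := by
    intro m hm
    rw [hCdef, Subgroup.mem_inf, mk_mem_map_iff]
    exact ⟨fun h => h.1, fun h => ⟨h, hm⟩⟩
  have hginv : g ≠ g⁻¹ := ne_inv_of_tr h2 g hΔ
  -- an inverting element
  obtain ⟨w, hw⟩ := Cfsg.Agent.Lib.Helper12.DkT.exists_inverting' g hΔ
  have hwH : w ∈ Hh M := by
    rw [hHeq, mem_normalizer_centralizer_iff h2 g hΔ]
    exact Or.inr hw
  have hsM : tP F w ∈ M := hwH
  have hsC : tP F w ∉ C := by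
    intro h
    have := (hmemC (Matrix.SpecialLinearGroup.toGL w) hwH).mp h
    rw [cj_toGL, hw] at this
    exact hginv this.symm
  have hnot : ∀ m : GL2 F, m ∈ Mh M → Matrix.ProjGenLinGroup.mk m ∉ C → cj m g = g⁻¹ := by
    intro m hm hmC
    rcases key m hm with h | h
    · exact absurd ((hmemC m hm).mpr h) hmC
    · exact h
  have hinv : ∀ x ∈ M, x ∉ C → x * x = 1 := by
    intro x hx hxC
    obtain ⟨m, rfl⟩ := Matrix.ProjGenLinGroup.mk_surjective x
    exact inverting_sq m g hNS (hnot m hx hxC)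
  have hcos : ∀ x ∈ M, ∀ y ∈ M, x ∉ C → y ∉ C → x⁻¹ * y ∈ C := by
    intro x hx y hy hxC hyC
    obtain ⟨m, rfl⟩ := Matrix.ProjGenLinGroup.mk_surjective x
    obtain ⟨m', rfl⟩ := Matrix.ProjGenLinGroup.mk_surjective y
    have h1 := hnot m hx hxC
    have h1' := hnot m' hy hyC
    have h3 : cj m⁻¹ g = g⁻¹ := by
      have : cj m⁻¹ (cj m g) = g := cj_inv_cj m g
      rw [h1, map_inv] at this
      exact inv_eq_iff_eq_inv.mp this
    rw [← map_inv, ← map_mul]
    rw [hmemC _ ((Mh M).mul_mem ((Mh M).inv_mem hx) hy), ← cj_cj, h1', map_inv, h3, inv_inv]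
  have hh0T : h0 ∈ Tor g := by
    by_contra hT
    exact h04 (pow_four_of_sq h0 (sq_of_not_mem h2 g hΔ h0 (hle hh0) hT))
  haveI : Finite (PGL2 F) := by
    have : Finite (GL2 F) := inferInstance
    exact Finite.of_surjective _ Matrix.ProjGenLinGroup.mk_surjective
  rcases Cfsg.Agent.Lib.Helper12.DkV.card_Tor_exact g hNS hΔ with hT | hT
  · left
    refine ⟨?_, dih_of_index_two M C hcyc hCM _ hsM hsC hinv hcos _ (by rw [hcardM, hT])⟩
    intro h5
    apply h04
    have hc4 : Nat.card (Tor g) = 4 := by rw [hT, h5]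
    have := pow_card_eq_one' (G := Tor g) (x := ⟨h0, hh0T⟩)
    rw [hc4] at this
    have := congrArg Subtype.val this
    simpa using this
  · right
    exact dih_of_index_two M C hcyc hCM _ hsM hsC hinv hcos _ (by rw [hcardM, hT])

end Cfsg.Agent.Lib.Helper12.DkP
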