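import Cfsg.Agent.Lib.Helper12.DkP6
import Cfsg.Agent.Lib.Helper12.DkA4

/-!
Maximal subgroups of `PGL₂(F)`: the small `2`-group case and normalizers of four-groups
(helper12).
-/

set_option autoImplicit false

namespace Cfsg.Agent.Lib.Helper12.DkP

open Cfsg.Agent.Lib.Lead.DicksonSL2 Cfsg.Agent.Lib.Helper12.SL2

variable {F : Type*} [Field F]

local notation "SL2" => Matrix.SpecialLinearGroup (Fin 2)
local notation "M2" => Matrix (Fin 2) (Fin 2)
local notation "GL2" => Matrix.GeneralLinearGroup (Fin 2)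
local notation "PSL2" => Matrix.ProjectiveSpecialLinearGroup (Fin 2)
local notation "PGL2" => Matrix.ProjGenLinGroup (Fin 2)
local notation "π" => QuotientGroup.mk' (Subgroup.center (Matrix.SpecialLinearGroup (Fin 2) F))
local notation "toPGL'" => (Matrix.ProjectiveSpecialLinearGroup.toPGL :
  Matrix.ProjectiveSpecialLinearGroup (Fin 2) F →* Matrix.ProjGenLinGroup (Fin 2) F)

variable {M : Subgroup (PGL2 F)}

theorem comap_toPGL_eq : M.comap toPGL' = (Hh M).map π := by
  ext x
  obtain ⟨y, rfl⟩ := QuotientGroup.mk'_surjective _ x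
  rw [Subgroup.mem_comap]
  constructor
  · intro h
    exact ⟨y, h, rfl⟩
  · rintro ⟨y', hy', he⟩
    have : (toPGL' (π y)) = toPGL' (π y') := by rw [he]
    rw [this]
    exact hy'

/-- normalizers of subgroups of `PSL₂(F)` whose image is normalized by `M` -/
theorem normalizer_le_of_normalized [Fintype F] (h4 : 4 ≤ Fintype.card F) (hM : IsCoatom M)
    (V : Subgroup (PSL2 F)) (hV1 : V ≠ ⊥) (hV2 : V ≠ ⊤)
    (hMV : M ≤ Subgroup.normalizer ((V.map toPGL' : Subgroup (PGL2 F)) : Set (PGL2 F))) :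
    Subgroup.normalizer (V : Set (PSL2 F)) ≤ (Hh M).map π := by
  have hsimple : IsSimpleGroup (PSL2 F) :=
    Matrix.ProjectiveSpecialLinearGroup.rank_two_simple
      (by rw [Nat.card_eq_fintype_card]; exact h4)
  rw [← comap_toPGL_eq]
  rcases hM.le_iff.mp hMV with htop | heq
  · exfalso
    have hn : (V.map toPGL').Normal := Subgroup.normalizer_eq_top_iff.mp htop
    have hVn : V.Normal := by
      constructor
      intro v hv x
      have h1 : toPGL' (x * v * x⁻¹) ∈ V.map toPGL' := by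
        rw [map_mul, map_mul, map_inv]
        exact hn.conj_mem _ ⟨v, hv, rfl⟩ _
      obtain ⟨v', hv', he⟩ := h1
      rw [← Matrix.ProjectiveSpecialLinearGroup.toPGL_injective he]
      exact hv'
    rcases hVn.eq_bot_or_eq_top with h | h
    · exact hV1 h
    · exact hV2 h
  · intro x hx
    rw [Subgroup.mem_comap, ← heq, Subgroup.mem_normalizer_iff]
    have key : ∀ z ∈ Subgroup.normalizer (V : Set (PSL2 F)), ∀ y ∈ V.map toPGL',
        toPGL' z * y * (toPGL' z)⁻¹ ∈ V.map toPGL' := by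
      rintro z hz _ ⟨v, hv, rfl⟩
      refine ⟨z * v * z⁻¹, (Subgroup.mem_normalizer_iff.mp hz v).mp hv, ?_⟩
      rw [map_mul, map_mul, map_inv]
    intro y
    constructor
    · exact key x hx y
    · intro hy
      have := key x⁻¹ (Subgroup.inv_mem _ hx) _ hy
      rw [map_inv] at this
      convert this using 1
      group

/-- `M ∩ L` is normalized by `M` -/
theorem le_normalizer_map [Fintype F] (hodd : Odd (Fintype.card F)) :
    M ≤ Subgroup.normalizer ((((Hh M).map π).map toPGL' : Subgroup (PGL2 F)) : Set (PGL2 F)) := by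
  have hn := range_tP_normal (F := F) hodd
  have e : ((Hh M).map π).map toPGL' = (tP F).range ⊓ M := by
    rw [Subgroup.map_map]
    have : (toPGL').comp π = tP F := rfl
    rw [this]
    exact Subgroup.map_comap_eq (tP F) M
  rw [e]
  intro g hg
  rw [Subgroup.mem_normalizer_iff]
  intro y
  constructor
  · rintro ⟨h1, h2⟩
    exact ⟨hn.conj_mem y h1 g, M.mul_mem (M.mul_mem hg h2) (M.inv_mem hg)⟩
  · rintro ⟨h1, h2⟩
    have h3 := hn.conj_mem _ h1 g⁻¹
    have h4 := M.mul_mem (M.mul_mem (M.inv_mem hg) h2) (M.inv_mem (M.inv_mem hg))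
    have e1 : g⁻¹ * (g * y * g⁻¹) * g⁻¹⁻¹ = y := by group
    rw [e1] at h3 h4
    exact ⟨h3, h4⟩

theorem finite_PGL2 [Fintype F] : Finite (PGL2 F) := by
  have : Finite (GL2 F) := inferInstance
  exact Finite.of_surjective _ Matrix.ProjGenLinGroup.mk_surjective

theorem eight_dvd {q : ℕ} (hodd : Odd q) : 8 ∣ q * (q ^ 2 - 1) := by
  obtain ⟨k, hk⟩ := hodd
  have h1 : q ^ 2 - 1 = 4 * (k * (k + 1)) := by
    rw [hk]
    have : (2 * k + 1) ^ 2 = 4 * (k * (k + 1)) + 1 := by ring
    rw [this, Nat.add_sub_cancel]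
  obtain ⟨j, hj⟩ := Nat.even_mul_succ_self k
  rw [h1, hj]
  exact ⟨q * j, by ring⟩

/-- a maximal subgroup of `PGL₂(F)` which is a `2`-group has order at least `8` -/
theorem eight_le_of_two_group [Fintype F] (hodd : Odd (Fintype.card F))
    (h3 : 3 < Fintype.card F) (hM : IsCoatom M) (h2g : IsPGroup 2 M) : 8 ≤ Nat.card M := by
  classical
  haveI := finite_PGL2 (F := F)
  haveI : Fact (Nat.Prime 2) := ⟨Nat.prime_two⟩
  obtain ⟨S, hMS⟩ := h2g.exists_le_sylow
  have hG := Cfsg.Agent.Lib.Helper16.DkMax.card_PGL2_eq (K := F)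
  have hStop : (S : Subgroup (PGL2 F)) ≠ ⊤ := by
    intro htop
    obtain ⟨n, hn⟩ := IsPGroup.iff_card.mp S.isPGroup'
    rw [htop, Subgroup.card_top, hG] at hn
    have hq : Fintype.card F ∣ 2 ^ n := ⟨_, hn.symm⟩
    have hcop : Nat.Coprime (Fintype.card F) (2 ^ n) :=
      Nat.Coprime.pow_right n (Nat.coprime_two_right.mpr hodd)
    have := Nat.Coprime.eq_one_of_dvd hcop hq
    omega
  have hMeq : M = S := by
    rcases hM.le_iff.mp hMS with h | h
    · exact absurd h hStop
    · exact h.symm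
  have h8 : 2 ^ 3 ∣ Nat.card (PGL2 F) := by
    rw [hG]
    exact eight_dvd hodd
  have := S.pow_dvd_card_of_pow_dvd_card h8
  rw [hMeq]
  exact Nat.le_of_dvd Nat.card_pos this

/-- a subgroup of exponent `4` of the normalizer of a torus has order at most `8` -/
theorem card_le_eight [Fintype F] (h2 : (2 : F) ≠ 0) (g : SL2 F) (hΔ : tr g ^ 2 ≠ 4)
    (H : Subgroup (SL2 F)) (hle : H ≤ NTor g) (hall : ∀ h ∈ H, h ^ 4 = 1) :
    Nat.card H ≤ 8 := by
  classical
  have hNS := nonScalar_of_tr g hΔ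
  have hcycT : IsCyclic (Tor g) := (Cfsg.Agent.Lib.Helper1.DkTorus.torus g hNS hΔ).1
  have hcyc : IsCyclic (Tor g ⊓ H : Subgroup (SL2 F)) := Subgroup.isCyclic_of_le inf_le_left
  obtain ⟨t, ht⟩ := hcyc.exists_generator
  have hcardT : Nat.card (Tor g ⊓ H : Subgroup (SL2 F)) ≤ 4 := by
    rw [← orderOf_eq_card_of_forall_mem_zpowers ht]
    have h4 : t ^ 4 = 1 := by
      apply Subtype.ext
      rw [Subgroup.coe_pow, Subgroup.coe_one]
      exact hall _ t.2.2
    exact Nat.le_of_dvd (by norm_num) (orderOf_dvd_of_pow_eq_one h4)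
  have hrel : (Tor g).relIndex H ≤ 2 := by
    have h5 := relIndex_centralizer_normalizer h2 g hΔ
    have h6 : (Tor g).relIndex (NTor g) ≠ 0 := by
      show (Subgroup.centralizer ({g} : Set (SL2 F))).relIndex
        (Subgroup.normalizer ((Subgroup.centralizer ({g} : Set (SL2 F)) : Subgroup (SL2 F)) :
          Set (SL2 F))) ≠ 0
      rw [h5]; norm_num
    have := Subgroup.relIndex_le_of_le_right hle h6
    exact this.trans (le_of_eq h5)
  have h1 := Subgroup.card_mul_index ((Tor g).subgroupOf H)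
  rw [← Subgroup.relIndex] at h1
  have h3 : Nat.card ((Tor g).subgroupOf H) = Nat.card (Tor g ⊓ H : Subgroup (SL2 F)) := by
    rw [← Subgroup.inf_subgroupOf_right]
    exact Nat.card_congr (Subgroup.subgroupOfEquivOfLe inf_le_right).toEquiv
  rw [h3] at h1
  rw [← h1]
  calc Nat.card (Tor g ⊓ H : Subgroup (SL2 F)) * (Tor g).relIndex H ≤ 4 * 2 :=
        Nat.mul_le_mul hcardT hrel
    _ = 8 := by norm_num

theorem isKleinFour_of_card_of_sq {G : Type*} [Group G] (hc : Nat.card G = 4)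
    (hsq : ∀ x : G, x * x = 1) : IsKleinFour G := by
  refine ⟨hc, ?_⟩
  haveI : Finite G := Nat.finite_of_card_ne_zero (by rw [hc]; norm_num)
  haveI : Nontrivial G := by
    rw [← Finite.one_lt_card_iff_nontrivial, hc]
    norm_num
  rw [Monoid.exponent_eq_prime_iff Nat.prime_two]
  intro g hg
  exact orderOf_eq_prime (by rw [pow_two]; exact hsq g) hg

theorem card_Hh_eq_two_mul [Fintype F] (hodd : Odd (Fintype.card F)) :
    Nat.card (Hh M) = 2 * Nat.card ((Hh M).map π) := by
  obtain ⟨qe⟩ := Cfsg.Agent.Lib.Helper12.DkG.quot_equiv (Hh M)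
  exact Cfsg.Agent.Lib.Helper12.DkZ.card_of_quot_iso hodd center_le_Hh qe

/-- the small case: `M` cannot be a `2`-group of order at most `8` -/
theorem small_case [Fintype F] (hodd : Odd (Fintype.card F)) (h3 : 3 < Fintype.card F)
    (hM : IsCoatom M) (hML : ¬ (tP F).range ≤ M) (hall : ∀ h ∈ Hh M, h ^ 4 = 1)
    (hle8 : Nat.card (Hh M) ≤ 8) : False := by
  classical
  have h2 : (2 : F) ≠ 0 := Cfsg.Agent.S2428.two_ne_zero_of_odd hodd
  have h4 : 4 ≤ Fintype.card F := h3
  haveI : Fact (Nat.Prime 2) := ⟨Nat.prime_two⟩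
  have hpH : IsPGroup 2 (Hh M) := by
    intro x
    refine ⟨2, ?_⟩
    apply Subtype.ext
    rw [Subgroup.coe_pow, Subgroup.coe_one]
    exact hall _ x.2
  obtain ⟨n, hn⟩ := IsPGroup.iff_card.mp hpH
  have hcM := card_M hodd hM hML
  have hpM : IsPGroup 2 M := IsPGroup.of_card (n := n) (by rw [hcM, hn])
  have h8 := eight_le_of_two_group hodd h3 hM hpM
  have hc8 : Nat.card (Hh M) = 8 := by omega
  have hcV : Nat.card ((Hh M).map π) = 4 := by
    have := card_Hh_eq_two_mul (M := M) hodd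
    omega
  have hsq : ∀ x : ((Hh M).map π), x * x = 1 := by
    rintro ⟨_, ⟨h, hh, rfl⟩⟩
    apply Subtype.ext
    rw [Subgroup.coe_mul, Subgroup.coe_one, ← map_mul]
    have h1 : (h * h) * (h * h) = 1 := by
      have := hall h hh
      rw [show (4 : ℕ) = 2 + 2 from rfl, pow_add, pow_two] at this
      exact this
    have hc := Cfsg.Agent.S2475.mem_center_of_sq_eq_one h2 (h * h) h1
    exact (QuotientGroup.eq_one_iff _).mpr hc
  have hK : IsKleinFour ((Hh M).map π) := isKleinFour_of_card_of_sq hcV hsq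
  have hV1 : (Hh M).map π ≠ ⊥ := by
    intro h
    rw [h, Subgroup.card_bot] at hcV
    omega
  have hV2 : (Hh M).map π ≠ ⊤ := by
    intro h
    have h5 := Cfsg.Agent.Lib.Helper12.DkA4.card_PSL2_two (F := F) hodd
    rw [h, Subgroup.card_top] at hcV
    rw [hcV] at h5
    have : 4 * (4 - 1) * (4 + 1) ≤ Fintype.card F * (Fintype.card F - 1) * (Fintype.card F + 1) :=
      Nat.mul_le_mul (Nat.mul_le_mul h4 (by omega)) (by omega)
    omega
  have hN := normalizer_le_of_normalized h4 hM _ hV1 hV2 (le_normalizer_map hodd)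
  have hNc : Nat.card (Subgroup.normalizer (((Hh M).map π : Subgroup (PSL2 F)) : Set (PSL2 F))) ≤ 4 := by
    rw [← hcV]
    exact Subgroup.card_le_of_le hN
  have hq8 : Fintype.card F % 8 = 1 ∨ Fintype.card F % 8 = 3 ∨ Fintype.card F % 8 = 5 ∨
      Fintype.card F % 8 = 7 := by
    obtain ⟨k, hk⟩ := hodd
    omega
  rcases hq8 with h | h | h | h
  · have := Cfsg.Agent.Lib.Helper12.DkA4.card_normalizer_ge hodd (Or.inl h) _ hK
    omega
  · have := Cfsg.Agent.Lib.Helper12.DkA4.card_normalizer_eq hodd (Or.inl h) _ hK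
    omega
  · have := Cfsg.Agent.Lib.Helper12.DkA4.card_normalizer_eq hodd (Or.inr h) _ hK
    omega
  · have := Cfsg.Agent.Lib.Helper12.DkA4.card_normalizer_ge hodd (Or.inr h) _ hK
    omega

end Cfsg.Agent.Lib.Helper12.DkP
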