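import Cfsg.Agent.Lib.Helper12.DkP7

/-!
Maximal subgroups of `PGL₂(F)`: embedding `PGL₂(F)` into `PSL₂(K)` for a finite extension `K`
in which every element of `F` is a square, and Dickson's list for subgroups of `PGL₂(F)`
(helper12).
-/

set_option autoImplicit false

namespace Cfsg.Agent.Lib.Helper12.DkP

open Polynomial Cfsg.Agent.Lib.Helper16.DkMax

universe u

/-- a finite extension in which every element of `F` is a square -/
theorem exists_sqrt_ext (F : Type u) [Field F] [Fintype F] :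
    ∃ (K : Type u) (_ : Field K) (_ : Fintype K) (ι : F →+* K), ∀ a : F, ∃ r : K, r * r = ι a := by
  classical
  let f : F[X] := ∏ a : F, (X ^ 2 - C a)
  have hf0 : f ≠ 0 := by
    apply Finset.prod_ne_zero_iff.mpr
    intro a _
    exact (monic_X_pow_sub_C a (by norm_num)).ne_zero
  have : FiniteDimensional F f.SplittingField :=
    Polynomial.IsSplittingField.finiteDimensional f.SplittingField f
  have : Finite f.SplittingField := Module.finite_of_finite F
  refine ⟨f.SplittingField, inferInstance, Fintype.ofFinite _, algebraMap F f.SplittingField, ?_⟩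
  intro a
  have hsp := SplittingField.splits f
  have hdvd : (X ^ 2 - C a : F[X]) ∣ f := Finset.dvd_prod_of_mem _ (Finset.mem_univ a)
  have hdvd' := Polynomial.map_dvd (algebraMap F f.SplittingField) hdvd
  have hf0' : f.map (algebraMap F f.SplittingField) ≠ 0 :=
    (Polynomial.map_ne_zero_iff (algebraMap F f.SplittingField).injective).mpr hf0
  have hs := Splits.of_dvd hsp hf0' hdvd'
  have hdeg : ((X ^ 2 - C a : F[X]).map (algebraMap F f.SplittingField)).degree ≠ 0 := by
    rw [Polynomial.degree_map, degree_X_pow_sub_C (by norm_num)]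
    norm_num
  obtain ⟨r, hr⟩ := hs.exists_eval_eq_zero hdeg
  refine ⟨r, ?_⟩
  simp only [Polynomial.map_sub, Polynomial.map_pow, map_X, map_C, eval_sub, eval_pow, eval_X,
    eval_C] at hr
  rw [← pow_two]
  exact sub_eq_zero.mp hr

local notation "SL2" => Matrix.SpecialLinearGroup (Fin 2)
local notation "M2" => Matrix (Fin 2) (Fin 2)
local notation "GL2" => Matrix.GeneralLinearGroup (Fin 2)
local notation "PSL2" => Matrix.ProjectiveSpecialLinearGroup (Fin 2)
local notation "PGL2" => Matrix.ProjGenLinGroup (Fin 2)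

/-- `PGL₂(F)` embeds in `PSL₂(K)` for a suitable finite extension `K` -/
theorem exists_embed_PSL (F : Type u) [Field F] [Fintype F] :
    ∃ (K : Type u) (_ : Field K) (_ : Fintype K) (_ : F →+* K) (φ : PGL2 F →* PSL2 K),
      Function.Injective φ := by
  obtain ⟨K, iK, iFK, ι, hι⟩ := exists_sqrt_ext F
  letI := iK
  letI := iFK
  have hrange : ∀ x : PGL2 F, Matrix.ProjGenLinGroup.map (n := Fin 2) ι x ∈
      (Matrix.ProjectiveSpecialLinearGroup.toPGL : PSL2 K →* PGL2 K).range := by
    intro x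
    induction x using Matrix.ProjGenLinGroup.induction_on with | mk g =>
    rw [Matrix.ProjGenLinGroup.map_mk, ← range_tP_eq]
    obtain ⟨r, hr⟩ := hι ((g : M2 F).det)
    apply mk_mem_range_tP _ r
    rw [hr]
    have : ((Matrix.GeneralLinearGroup.map ι g : GL2 K) : M2 K) = (ι.mapMatrix (g : M2 F)) := rfl
    rw [this, ← RingHom.map_det]
  let e := MonoidHom.ofInjective
    (Matrix.ProjectiveSpecialLinearGroup.toPGL_injective (n := Fin 2) (R := K))
  refine ⟨K, iK, iFK, ι, e.symm.toMonoidHom.comp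
    ((Matrix.ProjGenLinGroup.map (n := Fin 2) ι).codRestrict _ hrange), ?_⟩
  intro x y hxy
  have h1 := e.symm.injective hxy
  have h2 := congrArg Subtype.val h1
  exact pgl_map_injective ι h2

variable {F : Type u} [Field F]

/-- Dickson's list for subgroups of `PGL₂(F)` containing a pair as in `HasPair` -/
theorem routeK [Fintype F] (p : ℕ) [Fact p.Prime] [CharP F p] (hp2 : p ≠ 2)
    (M : Subgroup (PGL2 F)) (hpair : HasPair M) :
    Nonempty (M ≃* alternatingGroup (Fin 4)) ∨ Nonempty (M ≃* Equiv.Perm (Fin 4)) ∨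
    Nonempty (M ≃* alternatingGroup (Fin 5)) ∨
    (∃ (K' : Type) (_ : Field K') (_ : Fintype K'), p ∣ Fintype.card K' ∧
      (Nonempty (M ≃* PSL2 K') ∨ Nonempty (M ≃* PGL2 K'))) := by
  obtain ⟨K, iK, iFK, ι, φ, hφ⟩ := exists_embed_PSL F
  letI := iK
  letI := iFK
  haveI : CharP K p := charP_of_injective_ringHom ι.injective p
  obtain ⟨M', hM'⟩ : ∃ M' : Subgroup (PSL2 K), M' = M.map φ := ⟨_, rfl⟩
  have e : M ≃* M' := by
    rw [hM']
    exact Subgroup.equivMapOfInjective M φ hφ
  have hpair' : HasPair M' := HasPair.of_injective e.toMonoidHom e.injective hpair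
  have hD : DList (Fintype.card K) p M' := Cfsg.Agent.S0799.result rfl p M'
  rcases reduce p hp2 M' M' le_rfl hpair' hD with ⟨⟨f⟩⟩ | ⟨⟨f⟩⟩ | ⟨⟨f⟩⟩ | ⟨K', i1, i2, m, hm, h⟩
  · exact Or.inl ⟨e.trans f⟩
  · exact Or.inr (Or.inl ⟨e.trans f⟩)
  · exact Or.inr (Or.inr (Or.inl ⟨e.trans f⟩))
  · refine Or.inr (Or.inr (Or.inr ⟨K', i1, i2, ?_, ?_⟩))
    · obtain ⟨n, -, hn⟩ := FiniteField.card K p
      have h1 : p ∣ Fintype.card K' ^ m := by
        rw [hm, hn]
        exact dvd_pow_self p n.ne_zero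
      exact (Fact.out : p.Prime).dvd_of_dvd_pow h1
    · rcases h with ⟨⟨f⟩⟩ | ⟨⟨f⟩⟩
      · exact Or.inl ⟨e.trans f⟩
      · exact Or.inr ⟨e.trans f⟩

end Cfsg.Agent.Lib.Helper12.DkP
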