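import Cfsg.Agent.Lib.Helper12.DkP8

/-!
Maximal subgroups of `PGL₂(F)`: the `A₄` case lives over the prime field (helper12).
-/

set_option autoImplicit false

namespace Cfsg.Agent.Lib.Helper12.DkP

open Cfsg.Agent.Lib.Helper12.SL2 Cfsg.Agent.Lib.Helper12.DkQ Cfsg.Agent.Lib.Helper12.DkX Equiv

variable {F : Type*} [Field F]

local notation "SL2" => Matrix.SpecialLinearGroup (Fin 2)
local notation "M2" => Matrix (Fin 2) (Fin 2)
local notation "GL2" => Matrix.GeneralLinearGroup (Fin 2)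
local notation "PSL2" => Matrix.ProjectiveSpecialLinearGroup (Fin 2)
local notation "PGL2" => Matrix.ProjGenLinGroup (Fin 2)
local notation "π" => QuotientGroup.mk' (Subgroup.center (Matrix.SpecialLinearGroup (Fin 2) F))

theorem Gs_ne_top [Fintype F] (K : Subfield F) (hK : K ≠ ⊤)
    {i j : Matrix (Fin 2) (Fin 2) F} (h : QPair i j) (s : F) (hs : s * s ∈ K) :
    Gs K h s hs ≠ ⊤ := by
  classical
  haveI : Finite K := Finite.of_injective (fun x : K => (x : F)) Subtype.val_injective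
  letI : Fintype K := Fintype.ofFinite K
  have hn2 : 2 ≤ Nat.card K := by
    rw [Nat.card_eq_fintype_card]
    exact Fintype.one_lt_card
  have hq : Nat.card K ^ 2 ≤ Fintype.card F := by
    have hpow := Module.card_eq_pow_finrank (K := K) (V := F)
    rw [Nat.card_eq_fintype_card]
    rw [hpow]
    apply Nat.pow_le_pow_right Fintype.card_pos
    by_contra hlt
    push Not at hlt
    apply hK
    have hcard : Fintype.card F ≤ Fintype.card K := by
      rw [hpow]
      calc Fintype.card K ^ Module.finrank K F ≤ Fintype.card K ^ 1 :=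
            Nat.pow_le_pow_right Fintype.card_pos (by omega)
        _ = Fintype.card K := pow_one _
    rw [eq_top_iff]
    intro x _
    have hbij : Function.Bijective (fun y : K => (y : F)) :=
      Function.Injective.bijective_of_nat_card_le Subtype.val_injective
        (by rw [Nat.card_eq_fintype_card, Nat.card_eq_fintype_card]; exact hcard)
    obtain ⟨y, rfl⟩ := hbij.2 x
    exact y.2
  have hq4 : 4 ≤ Fintype.card F := by nlinarith
  intro htop
  have h1 := card_Gs_le (K := K) h s hs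
  rw [htop, Subgroup.card_top, Cfsg.Agent.Lib.Helper12.SL2.card_SL2] at h1
  have h3 : 2 * Nat.card K ^ 4 + Fintype.card F < Fintype.card F ^ 3 := by
    have e1 : Nat.card K ^ 4 ≤ Fintype.card F ^ 2 := by
      calc Nat.card K ^ 4 = (Nat.card K ^ 2) ^ 2 := by ring
        _ ≤ Fintype.card F ^ 2 := Nat.pow_le_pow_left hq 2
    nlinarith
  have h4 : Fintype.card F * (Fintype.card F ^ 2 - 1) = Fintype.card F ^ 3 - Fintype.card F := by
    rw [Nat.mul_sub, mul_one]; ring_nf
  rw [h4] at h1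
  omega

theorem card_dvd_card_Gs [Fintype F] (h2 : (2 : F) ≠ 0) (K : Subfield F)
    {i j : Matrix (Fin 2) (Fin 2) F} (h : QPair i j) (s : F) (hs : s * s ∈ K) (x₁ x₂ : F)
    (hx₁ : x₁ ∈ K) (hx₂ : x₂ ∈ K) (hx : 1 + x₁ ^ 2 + x₂ ^ 2 = 0) :
    Nat.card K ∣ Nat.card (Gs K h s hs) := by
  classical
  obtain ⟨n, hnA, hnn, hn0⟩ := exists_nilpotent (K := K) h h2 x₁ x₂ hx₁ hx₂ hx
  have hrange : (uni K n hnn hn0).range ≤ Gs K h s hs := by
    rintro _ ⟨c, rfl⟩
    left
    show InA K i j ((1 : M2 F) + ((Multiplicative.toAdd c : K) : F) • n)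
    exact inA_add inA_one (inA_smul (Multiplicative.toAdd c : K).2 hnA)
  have hcard : Nat.card (uni K n hnn hn0).range = Nat.card K := by
    rw [← Nat.card_congr (MonoidHom.ofInjective (uni_injective n hnn hn0)).toEquiv]
    rfl
  rw [← hcard]
  exact Subgroup.card_dvd_of_le hrange

variable {M : Subgroup (PGL2 F)}

/-- in the `A₄` case, `F` is the prime field -/
theorem card_eq_of_A4_P [Fintype F] (p : ℕ) [Fact p.Prime] [CharP F p]
    (hodd : Odd (Fintype.card F)) (h4 : 4 ≤ Fintype.card F) (hM : IsCoatom M)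
    (e : ↥((Hh M).map π) ≃* alternatingGroup (Fin 4)) (hp : ¬ p ∣ Nat.card (Hh M)) :
    Fintype.card F = p := by
  have h2 : (2 : F) ≠ 0 := Cfsg.Agent.S2428.two_ne_zero_of_odd hodd
  by_contra hq
  have hK := Kfix_one_ne_top p hq
  obtain ⟨i, j, hi, hj, ti, tj, tk, -, -⟩ := exists_qpair_of_iso h2 e a4a a4b
    (orderOf_two_of a4a_ord) (orderOf_two_of a4b_ord) (orderOf_two_of a4ab_ord)
  have htrK : ∀ g ∈ Hh M, tr g ∈ Kfix F p 1 := by
    intro g hg
    apply small_mem
    rcases a4_pow (img e g hg) with h | h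
    · rcases tr_of_pow_two g (sc_pow_of_img e g hg 2 h) with h | h | h
      · exact Or.inl h
      · exact Or.inr (Or.inl h)
      · exact Or.inr (Or.inr (Or.inl h))
    · rcases tr_of_pow_three g (sc_pow_of_img e g hg 3 h) with h | h | h | h
      · exact Or.inl h
      · exact Or.inr (Or.inl h)
      · exact Or.inr (Or.inr (Or.inr (Or.inl h)))
      · exact Or.inr (Or.inr (Or.inr (Or.inr h)))
  have hQ := qpair_of_sl i j ti tj tk
  have hspan : ∀ g ∈ Hh M, InA (Kfix F p 1) (i : M2 F) (j : M2 F) (g : M2 F) := by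
    intro g hg
    have e1 : ((g : M2 F) * (i : M2 F)).trace = tr (g * i) := by
      rw [← Matrix.SpecialLinearGroup.coe_mul, ← tr_eq_trace]
    have e2 : ((g : M2 F) * (j : M2 F)).trace = tr (g * j) := by
      rw [← Matrix.SpecialLinearGroup.coe_mul, ← tr_eq_trace]
    have e3 : ((g : M2 F) * ((i : M2 F) * (j : M2 F))).trace = tr (g * (i * j)) := by
      rw [← Matrix.SpecialLinearGroup.coe_mul, ← Matrix.SpecialLinearGroup.coe_mul, ← tr_eq_trace]
    obtain ⟨y, hy, hgy⟩ := inA_of_traces (K := Kfix F p 1) hQ h2 1 (x := (g : M2 F))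
      ⟨_, htrK g hg, by rw [one_mul, tr_eq_trace]⟩
      ⟨_, htrK _ ((Hh M).mul_mem hg hi), by rw [one_mul, e1]⟩
      ⟨_, htrK _ ((Hh M).mul_mem hg hj), by rw [one_mul, e2]⟩
      ⟨_, htrK _ ((Hh M).mul_mem hg ((Hh M).mul_mem hi hj)), by rw [one_mul, e3]⟩
    rw [hgy, one_smul]
    exact hy
  have hs1 : (1 : F) * 1 ∈ Kfix F p 1 := by rw [mul_one]; exact (Kfix F p 1).one_mem
  have hle : Hh M ≤ Gs (Kfix F p 1) hQ 1 hs1 := fun g hg => Or.inl (hspan g hg)
  have hinv : ∀ m ∈ Mh M, ∀ x ∈ Gs (Kfix F p 1) hQ 1 hs1, cj m x ∈ Gs (Kfix F p 1) hQ 1 hs1 := by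
    intro m hm x hx
    have hxA : InA (Kfix F p 1) (i : M2 F) (j : M2 F) (x : M2 F) := by
      rcases hx with h | ⟨y, hy, hxy⟩
      · exact h
      · rw [hxy, one_smul]; exact hy
    left
    obtain ⟨c₀, c₁, c₂, c₃, h₀, h₁, h₂, h₃, ex⟩ := hxA
    have hI := hspan _ (cj_mem_Hh hm hi)
    have hJ := hspan _ (cj_mem_Hh hm hj)
    have hIJ : ((cj m (i * j) : SL2 F) : M2 F) = ((cj m i : SL2 F) : M2 F) * ((cj m j : SL2 F) : M2 F) := by
      rw [map_mul, Matrix.SpecialLinearGroup.coe_mul]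
    have key : ((cj m x : SL2 F) : M2 F) = c₀ • (1 : M2 F) + c₁ • ((cj m i : SL2 F) : M2 F) +
        c₂ • ((cj m j : SL2 F) : M2 F) +
        c₃ • (((cj m i : SL2 F) : M2 F) * ((cj m j : SL2 F) : M2 F)) := by
      rw [← hIJ, cj_coe, cj_coe, cj_coe, cj_coe, ex, Matrix.SpecialLinearGroup.coe_mul]
      simp only [mul_add, add_mul, Matrix.mul_smul, Matrix.smul_mul, mul_one, Units.mul_inv]
    rw [key]
    exact inA_add (inA_add (inA_add (inA_smul h₀ inA_one) (inA_smul h₁ hI)) (inA_smul h₂ hJ))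
      (inA_smul h₃ (inA_mul hQ hI hJ))
  have heq := inv_tool h4 hM _ hle (Gs_ne_top _ hK hQ 1 hs1) hinv
  obtain ⟨x₁, x₂, hx₁, hx₂, hx⟩ := exists_sq_add_sq_mem p (Kfix F p 1)
  have hd := card_dvd_card_Gs h2 (Kfix F p 1) hQ 1 hs1 x₁ x₂ hx₁ hx₂ hx
  rw [heq] at hd
  exact hp ((dvd_card_Kfix p 1).trans hd)

end Cfsg.Agent.Lib.Helper12.DkP
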