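import Mathlib
import Cfsg.Agent.Lib.Helper12.SL2b

/-!
Quaternion pairs in `M₂(F)` and the span of a quaternion pair over a subfield (helper12).
-/

set_option autoImplicit false

namespace Cfsg.Agent.Lib.Helper12.DkQ

open Matrix

variable {F : Type*} [Field F]

local notation "M2" => Matrix (Fin 2) (Fin 2) F

/-- polarized Cayley–Hamilton -/
theorem pol (x u : M2) : x * u + u * x =
    x.trace • u + u.trace • x + ((x * u).trace - x.trace * u.trace) • (1 : M2) := by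
  ext r s
  fin_cases r <;> fin_cases s <;>
    simp [Matrix.trace, Matrix.mul_apply, Fin.sum_univ_two] <;> ring

/-- Cayley–Hamilton -/
theorem ch (u : M2) : u * u = u.trace • u - u.det • (1 : M2) := by
  ext r s
  fin_cases r <;> fin_cases s <;>
    simp [Matrix.trace, Matrix.mul_apply, Fin.sum_univ_two, Matrix.det_fin_two] <;> ring

theorem trace_one_two : (1 : M2).trace = 2 := by
  simp [Matrix.trace, Fin.sum_univ_two]

theorem refl (u : M2) (hu0 : u.trace = 0) (hu2 : u * u = -1) (x : M2) :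
    u * x * u = (-(x.trace)) • (1 : M2) + (x * u).trace • u + x := by
  have h := pol x u
  rw [hu0] at h
  simp only [zero_smul, add_zero, mul_zero, sub_zero] at h
  have h1 : u * x = x.trace • u + (x * u).trace • (1 : M2) - x * u := by
    rw [← h]; abel
  calc u * x * u = (x.trace • u + (x * u).trace • (1 : M2) - x * u) * u := by rw [h1]
    _ = x.trace • (u * u) + (x * u).trace • u - x * (u * u) := by
        rw [sub_mul, add_mul, smul_mul_assoc, smul_mul_assoc, one_mul, mul_assoc]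
    _ = _ := by
        rw [hu2]
        simp only [smul_neg, mul_neg, mul_one, neg_smul, sub_neg_eq_add]

/-- a quaternion pair -/
structure QPair (i j : M2) : Prop where
  ti : i.trace = 0
  tj : j.trace = 0
  tk : (i * j).trace = 0
  ii : i * i = -1
  jj : j * j = -1
  ji : j * i = -(i * j)

theorem qpair_of (i j : M2) (hi : i.trace = 0) (hj : j.trace = 0) (hk : (i * j).trace = 0)
    (di : i.det = 1) (dj : j.det = 1) : QPair i j := by
  refine ⟨hi, hj, hk, ?_, ?_, ?_⟩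
  · rw [ch, hi, di]; simp
  · rw [ch, hj, dj]; simp
  · have h := pol i j
    rw [hi, hj, hk] at h
    simp at h
    exact eq_neg_of_add_eq_zero_right h

namespace QPair

variable {i j : Matrix (Fin 2) (Fin 2) F} (h : QPair i j)
include h

theorem ik : i * (i * j) = -j := by rw [← mul_assoc, h.ii]; simp
theorem ki : (i * j) * i = j := by rw [mul_assoc, h.ji, mul_neg, ← mul_assoc, h.ii]; simp
theorem jk : j * (i * j) = i := by rw [← mul_assoc, h.ji, neg_mul, mul_assoc, h.jj]; simp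
theorem kj : (i * j) * j = -i := by rw [mul_assoc, h.jj]; simp
theorem kk : (i * j) * (i * j) = -1 := by rw [mul_assoc, h.jk, h.ii]

/-- expansion in the quaternion basis -/
theorem expansion (x : M2) :
    (2 : F) • x = x.trace • (1 : M2) - (x * i).trace • i - (x * j).trace • j -
      (x * (i * j)).trace • (i * j) := by
  have e1 := refl i h.ti h.ii x
  have e2 := refl j h.tj h.jj (i * x * i)
  have e3 := refl (i * j) h.tk h.kk x
  have e4 : j * (i * x * i) * j = -((i * j) * x * (i * j)) := by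
    rw [show j * (i * x * i) * j = (j * i) * x * (i * j) by simp only [mul_assoc], h.ji]
    simp only [neg_mul]
  have ty : (i * x * i).trace = -x.trace := by
    rw [e1]
    simp only [Matrix.trace_add, Matrix.trace_smul, h.ti, trace_one_two, smul_eq_mul]
    ring
  have tyj : ((i * x * i) * j).trace = (x * j).trace := by
    rw [e1]
    simp only [add_mul, smul_mul_assoc, one_mul, Matrix.trace_add, Matrix.trace_smul, h.tj, h.tk,
      smul_eq_mul]
    ring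
  rw [e4, e3, ty, tyj, e1] at e2
  rw [two_smul]
  have := sub_eq_zero.mpr e2
  rw [← sub_eq_zero]
  rw [← neg_eq_zero, ← this]
  simp only [neg_neg, neg_smul]
  abel

end QPair

/-- the span of `1, i, j, ij` over a subfield -/
def InA (K : Subfield F) (i j : M2) (x : M2) : Prop :=
  ∃ c₀ c₁ c₂ c₃ : F, c₀ ∈ K ∧ c₁ ∈ K ∧ c₂ ∈ K ∧ c₃ ∈ K ∧
    x = c₀ • (1 : M2) + c₁ • i + c₂ • j + c₃ • (i * j)

section SpanLemmas

variable {K : Subfield F} {i j : Matrix (Fin 2) (Fin 2) F}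

theorem inA_one : InA K i j 1 :=
  ⟨1, 0, 0, 0, K.one_mem, K.zero_mem, K.zero_mem, K.zero_mem, by simp⟩

theorem inA_i : InA K i j i :=
  ⟨0, 1, 0, 0, K.zero_mem, K.one_mem, K.zero_mem, K.zero_mem, by simp⟩

theorem inA_j : InA K i j j :=
  ⟨0, 0, 1, 0, K.zero_mem, K.zero_mem, K.one_mem, K.zero_mem, by simp⟩

theorem inA_k : InA K i j (i * j) :=
  ⟨0, 0, 0, 1, K.zero_mem, K.zero_mem, K.zero_mem, K.one_mem, by simp⟩

theorem inA_smul {x : M2} {c : F} (hc : c ∈ K) (hx : InA K i j x) : InA K i j (c • x) := by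
  obtain ⟨c₀, c₁, c₂, c₃, h₀, h₁, h₂, h₃, rfl⟩ := hx
  refine ⟨c * c₀, c * c₁, c * c₂, c * c₃, K.mul_mem hc h₀, K.mul_mem hc h₁, K.mul_mem hc h₂,
    K.mul_mem hc h₃, ?_⟩
  module

theorem inA_add {x y : M2} (hx : InA K i j x) (hy : InA K i j y) : InA K i j (x + y) := by
  obtain ⟨c₀, c₁, c₂, c₃, h₀, h₁, h₂, h₃, rfl⟩ := hx
  obtain ⟨d₀, d₁, d₂, d₃, k₀, k₁, k₂, k₃, rfl⟩ := hy
  refine ⟨c₀ + d₀, c₁ + d₁, c₂ + d₂, c₃ + d₃, K.add_mem h₀ k₀, K.add_mem h₁ k₁, K.add_mem h₂ k₂,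
    K.add_mem h₃ k₃, ?_⟩
  module

theorem inA_neg {x : M2} (hx : InA K i j x) : InA K i j (-x) := by
  have := inA_smul (K.neg_mem K.one_mem) hx
  simpa using this

theorem inA_sub {x y : M2} (hx : InA K i j x) (hy : InA K i j y) : InA K i j (x - y) := by
  rw [sub_eq_add_neg]
  exact inA_add hx (inA_neg hy)

theorem inA_mul (h : QPair i j) {x y : M2} (hx : InA K i j x) (hy : InA K i j y) :
    InA K i j (x * y) := by
  obtain ⟨c₀, c₁, c₂, c₃, h₀, h₁, h₂, h₃, rfl⟩ := hx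
  obtain ⟨d₀, d₁, d₂, d₃, k₀, k₁, k₂, k₃, rfl⟩ := hy
  refine ⟨c₀ * d₀ - c₁ * d₁ - c₂ * d₂ - c₃ * d₃, c₀ * d₁ + c₁ * d₀ + c₂ * d₃ - c₃ * d₂,
    c₀ * d₂ - c₁ * d₃ + c₂ * d₀ + c₃ * d₁, c₀ * d₃ + c₁ * d₂ - c₂ * d₁ + c₃ * d₀, ?_, ?_, ?_, ?_, ?_⟩
  · exact K.sub_mem (K.sub_mem (K.sub_mem (K.mul_mem h₀ k₀) (K.mul_mem h₁ k₁)) (K.mul_mem h₂ k₂))
      (K.mul_mem h₃ k₃)
  · exact K.sub_mem (K.add_mem (K.add_mem (K.mul_mem h₀ k₁) (K.mul_mem h₁ k₀)) (K.mul_mem h₂ k₃))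
      (K.mul_mem h₃ k₂)
  · exact K.add_mem (K.add_mem (K.sub_mem (K.mul_mem h₀ k₂) (K.mul_mem h₁ k₃)) (K.mul_mem h₂ k₀))
      (K.mul_mem h₃ k₁)
  · exact K.add_mem (K.sub_mem (K.add_mem (K.mul_mem h₀ k₃) (K.mul_mem h₁ k₂)) (K.mul_mem h₂ k₁))
      (K.mul_mem h₃ k₀)
  · simp only [add_mul, mul_add, smul_mul_smul_comm, mul_one, one_mul, h.ii, h.jj, h.ji, h.ik, h.ki,
      h.jk, h.kj, h.kk, smul_neg]
    module

theorem trace_mem (h : QPair i j) {x : M2} (hx : InA K i j x) : x.trace ∈ K := by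
  obtain ⟨c₀, c₁, c₂, c₃, h₀, h₁, h₂, h₃, rfl⟩ := hx
  simp only [Matrix.trace_add, Matrix.trace_smul, h.ti, h.tj, h.tk, trace_one_two, smul_eq_mul,
    mul_zero, add_zero]
  exact K.mul_mem h₀ (by exact_mod_cast natCast_mem K 2)

/-- membership from traces, up to a common factor `s` -/
theorem inA_of_traces (h : QPair i j) (h2 : (2 : F) ≠ 0) (s : F) {x : M2}
    (h₀ : ∃ c ∈ K, x.trace = s * c) (h₁ : ∃ c ∈ K, (x * i).trace = s * c)
    (h₂ : ∃ c ∈ K, (x * j).trace = s * c) (h₃ : ∃ c ∈ K, (x * (i * j)).trace = s * c) :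
    ∃ y, InA K i j y ∧ x = s • y := by
  obtain ⟨c₀, hc₀, e₀⟩ := h₀
  obtain ⟨c₁, hc₁, e₁⟩ := h₁
  obtain ⟨c₂, hc₂, e₂⟩ := h₂
  obtain ⟨c₃, hc₃, e₃⟩ := h₃
  have h2K : (2 : F) ∈ K := by exact_mod_cast natCast_mem K 2
  have hinv : (2 : F)⁻¹ ∈ K := K.inv_mem h2K
  refine ⟨(2 : F)⁻¹ • (c₀ • (1 : M2) + (-c₁) • i + (-c₂) • j + (-c₃) • (i * j)), ?_, ?_⟩
  · exact inA_smul hinv ⟨c₀, -c₁, -c₂, -c₃, hc₀, K.neg_mem hc₁, K.neg_mem hc₂, K.neg_mem hc₃, rfl⟩
  · have hx := h.expansion x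
    rw [e₀, e₁, e₂, e₃] at hx
    have : x = (2 : F)⁻¹ • ((2 : F) • x) := by
      rw [smul_smul, inv_mul_cancel₀ h2, one_smul]
    rw [this, hx]
    module

end SpanLemmas

end Cfsg.Agent.Lib.Helper12.DkQ
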