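import Cfsg.Agent.Lib.Helper12.DkQ

/-!
The norm-one group of the span of a quaternion pair over a subfield, and the descent theorem for
coatoms of `SL₂(F)` (helper12).
-/

set_option autoImplicit false

namespace Cfsg.Agent.Lib.Helper12.DkQ

open Matrix

variable {F : Type*} [Field F]

local notation "M2" => Matrix (Fin 2) (Fin 2) F
local notation "SL2" => Matrix.SpecialLinearGroup (Fin 2) F

theorem adj_eq (x : M2) : x.adjugate = x.trace • (1 : M2) - x := by
  ext r s
  fin_cases r <;> fin_cases s <;>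
    simp [Matrix.adjugate_fin_two, Matrix.trace, Fin.sum_univ_two]

theorem det_one_add (m : M2) : (1 + m).det = 1 + m.trace + m.det := by
  simp [Matrix.det_fin_two, Matrix.trace, Fin.sum_univ_two]
  ring

variable {K : Subfield F} {i j : Matrix (Fin 2) (Fin 2) F}

/-- the group `Ĝ_s` of elements of `SL₂(F)` in `A ∪ sA` -/
def Gs (K : Subfield F) (h : QPair i j) (s : F) (hs : s * s ∈ K) : Subgroup SL2 where
  carrier := {g | InA K i j (g : M2) ∨ ∃ y, InA K i j y ∧ (g : M2) = s • y}
  one_mem' := Or.inl (by rw [Matrix.SpecialLinearGroup.coe_one]; exact inA_one)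
  mul_mem' := by
    rintro a b (ha | ⟨y, hy, hay⟩) (hb | ⟨z, hz, hbz⟩)
    · left
      rw [Matrix.SpecialLinearGroup.coe_mul]
      exact inA_mul h ha hb
    · right
      refine ⟨(a : M2) * z, inA_mul h ha hz, ?_⟩
      rw [Matrix.SpecialLinearGroup.coe_mul, hbz, mul_smul_comm]
    · right
      refine ⟨y * (b : M2), inA_mul h hy hb, ?_⟩
      rw [Matrix.SpecialLinearGroup.coe_mul, hay, smul_mul_assoc]
    · left
      rw [Matrix.SpecialLinearGroup.coe_mul, hay, hbz, smul_mul_smul_comm]
      exact inA_smul hs (inA_mul h hy hz)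
  inv_mem' := by
    rintro a (ha | ⟨y, hy, hay⟩)
    · left
      rw [Matrix.SpecialLinearGroup.coe_inv, adj_eq]
      exact inA_sub (inA_smul (trace_mem h ha) inA_one) ha
    · right
      refine ⟨y.trace • (1 : M2) - y, inA_sub (inA_smul (trace_mem h hy) inA_one) hy, ?_⟩
      rw [Matrix.SpecialLinearGroup.coe_inv, adj_eq, hay, Matrix.trace_smul, smul_sub, smul_smul,
        smul_eq_mul]

theorem mem_Gs (h : QPair i j) (s : F) (hs : s * s ∈ K) (g : SL2) :
    g ∈ Gs K h s hs ↔ InA K i j (g : M2) ∨ ∃ y, InA K i j y ∧ (g : M2) = s • y := Iff.rfl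

/-- parametrization of `A ∪ sA` -/
def param (K : Subfield F) (i j : Matrix (Fin 2) (Fin 2) F) (s : F) (p : Bool × (K × K × K × K)) : M2 :=
  (if p.1 then s else 1) • ((p.2.1 : F) • (1 : M2) + (p.2.2.1 : F) • i + (p.2.2.2.1 : F) • j +
    (p.2.2.2.2 : F) • (i * j))

theorem exists_param (h : QPair i j) (s : F) (hs : s * s ∈ K) (g : Gs K h s hs) :
    ∃ p, param K i j s p = ((g : SL2) : M2) := by
  rcases g.2 with ⟨c₀, c₁, c₂, c₃, h₀, h₁, h₂, h₃, e⟩ | ⟨y, ⟨c₀, c₁, c₂, c₃, h₀, h₁, h₂, h₃, rfl⟩, e⟩
  · refine ⟨(false, ⟨c₀, h₀⟩, ⟨c₁, h₁⟩, ⟨c₂, h₂⟩, ⟨c₃, h₃⟩), ?_⟩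
    rw [e]
    simp [param]
  · refine ⟨(true, ⟨c₀, h₀⟩, ⟨c₁, h₁⟩, ⟨c₂, h₂⟩, ⟨c₃, h₃⟩), ?_⟩
    rw [e]
    simp [param]

theorem card_Gs_le [Finite F] (h : QPair i j) (s : F) (hs : s * s ∈ K) :
    Nat.card (Gs K h s hs) ≤ 2 * Nat.card K ^ 4 := by
  classical
  haveI : Finite K := Finite.of_injective (fun x : K => (x : F)) Subtype.val_injective
  let f : Gs K h s hs → Bool × (K × K × K × K) := fun g => Classical.choose (exists_param h s hs g)
  have hf : Function.Injective f := by
    intro a b hab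
    have ha := Classical.choose_spec (exists_param h s hs a)
    have hb := Classical.choose_spec (exists_param h s hs b)
    apply Subtype.ext
    apply Subtype.ext
    rw [← ha, ← hb]
    show param K i j s (f a) = param K i j s (f b)
    rw [hab]
  have := Nat.card_le_card_of_injective f hf
  refine this.trans (le_of_eq ?_)
  simp only [Nat.card_prod, Nat.card_eq_fintype_card, Fintype.card_bool]
  ring

/-- a nonzero nilpotent element of the span -/
theorem exists_nilpotent (h : QPair i j) (h2 : (2 : F) ≠ 0) (x₁ x₂ : F) (hx₁ : x₁ ∈ K)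
    (hx₂ : x₂ ∈ K) (hx : 1 + x₁ ^ 2 + x₂ ^ 2 = 0) :
    ∃ n : M2, InA K i j n ∧ n * n = 0 ∧ n ≠ 0 := by
  obtain ⟨a, ha⟩ : ∃ a : M2, a = (1 : M2) + x₁ • i + x₂ • j := ⟨_, rfl⟩
  have haA : InA K i j a :=
    ⟨1, x₁, x₂, 0, K.one_mem, hx₁, hx₂, K.zero_mem, by rw [ha]; simp⟩
  have h2K : (2 : F) ∈ K := by exact_mod_cast natCast_mem K 2
  have haa : a * a = (2 : F) • a := by
    have e : a * a - (2 : F) • a = (-(1 + x₁ ^ 2 + x₂ ^ 2)) • (1 : M2) := by
      rw [ha]
      simp only [add_mul, mul_add, smul_mul_smul_comm, mul_one, one_mul, h.ii, h.jj, h.ji,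
        smul_neg, mul_smul_comm, smul_mul_assoc]
      module
    rw [hx, neg_zero, zero_smul] at e
    exact sub_eq_zero.mp e
  have hta : a.trace = 2 := by
    rw [ha]
    simp only [Matrix.trace_add, Matrix.trace_smul, h.ti, h.tj, trace_one_two, smul_eq_mul,
      mul_zero, add_zero]
  have ha0 : a ≠ 0 := by
    intro h0
    rw [h0, Matrix.trace_zero] at hta
    exact h2 hta.symm
  obtain ⟨b, hb⟩ : ∃ b : M2, b = a - (2 : F) • (1 : M2) := ⟨_, rfl⟩
  have hbA : InA K i j b := by rw [hb]; exact inA_sub haA (inA_smul h2K inA_one)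
  have hba : b * a = 0 := by
    rw [hb, sub_mul, haa, smul_mul_assoc, one_mul, sub_self]
  have hnil : ∀ y : M2, (a * y * b) * (a * y * b) = 0 := by
    intro y
    calc (a * y * b) * (a * y * b) = a * y * (b * a) * y * b := by simp only [mul_assoc]
      _ = 0 := by rw [hba]; simp
  -- the vanishing of `a * u * b` forces `a * u = -(x) • a`
  have key : ∀ (u : M2) (x : F), u.trace = 0 → u * u = -1 → (a * u).trace = -(2 * x) →
      a * u * b = 0 → 1 + x ^ 2 = 0 := by
    intro u x hu0 hu2 htr hv
    have h1 : a * u * a = (2 : F) • (a * u) := by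
      have : a * u * b = a * u * a - (2 : F) • (a * u) := by
        rw [hb, mul_sub, mul_smul_comm, mul_one]
      rw [this] at hv
      exact sub_eq_zero.mp hv
    have h3 := pol a u
    rw [hu0, hta, htr] at h3
    simp only [zero_smul, add_zero, mul_zero, sub_zero] at h3
    -- `a u + u a = 2 u - 2x`
    have h4 : a * u * a = (-(2 * x)) • a := by
      have : a * u * a + u * (a * a) = ((2 : F) • u + (-(2 * x)) • (1 : M2)) * a := by
        rw [← h3, add_mul, mul_assoc u a a]
      rw [haa, add_mul, smul_mul_assoc, smul_mul_assoc, one_mul, mul_smul_comm] at this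
      rw [add_comm ((2 : F) • (u * a))] at this
      exact add_right_cancel this
    have h5 : a * u = (-x) • a := by
      have : (2 : F) • (a * u) = (2 : F) • ((-x) • a) := by
        rw [← h1, h4, smul_smul]; ring_nf
      exact smul_right_injective _ h2 this
    have h6 : a * u * u = (x ^ 2) • a := by
      rw [h5, smul_mul_assoc, h5, smul_smul]; ring_nf
    rw [mul_assoc, hu2, mul_neg, mul_one] at h6
    have h7 : (1 + x ^ 2) • a = 0 := by
      rw [add_smul, one_smul, ← h6]; simp
    rcases smul_eq_zero.mp h7 with h8 | h8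
    · exact h8
    · exact absurd h8 ha0
  have htai : (a * i).trace = -(2 * x₁) := by
    rw [ha]
    simp only [add_mul, one_mul, smul_mul_assoc, h.ii, h.ji, Matrix.trace_add, Matrix.trace_smul,
      Matrix.trace_neg, h.ti, h.tk, trace_one_two, smul_eq_mul]
    ring
  have htaj : (a * j).trace = -(2 * x₂) := by
    rw [ha]
    simp only [add_mul, one_mul, smul_mul_assoc, h.jj, Matrix.trace_add, Matrix.trace_smul,
      Matrix.trace_neg, h.tj, h.tk, trace_one_two, smul_eq_mul]
    ring
  by_cases hi0 : a * i * b = 0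
  · by_cases hj0 : a * j * b = 0
    · exfalso
      have e1 := key i x₁ h.ti h.ii htai hi0
      have e2 := key j x₂ h.tj h.jj htaj hj0
      have e3 : x₂ ^ 2 = 0 := by linear_combination hx - e1
      have e4 : x₂ = 0 := by simpa using e3
      rw [e4] at e2
      simp at e2
    · exact ⟨a * j * b, inA_mul h (inA_mul h haA inA_j) hbA, hnil j, hj0⟩
  · exact ⟨a * i * b, inA_mul h (inA_mul h haA inA_i) hbA, hnil i, hi0⟩

/-- a nonzero nilpotent `2 × 2` matrix has trace and determinant zero -/
theorem trace_det_of_nilpotent (n : M2) (hn : n * n = 0) (hn0 : n ≠ 0) :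
    n.trace = 0 ∧ n.det = 0 := by
  have hd : n.det = 0 := by
    have : (n * n).det = 0 := by rw [hn]; simp
    rw [Matrix.det_mul] at this
    exact mul_self_eq_zero.mp this
  have h := ch n
  rw [hn, hd] at h
  simp only [zero_smul, sub_zero] at h
  rcases smul_eq_zero.mp h.symm with h1 | h1
  · exact ⟨h1, hd⟩
  · exact absurd h1 hn0

/-- the unipotent one-parameter subgroup attached to a nilpotent matrix -/
def uni (K : Subfield F) (n : M2) (hn : n * n = 0) (hn0 : n ≠ 0) : Multiplicative K →* SL2 where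
  toFun c := ⟨1 + ((Multiplicative.toAdd c : K) : F) • n, by
    rw [det_one_add, Matrix.trace_smul, Matrix.det_smul, (trace_det_of_nilpotent n hn hn0).1,
      (trace_det_of_nilpotent n hn hn0).2]
    simp⟩
  map_one' := by
    apply Subtype.ext
    simp
  map_mul' := by
    intro c d
    apply Subtype.ext
    show (1 : M2) + ((Multiplicative.toAdd (c * d) : K) : F) • n =
      (1 + ((Multiplicative.toAdd c : K) : F) • n) * (1 + ((Multiplicative.toAdd d : K) : F) • n)
    rw [toAdd_mul, Subfield.coe_add, add_mul, mul_add, mul_add, smul_mul_smul_comm, hn]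
    simp only [one_mul, mul_one, smul_zero, add_zero]
    rw [add_smul]
    abel

theorem uni_injective (n : M2) (hn : n * n = 0) (hn0 : n ≠ 0) :
    Function.Injective (uni K n hn hn0) := by
  intro c d hcd
  have h := congrArg (fun g : SL2 => (g : M2)) hcd
  simp only [uni, MonoidHom.coe_mk, OneHom.coe_mk] at h
  have h1 : (((Multiplicative.toAdd c : K) : F) - ((Multiplicative.toAdd d : K) : F)) • n = 0 := by
    rw [sub_smul]
    exact sub_eq_zero.mpr (add_left_cancel h)
  rcases smul_eq_zero.mp h1 with h2 | h2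
  · have : (Multiplicative.toAdd c : K) = Multiplicative.toAdd d := Subtype.ext (sub_eq_zero.mp h2)
    exact Multiplicative.toAdd.injective this
  · exact absurd h2 hn0

/-- **descent**: a coatom of `SL₂(F)` contained in `A ∪ sA` for a proper subfield `K` has order
divisible by `|K|` -/
theorem card_dvd_of_span [Fintype F] (h2 : (2 : F) ≠ 0) (K : Subfield F) (hK : K ≠ ⊤)
    {Mh : Subgroup SL2} (hcoat : IsCoatom Mh) {i j : Matrix (Fin 2) (Fin 2) F} (h : QPair i j)
    (s : F) (hs : s * s ∈ K) (x₁ x₂ : F) (hx₁ : x₁ ∈ K) (hx₂ : x₂ ∈ K)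
    (hx : 1 + x₁ ^ 2 + x₂ ^ 2 = 0)
    (hspan : ∀ g ∈ Mh, InA K i j (g : M2) ∨ ∃ y, InA K i j y ∧ (g : M2) = s • y) :
    Nat.card K ∣ Nat.card Mh := by
  classical
  haveI : Finite K := Finite.of_injective (fun x : K => (x : F)) Subtype.val_injective
  letI : Fintype K := Fintype.ofFinite K
  have hle : Mh ≤ Gs K h s hs := fun g hg => hspan g hg
  -- `Ĝ_s` is proper
  have hn2 : 2 ≤ Nat.card K := by
    rw [Nat.card_eq_fintype_card]
    exact Fintype.one_lt_card
  have hq : Nat.card K ^ 2 ≤ Fintype.card F := by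
    have hpow := Module.card_eq_pow_finrank (K := K) (V := F)
    rw [Nat.card_eq_fintype_card]
    rw [hpow]
    apply Nat.pow_le_pow_right Fintype.card_pos
    by_contra hlt
    push Not at hlt
    apply hK
    have hcard : Fintype.card F ≤ Fintype.card K := by
      rw [hpow]
      calc Fintype.card K ^ Module.finrank K F ≤ Fintype.card K ^ 1 :=
            Nat.pow_le_pow_right Fintype.card_pos (by omega)
        _ = Fintype.card K := pow_one _
    rw [eq_top_iff]
    intro x _
    have hbij : Function.Bijective (fun y : K => (y : F)) :=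
      Function.Injective.bijective_of_nat_card_le Subtype.val_injective
        (by rw [Nat.card_eq_fintype_card, Nat.card_eq_fintype_card]; exact hcard)
    obtain ⟨y, rfl⟩ := hbij.2 x
    exact y.2
  have hq4 : 4 ≤ Fintype.card F := by nlinarith
  have hne : Gs K h s hs ≠ ⊤ := by
    intro htop
    have h1 := card_Gs_le (K := K) h s hs
    rw [htop, Subgroup.card_top, Cfsg.Agent.Lib.Helper12.SL2.card_SL2] at h1
    have h3 : 2 * Nat.card K ^ 4 + Fintype.card F < Fintype.card F ^ 3 := by
      have e1 : Nat.card K ^ 4 ≤ Fintype.card F ^ 2 := by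
        calc Nat.card K ^ 4 = (Nat.card K ^ 2) ^ 2 := by ring
          _ ≤ Fintype.card F ^ 2 := Nat.pow_le_pow_left hq 2
      nlinarith
    have h4 : Fintype.card F * (Fintype.card F ^ 2 - 1) = Fintype.card F ^ 3 - Fintype.card F := by
      rw [Nat.mul_sub, mul_one]; ring_nf
    rw [h4] at h1
    omega
  have hMG : Mh = Gs K h s hs := by
    rcases hcoat.le_iff.mp hle with h1 | h1
    · exact absurd h1 hne
    · exact h1.symm
  obtain ⟨n, hnA, hnn, hn0⟩ := exists_nilpotent (K := K) h h2 x₁ x₂ hx₁ hx₂ hx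
  have hrange : (uni K n hnn hn0).range ≤ Gs K h s hs := by
    rintro _ ⟨c, rfl⟩
    left
    show InA K i j ((1 : M2) + ((Multiplicative.toAdd c : K) : F) • n)
    exact inA_add inA_one (inA_smul (Multiplicative.toAdd c : K).2 hnA)
  have hcard : Nat.card (uni K n hnn hn0).range = Nat.card K := by
    rw [← Nat.card_congr (MonoidHom.ofInjective (uni_injective n hnn hn0)).toEquiv]
    rfl
  rw [hMG, ← hcard]
  exact Subgroup.card_dvd_of_le hrange

end Cfsg.Agent.Lib.Helper12.DkQ
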