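import Cfsg.Agent.Lib.Helper12.DkP11

/-!
Maximal subgroups of `PGL₂(F)` meet `PSL₂(F)` maximally: general tools (helper12).
-/

set_option autoImplicit false

namespace Cfsg.Agent.Lib.Helper12.DkR

open Cfsg.Agent.Lib.Lead.DicksonSL2 Cfsg.Agent.Lib.Helper12.SL2 Cfsg.Agent.Lib.Helper12.DkP

variable {F : Type*} [Field F]

local notation "SL2" => Matrix.SpecialLinearGroup (Fin 2)
local notation "M2" => Matrix (Fin 2) (Fin 2)
local notation "GL2" => Matrix.GeneralLinearGroup (Fin 2)
local notation "PSL2" => Matrix.ProjectiveSpecialLinearGroup (Fin 2)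
local notation "PGL2" => Matrix.ProjGenLinGroup (Fin 2)
local notation "π" => QuotientGroup.mk' (Subgroup.center (Matrix.SpecialLinearGroup (Fin 2) F))

theorem isCoatom_of_comap {G H : Type*} [Group G] [Group H] (f : G →* H)
    (hf : Function.Surjective f) (X : Subgroup H) (h : IsCoatom (X.comap f)) : IsCoatom X := by
  refine ⟨?_, fun Y hY => ?_⟩
  · rintro rfl
    exact h.1 (Subgroup.comap_top f)
  · have h1 : X.comap f < Y.comap f := (Subgroup.comap_lt_comap_of_surjective hf).mpr hY
    have h2 := h.2 _ h1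
    rw [← Subgroup.comap_top f] at h2
    exact Subgroup.comap_injective hf h2

/-- conjugation by `m ∈ GL₂(F)` as an automorphism of `SL₂(F)` -/
def cjE (m : GL2 F) : SL2 F ≃* SL2 F where
  toFun := cj m
  invFun := cj m⁻¹
  left_inv := cj_inv_cj m
  right_inv := cj_cj_inv m
  map_mul' := map_mul (cj m)

variable {M : Subgroup (PGL2 F)}

theorem coS_conj (m0 : GL2 F) :
    IsCoatom (Hh (conjM (Matrix.ProjGenLinGroup.mk m0) M)) ↔ IsCoatom (Hh M) := by
  rw [Hh_conjM]
  exact Subgroup.isCoatom_comap (cjE m0)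

theorem comap_map_Hh : ((Hh M).map π).comap π = Hh M := by
  rw [Subgroup.comap_map_eq, QuotientGroup.ker_mk']
  exact sup_eq_left.mpr center_le_Hh

theorem coS_of_coP (h : IsCoatom ((Hh M).map π)) : IsCoatom (Hh M) := by
  have := Subgroup.isCoatom_comap_of_surjective (QuotientGroup.mk'_surjective _) h
  rwa [comap_map_Hh] at this

theorem coS_of_le (hML : ¬ (tP F).range ≤ M) (C : Subgroup (PSL2 F)) (hC : IsCoatom C)
    (hle : C ≤ (Hh M).map π) : IsCoatom (Hh M) := by
  apply coS_of_coP
  rcases hC.le_iff.mp hle with h | h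
  · exfalso
    apply Hh_ne_top hML
    rw [← comap_map_Hh (M := M), h, Subgroup.comap_top]
  · rw [h]; exact hC

/-- the Borel subgroup is maximal -/
theorem bor_coatom : IsCoatom (Cfsg.Agent.Lib.Helper1.DkOrders.Bor F) := by
  refine ⟨?_, fun X hX => ?_⟩
  · intro h
    have : lo (1 : F) ∈ Cfsg.Agent.Lib.Helper1.DkOrders.Bor F := by rw [h]; trivial
    rw [Cfsg.Agent.Lib.Helper1.DkOrders.mem_Bor] at this
    simp [lo] at this
  · obtain ⟨g, hgX, hgB⟩ := SetLike.exists_of_lt hX
    rw [Cfsg.Agent.Lib.Helper1.DkOrders.mem_Bor] at hgB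
    have hup : ∀ b, up b ∈ X := fun b => hX.le (by
      rw [Cfsg.Agent.Lib.Helper1.DkOrders.mem_Bor]; simp [up])
    have hd := det_eq g
    obtain ⟨c, hc⟩ : ∃ c, c = g 1 0 := ⟨_, rfl⟩
    rw [← hc] at hgB hd
    obtain ⟨w, hw⟩ : ∃ w : SL2 F, w = mk 0 (-1 / c) c 0 (by field_simp; ring) := ⟨_, rfl⟩
    have hwX : w ∈ X := by
      have : w = up (-(g 0 0) / c) * g * up (-(g 1 1) / c) := by
        rw [hw]
        apply ext4
        · simp only [mul_apply', up, mk_00, mk_01, mk_10, mk_11, ← hc]
          field_simp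
          ring
        · simp only [mul_apply', up, mk_00, mk_01, mk_10, mk_11, ← hc]
          field_simp
          linear_combination (1 : F) * hd
        · simp only [mul_apply', up, mk_00, mk_01, mk_10, mk_11, ← hc]
          ring
        · simp only [mul_apply', up, mk_00, mk_01, mk_10, mk_11, ← hc]
          field_simp
          ring
      rw [this]
      exact X.mul_mem (X.mul_mem (hup _) hgX) (hup _)
    apply eq_top_of_up_lo X hup
    intro t
    have : lo t = w * up (-t / c ^ 2) * w⁻¹ := by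
      rw [hw]
      apply ext4
      · rw [mul_apply', Cfsg.Agent.Lib.Helper12.SL2.inv_00, Cfsg.Agent.Lib.Helper12.SL2.inv_10]
        simp only [mul_apply', up, lo, mk_00, mk_01, mk_10, mk_11]
        field_simp
        ring
      · rw [mul_apply', Cfsg.Agent.Lib.Helper12.SL2.inv_01, Cfsg.Agent.Lib.Helper12.SL2.inv_11]
        simp only [mul_apply', up, lo, mk_00, mk_01, mk_10, mk_11]
        ring
      · rw [mul_apply', Cfsg.Agent.Lib.Helper12.SL2.inv_00, Cfsg.Agent.Lib.Helper12.SL2.inv_10]
        simp only [mul_apply', up, lo, mk_00, mk_01, mk_10, mk_11]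
        field_simp
        ring
      · rw [mul_apply', Cfsg.Agent.Lib.Helper12.SL2.inv_01, Cfsg.Agent.Lib.Helper12.SL2.inv_11]
        simp only [mul_apply', up, lo, mk_00, mk_01, mk_10, mk_11]
        field_simp
        ring
    rw [this]
    exact X.mul_mem (X.mul_mem hwX (hup _)) (X.inv_mem hwX)

/-- from maximality of the preimage in `SL₂(F)` to the statement's form -/
theorem goal_of_coS (h : IsCoatom (Hh M)) :
    IsCoatom ((M ⊓ (tP F).range).subgroupOf (tP F).range) := by
  apply isCoatom_of_comap (tP F).rangeRestrict (tP F).rangeRestrict_surjective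
  convert h using 1
  ext x
  rw [Subgroup.mem_comap, Subgroup.mem_subgroupOf, Subgroup.mem_inf, mem_Hh]
  constructor
  · intro hx
    exact hx.1
  · intro hx
    exact ⟨hx, ⟨x, rfl⟩⟩

/-- for even `q`, `SL₂(F) → PGL₂(F)` is onto -/
theorem tP_surjective_of_even [Fintype F] (heven : ¬ Odd (Fintype.card F)) :
    Function.Surjective (tP F) := by
  have key := Cfsg.Agent.Lib.Helper29.pgl_mod_psl (F := F) rfl 2 (by norm_num)
  have hg : Nat.gcd 2 (Fintype.card F - 1) = 1 := by
    have hq : 2 ≤ Fintype.card F := Fintype.one_lt_card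
    have he : Even (Fintype.card F) := Nat.not_odd_iff_even.mp heven
    obtain ⟨m, hm⟩ := he
    have : Fintype.card F - 1 = 2 * (m - 1) + 1 := by omega
    rw [this]
    simp
  rw [hg] at key
  obtain ⟨g, -, hg2⟩ := key
  have htop : g.ker = ⊤ := by
    rw [eq_top_iff]
    intro x _
    rw [MonoidHom.mem_ker]
    exact Subsingleton.elim (α := ZMod 1) _ _
  rw [← MonoidHom.range_eq_top, range_tP_eq, ← hg2, htop]

theorem even_case [Fintype F] (heven : ¬ Odd (Fintype.card F)) (hM : IsCoatom M) :
    IsCoatom (Hh M) :=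
  Subgroup.isCoatom_comap_of_surjective (tP_surjective_of_even heven) hM

end Cfsg.Agent.Lib.Helper12.DkR
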