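import Cfsg.Agent.Lib.Helper12.DkT
import Cfsg.Agent.S0799

/-!
Normalizers of maximal tori of `SL₂(F)` are dihedral modulo scalars, in every characteristic
(helper12); existence of dihedral subgroups of order `2(q ± 1)/d` in `PSL₂(F)`.
-/

set_option autoImplicit false

namespace Cfsg.Agent.Lib.Helper12.DkU

open Cfsg.Agent.Lib.Helper12.SL2 Cfsg.Agent.Lib.Lead.DicksonCA Cfsg.Agent.Lib.Lead.DicksonSL2
  Cfsg.Agent.Lib.Lead.SL2Scalar Cfsg.Agent.Lib.Helper12.DkT

variable {F : Type*} [Field F]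

local notation "SL2" => Matrix.SpecialLinearGroup (Fin 2)
local notation "M2" => Matrix (Fin 2) (Fin 2)
local notation "PSL2" => Matrix.ProjectiveSpecialLinearGroup (Fin 2)

/-- an inverting element normalizes the centralizer -/
theorem mem_normalizer_of_inverting {G : Type*} [Group G] (y w : G) (h : w * y * w⁻¹ = y⁻¹) :
    w ∈ Subgroup.normalizer ((Subgroup.centralizer ({y} : Set G) : Subgroup G) : Set G) := by
  rw [Subgroup.mem_normalizer_iff]
  intro x
  rw [Subgroup.mem_centralizer_singleton_iff, Subgroup.mem_centralizer_singleton_iff]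
  have key : Commute x y ↔ Commute (w * x * w⁻¹) y := by
    rw [← Commute.conj_iff w, h, Commute.inv_right_iff]
  exact key

theorem gcd_dvd_add_one (q : ℕ) (hq : 1 ≤ q) : Nat.gcd 2 (q - 1) ∣ q + 1 := by
  have h1 : Nat.gcd 2 (q - 1) ∣ q - 1 := Nat.gcd_dvd_right _ _
  have h2 : Nat.gcd 2 (q - 1) ∣ 2 := Nat.gcd_dvd_left _ _
  have : q + 1 = (q - 1) + 2 := by omega
  rw [this]
  exact dvd_add h1 h2

/-- the normalizer of a maximal torus is dihedral modulo scalars -/
theorem normalizer_dihedral [Fintype F] (Y : SL2 F) (hNS : NonScalar Y) (hΔ : tr Y ^ 2 ≠ 4)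
    (hY2 : Y * Y ≠ 1) {a : ℕ}
    (hcard : Nat.card (Tor Y) = Nat.gcd 2 (Fintype.card F - 1) * a) :
    Nonempty (↥((NTor Y).map (QuotientGroup.mk' (Subgroup.center (SL2 F)))) ≃*
      DihedralGroup a) := by
  classical
  haveI : Finite (SL2 F) := inferInstance
  obtain ⟨H, hH⟩ : ∃ H : Subgroup (SL2 F), H = NTor Y := ⟨_, rfl⟩
  have hTH : Tor Y ≤ H := by rw [hH]; exact Subgroup.le_normalizer
  have hYT : Y ∈ Tor Y := by rw [Subgroup.mem_centralizer_singleton_iff]
  have hZ : Subgroup.center (SL2 F) ≤ H := by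
    intro z hz
    apply hTH
    rw [Subgroup.mem_centralizer_singleton_iff]
    exact (Subgroup.mem_center_iff.mp hz Y).symm
  have hz := Cfsg.Agent.S0799.card_ZH_of_center_le hZ
  set g : H := ⟨Y, hTH hYT⟩ with hg
  have hgZ : g ∉ ZH H := by
    intro hmem
    have hc : Y ∈ Subgroup.center (SL2 F) :=
      (Cfsg.Agent.Lib.Helper12.DkG.mem_center_iff' Y).mpr hmem
    exact (nonScalar_iff Y).mp hNS hc
  have hCeq : C g = (Tor Y).subgroupOf H := by
    ext x
    rw [mem_C, Subgroup.mem_subgroupOf, Subgroup.mem_centralizer_singleton_iff]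
    constructor
    · intro h
      have := congrArg (fun t : H => (t : SL2 F)) h
      simpa using this
    · intro h
      apply Subtype.ext
      simpa using h
  have hCcard : Nat.card (C g) = Nat.card (Tor Y) := by
    rw [hCeq]
    exact Nat.card_congr (Subgroup.subgroupOfEquivOfLe hTH).toEquiv
  have hΔ' : tr ((g : H) : SL2 F) ^ 2 ≠ 4 := hΔ
  obtain ⟨hcyc, -⟩ := Cfsg.Agent.Lib.Helper12.DkG.torus_in hgZ hΔ'
  -- the normalizer of `C g` in `H` is everything
  have hNtop : Subgroup.normalizer ((C g : Subgroup H) : Set H) = ⊤ := by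
    rw [hCeq]
    subst hH
    exact Subgroup.normalizer_eq_top_iff.mpr Subgroup.normal_in_normalizer
  have hcases := Cfsg.Agent.Lib.Helper12.DkE.card_normalizer_C' hgZ hΔ'
  rw [hNtop, Subgroup.card_top] at hcases
  -- an inverting element
  obtain ⟨w, hw⟩ := exists_inverting' Y hΔ
  have hwH : w ∈ H := by rw [hH]; exact mem_normalizer_of_inverting Y w hw
  have hwT : w ∉ Tor Y := by
    intro hwt
    rw [Subgroup.mem_centralizer_singleton_iff] at hwt
    apply hY2
    have e : w * Y * w⁻¹ = Y := by rw [hwt]; group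
    rw [e] at hw
    calc Y * Y = Y * Y⁻¹ := by rw [← hw]
      _ = 1 := mul_inv_cancel Y
  have hG : Nat.card H = 2 * Nat.card (C g) := by
    rcases hcases with h | h
    · exfalso
      have htop : C g = ⊤ := (Subgroup.card_eq_iff_eq_top _).mp h.symm
      have : (⟨w, hwH⟩ : H) ∈ C g := by rw [htop]; exact Subgroup.mem_top _
      rw [hCeq, Subgroup.mem_subgroupOf] at this
      exact hwT this
    · exact h
  have hc : Nat.card (C g) = Nat.gcd 2 (Fintype.card F - 1) * a := by rw [hCcard, hcard]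
  obtain ⟨e1⟩ := Cfsg.Agent.Lib.Helper12.DkC.iso_dihedral_ca isCA hz hgZ hc hG hcyc
  obtain ⟨e2⟩ := Cfsg.Agent.Lib.Helper12.DkG.quot_equiv H
  rw [← hH]
  exact ⟨e2.symm.trans e1⟩

/-- a dihedral subgroup of order `2(q + 1)/d` in `PSL₂(F)`: the normalizer of a non-split torus -/
theorem exists_dihedral_plus [Fintype F] :
    ∃ D : Subgroup (PSL2 F), Nonempty (D ≃*
      DihedralGroup ((Fintype.card F + 1) / Nat.gcd 2 (Fintype.card F - 1))) := by
  classical
  obtain ⟨Y, hord, hT, hNS, -⟩ := exists_nonsplit' (F := F)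
  have hq : 2 ≤ Fintype.card F := Fintype.one_lt_card
  obtain ⟨p, hp⟩ := CharP.exists F
  haveI : Fact p.Prime := ⟨CharP.char_is_prime F p⟩
  haveI : Finite (SL2 F) := inferInstance
  have hΔ : tr Y ^ 2 ≠ 4 := by
    obtain ⟨H, hH⟩ : ∃ H : Subgroup (SL2 F), H = Subgroup.zpowers Y := ⟨_, rfl⟩
    have hYH : Y ∈ H := by rw [hH]; exact Subgroup.mem_zpowers Y
    have hgZ : (⟨Y, hYH⟩ : H) ∉ ZH H := by
      intro hmem
      have hc : Y ∈ Subgroup.center (SL2 F) :=
        (Cfsg.Agent.Lib.Helper12.DkG.mem_center_iff' Y).mpr hmem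
      exact (nonScalar_iff Y).mp hNS hc
    have hnd : ¬ p ∣ Nat.card (C (⟨Y, hYH⟩ : H)) := by
      intro hd
      have h1 : Nat.card (C (⟨Y, hYH⟩ : H)) ∣ Nat.card H := Subgroup.card_subgroup_dvd_card _
      have h2 : Nat.card H = Fintype.card F + 1 := by rw [hH, Nat.card_zpowers, hord]
      rw [h2] at h1
      have h3 : p ∣ Fintype.card F + 1 := dvd_trans hd h1
      have h4 : p ∣ Fintype.card F :=
        (CharP.cast_eq_zero_iff F p (Fintype.card F)).mp (Nat.cast_card_eq_zero F)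
      have h5 : p ∣ 1 := (Nat.dvd_add_right h4).mp h3
      exact (Fact.out : p.Prime).one_lt.ne' (Nat.dvd_one.mp h5)
    exact Cfsg.Agent.Lib.Helper12.DkE.disc_of_not_dvd p hgZ hnd
  have hY2 : Y * Y ≠ 1 := by
    intro h
    rw [← pow_two] at h
    have h1 := orderOf_dvd_of_pow_eq_one h
    rw [hord] at h1
    have := Nat.le_of_dvd (by norm_num) h1
    omega
  have hcard : Nat.card (Tor Y) = Nat.gcd 2 (Fintype.card F - 1) *
      ((Fintype.card F + 1) / Nat.gcd 2 (Fintype.card F - 1)) := by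
    rw [hT, Nat.card_zpowers, hord, Nat.mul_div_cancel' (gcd_dvd_add_one _ (by omega))]
  exact ⟨_, normalizer_dihedral Y hNS hΔ hY2 hcard⟩

/-- a dihedral subgroup of order `2(q - 1)/d` in `PSL₂(F)`, `q ≥ 4`: the normalizer of the split
torus -/
theorem exists_dihedral_minus [Fintype F] (hq : 4 ≤ Fintype.card F) :
    ∃ D : Subgroup (PSL2 F), Nonempty (D ≃*
      DihedralGroup ((Fintype.card F - 1) / Nat.gcd 2 (Fintype.card F - 1))) := by
  classical
  obtain ⟨ξ, hξ⟩ := IsCyclic.exists_ofOrder_eq_natCard (α := Fˣ)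
  rw [Nat.card_units, Nat.card_eq_fintype_card] at hξ
  have ha : (ξ : F) ≠ 0 := ξ.ne_zero
  have hda : (ξ : F) ^ 2 ≠ 1 := by
    intro h
    have h1 : ξ ^ 2 = 1 := by
      apply Units.ext
      rw [Units.val_pow_eq_pow_val, h, Units.val_one]
    have h2 := orderOf_dvd_of_pow_eq_one h1
    rw [hξ] at h2
    have := Nat.le_of_dvd (by norm_num) h2
    omega
  set Y : SL2 F := dg (ξ : F) ha with hY
  have h01 : Y 0 1 = 0 := by simp [hY, dg]
  have h10 : Y 1 0 = 0 := by simp [hY, dg]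
  have h00 : Y 0 0 = (ξ : F) := by simp [hY, dg]
  have hda' : Y 0 0 ^ 2 ≠ 1 := by rw [h00]; exact hda
  have hΔ : tr Y ^ 2 ≠ 4 := tr_sq_ne_four_of_diag Y h01 hda'
  have hNS : NonScalar Y := nonScalar_of_tr Y hΔ
  have hY2 : Y * Y ≠ 1 := by
    intro h
    have := congrArg (fun g : SL2 F => g 0 0) h
    simp only [mul_apply', h01, h00, zero_mul, add_zero] at this
    apply hda
    rw [pow_two]
    simpa using this
  have hcard : Nat.card (Tor Y) = Nat.gcd 2 (Fintype.card F - 1) *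
      ((Fintype.card F - 1) / Nat.gcd 2 (Fintype.card F - 1)) := by
    rw [card_Tor_diag Y h01 h10 hda', Nat.mul_div_cancel' (Nat.gcd_dvd_right _ _)]
  exact ⟨_, normalizer_dihedral Y hNS hΔ hY2 hcard⟩

end Cfsg.Agent.Lib.Helper12.DkU
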