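import Cfsg.Agent.Lib.Helper12.DkR0
import Cfsg.Agent.Lib.Helper12.DkU
import Cfsg.Agent.Lib.Lead.DkCoatom

/-!
Maximal subgroups of `PGL₂(F)` meet `PSL₂(F)` maximally: the Borel and torus cases (helper12).
-/

set_option autoImplicit false

namespace Cfsg.Agent.Lib.Helper12.DkR

open Cfsg.Agent.Lib.Lead.DicksonSL2 Cfsg.Agent.Lib.Helper12.SL2 Cfsg.Agent.Lib.Helper12.DkP

variable {F : Type*} [Field F]

local notation "SL2" => Matrix.SpecialLinearGroup (Fin 2)
local notation "M2" => Matrix (Fin 2) (Fin 2)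
local notation "GL2" => Matrix.GeneralLinearGroup (Fin 2)
local notation "PSL2" => Matrix.ProjectiveSpecialLinearGroup (Fin 2)
local notation "PGL2" => Matrix.ProjGenLinGroup (Fin 2)
local notation "π" => QuotientGroup.mk' (Subgroup.center (Matrix.SpecialLinearGroup (Fin 2) F))

variable {M : Subgroup (PGL2 F)}

/-- the Borel case in standard position -/
theorem borel_std' [Fintype F] (hodd : Odd (Fintype.card F)) (h4 : 4 ≤ Fintype.card F)
    (hM : IsCoatom M) (hML : ¬ (tP F).range ≤ M)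
    (hle : Hh M ≤ Cfsg.Agent.Lib.Helper1.DkOrders.Bor F) {u : SL2 F} (hu : u ∈ Hh M)
    (hu1 : u ≠ 1) (htr : u 0 0 + u 1 1 = 2) : IsCoatom (Hh M) := by
  have hc := borel_std hodd h4 hM hML hle hu hu1 htr
  rw [card_M hodd hM hML] at hc
  have : Hh M = Cfsg.Agent.Lib.Helper1.DkOrders.Bor F :=
    Subgroup.eq_of_le_of_card_ge hle (by
      rw [hc, Cfsg.Agent.Lib.Helper1.DkOrders.card_Bor, mul_comm])
  rw [this]
  exact bor_coatom

/-- the Borel case -/
theorem borel_case' [Fintype F] (p : ℕ) [Fact p.Prime] [CharP F p] (hodd : Odd (Fintype.card F))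
    (h4 : 4 ≤ Fintype.card F) (hM : IsCoatom M) (hML : ¬ (tP F).range ≤ M)
    (hd : p ∣ Nat.card (Hh M)) (hS : Subsingleton (Sylow p (Hh M))) :
    IsCoatom (Hh M) := by
  classical
  obtain ⟨v, hv, hfix⟩ := Cfsg.Agent.Lib.Helper12.DkH.T3 p hd hS
  obtain ⟨k, hk⟩ := exists_smul_e1 hv
  obtain ⟨M', hM'⟩ : ∃ M' : Subgroup (PGL2 F),
    M' = conjM (Matrix.ProjGenLinGroup.mk (Matrix.SpecialLinearGroup.toGL k)) M := ⟨_, rfl⟩
  have hmem : ∀ x : SL2 F, x ∈ Hh M' ↔ k * x * k⁻¹ ∈ Hh M := by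
    intro x
    rw [hM', Hh_conjM, Subgroup.mem_comap, cj_toGL]
  have hle : Hh M' ≤ Cfsg.Agent.Lib.Helper1.DkOrders.Bor F := by
    intro g hg
    rw [hmem] at hg
    obtain ⟨c, hc⟩ := hfix _ hg
    rw [Cfsg.Agent.Lib.Helper1.DkOrders.mem_Bor]
    have e : g • (![1, 0] : Fin 2 → F) = c • ![1, 0] := by
      have h3 : k⁻¹ • v = ![1, 0] := by rw [← hk, inv_smul_smul]
      have h4 := congrArg (fun w => k⁻¹ • w) hc
      simp only [mul_smul, inv_smul_smul, smul_comm _ c, h3] at h4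
      exact h4
    have := congrFun e 1
    rw [Cfsg.Agent.Lib.Helper12.SL2.smul_apply] at this
    simpa using this
  -- an element of order `p`
  obtain ⟨u0, hu0⟩ := exists_prime_orderOf_dvd_card' (G := Hh M) p hd
  have hu0' : orderOf (u0 : SL2 F) = p := by rw [Subgroup.orderOf_coe]; exact hu0
  obtain ⟨u, hu⟩ : ∃ u : SL2 F, u = k⁻¹ * (u0 : SL2 F) * k := ⟨_, rfl⟩
  have huM : u ∈ Hh M' := by
    rw [hmem, hu]
    have : k * (k⁻¹ * (u0 : SL2 F) * k) * k⁻¹ = (u0 : SL2 F) := by group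
    rw [this]
    exact u0.2
  have hord : orderOf u = p := by
    rw [hu, ← hu0']
    have hs : SemiconjBy k⁻¹ (u0 : SL2 F) (k⁻¹ * (u0 : SL2 F) * k) := by
      show k⁻¹ * (u0 : SL2 F) = k⁻¹ * (u0 : SL2 F) * k * k⁻¹
      group
    exact (SemiconjBy.orderOf_eq _ hs).symm
  have hu1 : u ≠ 1 := by
    intro h
    rw [h, orderOf_one] at hord
    exact (Fact.out : p.Prime).one_lt.ne hord
  have htr : u 0 0 + u 1 1 = 2 := by
    have hT : IsPGroup p (Subgroup.zpowers u) := by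
      apply IsPGroup.of_card (n := 1)
      rw [Nat.card_zpowers, hord, pow_one]
    obtain ⟨w, hw, hfw⟩ := exists_fixed_vector _ hT
    exact trace_eq_two_of_fix u w hw (hfw u (Subgroup.mem_zpowers u))
  have hMc : IsCoatom M' := by rw [hM']; exact conjM_coatom _ hM
  have hMLc : ¬ (tP F).range ≤ M' := by rw [hM']; exact conjM_not_le hodd _ hML
  have := borel_std' hodd h4 hMc hMLc hle huM hu1 htr
  rw [hM'] at this
  exact (coS_conj _).mp this

/-- the torus case -/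
theorem torus_case' [Fintype F] (hodd : Odd (Fintype.card F)) (h4 : 4 ≤ Fintype.card F)
    (h7 : Fintype.card F ≠ 7) (h9 : Fintype.card F ≠ 9) (h11 : Fintype.card F ≠ 11)
    (hM : IsCoatom M) (hML : ¬ (tP F).range ≤ M) (g : SL2 F) (hΔ : tr g ^ 2 ≠ 4)
    (hle : Hh M ≤ NTor g) (h0 : SL2 F) (hh0 : h0 ∈ Hh M) (h04 : h0 ^ 4 ≠ 1) :
    IsCoatom (Hh M) := by
  classical
  have h2 : (2 : F) ≠ 0 := Cfsg.Agent.S2428.two_ne_zero_of_odd hodd
  have hNS := nonScalar_of_tr g hΔ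
  obtain ⟨hHeq, -⟩ := torus_inv hodd h4 hM g hΔ hle h0 hh0 h04
  have hginv : g ≠ g⁻¹ := ne_inv_of_tr h2 g hΔ
  have hY2 : g * g ≠ 1 := fun h => hginv (eq_inv_of_mul_eq_one_left h)
  have hh0T : h0 ∈ Tor g := by
    by_contra hT
    exact h04 (pow_four_of_sq h0 (sq_of_not_mem h2 g hΔ h0 (hle hh0) hT))
  have hgcd := gcd_two_of_odd hodd
  have hoddq : Fintype.card F % 2 = 1 := Nat.odd_iff.mp hodd
  apply coS_of_coP
  rw [hHeq]
  rcases Cfsg.Agent.Lib.Helper12.DkV.card_Tor_exact g hNS hΔ with hT | hT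
  · have h5 : Fintype.card F ≠ 5 := by
      intro h5
      apply h04
      have hc4 : Nat.card (Tor g) = 4 := by rw [hT, h5]
      have := pow_card_eq_one' (G := Tor g) (x := ⟨h0, hh0T⟩)
      rw [hc4] at this
      have := congrArg Subtype.val this
      simpa using this
    have hcard : Nat.card (Tor g) = Nat.gcd 2 (Fintype.card F - 1) *
        ((Fintype.card F - 1) / Nat.gcd 2 (Fintype.card F - 1)) := by
      rw [hT]
      exact (Nat.mul_div_cancel' (Nat.gcd_dvd_right _ _)).symm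
    have hD := Cfsg.Agent.Lib.Helper12.DkU.normalizer_dihedral g hNS hΔ hY2 hcard
    refine Cfsg.Agent.Lib.Lead.DkCoatom.coatom_of_dihedral_minus rfl ?_ _ hD
    simp only [Finset.mem_insert, Finset.mem_singleton, not_or]
    omega
  · have hcard : Nat.card (Tor g) = Nat.gcd 2 (Fintype.card F - 1) *
        ((Fintype.card F + 1) / Nat.gcd 2 (Fintype.card F - 1)) := by
      rw [hT]
      exact (Nat.mul_div_cancel'
        (Cfsg.Agent.Lib.Helper12.DkU.gcd_dvd_add_one _ (by omega))).symm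
    have hD := Cfsg.Agent.Lib.Helper12.DkU.normalizer_dihedral g hNS hΔ hY2 hcard
    refine Cfsg.Agent.Lib.Lead.DkCoatom.coatom_of_dihedral_plus rfl ?_ _ hD
    simp only [Finset.mem_insert, Finset.mem_singleton, not_or]
    omega

end Cfsg.Agent.Lib.Helper12.DkR
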