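import Cfsg.Agent.Lib.Helper12.DkR1
import Cfsg.Agent.Lib.Helper14.DkSub4
import Cfsg.Agent.S5940

/-!
Maximal subgroups of `PGL₂(F)` meet `PSL₂(F)` maximally: the subfield and `A₄` cases (helper12).
-/

set_option autoImplicit false
set_option maxHeartbeats 1000000

namespace Cfsg.Agent.Lib.Helper12.DkR

open Cfsg.Agent.Lib.Lead.DicksonSL2 Cfsg.Agent.Lib.Helper12.SL2 Cfsg.Agent.Lib.Helper12.DkP
  Cfsg.Agent.Lib.Lead.DicksonField Cfsg.Agent.Lib.Helper9.SL2Upper Cfsg.Agent.Lib.Lead.DicksonBase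
  Cfsg.Agent.Lib.Helper16.DkMax

variable {F : Type*} [Field F]

local notation "SL2" => Matrix.SpecialLinearGroup (Fin 2)
local notation "M2" => Matrix (Fin 2) (Fin 2)
local notation "GL2" => Matrix.GeneralLinearGroup (Fin 2)
local notation "PSL2" => Matrix.ProjectiveSpecialLinearGroup (Fin 2)
local notation "PGL2" => Matrix.ProjGenLinGroup (Fin 2)
local notation "π" => QuotientGroup.mk' (Subgroup.center (Matrix.SpecialLinearGroup (Fin 2) F))

/-- a subgroup `A₄` of `PSL₂(p)`, `p ≡ ±3 (mod 8)`, `p ≢ ±1 (mod 10)`, is maximal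
(the proof of `S5940`) -/
theorem coatom_of_A4 [Fintype F] (p : ℕ) [Fact p.Prime] (hF : Fintype.card F = p) (h5 : 5 ≤ p)
    (h8 : p % 8 = 3 ∨ p % 8 = 5) (h10 : p % 10 ≠ 1 ∧ p % 10 ≠ 9)
    (H : Subgroup (PSL2 F)) (e : H ≃* alternatingGroup (Fin 4)) : IsCoatom H := by
  classical
  have : CharP F p := charP_of_card_eq_prime hF
  have hpp : p.Prime := Fact.out
  have hp2 : p ≠ 2 := by omega
  have hodd : Odd (Fintype.card F) := by rw [hF]; exact hpp.odd_of_ne_two hp2
  have hHpair : HasPair H :=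
    HasPair.of_injective e.symm.toMonoidHom e.symm.injective hasPair_A4
  have hHcard : Nat.card H = 12 := by rw [Nat.card_congr e.toEquiv, card_A4]
  have hG := two_mul_card_PSL2 (K := F) hodd
  rw [hF] at hG
  have hGbig : 120 ≤ p * (p ^ 2 - 1) := by
    have : 5 * (5 ^ 2 - 1) ≤ p * (p ^ 2 - 1) :=
      Nat.mul_le_mul h5 (Nat.sub_le_sub_right (Nat.pow_le_pow_left h5 2) 1)
    simpa using this
  refine ⟨?_, fun M hlt => ?_⟩
  · intro h
    have := (Subgroup.card_eq_iff_eq_top H).mpr h
    omega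
  · obtain ⟨hcl, hcd⟩ := card_lt_of_lt hlt
    rcases reduce p hp2 H M hlt.le hHpair (Cfsg.Agent.S0799.result hF p M) with
      ⟨⟨e'⟩⟩ | ⟨⟨e'⟩⟩ | ⟨⟨e'⟩⟩ | ⟨K, _, _, m, hKm, hiso⟩
    · rw [Nat.card_congr e'.toEquiv, card_A4] at hcl; omega
    · exfalso
      have hsq := (Cfsg.Agent.S0803.result hF).mp ⟨M, ⟨e'⟩⟩
      have h16 : p % 16 = 3 ∨ p % 16 = 5 ∨ p % 16 = 11 ∨ p % 16 = 13 := by omega
      rw [Nat.pow_mod] at hsq
      rcases h16 with h | h | h | h <;> rw [h] at hsq <;> exact absurd hsq (by decide)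
    · have h5d := (Cfsg.Agent.S0804.result hF).mp ⟨M, ⟨e'⟩⟩
      by_cases hp5 : p = 5
      · have hM : Nat.card M = 60 := by rw [Nat.card_congr e'.toEquiv, card_A5]
        have hG' : 2 * Nat.card (PSL2 F) = 120 := by rw [hG, hp5]; norm_num
        apply (Subgroup.card_eq_iff_eq_top M).mp
        omega
      · exfalso
        have hoddp : p % 2 = 1 := by
          rcases hpp.eq_two_or_odd with h' | h'
          · omega
          · exact h'
        have hne5 : p % 10 ≠ 5 := by
          intro h'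
          apply hp5
          have h5p : 5 ∣ p := by omega
          exact ((Nat.prime_dvd_prime_iff_eq Nat.prime_five hpp).mp h5p).symm
        exact Cfsg.Agent.S5940.not_five_dvd p (by omega) h5d
    · have hK : Fintype.card K = Fintype.card F := by
        rw [hF]; exact (hpp.pow_eq_iff.mp hKm).1
      rcases hiso with ⟨⟨e'⟩⟩ | ⟨⟨e'⟩⟩
      · exact eq_top_of_iso_PSL2 hodd hK M e'
      · exact (false_of_iso_PGL2 hodd hK M e').elim

variable {M : Subgroup (PGL2 F)}

/-- the subfield case -/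
theorem subfield_case' [Fintype F] (p : ℕ) [Fact p.Prime] [CharP F p]
    (hodd : Odd (Fintype.card F)) (hM : IsCoatom M)
    (hML : ¬ (tP F).range ≤ M) {b : F} (hb : b ≠ 0) (h1 : upper 1 ∈ Hh M)
    (hy : lower b ∈ Hh M) (hidx : (BH (Hh M)).index = Nat.card (PH (Hh M)) + 1) :
    IsCoatom (Hh M) := by
  classical
  have h2 : (2 : F) ≠ 0 := Cfsg.Agent.S2428.two_ne_zero_of_odd hodd
  obtain ⟨K0, -, hKl, hle, hdec⟩ :=
    Cfsg.Agent.Lib.Lead.DicksonField.structure_of_index' p hb h1 hy hidx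
  haveI : Finite K0 := Finite.of_injective (fun x : K0 => (x : F)) Subtype.val_injective
  letI : Fintype K0 := Fintype.ofFinite K0
  obtain ⟨K, instK, instFK, ⟨e⟩⟩ := Cfsg.Agent.Lib.Helper12.DkH.exists_type0 K0
  letI := instK
  letI := instFK
  have hc1 : Fintype.card K = Fintype.card K0 := Fintype.card_congr e.toEquiv
  obtain ⟨ι, hι⟩ : ∃ ι : K →+* F, ι = (K0.subtype).comp (e : K →+* K0) := ⟨_, rfl⟩
  have hrange : ∀ x : F, x ∈ K0 → ∃ c' : K, ι c' = x := by
    intro x hx
    refine ⟨e.symm ⟨x, hx⟩, ?_⟩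
    rw [hι, RingHom.comp_apply]
    simp
  have hK0top : K0 ≠ ⊤ := by
    intro h
    apply Hh_ne_top hML
    rw [eq_top_iff, ← Cfsg.Agent.Lib.Helper12.DkW.SLK_top, ← h]
    exact hle
  have hlt : Fintype.card K < Fintype.card F := by
    rw [hc1]; exact card_lt_of_ne_top K0 hK0top
  have hMle := le_range_of_subfield h2 K0 hKl h1 hdec ι hrange
  have hMeq : M = (Matrix.ProjGenLinGroup.map (n := Fin 2) ι).range := by
    rcases hM.le_iff.mp hMle with h | h
    · exact absurd h (range_pgl_map_ne_top ι hlt)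
    · exact h.symm
  have hpowq : Fintype.card F = Fintype.card K0 ^ Module.finrank K0 F :=
    Module.card_eq_pow_finrank (K := K0) (V := F)
  have hk2 : 2 ≤ Fintype.card K0 := Fintype.one_lt_card
  have hprime : Nat.Prime (Module.finrank K0 F) := by
    by_contra hnp
    obtain ⟨K1, h01, h1t⟩ := Cfsg.Agent.Lib.Helper12.DkN.exists_intermediate K0 hK0top hnp
    haveI : Finite K1 := Finite.of_injective (fun x : K1 => (x : F)) Subtype.val_injective
    letI : Fintype K1 := Fintype.ofFinite K1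
    have hMle1 := le_range_of_subfield h2 K0 hKl h1 hdec K1.subtype
      (fun c hc => ⟨⟨c, h01.le hc⟩, rfl⟩)
    have hlt1 : Fintype.card K1 < Fintype.card F := card_lt_of_ne_top K1 (ne_of_lt h1t)
    have hMeq1 : M = (Matrix.ProjGenLinGroup.map (n := Fin 2) K1.subtype).range := by
      rcases hM.le_iff.mp hMle1 with h | h
      · exact absurd h (range_pgl_map_ne_top _ hlt1)
      · exact h.symm
    have hc : Nat.card M = Fintype.card K * (Fintype.card K ^ 2 - 1) := by
      conv_lhs => rw [hMeq]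
      exact card_range_pgl_map ι
    have hc' : Nat.card M = Fintype.card K1 * (Fintype.card K1 ^ 2 - 1) := by
      conv_lhs => rw [hMeq1]
      exact card_range_pgl_map _
    have h01' : Fintype.card K0 < Fintype.card K1 := card_lt_of_lt' K0 K1 h01
    have := cube_strict hk2 h01'
    rw [hc1] at hc
    omega
  have hr2 : Module.finrank K0 F ≠ 2 := by
    intro h2r
    rw [h2r] at hpowq
    apply not_le_range hodd hM hML
    rw [hMeq]
    rintro _ ⟨x, rfl⟩
    induction x using Matrix.ProjGenLinGroup.induction_on with | mk g =>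
    rw [Matrix.ProjGenLinGroup.map_mk]
    have hdetK : ι ((g : M2 K).det) ∈ K0 := by
      rw [hι, RingHom.comp_apply]
      exact (e _).2
    have hdet0 : ι ((g : M2 K).det) ≠ 0 := by
      have h1 : IsUnit (g : M2 K).det := (Matrix.isUnit_iff_isUnit_det _).mp g.isUnit
      exact (map_ne_zero ι).mpr h1.ne_zero
    obtain ⟨d, hd⟩ := isSquare_of_mem h2 K0 hpowq hdetK hdet0
    apply mk_mem_range_tP _ d
    rw [← hd]
    have : ((Matrix.GeneralLinearGroup.map ι g : GL2 F) : M2 F) = (ι.mapMatrix (g : M2 K)) := rfl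
    rw [this, ← RingHom.map_det]
  -- the maximal subgroup `PSL₂(K)` of `PSL₂(F)`
  have hFK : Fintype.card F = Fintype.card K ^ Module.finrank K0 F := by rw [hc1]; exact hpowq
  have hKodd : Odd (Fintype.card K) := by
    by_contra hne
    have he : Even (Fintype.card K) := Nat.not_odd_iff_even.mp hne
    have : Even (Fintype.card F) := by
      rw [hFK]
      exact he.pow_of_ne_zero hprime.ne_zero
    exact (Nat.not_odd_iff_even.mpr this) hodd
  have hCco : IsCoatom (Cfsg.Agent.S0805.pslMap ι).range := by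
    by_cases h4K : 4 ≤ Fintype.card K
    · haveI : CharP K p := RingHom.charP ι ι.injective p
      exact Cfsg.Agent.Lib.Helper14.DkSub.subfield_coatom ι p _ hprime hFK h4K (fun _ => hr2)
        (fun X => Cfsg.Agent.S0799.result rfl p X)
    · have hK3 : Fintype.card K = 3 := by
        have : 2 ≤ Fintype.card K := Fintype.one_lt_card
        obtain ⟨c, hc⟩ := hKodd
        omega
      haveI : Fact (Nat.Prime 3) := ⟨Nat.prime_three⟩
      haveI : CharP K 3 := charP_of_card_eq_prime hK3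
      haveI : CharP F 3 := charP_of_injective_ringHom ι.injective 3
      exact Cfsg.Agent.Lib.Helper14.DkSub.subfield_coatom_three ι _ hprime hr2 hK3 hFK
        (fun X => Cfsg.Agent.S0799.result rfl 3 X)
  apply coS_of_le hML _ hCco
  rintro _ ⟨x, rfl⟩
  induction x using QuotientGroup.induction_on with | H s =>
  refine ⟨Matrix.SpecialLinearGroup.map ι s, ?_, rfl⟩
  show Matrix.SpecialLinearGroup.map ι s ∈ Hh M
  rw [mem_Hh, hMeq]
  refine ⟨Matrix.ProjGenLinGroup.mk (Matrix.SpecialLinearGroup.toGL s), ?_⟩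
  rw [Matrix.ProjGenLinGroup.map_mk]
  show _ = Matrix.ProjGenLinGroup.mk (Matrix.SpecialLinearGroup.toGL
    (Matrix.SpecialLinearGroup.map ι s))
  congr 1
  apply Units.ext
  rfl

end Cfsg.Agent.Lib.Helper12.DkR
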