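import Cfsg.Agent.Lib.Helper12.DkR2

/-!
Maximal subgroups of `PGL₂(F)` meet `PSL₂(F)` maximally: assembly (helper12).
-/

set_option autoImplicit false

namespace Cfsg.Agent.Lib.Helper12.DkR

open Cfsg.Agent.Lib.Helper12.SL2 Cfsg.Agent.Lib.Lead.DicksonCA Cfsg.Agent.Lib.Lead.DicksonSL2
  Cfsg.Agent.Lib.Lead.SL2Scalar Cfsg.Agent.Lib.Lead.DicksonStd Cfsg.Agent.Lib.Lead.DicksonField
  Cfsg.Agent.Lib.Helper9.SL2Upper Cfsg.Agent.Lib.Lead.DicksonBase
  Cfsg.Agent.Lib.Helper12.DkA Cfsg.Agent.Lib.Helper12.DkE Cfsg.Agent.Lib.Helper12.DkM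
  Cfsg.Agent.Lib.Helper12.DkN Cfsg.Agent.Lib.Helper12.DkW Cfsg.Agent.Lib.Helper12.DkX
  Cfsg.Agent.Lib.Helper12.DkY Cfsg.Agent.Lib.Helper12.DkG Cfsg.Agent.Lib.Helper12.DkZ
  Cfsg.Agent.Lib.Helper16.DkMax Cfsg.Agent.Lib.Helper12.DkP

variable {F : Type*} [Field F]

local notation "SL2" => Matrix.SpecialLinearGroup (Fin 2)
local notation "M2" => Matrix (Fin 2) (Fin 2)
local notation "GL2" => Matrix.GeneralLinearGroup (Fin 2)
local notation "PSL2" => Matrix.ProjectiveSpecialLinearGroup (Fin 2)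
local notation "PGL2" => Matrix.ProjGenLinGroup (Fin 2)
local notation "π" => QuotientGroup.mk' (Subgroup.center (Matrix.SpecialLinearGroup (Fin 2) F))

variable {M : Subgroup (PGL2 F)}

/-- the case `Hyp0` -/
theorem hyp0_R [Fintype F] (p : ℕ) [Fact p.Prime] [CharP F p] (hodd : Odd (Fintype.card F))
    (h3 : 3 < Fintype.card F)
    (h7 : Fintype.card F ≠ 7) (h9 : Fintype.card F ≠ 9) (h11 : Fintype.card F ≠ 11)
    (h40 : (Fintype.card F).Prime → Fintype.card F % 40 ∉ ({11, 19, 21, 29} : Finset ℕ))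
    (hM : IsCoatom M) (hML : ¬ (tP F).range ≤ M)
    (hyp0 : Hyp0 (ZH (Hh M)))
    (hss : ∀ g : Hh M, g ∉ ZH (Hh M) → (C g = ⊤ ∨ Nat.card (Hh M) = 2 * Nat.card (C g)) →
      tr ((g : Hh M) : SL2 F) ^ 2 ≠ 4)
    (hp3 : p ∣ Nat.card (Hh M) → p = 3 ∧ Nat.card (Hh M) ≠ 24 ∧ Nat.card (Hh M) ≠ 48) :
    IsCoatom (Hh M) := by
  classical
  have h2 : (2 : F) ≠ 0 := Cfsg.Agent.S2428.two_ne_zero_of_odd hodd
  have h4 : 4 ≤ Fintype.card F := h3
  have hp2 : p ≠ 2 := by
    rintro rfl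
    apply h2
    have := CharP.cast_eq_zero F 2
    exact_mod_cast this
  have hZ : Subgroup.center (SL2 F) ≤ Hh M := center_le_Hh
  have hcM := card_M hodd hM hML
  obtain ⟨qe⟩ := quot_equiv (Hh M)
  rcases hyp0_cases' hyp0 hss with hall | ⟨g, hg, hΔ, hle⟩ | ⟨⟨f⟩⟩ | ⟨⟨f⟩⟩ | ⟨⟨f⟩⟩
  · -- `H` is central
    exfalso
    have hall4 : ∀ h ∈ Hh M, h ^ 4 = 1 := by
      intro h hh
      have hc : h ∈ Subgroup.center (SL2 F) :=
        (Cfsg.Agent.Lib.Helper12.DkG.mem_center_iff' h).mpr (hall ⟨h, hh⟩)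
      by_contra h4'
      exact (nonScalar_iff h).mp (Cfsg.Agent.Lib.Helper12.DkP.nonScalar_of_pow_four h h4') hc
    have htop : ZH (Hh M) = ⊤ := by
      rw [eq_top_iff]
      intro x _
      exact hall x
    have hc := Cfsg.Agent.S0799.card_ZH_of_center_le hZ
    rw [htop, Subgroup.card_top, gcd_two_of_odd hodd] at hc
    exact small_case hodd h3 hM hML hall4 (by rw [hc]; norm_num)
  · -- torus case
    by_cases hex : ∃ h0 ∈ Hh M, h0 ^ 4 ≠ 1
    · obtain ⟨h0, hh0, h04⟩ := hex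
      exact torus_case' hodd h4 h7 h9 h11 hM hML _ hΔ hle h0 hh0 h04
    · exfalso
      push Not at hex
      exact small_case hodd h3 hM hML hex (card_le_eight h2 _ hΔ _ hle hex)
  · -- `A₄`
    have hcard : Nat.card (Hh M) = 24 := by
      rw [card_of_quot_iso hodd hZ f, Cfsg.Agent.Lib.Helper12.DkZ.card_A4]
    have hnd : ¬ p ∣ Nat.card (Hh M) := fun hd => (hp3 hd).2.1 hcard
    have hq := card_eq_of_A4_P p hodd h4 hM (qe.symm.trans f) hnd
    have h8 := mod8_of_A4 hodd h4 hM (qe.symm.trans f)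
    have hp3' : p ≠ 3 := by
      rintro rfl
      apply hnd
      rw [hcard]; norm_num
    have hpp : p.Prime := Fact.out
    rw [hq] at h8 h40
    have h40' := h40 hpp
    simp only [Finset.mem_insert, Finset.mem_singleton, not_or] at h40'
    have hp5 : 5 ≤ p := by
      have := hpp.two_le
      rw [hq] at h3
      omega
    apply coS_of_coP
    exact coatom_of_A4 p hq hp5 h8 (by omega) _ (qe.symm.trans f)
  · -- `S₄`
    exfalso
    have hcard : Nat.card (Hh M) = 48 := by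
      rw [card_of_quot_iso hodd hZ f, Cfsg.Agent.Lib.Helper12.DkZ.card_S4]
    have hpair := hasPair_of_iso (M := M) (qe.symm.trans f) hasPair_S4
    rcases exc_orders p hp2 hpair (Or.inr (Or.inl (by rw [hcM, hcard]))) with ⟨h, -⟩ | ⟨h, -⟩
    · rw [hcM, hcard] at h; omega
    · rw [hcM, hcard] at h; omega
  · -- `A₅`
    exfalso
    have hcard : Nat.card (Hh M) = 120 := by
      rw [card_of_quot_iso hodd hZ f, Cfsg.Agent.Lib.Helper12.DkZ.card_A5]
    have hp5 : p ≠ 5 := by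
      rintro rfl
      have : 5 ∣ Nat.card (Hh M) := by rw [hcard]; norm_num
      have := (hp3 this).1
      omega
    have hpair := hasPair_of_iso (M := M) (qe.symm.trans f) hasPair_A5
    rcases exc_orders p hp2 hpair (Or.inr (Or.inr (by rw [hcM, hcard]))) with ⟨h, -⟩ | ⟨-, h⟩
    · rw [hcM, hcard] at h; omega
    · exact hp5 h

/-- standard position -/
theorem std_R [Fintype F] (p : ℕ) [Fact p.Prime] [CharP F p] (hodd : Odd (Fintype.card F))
    (h3 : 3 < Fintype.card F)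
    (h7 : Fintype.card F ≠ 7) (h9 : Fintype.card F ≠ 9) (h11 : Fintype.card F ≠ 11)
    (h40 : (Fintype.card F).Prime → Fintype.card F % 40 ∉ ({11, 19, 21, 29} : Finset ℕ))
    (hM : IsCoatom M) (hML : ¬ (tP F).range ≤ M)
    {b : F} (hb : b ≠ 0) (h1 : (upper 1 : SL2 F) ∈ Hh M) (hy : (lower b : SL2 F) ∈ Hh M) :
    IsCoatom (Hh M) := by
  classical
  have h2 : (2 : F) ≠ 0 := Cfsg.Agent.S2428.two_ne_zero_of_odd hodd
  have hZ : Subgroup.center (SL2 F) ≤ Hh M := center_le_Hh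
  have hp2 : p ≠ 2 := by
    rintro rfl
    apply h2
    have := CharP.cast_eq_zero F 2
    exact_mod_cast this
  have hne : PH (Hh M) ≠ ⊥ := by
    intro hbot
    have hmem : (⟨upper 1, h1⟩ : Hh M) ∈ PH (Hh M) := mem_PH.mpr (upper_mem_Uni 1)
    rw [hbot, Subgroup.mem_bot] at hmem
    have h2 := congrArg (fun x : Hh M => ((x : SL2 F) : M2 F) 0 1) hmem
    simp at h2
  have hnB : ∃ y : Hh M, (y : SL2 F) ∉ Cfsg.Agent.Lib.Lead.DicksonSL2.Borel := by
    refine ⟨⟨lower b, hy⟩, ?_⟩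
    rw [mem_Borel]
    simpa using hb
  rcases hyp0_or_index'' p hne hnB with hidx | ⟨hQ, hyp0, hidx⟩
  · exact subfield_case' p hodd hM hML hb h1 hy hidx
  · have hss : ∀ g : Hh M, g ∉ ZH (Hh M) →
        (C g = ⊤ ∨ Nat.card (Hh M) = 2 * Nat.card (C g)) →
        tr ((g : Hh M) : SL2 F) ^ 2 ≠ 4 := by
      intro g hg hcase
      exact disc_of_not_dvd p hg (Cfsg.Agent.Lib.Helper12.DkH.not_dvd_of_case p hne hnB hg hcase)
    obtain ⟨k, hk⟩ := IsPGroup.iff_card.mp (PH_isPGroup (H := Hh M) p)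
    have hk0 : k ≠ 0 := by
      rintro rfl
      rw [pow_zero] at hk
      exact hne (Subgroup.card_eq_one.mp hk)
    have hple : p ≤ Nat.card (PH (Hh M)) := by
      rw [hk]
      exact Nat.le_self_pow hk0 p
    have hp3 : p = 3 := by
      have := (Fact.out : p.Prime).two_le
      omega
    have hQ3 : Nat.card (PH (Hh M)) = 3 := by omega
    apply hyp0_R p hodd h3 h7 h9 h11 h40 hM hML hyp0 hss
    intro _
    refine ⟨hp3, ?_, ?_⟩
    · intro h24
      apply hidx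
      rw [index_eq_four p hodd hZ hne hnB hQ3 hp3 (Or.inl h24), hQ3]
    · intro h48
      apply hidx
      rw [index_eq_four p hodd hZ hne hnB hQ3 hp3 (Or.inr h48), hQ3]

/-- odd `q`: the preimage in `SL₂(F)` of a maximal subgroup of `PGL₂(F)` not containing
`PSL₂(F)` is maximal -/
theorem main_odd [Fintype F] (hodd : Odd (Fintype.card F)) (h3 : 3 < Fintype.card F)
    (h7 : Fintype.card F ≠ 7) (h9 : Fintype.card F ≠ 9) (h11 : Fintype.card F ≠ 11)
    (h40 : (Fintype.card F).Prime → Fintype.card F % 40 ∉ ({11, 19, 21, 29} : Finset ℕ))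
    (M : Subgroup (PGL2 F)) (hM : IsCoatom M) (hML : ¬ (tP F).range ≤ M) :
    IsCoatom (Hh M) := by
  classical
  obtain ⟨p, hp⟩ := CharP.exists F
  haveI : Fact p.Prime := ⟨CharP.char_is_prime F p⟩
  have h4 : 4 ≤ Fintype.card F := h3
  by_cases hdvd : p ∣ Nat.card (Hh M)
  · by_cases hS : Subsingleton (Sylow p (Hh M))
    · exact borel_case' p hodd h4 hM hML hdvd hS
    · have hlt : 1 < Nat.card (Sylow p (Hh M)) := by
        rw [Finite.one_lt_card_iff_nontrivial]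
        exact not_subsingleton_iff_nontrivial.mp hS
      obtain ⟨Mm, Mi, hM1, hM2, b, hb, hu, hl⟩ := exists_std p (Hh M) hlt
      obtain ⟨m0, hm0⟩ : ∃ m0 : GL2 F, m0 = ⟨Mm, Mi, hM1, hM2⟩ := ⟨_, rfl⟩
      have hcj : ∀ x : SL2 F, cj m0 x = conjHom Mm Mi hM1 hM2 x := by
        intro x
        rw [hm0]
        rfl
      obtain ⟨M', hM'⟩ : ∃ M' : Subgroup (PGL2 F),
        M' = conjM (Matrix.ProjGenLinGroup.mk m0) M := ⟨_, rfl⟩
      have hmem : ∀ x : SL2 F, x ∈ Hh M' ↔ conjHom Mm Mi hM1 hM2 x ∈ Hh M := by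
        intro x
        rw [hM', Hh_conjM, Subgroup.mem_comap, hcj]
      have hMc : IsCoatom M' := by rw [hM']; exact conjM_coatom _ hM
      have hMLc : ¬ (tP F).range ≤ M' := by rw [hM']; exact conjM_not_le hodd _ hML
      have := std_R p hodd h3 h7 h9 h11 h40 hMc hMLc hb ((hmem _).mpr hu) ((hmem _).mpr hl)
      rw [hM'] at this
      exact (coS_conj _).mp this
  · have hyp0 := hyp0_of_not_dvd p hdvd
    have hss : ∀ g : Hh M, g ∉ ZH (Hh M) →
        (C g = ⊤ ∨ Nat.card (Hh M) = 2 * Nat.card (C g)) →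
        tr ((g : Hh M) : SL2 F) ^ 2 ≠ 4 := by
      intro g hg _
      apply disc_of_not_dvd p hg
      intro hd
      exact hdvd (hd.trans (Subgroup.card_subgroup_dvd_card _))
    exact hyp0_R p hodd h3 h7 h9 h11 h40 hM hML hyp0 hss (fun hd => absurd hd hdvd)

/-- **a maximal subgroup of `PGL₂(F)` not containing `PSL₂(F)` meets it in a maximal subgroup** -/
theorem main_all [Fintype F] (h4 : 4 ≤ Fintype.card F)
    (h7 : Fintype.card F ≠ 7) (h9 : Fintype.card F ≠ 9) (h11 : Fintype.card F ≠ 11)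
    (h40 : (Fintype.card F).Prime → Fintype.card F % 40 ∉ ({11, 19, 21, 29} : Finset ℕ))
    (M : Subgroup (PGL2 F)) (hM : IsCoatom M) (hML : ¬ (tP F).range ≤ M) :
    IsCoatom ((M ⊓ (tP F).range).subgroupOf (tP F).range) := by
  apply goal_of_coS
  by_cases hodd : Odd (Fintype.card F)
  · exact main_odd hodd h4 h7 h9 h11 h40 M hM hML
  · exact even_case hodd hM

end Cfsg.Agent.Lib.Helper12.DkR
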