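import Cfsg.Agent.Lib.Helper12.DkD
import Cfsg.Agent.Lib.Helper12.C8

/-!
The exact order of a maximal torus of `SL₂(F)`, `F` finite, in every characteristic (helper12):
in characteristic two by a rational parametrization of the conic `s² + τ s t + t² = 1`.
-/

set_option autoImplicit false

namespace Cfsg.Agent.Lib.Helper12.DkV

open Cfsg.Agent.Lib.Helper12.SL2 Cfsg.Agent.Lib.Helper12.DkD

variable {F : Type*} [Field F]

local notation "SL2" => Matrix.SpecialLinearGroup (Fin 2)

/-- the conic -/
abbrev Conic (τ : F) : Type _ := {st : F × F // st.1 ^ 2 + τ * st.1 * st.2 + st.2 ^ 2 = 1}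

/-- the slopes that give a point -/
abbrev Good (τ : F) : Type _ := {m : F // m ^ 2 + τ * m + 1 ≠ 0}

/-- the slopes that do not -/
abbrev Bad (τ : F) : Type _ := {m : F // m ^ 2 + τ * m + 1 = 0}

section two

variable (h2 : (2 : F) = 0) (τ : F) (hτ : τ ≠ 0)

include h2 in
theorem conic_point' (m D : F) (hD : D = m ^ 2 + τ * m + 1) (hD0 : D ≠ 0) :
    (1 + m * (τ / D)) ^ 2 + τ * (1 + m * (τ / D)) * (τ / D) + (τ / D) ^ 2 = 1 := by
  field_simp
  linear_combination (D * m * τ + τ ^ 2 * D) * h2 - τ ^ 2 * hD

include h2 in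
theorem conic_point (m : F) (hm : m ^ 2 + τ * m + 1 ≠ 0) :
    (1 + m * (τ / (m ^ 2 + τ * m + 1))) ^ 2 + τ * (1 + m * (τ / (m ^ 2 + τ * m + 1))) *
      (τ / (m ^ 2 + τ * m + 1)) + (τ / (m ^ 2 + τ * m + 1)) ^ 2 = 1 :=
  conic_point' h2 τ m _ rfl hm

include h2 in
theorem slope_good (s t : F) (ht : t ≠ 0) (h : s ^ 2 + τ * s * t + t ^ 2 = 1) :
    ((s + 1) / t) ^ 2 + τ * ((s + 1) / t) + 1 = τ / t := by
  field_simp
  linear_combination h + (s + 1) * h2

open Classical in
/-- the parametrization -/
noncomputable def param : Option (Good τ) ≃ Conic τ where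
  toFun o := match o with
    | none => ⟨(1, 0), by simp⟩
    | some m => ⟨(1 + m.1 * (τ / (m.1 ^ 2 + τ * m.1 + 1)), τ / (m.1 ^ 2 + τ * m.1 + 1)),
        conic_point h2 τ m.1 m.2⟩
  invFun x := if ht : x.1.2 = 0 then none else
    some ⟨(x.1.1 + 1) / x.1.2, by
      rw [slope_good h2 τ x.1.1 x.1.2 ht x.2]
      exact div_ne_zero hτ ht⟩
  left_inv o := by
    match o with
    | none => simp
    | some m =>
      have hD := m.2
      have ht : τ / (m.1 ^ 2 + τ * m.1 + 1) ≠ 0 := div_ne_zero hτ hD
      simp only [ht, dite_false]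
      congr 1
      apply Subtype.ext
      show (1 + m.1 * (τ / (m.1 ^ 2 + τ * m.1 + 1)) + 1) / (τ / (m.1 ^ 2 + τ * m.1 + 1)) = m.1
      obtain ⟨D, hDdef⟩ : ∃ D, D = m.1 ^ 2 + τ * m.1 + 1 := ⟨_, rfl⟩
      rw [← hDdef] at hD ⊢
      field_simp
      linear_combination D * h2
  right_inv x := by
    obtain ⟨⟨s, t⟩, h⟩ := x
    by_cases ht : t = 0
    · simp only [ht, dite_true]
      apply Subtype.ext
      simp only at h
      rw [ht] at h
      have hs : (s - 1) ^ 2 = 0 := by linear_combination h - (s - 1) * h2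
      have hs1 : s = 1 := sub_eq_zero.mp ((pow_eq_zero_iff two_ne_zero).mp hs)
      show ((1 : F), (0 : F)) = (s, 0)
      rw [hs1]
    · simp only [ht, dite_false]
      apply Subtype.ext
      simp only at h
      have hg := slope_good h2 τ s t ht h
      show ((1 + (s + 1) / t * (τ / (((s + 1) / t) ^ 2 + τ * ((s + 1) / t) + 1)),
        τ / (((s + 1) / t) ^ 2 + τ * ((s + 1) / t) + 1)) : F × F) = (s, t)
      rw [hg]
      have e1 : τ / (τ / t) = t := by field_simp
      rw [e1]
      congr 1
      field_simp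
      linear_combination h2

include h2 hτ in
theorem card_bad [Finite F] : Nat.card (Bad τ) = 0 ∨ Nat.card (Bad τ) = 2 := by
  classical
  by_cases hne : Nonempty (Bad τ)
  · right
    obtain ⟨⟨r, hr⟩⟩ := hne
    have hr' : (r + τ) ^ 2 + τ * (r + τ) + 1 = 0 := by
      linear_combination hr + (r * τ + τ ^ 2) * h2
    apply (Nat.card_eq_two_iff' (⟨r, hr⟩ : Bad τ)).mpr
    refine ⟨⟨r + τ, hr'⟩, ?_, ?_⟩
    · intro h
      have := congrArg Subtype.val h
      simp only at this
      exact hτ (by linear_combination this)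
    · rintro ⟨m, hm⟩ hne'
      apply Subtype.ext
      show m = r + τ
      have hprod : (m - r) * (m - (r + τ)) = 0 := by
        linear_combination hm - hr + (r * τ + r ^ 2 - m * r - m * τ) * h2
      rcases mul_eq_zero.mp hprod with h | h
      · exfalso
        apply hne'
        apply Subtype.ext
        exact sub_eq_zero.mp h
      · exact sub_eq_zero.mp h
  · left
    rw [not_nonempty_iff] at hne
    exact Nat.card_of_isEmpty

include h2 hτ in
theorem card_conic [Fintype F] :
    Nat.card (Conic τ) = Fintype.card F + 1 ∨ Nat.card (Conic τ) = Fintype.card F - 1 := by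
  classical
  have hq : 2 ≤ Fintype.card F := Fintype.one_lt_card
  have h1 : Nat.card (Conic τ) = Nat.card (Good τ) + 1 := by
    rw [← Nat.card_congr (param h2 τ hτ)]
    rw [Nat.card_eq_fintype_card, Nat.card_eq_fintype_card, Fintype.card_option]
  have h3 : Nat.card (Good τ) + Nat.card (Bad τ) = Fintype.card F := by
    have := Nat.card_congr (Equiv.sumCompl (fun m : F => m ^ 2 + τ * m + 1 = 0))
    rw [Nat.card_sum, Nat.card_eq_fintype_card (α := F)] at this
    rw [← this, add_comm]
  rcases card_bad h2 τ hτ with h | h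
  · left; omega
  · right; omega

end two

section torus

variable (g : SL2 F) (hg : NonScalar g)

/-- the centralizer as a conic -/
noncomputable def torEquiv : Subgroup.centralizer ({g} : Set (SL2 F)) ≃ Conic (tr g) where
  toFun y := ⟨(cs g hg y, ct g hg y), (coords_spec g hg y).choose⟩
  invFun x := ⟨lin g x.1.1 x.1.2 x.2, by
    rw [Subgroup.mem_centralizer_singleton_iff]
    exact lin_commute g _ _ _⟩
  left_inv y := by
    apply Subtype.ext
    exact (coords_spec g hg y).choose_spec.symm
  right_inv x := by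
    apply Subtype.ext
    have := coords_eq g hg (⟨lin g x.1.1 x.1.2 x.2, by
      rw [Subgroup.mem_centralizer_singleton_iff]
      exact lin_commute g _ _ _⟩ : Subgroup.centralizer ({g} : Set (SL2 F))) x.2 rfl
    exact Prod.ext this.1 this.2

include hg in
/-- the exact order of a maximal torus, in every characteristic -/
theorem card_Tor_exact [Fintype F] (hΔ : tr g ^ 2 ≠ 4) :
    Nat.card (Subgroup.centralizer ({g} : Set (SL2 F))) = Fintype.card F - 1 ∨
      Nat.card (Subgroup.centralizer ({g} : Set (SL2 F))) = Fintype.card F + 1 := by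
  by_cases h2 : (2 : F) = 0
  · have hτ : tr g ≠ 0 := by
      intro h0
      apply hΔ
      rw [h0]
      linear_combination (-2 : F) * h2
    rw [Nat.card_congr (torEquiv g hg)]
    exact (card_conic h2 (tr g) hτ).symm
  · exact (card_Tor_regular h2 g hΔ).1

end torus

end Cfsg.Agent.Lib.Helper12.DkV
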