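import Cfsg.Agent.Lib.Helper12.DkN
import Cfsg.Agent.Lib.Helper12.DkV
import Cfsg.Agent.Lib.Helper12.DkH

/-!
Coatoms of `SL₂(F)` in characteristic two (helper12).
-/

set_option autoImplicit false

namespace Cfsg.Agent.Lib.Helper12.DkW

open Cfsg.Agent.Lib.Helper12.SL2 Cfsg.Agent.Lib.Lead.DicksonCA Cfsg.Agent.Lib.Lead.DicksonSL2
  Cfsg.Agent.Lib.Lead.SL2Scalar Cfsg.Agent.Lib.Lead.DicksonStd Cfsg.Agent.Lib.Lead.DicksonField
  Cfsg.Agent.Lib.Helper9.SL2Upper Cfsg.Agent.Lib.Lead.DicksonBase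
  Cfsg.Agent.Lib.Helper12.DkA Cfsg.Agent.Lib.Helper12.DkE Cfsg.Agent.Lib.Helper12.DkM
  Cfsg.Agent.Lib.Helper12.DkN

variable {F : Type*} [Field F]

local notation "SL2" => Matrix.SpecialLinearGroup (Fin 2)
local notation "M2" => Matrix (Fin 2) (Fin 2)
local notation "PSL2" => Matrix.ProjectiveSpecialLinearGroup (Fin 2)
local notation "π" => QuotientGroup.mk' (Subgroup.center (Matrix.SpecialLinearGroup (Fin 2) F))

/-- a coatom inside the normalizer of a torus is that normalizer -/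
theorem eq_NTor_of_le [Fintype F] (h4 : 4 ≤ Fintype.card F) {Mh : Subgroup (SL2 F)}
    (hcoat : IsCoatom Mh) (g : SL2 F) (hNS : NonScalar g) (hΔ : tr g ^ 2 ≠ 4)
    (hle : Mh ≤ NTor g) : Mh = NTor g := by
  rcases hcoat.le_iff.mp hle with h | h
  · exact absurd h (NTor_ne_top h4 g hNS hΔ)
  · exact h.symm

/-- the dihedral case in characteristic two -/
theorem dihedral_two [Fintype F] (heven : Even (Fintype.card F)) (h4 : 4 ≤ Fintype.card F)
    {Mh : Subgroup (SL2 F)} (hcoat : IsCoatom Mh) (g : SL2 F) (hNS : NonScalar g)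
    (hΔ : tr g ^ 2 ≠ 4) (hle : Mh ≤ NTor g) :
    Nonempty (↥(Mh.map π) ≃* DihedralGroup (Fintype.card F - 1)) ∨
      Nonempty (↥(Mh.map π) ≃* DihedralGroup (Fintype.card F + 1)) := by
  have hM := eq_NTor_of_le h4 hcoat g hNS hΔ hle
  subst hM
  have hodd : Odd (Fintype.card F - 1) := Nat.Even.sub_odd (by omega) heven odd_one
  have hg1 : Nat.gcd 2 (Fintype.card F - 1) = 1 := Nat.coprime_two_left.mpr hodd
  have hsq := sq_ne_one_of_regular g hΔ
  rcases Cfsg.Agent.Lib.Helper12.DkV.card_Tor_exact g hNS hΔ with h | h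
  · left
    exact Cfsg.Agent.Lib.Helper12.DkU.normalizer_dihedral g hNS hΔ hsq (by rw [hg1, one_mul]; exact h)
  · right
    exact Cfsg.Agent.Lib.Helper12.DkU.normalizer_dihedral g hNS hΔ hsq (by rw [hg1, one_mul]; exact h)

/-- `SL₂` over the top subfield is everything -/
theorem SLK_top : SLK (⊤ : Subfield F) = ⊤ := by
  rw [eq_top_iff]
  intro g _
  refine ⟨Matrix.SpecialLinearGroup.map
    ((Subfield.topEquiv (K := F)).symm : F →+* (⊤ : Subfield F)) g, ?_⟩
  apply Matrix.SpecialLinearGroup.ext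
  intro i j
  simp only [Matrix.SpecialLinearGroup.map_apply_coe, RingHom.mapMatrix_apply, Matrix.map_apply,
    Subfield.coe_subtype, RingHom.coe_coe]
  rfl

/-- a coatom is neither trivial nor central -/
theorem exists_not_mem_ZH [Fintype F] (h4 : 4 ≤ Fintype.card F) {Mh : Subgroup (SL2 F)}
    (hcoat : IsCoatom Mh) : ¬ ∀ x : Mh, x ∈ ZH Mh := by
  intro hall
  have hle : Mh ≤ Cfsg.Agent.Lib.Helper1.DkOrders.Bor F := by
    intro x hx
    rw [Cfsg.Agent.Lib.Helper1.DkOrders.mem_Bor]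
    rcases mem_ZH.mp (hall ⟨x, hx⟩) with h | h
    · have := congrFun (congrFun h 1) 0
      simpa [mat] using this
    · have := congrFun (congrFun h 1) 0
      simpa [mat] using this
  have hBtop : Cfsg.Agent.Lib.Helper1.DkOrders.Bor F ≠ ⊤ := by
    intro h
    have hi := Cfsg.Agent.Lib.Helper1.DkOrders.index_Bor (F := F)
    rw [h, Subgroup.index_top] at hi
    omega
  rcases hcoat.le_iff.mp hle with h | h
  · exact hBtop h
  · -- `upper 1 ∈ Bor F` is not central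
    have hu : (upper 1 : SL2 F) ∈ Cfsg.Agent.Lib.Helper1.DkOrders.Bor F := by
      rw [Cfsg.Agent.Lib.Helper1.DkOrders.mem_Bor]
      simp
    rw [h] at hu
    rcases mem_ZH.mp (hall ⟨_, hu⟩) with h' | h'
    · have := congrFun (congrFun h' 0) 1
      simp [mat] at this
    · have := congrFun (congrFun h' 0) 1
      simp [mat] at this

/-- the subfield case in characteristic two -/
theorem subfield_two [Fintype F] (h2 : (2 : F) = 0) {H : Subgroup (SL2 F)}
    (hcoat : IsCoatom H) {b : F} (hb : b ≠ 0) (h1 : (upper 1 : SL2 F) ∈ H)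
    (hy : (lower b : SL2 F) ∈ H) (hQ : 4 ≤ Nat.card (PH H))
    (hidx : (BH H).index = Nat.card (PH H) + 1) :
    ∃ (F₀ : Type) (_ : Field F₀) (_ : Fintype F₀) (r : ℕ), r.Prime ∧ Fintype.card F₀ ≠ 2 ∧
      Fintype.card F = Fintype.card F₀ ^ r ∧ Nonempty (↥(H.map π) ≃* PSL2 F₀) := by
  classical
  haveI : CharP F 2 := CharTwo.of_one_ne_zero_of_two_eq_zero one_ne_zero h2
  haveI : Fact (Nat.Prime 2) := ⟨Nat.prime_two⟩
  obtain ⟨K0, hKu, _, hle, hdec⟩ :=
    Cfsg.Agent.Lib.Lead.DicksonField.structure_of_index' 2 hb h1 hy hidx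
  have hHeq : H = SLK K0 := by
    apply le_antisymm _ hle
    intro g hg
    obtain ⟨s, hs, a, ha2, _, rfl⟩ := hdec g hg
    exact (SLK K0).mul_mem hs (dg_mem_SLK K0 a (mem_of_sq_mem h2 K0 _ ha2))
  have hcard : Nat.card K0 = Nat.card (PH H) := (card_PH_eq K0 hKu).symm
  have hK0top : K0 ≠ ⊤ := by
    intro h
    apply hcoat.1
    rw [hHeq, h, SLK_top]
  have hprime : Nat.Prime (Module.finrank K0 F) := by
    by_contra hnp
    obtain ⟨K1, h01, h1t⟩ := exists_intermediate K0 hK0top hnp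
    have hlt : H < SLK K1 := by rw [hHeq]; exact SLK_lt h01
    exact SLK_ne_top (ne_of_lt h1t) (hcoat.2 _ hlt)
  haveI : Finite K0 := Finite.of_injective (fun x : K0 => (x : F)) Subtype.val_injective
  obtain ⟨K, instK, instFK, ⟨e⟩⟩ := Cfsg.Agent.Lib.Helper12.DkH.exists_type0 K0
  letI := instK
  letI := instFK
  set ι : K →+* F := (K0.subtype).comp (e : K →+* K0) with hι
  have hS : ∀ s : Matrix.SpecialLinearGroup (Fin 2) K, Matrix.SpecialLinearGroup.map ι s ∈ H := by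
    intro s
    apply hle
    refine ⟨Matrix.SpecialLinearGroup.map (e : K →+* K0) s, ?_⟩
    apply Matrix.SpecialLinearGroup.ext
    intro i j
    simp [Matrix.SpecialLinearGroup.map_apply_coe, RingHom.mapMatrix_apply, hι]
  have hsurj : ∀ g ∈ H, ∃ s : Matrix.SpecialLinearGroup (Fin 2) K,
      Matrix.SpecialLinearGroup.map ι s = g := by
    intro g hg
    rw [hHeq] at hg
    obtain ⟨x, rfl⟩ := hg
    refine ⟨Matrix.SpecialLinearGroup.map (e.symm : K0 →+* K) x, ?_⟩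
    apply Matrix.SpecialLinearGroup.ext
    intro i j
    simp [Matrix.SpecialLinearGroup.map_apply_coe, RingHom.mapMatrix_apply, hι]
  have hiso := Cfsg.Agent.Lib.Helper1.DkIso.caseA ι H hS hsurj
  letI : Fintype K0 := Fintype.ofFinite K0
  have hc1 : Fintype.card K = Fintype.card K0 := Fintype.card_congr e.toEquiv
  refine ⟨K, instK, instFK, Module.finrank K0 F, hprime, ?_, ?_, hiso⟩
  · rw [hc1, ← Nat.card_eq_fintype_card, hcard]
    omega
  · rw [hc1]
    exact Module.card_eq_pow_finrank (K := K0) (V := F)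

/-- coatoms in standard position, characteristic two -/
theorem std_two [Fintype F] (heven : Even (Fintype.card F)) (h2 : (2 : F) = 0)
    (h4 : 4 ≤ Fintype.card F) {H : Subgroup (SL2 F)}
    (hcoat : IsCoatom H) {b : F} (hb : b ≠ 0) (h1 : (upper 1 : SL2 F) ∈ H)
    (hy : (lower b : SL2 F) ∈ H) :
    Nonempty (↥(H.map π) ≃* DihedralGroup (Fintype.card F - 1)) ∨
    Nonempty (↥(H.map π) ≃* DihedralGroup (Fintype.card F + 1)) ∨
    ∃ (F₀ : Type) (_ : Field F₀) (_ : Fintype F₀) (r : ℕ), r.Prime ∧ Fintype.card F₀ ≠ 2 ∧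
      Fintype.card F = Fintype.card F₀ ^ r ∧ Nonempty (↥(H.map π) ≃* PSL2 F₀) := by
  classical
  haveI : CharP F 2 := CharTwo.of_one_ne_zero_of_two_eq_zero one_ne_zero h2
  haveI : Fact (Nat.Prime 2) := ⟨Nat.prime_two⟩
  have hne : PH H ≠ ⊥ := by
    intro hbot
    have hmem : (⟨upper 1, h1⟩ : H) ∈ PH H := mem_PH.mpr (upper_mem_Uni 1)
    rw [hbot, Subgroup.mem_bot] at hmem
    have h2 := congrArg (fun x : H => ((x : SL2 F) : M2 F) 0 1) hmem
    simp at h2
  have hnB : ∃ y : H, (y : SL2 F) ∉ Cfsg.Agent.Lib.Lead.DicksonSL2.Borel := by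
    refine ⟨⟨lower b, hy⟩, ?_⟩
    rw [mem_Borel]
    simpa using hb
  rcases hyp0_or_index' 2 hne hnB with ⟨hQ, hyp0⟩ | ⟨hQ, hidx⟩
  · have hss : ∀ g : H, g ∉ ZH H → (C g = ⊤ ∨ Nat.card H = 2 * Nat.card (C g)) →
        tr ((g : H) : SL2 F) ^ 2 ≠ 4 := by
      intro g hg hcase
      exact disc_of_not_dvd 2 hg (Cfsg.Agent.Lib.Helper12.DkH.not_dvd_of_case 2 hne hnB hg hcase)
    rcases hyp0_cases hyp0 hss with hall | ⟨g, hg, hΔ, hle⟩ | h4d
    · exact absurd hall (exists_not_mem_ZH h4 hcoat)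
    · rcases dihedral_two heven h4 hcoat _ (nonScalar_of_not_mem hg) hΔ hle with h | h
      · exact Or.inl h
      · exact Or.inr (Or.inl h)
    · exfalso
      have hd : 2 ^ 2 ∣ Nat.card (sylowPH 2 hne : Sylow 2 H) :=
        (sylowPH 2 hne).pow_dvd_card_of_pow_dvd_card (by simpa using h4d)
      have hle := Nat.le_of_dvd Nat.card_pos hd
      have : Nat.card (sylowPH 2 hne : Sylow 2 H) = Nat.card (PH H) := rfl
      omega
  · exact Or.inr (Or.inr (subfield_two h2 hcoat hb h1 hy hQ hidx))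

/-- **coatoms of `SL₂(F)`, characteristic two** -/
theorem coatom_two [Fintype F] (heven : Even (Fintype.card F)) (h2 : (2 : F) = 0)
    (h4 : 4 ≤ Fintype.card F) {Mh : Subgroup (SL2 F)} (hcoat : IsCoatom Mh) :
    Nat.card Mh = (Fintype.card F - 1) * Fintype.card F ∨
    Nonempty (↥(Mh.map π) ≃* DihedralGroup (Fintype.card F - 1)) ∨
    Nonempty (↥(Mh.map π) ≃* DihedralGroup (Fintype.card F + 1)) ∨
    ∃ (F₀ : Type) (_ : Field F₀) (_ : Fintype F₀) (r : ℕ), r.Prime ∧ Fintype.card F₀ ≠ 2 ∧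
      Fintype.card F = Fintype.card F₀ ^ r ∧ Nonempty (↥(Mh.map π) ≃* PSL2 F₀) := by
  classical
  haveI : CharP F 2 := CharTwo.of_one_ne_zero_of_two_eq_zero one_ne_zero h2
  haveI : Fact (Nat.Prime 2) := ⟨Nat.prime_two⟩
  by_cases hdvd : 2 ∣ Nat.card Mh
  · by_cases hS : Subsingleton (Sylow 2 Mh)
    · left
      obtain ⟨v, hv, hfix⟩ := Cfsg.Agent.Lib.Helper12.DkH.T3 2 hdvd hS
      exact borel_coatom hcoat v hv hfix
    · right
      have hlt : 1 < Nat.card (Sylow 2 Mh) := by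
        rw [Finite.one_lt_card_iff_nontrivial]
        exact not_subsingleton_iff_nontrivial.mp hS
      obtain ⟨M, Mi, hM1, hM2, b, hb, hu, hl⟩ := exists_std 2 Mh hlt
      have hcoat' : IsCoatom (Mh.comap (conjHom M Mi hM1 hM2)) :=
        (Subgroup.isCoatom_comap (conjEquiv M Mi hM1 hM2)).mpr hcoat
      obtain ⟨e⟩ := conj_iso M Mi hM1 hM2 Mh
      rcases std_two heven h2 h4 hcoat' hb (Subgroup.mem_comap.mpr hu) (Subgroup.mem_comap.mpr hl)
        with ⟨⟨f⟩⟩ | ⟨⟨f⟩⟩ | ⟨F₀, i1, i2, r, hr, hc, hq, ⟨f⟩⟩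
      · exact Or.inl ⟨e.symm.trans f⟩
      · exact Or.inr (Or.inl ⟨e.symm.trans f⟩)
      · exact Or.inr (Or.inr ⟨F₀, i1, i2, r, hr, hc, hq, ⟨e.symm.trans f⟩⟩)
  · exfalso
    have hyp0 := hyp0_of_not_dvd 2 hdvd
    have hss : ∀ g : Mh, g ∉ ZH Mh → (C g = ⊤ ∨ Nat.card Mh = 2 * Nat.card (C g)) →
        tr ((g : Mh) : SL2 F) ^ 2 ≠ 4 := by
      intro g hg _
      apply disc_of_not_dvd 2 hg
      intro hd
      exact hdvd (hd.trans (Subgroup.card_subgroup_dvd_card _))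
    rcases hyp0_cases hyp0 hss with hall | ⟨g, hg, hΔ, hle⟩ | h4d
    · exact exists_not_mem_ZH h4 hcoat hall
    · have hM := eq_NTor_of_le h4 hcoat _ (nonScalar_of_not_mem hg) hΔ hle
      apply hdvd
      rw [hM, card_NTor _ (nonScalar_of_not_mem hg) hΔ]
      exact dvd_mul_right _ _
    · exact hdvd (dvd_trans (by norm_num) h4d)

end Cfsg.Agent.Lib.Helper12.DkW
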