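import Cfsg.Agent.S0804
import Cfsg.Agent.Lib.Helper12.DkQ2

/-!
Traces of elements of small projective order in `SL₂(F)`, and Frobenius-fixed subfields (helper12).
-/

set_option autoImplicit false

namespace Cfsg.Agent.Lib.Helper12.DkX

open Cfsg.Agent.Lib.Helper12.SL2 Cfsg.Agent.S0804

variable {F : Type*} [Field F]

local notation "SL2" => Matrix.SpecialLinearGroup (Fin 2)
local notation "M2" => Matrix (Fin 2) (Fin 2)

/-- scalar elements (entrywise) -/
def Sc (Z : SL2 F) : Prop := Z 0 1 = 0 ∧ Z 1 0 = 0 ∧ Z 0 0 = Z 1 1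

theorem coeff_zero_of_scalar (Y Z : SL2 F) (pc r : F) (h : IsLin Y Z pc r) (hZ : Sc Z)
    (hY : NonScalar Y) : pc = 0 := by
  obtain ⟨h00, h01, h10, h11⟩ := h
  obtain ⟨z01, z10, z00⟩ := hZ
  by_contra hne
  apply hY
  refine ⟨?_, ?_, ?_⟩
  · rw [z01] at h01
    rcases mul_eq_zero.mp h01.symm with h | h
    · exact absurd h hne
    · exact h
  · rw [z10] at h10
    rcases mul_eq_zero.mp h10.symm with h | h
    · exact absurd h hne
    · exact h
  · have : pc * (Y 0 0 - Y 1 1) = 0 := by linear_combination h11 - h00 + z00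
    rcases mul_eq_zero.mp this with h | h
    · exact absurd h hne
    · exact sub_eq_zero.mp h

theorem tr_of_scalar (Y : SL2 F) (hY : ¬ NonScalar Y) : tr Y = 2 ∨ tr Y = -2 := by
  unfold Cfsg.Agent.Lib.Helper12.SL2.NonScalar at hY
  push Not at hY
  obtain ⟨h01, h10, h00⟩ := hY
  have hd := det_eq Y
  rw [h01, ← h00] at hd
  have : (Y 0 0 - 1) * (Y 0 0 + 1) = 0 := by linear_combination hd
  unfold tr
  rcases mul_eq_zero.mp this with h | h
  · left; rw [← h00]; linear_combination 2 * h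
  · right; rw [← h00]; linear_combination 2 * h

theorem isLin_pow2 (Y : SL2 F) : IsLin Y (Y ^ 2) (tr Y) 1 := by
  have h1 := isLin_mul Y _ _ _ (isLin_one Y)
  have h2 := isLin_mul Y _ _ _ h1
  have e : (1 : SL2 F) * Y * Y = Y ^ 2 := by simp only [pow_succ, pow_zero]
  rw [e] at h2
  convert h2 using 1 <;> ring

theorem isLin_pow4 (Y : SL2 F) : IsLin Y (Y ^ 4) (tr Y ^ 3 - 2 * tr Y) (tr Y ^ 2 - 1) := by
  have h1 := isLin_mul Y _ _ _ (isLin_one Y)
  have h2 := isLin_mul Y _ _ _ h1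
  have h3 := isLin_mul Y _ _ _ h2
  have h4 := isLin_mul Y _ _ _ h3
  have e : (1 : SL2 F) * Y * Y * Y * Y = Y ^ 4 := by simp only [pow_succ, pow_zero]
  rw [e] at h4
  convert h4 using 1 <;> ring

theorem tr_of_pow_two (Y : SL2 F) (h : Sc (Y ^ 2)) : tr Y = 2 ∨ tr Y = -2 ∨ tr Y = 0 := by
  by_cases hY : NonScalar Y
  · right; right
    exact coeff_zero_of_scalar Y _ _ _ (isLin_pow2 Y) h hY
  · rcases tr_of_scalar Y hY with h | h
    · exact Or.inl h
    · exact Or.inr (Or.inl h)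

theorem tr_of_pow_three (Y : SL2 F) (h : Sc (Y ^ 3)) :
    tr Y = 2 ∨ tr Y = -2 ∨ tr Y = 1 ∨ tr Y = -1 := by
  by_cases hY : NonScalar Y
  · have := coeff_zero_of_scalar Y _ _ _ (isLin_pow3 Y) h hY
    have h2 : (tr Y - 1) * (tr Y + 1) = 0 := by linear_combination this
    rcases mul_eq_zero.mp h2 with h3 | h3
    · right; right; left; exact sub_eq_zero.mp h3
    · right; right; right; exact eq_neg_of_add_eq_zero_left h3
  · rcases tr_of_scalar Y hY with h | h
    · exact Or.inl h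
    · exact Or.inr (Or.inl h)

theorem tr_of_pow_four (Y : SL2 F) (h : Sc (Y ^ 4)) :
    tr Y = 2 ∨ tr Y = -2 ∨ tr Y = 0 ∨ tr Y ^ 2 = 2 := by
  by_cases hY : NonScalar Y
  · have := coeff_zero_of_scalar Y _ _ _ (isLin_pow4 Y) h hY
    have h2 : tr Y * (tr Y ^ 2 - 2) = 0 := by linear_combination this
    rcases mul_eq_zero.mp h2 with h3 | h3
    · right; right; left; exact h3
    · right; right; right; exact sub_eq_zero.mp h3
  · rcases tr_of_scalar Y hY with h | h
    · exact Or.inl h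
    · exact Or.inr (Or.inl h)

theorem tr_of_pow_five (Y : SL2 F) (h : Sc (Y ^ 5)) :
    tr Y = 2 ∨ tr Y = -2 ∨ tr Y ^ 2 + tr Y - 1 = 0 ∨ tr Y ^ 2 - tr Y - 1 = 0 := by
  by_cases hY : NonScalar Y
  · have := coeff_zero_of_scalar Y _ _ _ (isLin_pow5 Y) h hY
    have h2 : (tr Y ^ 2 + tr Y - 1) * (tr Y ^ 2 - tr Y - 1) = 0 := by linear_combination this
    rcases mul_eq_zero.mp h2 with h3 | h3
    · right; right; left; exact h3
    · right; right; right; exact h3
  · rcases tr_of_scalar Y hY with h | h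
    · exact Or.inl h
    · exact Or.inr (Or.inl h)

theorem sc_of_mem_center (Z : SL2 F) (h : Z ∈ Subgroup.center (SL2 F)) : Sc Z := by
  rw [Matrix.SpecialLinearGroup.mem_center_iff] at h
  obtain ⟨r, -, h⟩ := h
  have e : ∀ a b, Z a b = (Matrix.scalar (Fin 2) r) a b := fun a b => by rw [h]
  refine ⟨?_, ?_, ?_⟩
  · rw [e]; simp
  · rw [e]; simp
  · rw [e, e]; simp

theorem tr_eq_trace (g : SL2 F) : tr g = (g : M2 F).trace := by
  rw [Matrix.trace_fin_two]; rfl

/-! ### Frobenius-fixed subfields -/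

section Frob

variable (F) (p : ℕ) [Fact p.Prime] [CharP F p]

/-- the subfield fixed by the `m`-th power of Frobenius -/
def Kfix (m : ℕ) : Subfield F := RingHom.eqLocusField (iterateFrobenius F p m) (RingHom.id F)

variable {F}

theorem mem_Kfix (m : ℕ) (x : F) : x ∈ Kfix F p m ↔ x ^ p ^ m = x := by
  simp [Kfix, RingHom.eqLocusField, iterateFrobenius_def]

/-- if `Kfix m` is everything then `q ≤ p ^ m` -/
theorem card_le_of_Kfix_eq_top [Fintype F] (m : ℕ) (hm : 0 < m) (h : Kfix F p m = ⊤) :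
    Fintype.card F ≤ p ^ m := by
  obtain ⟨ξ, hξ⟩ := IsCyclic.exists_ofOrder_eq_natCard (α := Fˣ)
  rw [Nat.card_units, Nat.card_eq_fintype_card] at hξ
  have hmem : (ξ : F) ∈ Kfix F p m := by rw [h]; trivial
  rw [mem_Kfix] at hmem
  have hp1 : 1 ≤ p ^ m := Nat.one_le_pow _ _ (Fact.out : p.Prime).pos
  have h1 : ξ ^ (p ^ m - 1) = 1 := by
    apply Units.ext
    rw [Units.val_pow_eq_pow_val, Units.val_one]
    have : (ξ : F) ^ (p ^ m - 1) * ξ = 1 * ξ := by
      rw [← pow_succ, Nat.sub_add_cancel hp1, hmem, one_mul]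
    exact mul_right_cancel₀ ξ.ne_zero this
  have hdvd := orderOf_dvd_of_pow_eq_one h1
  rw [hξ] at hdvd
  have hpm : 2 ≤ p ^ m := by
    calc 2 ≤ p := (Fact.out : p.Prime).two_le
      _ = p ^ 1 := (pow_one p).symm
      _ ≤ p ^ m := Nat.pow_le_pow_right (Fact.out : p.Prime).pos hm
  have := Nat.le_of_dvd (by omega) hdvd
  omega

theorem natCast_mem_Kfix (m : ℕ) (n : ℕ) : (n : F) ∈ Kfix F p m := natCast_mem _ n

theorem intCast_mem_Kfix (m : ℕ) (n : ℤ) : (n : F) ∈ Kfix F p m := intCast_mem _ n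

theorem dvd_card_Kfix [Finite F] (m : ℕ) : p ∣ Nat.card (Kfix F p m) := by
  haveI : Finite (Kfix F p m) := Finite.of_injective (fun x : Kfix F p m => (x : F)) Subtype.val_injective
  letI : Fintype (Kfix F p m) := Fintype.ofFinite _
  haveI : CharP (Kfix F p m) p := RingHom.charP (Kfix F p m).subtype (Subtype.val_injective) p
  obtain ⟨n, -, hn⟩ := FiniteField.card (Kfix F p m) p
  rw [Nat.card_eq_fintype_card, hn]
  exact dvd_pow_self p n.ne_zero

end Frob

end Cfsg.Agent.Lib.Helper12.DkX
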