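import Cfsg.Agent.Lib.Helper12.DkX1
import Cfsg.Agent.S0807

/-!
Coatoms of `SL₂(F)` (odd characteristic) whose image in `PSL₂(F)` is `A₄`, `S₄` or `A₅`:
generic tools (helper12).
-/

set_option autoImplicit false

namespace Cfsg.Agent.Lib.Helper12.DkX

open Cfsg.Agent.Lib.Helper12.SL2 Cfsg.Agent.Lib.Helper12.DkQ

variable {F : Type*} [Field F]

local notation "SL2" => Matrix.SpecialLinearGroup (Fin 2)
local notation "M2" => Matrix (Fin 2) (Fin 2)
local notation "PSL2" => Matrix.ProjectiveSpecialLinearGroup (Fin 2)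
local notation "π" => QuotientGroup.mk' (Subgroup.center (Matrix.SpecialLinearGroup (Fin 2) F))

variable {Mh : Subgroup (SL2 F)} {X : Type*} [Group X]

/-- the image of an element of `Mh` in the abstract quotient -/
def img (e : ↥(Mh.map π) ≃* X) (g : SL2 F) (hg : g ∈ Mh) : X :=
  e ⟨π g, Subgroup.mem_map_of_mem _ hg⟩

theorem img_mul (e : ↥(Mh.map π) ≃* X) (g u : SL2 F) (hg : g ∈ Mh) (hu : u ∈ Mh) :
    img e (g * u) (Mh.mul_mem hg hu) = img e g hg * img e u hu := by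
  unfold img
  rw [← map_mul]
  congr 1

theorem img_pow (e : ↥(Mh.map π) ≃* X) (g : SL2 F) (hg : g ∈ Mh) (n : ℕ) :
    img e (g ^ n) (Mh.pow_mem hg n) = img e g hg ^ n := by
  unfold img
  rw [← map_pow]
  congr 1

theorem mem_center_of_img_eq_one (e : ↥(Mh.map π) ≃* X) (g : SL2 F) (hg : g ∈ Mh)
    (h : img e g hg = 1) : g ∈ Subgroup.center (SL2 F) := by
  unfold img at h
  have h1 := (MulEquiv.map_eq_one_iff e).mp h
  have h2 := congrArg Subtype.val h1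
  simp only [Subgroup.coe_one] at h2
  rw [← QuotientGroup.ker_mk' (Subgroup.center (SL2 F)), MonoidHom.mem_ker]
  exact h2

theorem sc_pow_of_img (e : ↥(Mh.map π) ≃* X) (g : SL2 F) (hg : g ∈ Mh) (n : ℕ)
    (h : img e g hg ^ n = 1) : Sc (g ^ n) := by
  apply sc_of_mem_center
  refine mem_center_of_img_eq_one e _ (Mh.pow_mem hg n) ?_
  rw [img_pow e g hg n, h]

theorem nonScalar_of_img_ne_one (e : ↥(Mh.map π) ≃* X) (g : SL2 F) (hg : g ∈ Mh)
    (h : img e g hg ≠ 1) : NonScalar g := by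
  intro hs
  apply h
  have hc : g ∈ Subgroup.center (SL2 F) := by
    rw [Matrix.SpecialLinearGroup.mem_center_iff]
    obtain ⟨h01, h10, h00⟩ := hs
    have hd := det_eq g
    refine ⟨g 0 0, ?_, ?_⟩
    · rw [Fintype.card_fin]
      rw [h01, ← h00] at hd
      linear_combination hd
    · ext a b
      fin_cases a <;> fin_cases b <;> simp [h01, h10, h00]
  unfold img
  have : (⟨π g, Subgroup.mem_map_of_mem _ hg⟩ : ↥(Mh.map π)) = 1 := by
    apply Subtype.ext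
    simp only [Subgroup.coe_one]
    rw [← MonoidHom.mem_ker, QuotientGroup.ker_mk']
    exact hc
  rw [this, map_one]

theorem exists_img_eq (e : ↥(Mh.map π) ≃* X) (a : X) :
    ∃ (g : SL2 F) (hg : g ∈ Mh), img e g hg = a := by
  obtain ⟨g, hg, hga⟩ := Subgroup.mem_map.mp (e.symm a).2
  refine ⟨g, hg, ?_⟩
  unfold img
  have : (⟨π g, Subgroup.mem_map_of_mem _ hg⟩ : ↥(Mh.map π)) = e.symm a := Subtype.ext hga
  rw [this, MulEquiv.apply_symm_apply]

theorem orderOf_img (e : ↥(Mh.map π) ≃* X) (g : SL2 F) (hg : g ∈ Mh) :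
    orderOf (img e g hg) = orderOf (QuotientGroup.mk g : PSL2 F) := by
  unfold img
  rw [MulEquiv.orderOf_eq, ← Subgroup.orderOf_coe]
  rfl

/-- a quaternion pair from two commuting involutions of the quotient -/
theorem exists_qpair_of_iso (h2 : (2 : F) ≠ 0) (e : ↥(Mh.map π) ≃* X) (a b : X)
    (ha : orderOf a = 2) (hb : orderOf b = 2) (hab : orderOf (a * b) = 2) :
    ∃ (i j : SL2 F) (hi : i ∈ Mh) (hj : j ∈ Mh), tr i = 0 ∧ tr j = 0 ∧ tr (i * j) = 0 ∧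
      img e i hi = a ∧ img e j hj = b := by
  obtain ⟨i, hi, hia⟩ := exists_img_eq e a
  obtain ⟨j, hj, hjb⟩ := exists_img_eq e b
  refine ⟨i, j, hi, hj, ?_, ?_, ?_, hia, hjb⟩
  · rw [← Cfsg.Agent.S0807.orderOf_mk_eq_two_iff h2, ← orderOf_img e i hi, hia, ha]
  · rw [← Cfsg.Agent.S0807.orderOf_mk_eq_two_iff h2, ← orderOf_img e j hj, hjb, hb]
  · rw [← Cfsg.Agent.S0807.orderOf_mk_eq_two_iff h2, ← orderOf_img e (i * j) (Mh.mul_mem hi hj),
      img_mul e i j hi hj, hia, hjb, hab]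

theorem qpair_of_sl (i j : SL2 F) (ti : tr i = 0) (tj : tr j = 0) (tk : tr (i * j) = 0) :
    QPair (i : M2 F) (j : M2 F) := by
  apply qpair_of
  · rw [← tr_eq_trace, ti]
  · rw [← tr_eq_trace, tj]
  · rw [← Matrix.SpecialLinearGroup.coe_mul, ← tr_eq_trace, tk]
  · exact i.2
  · exact j.2

/-- `-1` is a sum of two squares in every subfield -/
theorem exists_sq_add_sq_mem (p : ℕ) [Fact p.Prime] [CharP F p] (K : Subfield F) :
    ∃ x₁ x₂ : F, x₁ ∈ K ∧ x₂ ∈ K ∧ 1 + x₁ ^ 2 + x₂ ^ 2 = 0 := by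
  obtain ⟨a, b, hab⟩ := ZMod.sq_add_sq p (-1)
  let φ := ZMod.castHom (dvd_refl p) F
  have hmem : ∀ c : ZMod p, φ c ∈ K := by
    intro c
    have : φ c = ((c.val : ℕ) : F) := by
      simp [φ, ZMod.natCast_val]
    rw [this]
    exact natCast_mem K _
  refine ⟨φ a, φ b, hmem a, hmem b, ?_⟩
  have := congrArg φ hab
  rw [map_add, map_pow, map_pow, map_neg, map_one] at this
  rw [add_assoc, this]
  ring

/-- descent in terms of traces -/
theorem card_dvd_of_traces [Fintype F] (p : ℕ) [Fact p.Prime] [CharP F p] (h2 : (2 : F) ≠ 0)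
    (K : Subfield F) (hK : K ≠ ⊤) (hcoat : IsCoatom Mh) (i j : SL2 F) (ti : tr i = 0)
    (tj : tr j = 0) (tk : tr (i * j) = 0) (s : F) (hs : s * s ∈ K)
    (htr : ∀ g ∈ Mh,
      (tr g ∈ K ∧ tr (g * i) ∈ K ∧ tr (g * j) ∈ K ∧ tr (g * (i * j)) ∈ K) ∨
      ((∃ c ∈ K, tr g = s * c) ∧ (∃ c ∈ K, tr (g * i) = s * c) ∧ (∃ c ∈ K, tr (g * j) = s * c) ∧
        (∃ c ∈ K, tr (g * (i * j)) = s * c))) :
    Nat.card K ∣ Nat.card Mh := by
  have hQ := qpair_of_sl i j ti tj tk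
  obtain ⟨x₁, x₂, hx₁, hx₂, hx⟩ := exists_sq_add_sq_mem p K
  apply card_dvd_of_span h2 K hK hcoat hQ s hs x₁ x₂ hx₁ hx₂ hx
  intro g hg
  have e1 : ((g : M2 F) * (i : M2 F)).trace = tr (g * i) := by
    rw [← Matrix.SpecialLinearGroup.coe_mul, ← tr_eq_trace]
  have e2 : ((g : M2 F) * (j : M2 F)).trace = tr (g * j) := by
    rw [← Matrix.SpecialLinearGroup.coe_mul, ← tr_eq_trace]
  have e3 : ((g : M2 F) * ((i : M2 F) * (j : M2 F))).trace = tr (g * (i * j)) := by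
    rw [← Matrix.SpecialLinearGroup.coe_mul, ← Matrix.SpecialLinearGroup.coe_mul, ← tr_eq_trace]
  rcases htr g hg with ⟨t0, t1, t2, t3⟩ | ⟨t0, t1, t2, t3⟩
  · left
    obtain ⟨y, hy, hgy⟩ := inA_of_traces (K := K) hQ h2 1 (x := (g : M2 F))
      ⟨_, t0, by rw [one_mul, tr_eq_trace]⟩ ⟨_, t1, by rw [one_mul, e1]⟩
      ⟨_, t2, by rw [one_mul, e2]⟩ ⟨_, t3, by rw [one_mul, e3]⟩
    rw [hgy, one_smul]
    exact hy
  · right
    obtain ⟨c0, hc0, t0⟩ := t0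
    obtain ⟨c1, hc1, t1⟩ := t1
    obtain ⟨c2, hc2, t2⟩ := t2
    obtain ⟨c3, hc3, t3⟩ := t3
    exact inA_of_traces (K := K) hQ h2 s (x := (g : M2 F))
      ⟨c0, hc0, by rw [← tr_eq_trace, t0]⟩ ⟨c1, hc1, by rw [e1, t1]⟩
      ⟨c2, hc2, by rw [e2, t2]⟩ ⟨c3, hc3, by rw [e3, t3]⟩

end Cfsg.Agent.Lib.Helper12.DkX
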