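import Cfsg.Agent.Lib.Helper12.DkW
import Cfsg.Agent.Lib.Helper12.DkX1

/-!
Coatoms of `SL₂(F)` in odd characteristic: the subfield cases `PSL₂(q₀)`, `PGL₂(q₀)` (helper12).
-/

set_option autoImplicit false

namespace Cfsg.Agent.Lib.Helper12.DkY

open Cfsg.Agent.Lib.Helper12.SL2 Cfsg.Agent.Lib.Lead.DicksonCA Cfsg.Agent.Lib.Lead.DicksonSL2
  Cfsg.Agent.Lib.Lead.SL2Scalar Cfsg.Agent.Lib.Lead.DicksonStd Cfsg.Agent.Lib.Lead.DicksonField
  Cfsg.Agent.Lib.Helper9.SL2Upper Cfsg.Agent.Lib.Lead.DicksonBase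
  Cfsg.Agent.Lib.Helper12.DkA Cfsg.Agent.Lib.Helper12.DkE Cfsg.Agent.Lib.Helper12.DkM
  Cfsg.Agent.Lib.Helper12.DkN Cfsg.Agent.Lib.Helper12.DkW Cfsg.Agent.Lib.Helper12.DkX

variable {F : Type*} [Field F]

local notation "SL2" => Matrix.SpecialLinearGroup (Fin 2)
local notation "M2" => Matrix (Fin 2) (Fin 2)
local notation "PSL2" => Matrix.ProjectiveSpecialLinearGroup (Fin 2)
local notation "PGL2" => Matrix.ProjGenLinGroup (Fin 2)
local notation "π" => QuotientGroup.mk' (Subgroup.center (Matrix.SpecialLinearGroup (Fin 2) F))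

theorem entries_of_mem_SLK (K : Subfield F) {g : SL2 F} (hg : g ∈ SLK K) (a b : Fin 2) :
    g a b ∈ K := by
  obtain ⟨x, rfl⟩ := hg
  show (Matrix.SpecialLinearGroup.map K.subtype x) a b ∈ K
  rw [Matrix.SpecialLinearGroup.map_apply_coe]
  simp

/-- the subgroup of matrices with entries in `K ∪ sK` -/
def GKs (K : Subfield F) (s : F) (hs : s * s ∈ K) : Subgroup (SL2 F) where
  carrier := {g | (∀ a b, g a b ∈ K) ∨ (∀ a b, ∃ c ∈ K, g a b = s * c)}
  one_mem' := by
    left
    intro a b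
    fin_cases a <;> fin_cases b <;> simp [K.one_mem, K.zero_mem]
  mul_mem' := by
    rintro g h (hg | hg) (hh | hh)
    · left
      intro a b
      rw [mul_apply']
      exact K.add_mem (K.mul_mem (hg a 0) (hh 0 b)) (K.mul_mem (hg a 1) (hh 1 b))
    · right
      intro a b
      obtain ⟨c0, hc0, e0⟩ := hh 0 b
      obtain ⟨c1, hc1, e1⟩ := hh 1 b
      refine ⟨g a 0 * c0 + g a 1 * c1,
        K.add_mem (K.mul_mem (hg a 0) hc0) (K.mul_mem (hg a 1) hc1), ?_⟩
      rw [mul_apply', e0, e1]; ring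
    · right
      intro a b
      obtain ⟨c0, hc0, e0⟩ := hg a 0
      obtain ⟨c1, hc1, e1⟩ := hg a 1
      refine ⟨c0 * h 0 b + c1 * h 1 b,
        K.add_mem (K.mul_mem hc0 (hh 0 b)) (K.mul_mem hc1 (hh 1 b)), ?_⟩
      rw [mul_apply', e0, e1]; ring
    · left
      intro a b
      obtain ⟨c0, hc0, e0⟩ := hg a 0
      obtain ⟨c1, hc1, e1⟩ := hg a 1
      obtain ⟨d0, hd0, f0⟩ := hh 0 b
      obtain ⟨d1, hd1, f1⟩ := hh 1 b
      rw [mul_apply', e0, e1, f0, f1]
      have : s * c0 * (s * d0) + s * c1 * (s * d1) = (s * s) * (c0 * d0 + c1 * d1) := by ring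
      rw [this]
      exact K.mul_mem hs (K.add_mem (K.mul_mem hc0 hd0) (K.mul_mem hc1 hd1))
  inv_mem' := by
    rintro g (hg | hg)
    · left
      have e00 := Cfsg.Agent.Lib.Helper12.SL2.inv_00 g
      have e01 := Cfsg.Agent.Lib.Helper12.SL2.inv_01 g
      have e10 := Cfsg.Agent.Lib.Helper12.SL2.inv_10 g
      have e11 := Cfsg.Agent.Lib.Helper12.SL2.inv_11 g
      intro a b
      fin_cases a <;> fin_cases b
      · show (g⁻¹ : SL2 F) 0 0 ∈ K
        rw [e00]; exact hg 1 1
      · show (g⁻¹ : SL2 F) 0 1 ∈ K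
        rw [e01]; exact K.neg_mem (hg 0 1)
      · show (g⁻¹ : SL2 F) 1 0 ∈ K
        rw [e10]; exact K.neg_mem (hg 1 0)
      · show (g⁻¹ : SL2 F) 1 1 ∈ K
        rw [e11]; exact hg 0 0
    · right
      have e00 := Cfsg.Agent.Lib.Helper12.SL2.inv_00 g
      have e01 := Cfsg.Agent.Lib.Helper12.SL2.inv_01 g
      have e10 := Cfsg.Agent.Lib.Helper12.SL2.inv_10 g
      have e11 := Cfsg.Agent.Lib.Helper12.SL2.inv_11 g
      intro a b
      fin_cases a <;> fin_cases b
      · show ∃ c ∈ K, (g⁻¹ : SL2 F) 0 0 = s * c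
        rw [e00]; exact hg 1 1
      · show ∃ c ∈ K, (g⁻¹ : SL2 F) 0 1 = s * c
        obtain ⟨c, hc, e⟩ := hg 0 1
        exact ⟨-c, K.neg_mem hc, by rw [e01, e]; ring⟩
      · show ∃ c ∈ K, (g⁻¹ : SL2 F) 1 0 = s * c
        obtain ⟨c, hc, e⟩ := hg 1 0
        exact ⟨-c, K.neg_mem hc, by rw [e10, e]; ring⟩
      · show ∃ c ∈ K, (g⁻¹ : SL2 F) 1 1 = s * c
        rw [e11]; exact hg 0 0

theorem GKs_ne_top (K : Subfield F) (hK : K ≠ ⊤) (s : F) (hs : s * s ∈ K) (hsK : s ∉ K) :
    GKs K s hs ≠ ⊤ := by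
  intro htop
  apply hK
  rw [eq_top_iff]
  intro t _
  have hmem : (upper t : SL2 F) ∈ GKs K s hs := by rw [htop]; trivial
  rcases hmem with h | h
  · have := h 0 1
    simpa using this
  · exfalso
    obtain ⟨c, hc, e⟩ := h 0 0
    have e' : (1 : F) = s * c := by simpa using e
    have hc0 : c ≠ 0 := by
      rintro rfl
      simp at e'
    apply hsK
    have : s = c⁻¹ := by
      field_simp
      exact e'.symm
    rw [this]
    exact K.inv_mem hc

theorem ringChar_ne_two (K : Type*) [Field K] (h2 : (2 : K) ≠ 0) : ringChar K ≠ 2 := by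
  intro h
  apply h2
  have := ringChar.Nat.cast_ringChar (R := K)
  rw [h] at this
  exact_mod_cast this

/-- in a quadratic extension of finite fields of odd characteristic there is `s ∉ K` with
`s² ∈ K` -/
theorem exists_sqrt_outside [Fintype F] (h2 : (2 : F) ≠ 0) (K : Subfield F) [Fintype K]
    (hq : Fintype.card F = Fintype.card K ^ 2) : ∃ s : F, s ∉ K ∧ s * s ∈ K := by
  have h2K : (2 : K) ≠ 0 := by
    intro h
    apply h2
    have := congrArg (fun x : K => (x : F)) h
    simp only [ZeroMemClass.coe_zero] at this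
    rw [← this]
    norm_cast
  obtain ⟨ν, hν⟩ := FiniteField.exists_nonsquare (ringChar_ne_two K h2K)
  have hν0 : ν ≠ 0 := by
    rintro rfl
    exact hν ⟨0, by simp⟩
  have hνF : (ν : F) ≠ 0 := by
    intro h
    exact hν0 (Subtype.ext h)
  have hpow : ν ^ (Fintype.card K - 1) = 1 := FiniteField.pow_card_sub_one_eq_one ν hν0
  have hoddK : Fintype.card K % 2 = 1 := FiniteField.odd_card_of_char_ne_two (ringChar_ne_two K h2K)
  obtain ⟨k, hk⟩ : ∃ k, Fintype.card K = 2 * k + 1 := ⟨Fintype.card K / 2, by omega⟩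
  have hhalf : Fintype.card F / 2 = (Fintype.card K - 1) * (k + 1) := by
    rw [hq, hk]
    have : (2 * k + 1) ^ 2 = 2 * ((2 * k + 1 - 1) * (k + 1)) + 1 := by
      simp only [Nat.add_sub_cancel]; ring
    rw [this]
    omega
  have hsq : IsSquare (ν : F) := by
    rw [FiniteField.isSquare_iff (ringChar_ne_two F h2) hνF, hhalf, pow_mul]
    have : ((ν : F)) ^ (Fintype.card K - 1) = 1 := by
      have := congrArg (fun x : K => (x : F)) hpow
      simpa using this
    rw [this, one_pow]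
  obtain ⟨s, hs⟩ := hsq
  refine ⟨s, ?_, ?_⟩
  · intro hsK
    apply hν
    exact ⟨⟨s, hsK⟩, Subtype.ext hs⟩
  · rw [← hs]; exact ν.2

/-- square roots of elements of a subfield of order `p ^ m` lie in the subfield fixed by
`Frob ^ (2m)` -/
theorem sqrt_mem_Kfix (p : ℕ) [Fact p.Prime] [CharP F p] (h2 : (2 : F) ≠ 0) (K : Subfield F)
    [Fintype K] (m : ℕ) (hK : Fintype.card K = p ^ m) (t : F) (ht : t ^ 2 ∈ K) :
    t ∈ Kfix F p (2 * m) := by
  rw [mem_Kfix]
  have hp2 : p ≠ 2 := by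
    rintro rfl
    apply h2
    have := CharP.cast_eq_zero F 2
    exact_mod_cast this
  have hQ : ∀ x : F, x ∈ K → x ^ (p ^ m) = x := by
    intro x hx
    have := FiniteField.pow_card (⟨x, hx⟩ : K)
    rw [hK] at this
    exact congrArg Subtype.val this
  have h1 : (t ^ (p ^ m)) ^ 2 = t ^ 2 := by
    rw [← pow_mul, mul_comm, pow_mul]
    exact hQ _ ht
  have hodd : Odd (p ^ m) := ((Fact.out : p.Prime).odd_of_ne_two hp2).pow
  have e : p ^ (2 * m) = p ^ m * p ^ m := by rw [two_mul, pow_add]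
  rw [e, pow_mul]
  have h3 : (t ^ (p ^ m) - t) * (t ^ (p ^ m) + t) = 0 := by linear_combination h1
  rcases mul_eq_zero.mp h3 with h | h
  · rw [sub_eq_zero.mp h, sub_eq_zero.mp h]
  · have h4 : t ^ (p ^ m) = -t := eq_neg_of_add_eq_zero_left h
    rw [h4, hodd.neg_pow, h4, neg_neg]

theorem le_Kfix (p : ℕ) [Fact p.Prime] [CharP F p] (K : Subfield F)
    [Fintype K] (m : ℕ) (hK : Fintype.card K = p ^ m) : K ≤ Kfix F p (2 * m) := by
  intro x hx
  rw [mem_Kfix]
  have := FiniteField.pow_card (⟨x, hx⟩ : K)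
  rw [hK] at this
  have h1 : x ^ (p ^ m) = x := congrArg Subtype.val this
  have e : p ^ (2 * m) = p ^ m * p ^ m := by rw [two_mul, pow_add]
  rw [e, pow_mul, h1, h1]

/-- the subfield cases in odd characteristic -/
theorem subfield_odd [Fintype F] (p : ℕ) [Fact p.Prime] [CharP F p] (h2 : (2 : F) ≠ 0)
    {H : Subgroup (SL2 F)} (hcoat : IsCoatom H) {b : F} (hb : b ≠ 0)
    (h1 : (upper 1 : SL2 F) ∈ H) (hy : (lower b : SL2 F) ∈ H)
    (hidx : (BH H).index = Nat.card (PH H) + 1) :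
    (∃ (F₀ : Type) (_ : Field F₀) (_ : Fintype F₀), Fintype.card F = Fintype.card F₀ ^ 2 ∧
      Nonempty (↥(H.map π) ≃* PGL2 F₀)) ∨
    (∃ (F₀ : Type) (_ : Field F₀) (_ : Fintype F₀) (r : ℕ), r.Prime ∧ Odd r ∧
      Fintype.card F = Fintype.card F₀ ^ r ∧ Nonempty (↥(H.map π) ≃* PSL2 F₀)) := by
  classical
  obtain ⟨K0, hKu, _, hle, hdec⟩ :=
    Cfsg.Agent.Lib.Lead.DicksonField.structure_of_index' p hb h1 hy hidx
  haveI : Finite K0 := Finite.of_injective (fun x : K0 => (x : F)) Subtype.val_injective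
  letI : Fintype K0 := Fintype.ofFinite K0
  obtain ⟨K, instK, instFK, ⟨e⟩⟩ := Cfsg.Agent.Lib.Helper12.DkH.exists_type0 K0
  letI := instK
  letI := instFK
  have hc1 : Fintype.card K = Fintype.card K0 := Fintype.card_congr e.toEquiv
  set ι : K →+* F := (K0.subtype).comp (e : K →+* K0) with hι
  have hrange : ∀ x : F, x ∈ K0 → x ∈ ι.range := by
    intro x hx
    refine ⟨e.symm ⟨x, hx⟩, ?_⟩
    rw [hι, RingHom.comp_apply]
    simp
  have hrange' : ∀ x : F, x ∈ ι.range → x ∈ K0 := by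
    rintro _ ⟨y, rfl⟩
    rw [hι, RingHom.comp_apply]
    exact (e y).2
  have hS : ∀ s : Matrix.SpecialLinearGroup (Fin 2) K, Matrix.SpecialLinearGroup.map ι s ∈ H := by
    intro s
    apply hle
    refine ⟨Matrix.SpecialLinearGroup.map (e : K →+* K0) s, ?_⟩
    apply Matrix.SpecialLinearGroup.ext
    intro i j
    simp [Matrix.SpecialLinearGroup.map_apply_coe, RingHom.mapMatrix_apply, hι]
  have hSLK : ∀ s : SL2 F, s ∈ SLK K0 →
      ∃ s' : Matrix.SpecialLinearGroup (Fin 2) K, Matrix.SpecialLinearGroup.map ι s' = s := by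
    rintro _ ⟨x, rfl⟩
    refine ⟨Matrix.SpecialLinearGroup.map (e.symm : K0 →+* K) x, ?_⟩
    apply Matrix.SpecialLinearGroup.ext
    intro i j
    simp [Matrix.SpecialLinearGroup.map_apply_coe, RingHom.mapMatrix_apply, hι]
  have hpowq : Fintype.card F = Fintype.card K0 ^ Module.finrank K0 F :=
    Module.card_eq_pow_finrank (K := K0) (V := F)
  by_cases hA : ∀ g ∈ H, g ∈ SLK K0
  · -- `H = SL₂(K0)`
    right
    have hHeq : H = SLK K0 := le_antisymm hA hle
    have hK0top : K0 ≠ ⊤ := by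
      intro h
      apply hcoat.1
      rw [hHeq, h, SLK_top]
    have hprime : Nat.Prime (Module.finrank K0 F) := by
      by_contra hnp
      obtain ⟨K1, h01, h1t⟩ := exists_intermediate K0 hK0top hnp
      have hlt : H < SLK K1 := by rw [hHeq]; exact SLK_lt h01
      exact SLK_ne_top (ne_of_lt h1t) (hcoat.2 _ hlt)
    have hsurj : ∀ g ∈ H, ∃ s : Matrix.SpecialLinearGroup (Fin 2) K,
        Matrix.SpecialLinearGroup.map ι s = g := fun g hg => hSLK g (hA g hg)
    have hiso := Cfsg.Agent.Lib.Helper1.DkIso.caseA ι H hS hsurj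
    refine ⟨K, instK, instFK, Module.finrank K0 F, hprime, ?_, by rw [hc1]; exact hpowq, hiso⟩
    rcases hprime.eq_two_or_odd' with h2r | hodd
    · exfalso
      rw [h2r] at hpowq
      obtain ⟨s, hsK, hss⟩ := exists_sqrt_outside h2 K0 hpowq
      have hs0 : s ≠ 0 := by
        rintro rfl
        exact hsK K0.zero_mem
      have hlt : H < GKs K0 s hss := by
        rw [hHeq]
        refine lt_of_le_of_ne ?_ ?_
        · intro g hg
          exact Or.inl (entries_of_mem_SLK K0 hg)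
        · intro heq
          have hmem : (Cfsg.Agent.Lib.Lead.DicksonField.dg (Units.mk0 s hs0) : SL2 F) ∈
              GKs K0 s hss := by
            right
            intro a b
            fin_cases a <;> fin_cases b
            · exact ⟨1, K0.one_mem, by simp [Cfsg.Agent.Lib.Lead.DicksonField.dg]⟩
            · exact ⟨0, K0.zero_mem, by simp [Cfsg.Agent.Lib.Lead.DicksonField.dg]⟩
            · exact ⟨0, K0.zero_mem, by simp [Cfsg.Agent.Lib.Lead.DicksonField.dg]⟩
            · refine ⟨(s * s)⁻¹, K0.inv_mem hss, ?_⟩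
              simp [Cfsg.Agent.Lib.Lead.DicksonField.dg]
              field_simp
          rw [← heq] at hmem
          have := entries_of_mem_SLK K0 hmem 0 0
          apply hsK
          simpa [Cfsg.Agent.Lib.Lead.DicksonField.dg] using this
      exact GKs_ne_top K0 hK0top s hss hsK (hcoat.2 _ hlt)
    · exact hodd
  · -- `PGL₂(K0)`
    left
    push Not at hA
    obtain ⟨g, hgH, hgn⟩ := hA
    obtain ⟨s₀, hs₀, a, ha2, hdga, rfl⟩ := hdec g hgH
    have haK : (a : F) ∉ K0 := by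
      intro haK
      exact hgn ((SLK K0).mul_mem hs₀ (dg_mem_SLK K0 a haK))
    have hK0top : K0 ≠ ⊤ := by
      intro h
      apply haK
      rw [h]; trivial
    have hdec' : ∀ g ∈ H, ∃ (s : Matrix.SpecialLinearGroup (Fin 2) K) (a : F) (ha : a ≠ 0),
        a ^ 2 ∈ ι.range ∧
        g = Matrix.SpecialLinearGroup.map ι s * Cfsg.Agent.Lib.Helper12.SL2.dg a ha := by
      intro g hg
      obtain ⟨s, hs, a, ha2, _, rfl⟩ := hdec g hg
      obtain ⟨s', rfl⟩ := hSLK s hs
      refine ⟨s', (a : F), a.ne_zero, hrange _ ha2, ?_⟩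
      congr 1
      apply Cfsg.Agent.Lib.Helper12.SL2.ext4 <;>
        simp [Cfsg.Agent.Lib.Lead.DicksonField.dg, Cfsg.Agent.Lib.Helper12.SL2.dg]
    obtain ⟨c0, hc0⟩ := hrange _ ha2
    have hdg' : Cfsg.Agent.Lib.Helper12.SL2.dg (a : F) a.ne_zero ∈ H := by
      have : Cfsg.Agent.Lib.Helper12.SL2.dg (a : F) a.ne_zero =
          Cfsg.Agent.Lib.Lead.DicksonField.dg a := by
        apply Cfsg.Agent.Lib.Helper12.SL2.ext4 <;>
          simp [Cfsg.Agent.Lib.Lead.DicksonField.dg, Cfsg.Agent.Lib.Helper12.SL2.dg]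
      rw [this]; exact hdga
    have hiso := Cfsg.Agent.Lib.Helper1.DkIso.caseB ι H hS hdec' (a : F) c0 hc0.symm
      (fun h => haK (hrange' _ h)) a.ne_zero hdg'
    refine ⟨K, instK, instFK, ?_, hiso⟩
    rw [hc1]
    -- `q = |K0|²`
    haveI : CharP K0 p := RingHom.charP K0.subtype Subtype.val_injective p
    obtain ⟨m, -, hm⟩ := FiniteField.card K0 p
    have hHle : H ≤ SLK (Kfix F p (2 * m)) := by
      intro g hg
      obtain ⟨s, hs, a', ha2', _, rfl⟩ := hdec g hg
      exact (SLK _).mul_mem (SLK_mono (le_Kfix p K0 m hm) hs)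
        (dg_mem_SLK _ a' (sqrt_mem_Kfix p h2 K0 m hm _ ha2'))
    rcases hcoat.le_iff.mp hHle with htop | heq
    · have hKtop : Kfix F p (2 * m) = ⊤ := by
        by_contra hne
        exact SLK_ne_top hne htop
      have hle2 := card_le_of_Kfix_eq_top p (2 * m) (by have := m.pos; omega) hKtop
      have hr2 : 2 ≤ Module.finrank K0 F := by
        by_contra hlt
        push Not at hlt
        apply hK0top
        have hcard : Fintype.card F ≤ Fintype.card K0 := by
          rw [hpowq]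
          calc Fintype.card K0 ^ Module.finrank K0 F ≤ Fintype.card K0 ^ 1 :=
                Nat.pow_le_pow_right Fintype.card_pos (by omega)
            _ = Fintype.card K0 := pow_one _
        rw [eq_top_iff]
        intro x _
        have hbij : Function.Bijective (fun y : K0 => (y : F)) :=
          Function.Injective.bijective_of_nat_card_le Subtype.val_injective
            (by rw [Nat.card_eq_fintype_card, Nat.card_eq_fintype_card]; exact hcard)
        obtain ⟨y, rfl⟩ := hbij.2 x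
        exact y.2
      have hge : Fintype.card K0 ^ 2 ≤ Fintype.card F := by
        rw [hpowq]
        exact Nat.pow_le_pow_right Fintype.card_pos hr2
      have : p ^ (2 * (m : ℕ)) = Fintype.card K0 ^ 2 := by
        rw [hm, ← pow_mul, mul_comm]
      rw [this] at hle2
      exact le_antisymm hle2 hge
    · exfalso
      apply haK
      rw [← hKu, ← heq, upper_mem_SLK_iff]
      exact sqrt_mem_Kfix p h2 K0 m hm _ ha2

end Cfsg.Agent.Lib.Helper12.DkY
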