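import Cfsg.Agent.Lib.Helper12.DkZ
import Cfsg.Agent.S0803

/-!
Maximal subgroups of `PSL₂(q)`, `q` odd: assembly modulo the small exceptions (helper12).
-/

set_option autoImplicit false

namespace Cfsg.Agent.Lib.Helper12.DkZ

open Cfsg.Agent.Lib.Helper12.SL2

variable {F : Type*} [Field F]

local notation "SL2" => Matrix.SpecialLinearGroup (Fin 2)
local notation "PSL2" => Matrix.ProjectiveSpecialLinearGroup (Fin 2)
local notation "PGL2" => Matrix.ProjGenLinGroup (Fin 2)

/-- the statement of S5892, given the non-maximality lemmas as hypotheses -/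
theorem odd_maximal_of [Fintype F] (p : ℕ) [Fact p.Prime] [CharP F p]
    (hodd : Odd (Fintype.card F)) (h5 : 5 ≤ Fintype.card F)
    (M : Subgroup (PSL2 F)) (hM : IsCoatom M)
    (hE : ∀ k : ℕ, Nonempty (M ≃* DihedralGroup k) →
      ¬ ((Fintype.card F = 5 ∧ k = 2) ∨ (Fintype.card F = 7 ∧ k = 3) ∨
        (Fintype.card F = 7 ∧ k = 4) ∨ (Fintype.card F = 9 ∧ k = 4) ∨
        (Fintype.card F = 9 ∧ k = 5) ∨ (Fintype.card F = 11 ∧ k = 5)))
    (hA8 : Nonempty (M ≃* alternatingGroup (Fin 4)) →
      ¬ (Fintype.card F % 8 = 1 ∨ Fintype.card F % 8 = 7))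
    (hA10 : Nonempty (M ≃* alternatingGroup (Fin 4)) →
      (Fintype.card F % 8 = 3 ∨ Fintype.card F % 8 = 5) →
      ¬ (Fintype.card F % 10 = 1 ∨ Fintype.card F % 10 = 9)) :
    2 * Nat.card M = Fintype.card F * (Fintype.card F - 1) ∨
    (13 ≤ Fintype.card F ∧ (∃ k : ℕ, 2 * k = Fintype.card F - 1 ∧ Nonempty (M ≃* DihedralGroup k))) ∨
    (Fintype.card F ≠ 7 ∧ Fintype.card F ≠ 9 ∧ (∃ k : ℕ, 2 * k = Fintype.card F + 1 ∧ Nonempty (M ≃* DihedralGroup k))) ∨
    (∃ (F₀ : Type) (_ : Field F₀) (_ : Fintype F₀), Fintype.card F = Fintype.card F₀ ^ 2 ∧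
        Nonempty (M ≃* Matrix.ProjGenLinGroup (Fin 2) F₀)) ∨
    (∃ (F₀ : Type) (_ : Field F₀) (_ : Fintype F₀) (r : ℕ), r.Prime ∧ Odd r ∧ Fintype.card F = Fintype.card F₀ ^ r ∧
        Nonempty (M ≃* Matrix.ProjectiveSpecialLinearGroup (Fin 2) F₀)) ∨
    ((Fintype.card F % 10 = 1 ∨ Fintype.card F % 10 = 9) ∧
        (Fintype.card F = p ∨ (Fintype.card F = p ^ 2 ∧ (p % 10 = 3 ∨ p % 10 = 7))) ∧
        Nonempty (M ≃* alternatingGroup (Fin 5))) ∨
    (Fintype.card F = p ∧ (p % 8 = 3 ∨ p % 8 = 5) ∧ ¬ (p % 10 = 1 ∨ p % 10 = 9) ∧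
        Nonempty (M ≃* alternatingGroup (Fin 4))) ∨
    (Fintype.card F = p ∧ (p % 8 = 1 ∨ p % 8 = 7) ∧ Nonempty (M ≃* Equiv.Perm (Fin 4))) := by
  classical
  have h2 : (2 : F) ≠ 0 := Cfsg.Agent.S2428.two_ne_zero_of_odd hodd
  set π := QuotientGroup.mk' (Subgroup.center (SL2 F)) with hπ
  have hsurj : Function.Surjective π := QuotientGroup.mk'_surjective _
  have hcoat : IsCoatom (M.comap π) := Subgroup.isCoatom_comap_of_surjective hsurj hM
  have hmap : (M.comap π).map π = M := Subgroup.map_comap_eq_self_of_surjective hsurj M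
  have hZ : Subgroup.center (SL2 F) ≤ M.comap π := by
    intro z hz
    rw [Subgroup.mem_comap]
    have : π z = 1 := by
      rw [← MonoidHom.mem_ker, hπ, QuotientGroup.ker_mk']
      exact hz
    rw [this]
    exact M.one_mem
  have hcardM : Nat.card (M.comap π) = 2 * Nat.card M := by
    have := Cfsg.Agent.S0807.card_map_mk h2 (M.comap π) hZ
    rw [this]
    have e : (M.comap π).map Cfsg.Agent.S0807.mkH = M := hmap
    rw [e]
  have hqodd : Fintype.card F % 2 = 1 := Nat.odd_iff.mp hodd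
  -- order of `PSL₂`
  have hG : Nat.card (PSL2 F) * 2 = Fintype.card F * (Fintype.card F - 1) * (Fintype.card F + 1) := by
    have := Cfsg.Agent.Lib.Helper1.DkOrders.card_PSL2_mul (F := F)
    have hg2 : Nat.gcd 2 (Fintype.card F - 1) = 2 := by
      obtain ⟨m, hm⟩ := hodd
      rw [hm]
      simp
    rwa [hg2] at this
  have hdvdG : Nat.card M ∣ Nat.card (PSL2 F) := Subgroup.card_subgroup_dvd_card M
  rcases coatom_odd p hodd (by omega) hcoat hZ with hB | hC
  · left
    rw [← hcardM, hB, mul_comm]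
  · have hC' : ConclOdd (Fintype.card F) p M := hC.congr (MulEquiv.subgroupCongr hmap)
    rcases hC' with ⟨k, hk, f⟩ | ⟨k, hk, f⟩ | h | h | ⟨hp5, hq, f⟩ | ⟨hq, f⟩ | ⟨hq, f⟩
    · right; left
      refine ⟨?_, k, hk, f⟩
      by_contra hlt
      push Not at hlt
      apply hE k f
      have : Fintype.card F = 5 ∨ Fintype.card F = 7 ∨ Fintype.card F = 9 ∨ Fintype.card F = 11 := by
        omega
      rcases this with h | h | h | h
      · exact Or.inl ⟨h, by omega⟩
      · exact Or.inr (Or.inl ⟨h, by omega⟩)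
      · exact Or.inr (Or.inr (Or.inr (Or.inl ⟨h, by omega⟩)))
      · exact Or.inr (Or.inr (Or.inr (Or.inr (Or.inr ⟨h, by omega⟩))))
    · right; right; left
      refine ⟨?_, ?_, k, hk, f⟩
      · intro h7
        exact hE k f (Or.inr (Or.inr (Or.inl ⟨h7, by omega⟩)))
      · intro h9
        exact hE k f (Or.inr (Or.inr (Or.inr (Or.inr (Or.inl ⟨h9, by omega⟩)))))
    · exact Or.inr (Or.inr (Or.inr (Or.inl h)))
    · exact Or.inr (Or.inr (Or.inr (Or.inr (Or.inl h))))
    · -- `A₅`
      right; right; right; right; right; left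
      refine ⟨?_, hq, f⟩
      obtain ⟨f⟩ := f
      have hc : Nat.card M = 60 := by rw [Nat.card_congr f.toEquiv, card_A5]
      rw [hc] at hdvdG
      have h5d : 5 ∣ Fintype.card F * (Fintype.card F - 1) * (Fintype.card F + 1) := by
        rw [← hG]
        exact dvd_trans (by norm_num : 5 ∣ 60) (Dvd.dvd.mul_right hdvdG 2)
      have hn5 : ¬ 5 ∣ Fintype.card F := by
        intro h5q
        obtain ⟨n, -, hn⟩ := FiniteField.card F p
        rw [hn] at h5q
        have := (Nat.Prime.dvd_of_dvd_pow (by norm_num : Nat.Prime 5) h5q)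
        rcases (Nat.dvd_prime (Fact.out : p.Prime)).mp this with h1 | h1
        · norm_num at h1
        · exact hp5 h1.symm
      have h5' : 5 ∣ (Fintype.card F - 1) * (Fintype.card F + 1) := by
        rw [mul_assoc] at h5d
        exact (Nat.Coprime.dvd_mul_left
          ((Nat.Prime.coprime_iff_not_dvd (by norm_num : Nat.Prime 5)).mpr hn5)).mp h5d
      rcases (Nat.Prime.dvd_mul (by norm_num : Nat.Prime 5)).mp h5' with h | h
      · left; omega
      · right; omega
    · -- `A₄`
      right; right; right; right; right; right; left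
      have h8 : Fintype.card F % 8 = 3 ∨ Fintype.card F % 8 = 5 := by
        have := hA8 f
        omega
      have h10 := hA10 f h8
      rw [hq] at h8 h10
      exact ⟨hq, h8, h10, f⟩
    · -- `S₄`
      right; right; right; right; right; right; right
      refine ⟨hq, ?_, f⟩
      obtain ⟨f'⟩ := f
      have hc : Nat.card M = 24 := by rw [Nat.card_congr f'.toEquiv, card_S4]
      rw [hc] at hdvdG
      have h16 : 16 ∣ Fintype.card F * (Fintype.card F ^ 2 - 1) := by
        have e : Fintype.card F * (Fintype.card F ^ 2 - 1) =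
            Fintype.card F * (Fintype.card F - 1) * (Fintype.card F + 1) := by
          have hq1 : 1 ≤ Fintype.card F := by omega
          obtain ⟨m, hm⟩ : ∃ m, Fintype.card F = m + 1 := ⟨Fintype.card F - 1, by omega⟩
          rw [hm]
          simp only [Nat.add_sub_cancel]
          have : (m + 1) ^ 2 - 1 = m * (m + 1 + 1) := by
            have : (m + 1) ^ 2 = m * (m + 1 + 1) + 1 := by ring
            omega
          rw [this]; ring
        rw [e, ← hG]
        obtain ⟨c, hc'⟩ := hdvdG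
        rw [hc']
        exact ⟨3 * c, by ring⟩
      have hsq := Cfsg.Agent.S0803.sq_mod_of_cube (Fintype.card F) hqodd h16
      rw [hq] at hsq
      have hp16 : p % 16 < 16 := Nat.mod_lt _ (by norm_num)
      have : p ^ 2 % 16 = (p % 16) ^ 2 % 16 := by rw [Nat.pow_mod]
      rw [this] at hsq
      have hp8 : p % 8 = (p % 16) % 8 := by omega
      rw [hp8]
      generalize p % 16 = r at *
      interval_cases r <;> simp_all

end Cfsg.Agent.Lib.Helper12.DkZ
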