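import Mathlib

/-! Frobenius' theorem: if `m ∣ |G|` then `m ∣ #{x | x ^ m = 1}` (Isaacs–Robinson style proof),
with reusable pieces: coprime decomposition of torsion elements, class-sum divisibility,
totient divisibility of the number of elements of a given order. -/

set_option autoImplicit false

namespace Cfsg.Agent.Lib.Helper12.Frobenius

universe u

section Decomp
variable {G : Type*} [Group G]

theorem pow_eq_self_of_modEq {y : G} {r u : ℕ} (hy : y ^ r = 1) (hu : u ≡ 1 [MOD r]) :
    y ^ u = y := by
  have h1 : u ≡ 1 [MOD orderOf y] := hu.of_dvd (orderOf_dvd_of_pow_eq_one hy)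
  have := (pow_eq_pow_iff_modEq (x := y)).mpr h1
  rwa [pow_one] at this

theorem pow_eq_one_of_modEq {y : G} {r u : ℕ} (hy : y ^ r = 1) (hu : u ≡ 0 [MOD r]) :
    y ^ u = 1 := by
  obtain ⟨c, rfl⟩ := (Nat.modEq_zero_iff_dvd).mp hu
  rw [pow_mul, hy, one_pow]

/-- Coprime decomposition: elements with `x ^ (r * s) = 1` correspond to commuting pairs
`(y, z)` with `y ^ r = 1`, `z ^ s = 1`. A predicate may be carried along. -/
theorem card_decomp [Finite G] (r s : ℕ) (hrs : Nat.Coprime r s) (P Q : G → Prop)
    (hPQ : ∀ y z : G, y ^ r = 1 → z ^ s = 1 → Commute y z → (P (y * z) ↔ Q y)) :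
    Nat.card {x : G // x ^ (r * s) = 1 ∧ P x} =
      Nat.card (Σ y : {y : G // y ^ r = 1 ∧ Q y}, {z : G // z ^ s = 1 ∧ Commute y.1 z}) := by
  obtain ⟨u, hu1, hu2⟩ := Nat.chineseRemainder hrs 1 0
  obtain ⟨v, hv1, hv2⟩ := Nat.chineseRemainder hrs 0 1
  have huv : u + v ≡ 1 [MOD r * s] := by
    rw [← Nat.modEq_and_modEq_iff_modEq_mul hrs]
    exact ⟨by simpa using hu1.add hv1, by simpa using hu2.add hv2⟩
  have hxu : ∀ x : G, x ^ (r * s) = 1 → (x ^ u) ^ r = 1 := by
    intro x hx
    obtain ⟨c, rfl⟩ := (Nat.modEq_zero_iff_dvd).mp hu2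
    rw [← pow_mul, mul_comm s c, mul_assoc, mul_comm s r, mul_comm c, pow_mul, hx, one_pow]
  have hxv : ∀ x : G, x ^ (r * s) = 1 → (x ^ v) ^ s = 1 := by
    intro x hx
    obtain ⟨c, rfl⟩ := (Nat.modEq_zero_iff_dvd).mp hv1
    rw [← pow_mul, mul_comm r c, mul_assoc, mul_comm c, pow_mul, hx, one_pow]
  have hcomm : ∀ x : G, Commute (x ^ u) (x ^ v) := fun x => (Commute.refl x).pow_pow u v
  have hmul : ∀ x : G, x ^ (r * s) = 1 → x ^ u * x ^ v = x := by
    intro x hx
    rw [← pow_add]
    exact pow_eq_self_of_modEq hx huv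
  apply Nat.card_congr
  refine
    { toFun := fun x => ⟨⟨x.1 ^ u, hxu x.1 x.2.1, ?_⟩, ⟨x.1 ^ v, hxv x.1 x.2.1, hcomm x.1⟩⟩
      invFun := fun q => ⟨q.1.1 * q.2.1, ?_, ?_⟩
      left_inv := ?_
      right_inv := ?_ }
  · have := hPQ (x.1 ^ u) (x.1 ^ v) (hxu x.1 x.2.1) (hxv x.1 x.2.1) (hcomm x.1)
    rw [hmul x.1 x.2.1] at this
    exact this.mp x.2.2
  · rw [q.2.2.2.mul_pow, pow_mul, q.1.2.1, one_pow, mul_comm r s, pow_mul, q.2.2.1, one_pow,
      one_mul]
  · exact (hPQ q.1.1 q.2.1 q.1.2.1 q.2.2.1 q.2.2.2).mpr q.1.2.2
  · intro x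
    apply Subtype.ext
    exact hmul x.1 x.2.1
  · rintro ⟨⟨y, hy, hQ⟩, ⟨z, hz, hc⟩⟩
    have hc' : Commute y z := hc
    apply Sigma.subtype_ext
    · apply Subtype.ext
      show (y * z) ^ u = y
      rw [hc'.mul_pow, pow_eq_self_of_modEq hy hu1, pow_eq_one_of_modEq hz hu2, mul_one]
    · show (y * z) ^ v = z
      rw [hc'.mul_pow, pow_eq_one_of_modEq hy hv1, pow_eq_self_of_modEq hz hv2, one_mul]

end Decomp

section ClassSum
variable {G : Type*} [Group G]

/-- The conjugacy class of `g` as a set. -/
def cls (g : G) : Set G := {h : G | ∃ c : G, h = c * g * c⁻¹}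

theorem index_centralizer_eq_ncard_cls (g : G) :
    (Subgroup.centralizer ({g} : Set G)).index = (cls g).ncard := by
  have h1 : (MulAction.stabilizer (ConjAct G) g).index = (MulAction.orbit (ConjAct G) g).ncard :=
    MulAction.index_stabilizer _ _
  have h2 : (Subgroup.centralizer ({g} : Set G)).index =
      (MulAction.stabilizer (ConjAct G) g).index := by
    rw [Subgroup.centralizer_eq_comap_stabilizer]
    exact Subgroup.index_comap_of_surjective _ (ConjAct.toConjAct (G := G)).surjective
  rw [h2, h1]
  congr 1
  ext h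
  rw [ConjAct.mem_orbit_conjAct, isConj_comm, isConj_iff]
  constructor
  · rintro ⟨c, hc⟩; exact ⟨c, hc.symm⟩
  · rintro ⟨c, hc⟩; exact ⟨c, hc.symm⟩

/-- Divisibility of a sum of a class function over a conjugation-invariant set, from
divisibility of each class contribution. -/
theorem dvd_sum_of_class [DecidableEq G] (M : ℕ) (F : G → ℕ)
    (hF : ∀ g y : G, F (g * y * g⁻¹) = F y) :
    ∀ (S : Finset G), (∀ g : G, ∀ y ∈ S, g * y * g⁻¹ ∈ S) →
      (∀ y ∈ S, M ∣ (Subgroup.centralizer ({y} : Set G)).index * F y) → M ∣ ∑ y ∈ S, F y := by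
  classical
  intro S
  induction S using Finset.strongInduction with
  | H S ih =>
    intro hS h
    rcases S.eq_empty_or_nonempty with rfl | ⟨y, hy⟩
    · simp
    · let c : Finset G := S.filter (fun x => ∃ g : G, x = g * y * g⁻¹)
      have hcS : c ⊆ S := Finset.filter_subset _ _
      have hyc : y ∈ c := Finset.mem_filter.mpr ⟨hy, 1, by simp⟩
      have hsplit : ∑ x ∈ S, F x = ∑ x ∈ S \ c, F x + ∑ x ∈ c, F x :=
        (Finset.sum_sdiff hcS).symm
      rw [hsplit]
      apply dvd_add
      · apply ih (S \ c)
        · exact Finset.sdiff_ssubset hcS ⟨y, hyc⟩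
        · intro g x hx
          rw [Finset.mem_sdiff] at hx ⊢
          refine ⟨hS g x hx.1, ?_⟩
          intro hmem
          apply hx.2
          rw [Finset.mem_filter] at hmem ⊢
          obtain ⟨_, g', hg'⟩ := hmem
          refine ⟨hx.1, g⁻¹ * g', ?_⟩
          have : x = g⁻¹ * (g * x * g⁻¹) * g := by group
          rw [this, hg']
          group
        · intro x hx
          exact h x (Finset.mem_sdiff.mp hx).1
      · have hconst : ∀ x ∈ c, F x = F y := by
          intro x hx
          obtain ⟨_, g, rfl⟩ := Finset.mem_filter.mp hx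
          exact hF g y
        rw [Finset.sum_congr rfl hconst, Finset.sum_const, smul_eq_mul]
        have hcard : c.card = (Subgroup.centralizer ({y} : Set G)).index := by
          rw [index_centralizer_eq_ncard_cls, ← Set.ncard_coe_finset]
          congr 1
          ext x
          simp only [c, Finset.coe_filter, Set.mem_setOf_eq, cls]
          constructor
          · rintro ⟨_, g, hg⟩
            exact ⟨g, hg⟩
          · rintro ⟨g, rfl⟩
            exact ⟨hS g y hy, g, rfl⟩
        rw [hcard]
        exact h y hy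

end ClassSum

section Totient
variable {G : Type*} [Group G] [Finite G]

/-- The number of generators of the cyclic group generated by `x₀`. -/
theorem card_zpowers_eq (x₀ : G) :
    Nat.card {x : G // Subgroup.zpowers x = Subgroup.zpowers x₀} = Nat.totient (orderOf x₀) := by
  classical
  have h1 : Nat.card {x : G // Subgroup.zpowers x = Subgroup.zpowers x₀} =
      Nat.card {g : Subgroup.zpowers x₀ // orderOf g = orderOf x₀} := by
    apply Nat.card_congr
    refine
      { toFun := fun x => ⟨⟨x.1, (show x.1 ∈ Subgroup.zpowers x₀ from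
          (SetLike.ext_iff.mp x.2 x.1).mp (Subgroup.mem_zpowers x.1))⟩, ?_⟩
        invFun := fun g => ⟨g.1.1, ?_⟩
        left_inv := fun _ => rfl
        right_inv := fun _ => rfl }
    · rw [Subgroup.orderOf_mk, ← Nat.card_zpowers, x.2, Nat.card_zpowers]
    · apply Subgroup.eq_of_le_of_card_ge
      · exact Subgroup.zpowers_le.mpr g.1.2
      · rw [Nat.card_zpowers, Nat.card_zpowers, Subgroup.orderOf_coe, g.2]
  rw [h1]
  letI : Fintype (Subgroup.zpowers x₀) := Fintype.ofFinite _
  have := IsCyclic.card_orderOf_eq_totient (α := Subgroup.zpowers x₀) (d := orderOf x₀)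
    (by rw [← Nat.card_eq_fintype_card, Nat.card_zpowers])
  rw [← this, Nat.card_eq_fintype_card, Fintype.card_subtype]

/-- `φ(d)` divides the number of elements of order `d`. -/
theorem totient_dvd_card_orderOf (d : ℕ) :
    Nat.totient d ∣ Nat.card {x : G // orderOf x = d} := by
  classical
  letI := Fintype.ofFinite G
  letI : Fintype (Subgroup G) := Fintype.ofFinite _
  rw [Nat.card_eq_fintype_card, Fintype.card_subtype]
  rw [Finset.card_eq_sum_card_fiberwise (f := fun x => Subgroup.zpowers x) (t := Finset.univ)
    (fun _ _ => Finset.mem_coe.mpr (Finset.mem_univ _))]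
  apply Finset.dvd_sum
  intro C _
  by_cases hC : ∃ x₀ : G, orderOf x₀ = d ∧ Subgroup.zpowers x₀ = C
  · obtain ⟨x₀, hx₀, rfl⟩ := hC
    have : (Finset.filter (fun x => Subgroup.zpowers x = Subgroup.zpowers x₀)
        (Finset.filter (fun x => orderOf x = d) Finset.univ)) =
        Finset.univ.filter (fun x => Subgroup.zpowers x = Subgroup.zpowers x₀) := by
      ext x
      simp only [Finset.mem_filter, Finset.mem_univ, true_and, and_iff_right_iff_imp]
      intro h
      rw [← hx₀, ← Nat.card_zpowers, h, Nat.card_zpowers]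
    rw [this, ← Fintype.card_subtype, ← Nat.card_eq_fintype_card, card_zpowers_eq, hx₀]
  · have : (Finset.filter (fun x => Subgroup.zpowers x = C)
        (Finset.filter (fun x => orderOf x = d) Finset.univ)) = ∅ := by
      rw [Finset.eq_empty_iff_forall_notMem]
      intro x hx
      simp only [Finset.mem_filter, Finset.mem_univ, true_and] at hx
      exact hC ⟨x, hx.1, hx.2⟩
    rw [this, Finset.card_empty]
    exact dvd_zero _

end Totient

section Quot
variable {G : Type*} [Group G] [Finite G]

/-- Modulo a central subgroup of order coprime to `k`, the `k`-torsion elements correspond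
bijectively. -/
theorem card_pow_eq_one_quotient (Y : Subgroup G) [Y.Normal] (hY : Y ≤ Subgroup.center G) (k : ℕ)
    (hk : (Nat.card Y).Coprime k) :
    Nat.card {x : G // x ^ k = 1} = Nat.card {q : G ⧸ Y // q ^ k = 1} := by
  apply Nat.card_congr
  refine Equiv.ofBijective (fun x => ⟨(x.1 : G ⧸ Y), by
    rw [← QuotientGroup.mk_pow, x.2, QuotientGroup.mk_one]⟩) ⟨?_, ?_⟩
  · intro x x' h
    have h1 : ((x.1 : G) : G ⧸ Y) = (x'.1 : G ⧸ Y) := congrArg Subtype.val h
    rw [QuotientGroup.eq] at h1
    have hwc : x.1⁻¹ * x'.1 ∈ Subgroup.center G := hY h1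
    have hx' : x'.1 = x.1 * (x.1⁻¹ * x'.1) := by group
    have hcomm : Commute x.1 (x.1⁻¹ * x'.1) := (Subgroup.mem_center_iff.mp hwc x.1)
    have hwk : (x.1⁻¹ * x'.1) ^ k = 1 := by
      have := x'.2
      rw [hx', hcomm.mul_pow, x.2, one_mul] at this
      exact this
    have hw1 : x.1⁻¹ * x'.1 = 1 := by
      have h2 : orderOf (x.1⁻¹ * x'.1) ∣ k := orderOf_dvd_of_pow_eq_one hwk
      have h3 : orderOf (x.1⁻¹ * x'.1) ∣ Nat.card Y := Subgroup.orderOf_dvd_natCard Y h1
      exact orderOf_eq_one_iff.mp (Nat.eq_one_of_dvd_coprimes hk h3 h2)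
    apply Subtype.ext
    rw [hx', hw1, mul_one]
  · rintro ⟨q, hq⟩
    induction q using QuotientGroup.induction_on with
    | H x =>
    rw [← QuotientGroup.mk_pow, QuotientGroup.eq_one_iff] at hq
    obtain ⟨w, hw⟩ := (powCoprime hk).surjective ⟨(x ^ k)⁻¹, Y.inv_mem hq⟩
    have hw' : (w : G) ^ k = (x ^ k)⁻¹ := by
      have := congrArg Subtype.val hw
      simpa using this
    have hwc : (w : G) ∈ Subgroup.center G := hY w.2
    have hcomm : Commute x (w : G) := (Subgroup.mem_center_iff.mp hwc x)
    refine ⟨⟨x * w, ?_⟩, ?_⟩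
    · rw [hcomm.mul_pow, hw', mul_inv_cancel]
    · apply Subtype.ext
      show ((x * w : G) : G ⧸ Y) = (x : G ⧸ Y)
      rw [QuotientGroup.eq]
      have : (x * (w : G))⁻¹ * x = (w : G)⁻¹ := by
        rw [mul_inv_rev, mul_assoc, inv_mul_cancel, mul_one]
      rw [this]
      exact Y.inv_mem w.2

/-- Torsion elements commuting with `y`, seen inside the centralizer. -/
theorem card_commute_eq (y : G) (k : ℕ) :
    Nat.card {z : G // z ^ k = 1 ∧ Commute y z} =
      Nat.card {z : Subgroup.centralizer ({y} : Set G) // z ^ k = 1} := by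
  apply Nat.card_congr
  refine
    { toFun := fun z => ⟨⟨z.1, ?_⟩, ?_⟩
      invFun := fun z => ⟨z.1.1, ?_, ?_⟩
      left_inv := fun _ => rfl
      right_inv := fun _ => rfl }
  · rw [Subgroup.mem_centralizer_singleton_iff]
    exact z.2.2.eq.symm
  · apply Subtype.ext
    simpa using z.2.1
  · have := congrArg Subtype.val z.2
    simpa using this
  · have := Subgroup.mem_centralizer_singleton_iff.mp z.1.2
    exact this.symm

/-- Only `gcd m |G|` matters. -/
theorem card_pow_eq_one_gcd (m : ℕ) :
    Nat.card {x : G // x ^ m = 1} = Nat.card {x : G // x ^ (Nat.gcd m (Nat.card G)) = 1} := by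
  apply Nat.card_congr
  apply Equiv.subtypeEquivRight
  intro x
  constructor
  · intro h
    exact pow_gcd_eq_one.mpr ⟨h, pow_card_eq_one'⟩
  · intro h
    obtain ⟨c, hc⟩ := Nat.gcd_dvd_left m (Nat.card G)
    rw [hc, pow_mul, h, one_pow]

end Quot

section Main

theorem natCard_subtype_eq {α : Type*} [Fintype α] (Q : α → Prop) [DecidablePred Q] :
    Nat.card {x // Q x} = (Finset.univ.filter Q).card := by
  rw [Nat.card_eq_fintype_card, Fintype.card_subtype]

/-- Number theory: a divisor of `n * p` not dividing `n` is divisible by `p ^ (v_p(n) + 1)`. -/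
theorem pow_succ_dvd_of_dvd_mul {n p d : ℕ} (hp : p.Prime) (hn : n ≠ 0) (hd : d ∣ n * p)
    (hdn : ¬ d ∣ n) : p ^ (n.factorization p + 1) ∣ d := by
  have hd0 : d ≠ 0 := by
    rintro rfl
    rw [zero_dvd_iff] at hd
    exact (Nat.mul_ne_zero hn hp.ne_zero) hd
  have h1 : ¬ d.factorization ≤ n.factorization := by
    rw [Nat.factorization_le_iff_dvd hd0 hn]
    exact hdn
  rw [Finsupp.le_def] at h1
  push Not at h1
  obtain ⟨l, hl⟩ := h1
  have h2 : d.factorization ≤ (n * p).factorization :=
    (Nat.factorization_le_iff_dvd hd0 (Nat.mul_ne_zero hn hp.ne_zero)).mpr hd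
  have h3 := h2 l
  rw [Nat.factorization_mul hn hp.ne_zero, hp.factorization] at h3
  simp only [Finsupp.coe_add, Pi.add_apply] at h3
  by_cases hlp : l = p
  · subst hlp
    simp only [Finsupp.single_eq_same] at h3
    have h4 : d.factorization l = n.factorization l + 1 := by omega
    rw [← h4]
    exact Nat.ordProj_dvd d l
  · rw [Finsupp.single_apply, if_neg (Ne.symm hlp)] at h3
    omega

theorem normal_of_le_center' {G : Type*} [Group G] (C : Subgroup G)
    (h : C ≤ Subgroup.center G) : C.Normal := by
  refine ⟨fun n hn g => ?_⟩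
  have := Subgroup.mem_center_iff.mp (h hn) g
  rw [this, mul_assoc, mul_inv_cancel, mul_one]
  exact hn

/-- The inductive step: the `p'`-part `k` of `n` divides `#{x | x^(np) = 1, x^n ≠ 1}`. -/
theorem step_k {G : Type u} [Group G] [Finite G]
    (IH : ∀ (H : Type u) [Group H] [Finite H], Nat.card H < Nat.card G →
      ∀ m, m ∣ Nat.card H → m ∣ Nat.card {x : H // x ^ m = 1})
    (p a k : ℕ) (hp : p.Prime) (hpk : Nat.Coprime p k) (hk : k ∣ Nat.card G) :
    k ∣ Nat.card {x : G // x ^ (p ^ (a + 1) * k) = 1 ∧ x ^ (p ^ a * k) ≠ 1} := by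
  classical
  letI := Fintype.ofFinite G
  have hrk : Nat.Coprime (p ^ (a + 1)) k := Nat.Coprime.pow_left _ hpk
  rw [card_decomp (p ^ (a + 1)) k hrk (fun x => x ^ (p ^ a * k) ≠ 1) (fun y => y ^ (p ^ a) ≠ 1)]
  · letI : Fintype {y : G // y ^ p ^ (a + 1) = 1 ∧ y ^ p ^ a ≠ 1} := Fintype.ofFinite _
    rw [Nat.card_sigma]
    rw [← Finset.sum_subtype (Finset.univ.filter fun y : G => y ^ p ^ (a + 1) = 1 ∧ y ^ p ^ a ≠ 1)
      (by intro x; simp) (fun y => Nat.card {z : G // z ^ k = 1 ∧ Commute y z})]
    apply dvd_sum_of_class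
    · -- class function
      intro g y
      apply Nat.card_congr
      refine
        { toFun := fun z => ⟨g⁻¹ * z.1 * g, ?_, ?_⟩
          invFun := fun z => ⟨g * z.1 * g⁻¹, ?_, ?_⟩
          left_inv := ?_
          right_inv := ?_ }
      · have := conj_pow (a := g⁻¹) (b := z.1) (i := k)
        rw [inv_inv] at this
        rw [this, z.2.1, mul_one, inv_mul_cancel]
      · have h := z.2.2.eq
        show y * (g⁻¹ * z.1 * g) = (g⁻¹ * z.1 * g) * y
        have e1 : y * (g⁻¹ * z.1 * g) = g⁻¹ * ((g * y * g⁻¹) * z.1) * g := by group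
        have e2 : (g⁻¹ * z.1 * g) * y = g⁻¹ * (z.1 * (g * y * g⁻¹)) * g := by group
        rw [e1, e2, h]
      · rw [conj_pow, z.2.1, mul_one, mul_inv_cancel]
      · have h := z.2.2.eq
        show (g * y * g⁻¹) * (g * z.1 * g⁻¹) = (g * z.1 * g⁻¹) * (g * y * g⁻¹)
        have e1 : (g * y * g⁻¹) * (g * z.1 * g⁻¹) = g * (y * z.1) * g⁻¹ := by group
        have e2 : (g * z.1 * g⁻¹) * (g * y * g⁻¹) = g * (z.1 * y) * g⁻¹ := by group
        rw [e1, e2, h]
      · intro z
        apply Subtype.ext
        show g * (g⁻¹ * z.1 * g) * g⁻¹ = z.1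
        group
      · intro z
        apply Subtype.ext
        show g⁻¹ * (g * z.1 * g⁻¹) * g = z.1
        group
    · -- invariance
      intro g y hy
      simp only [Finset.mem_filter, Finset.mem_univ, true_and] at hy ⊢
      rw [conj_pow, conj_pow, hy.1]
      refine ⟨by group, ?_⟩
      intro h
      apply hy.2
      have : y ^ p ^ a = g⁻¹ * (g * y ^ p ^ a * g⁻¹) * g := by group
      rw [this, h]
      group
    · -- divisibility for each class
      intro y hy
      simp only [Finset.mem_filter, Finset.mem_univ, true_and] at hy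
      by_cases hC : Subgroup.centralizer ({y} : Set G) = ⊤
      · -- central case
        have hyc : y ∈ Subgroup.center G := by
          rw [Subgroup.mem_center_iff]
          intro g
          have : g ∈ Subgroup.centralizer ({y} : Set G) := by rw [hC]; exact Subgroup.mem_top g
          exact (Subgroup.mem_centralizer_singleton_iff.mp this)
        have hY : Subgroup.zpowers y ≤ Subgroup.center G := Subgroup.zpowers_le.mpr hyc
        haveI : (Subgroup.zpowers y).Normal := normal_of_le_center' _ hY
        have hy1 : y ≠ 1 := by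
          rintro rfl
          exact hy.2 (one_pow _)
        have hYcard : Nat.card (Subgroup.zpowers y) ∣ p ^ (a + 1) := by
          rw [Nat.card_zpowers]
          exact orderOf_dvd_of_pow_eq_one hy.1
        have hYk : (Nat.card (Subgroup.zpowers y)).Coprime k :=
          Nat.Coprime.coprime_dvd_left hYcard hrk
        have hYgt : 1 < Nat.card (Subgroup.zpowers y) := by
          rw [Nat.card_zpowers]
          rcases Nat.lt_or_ge 1 (orderOf y) with h | h
          · exact h
          · have hpos := orderOf_pos y
            have : orderOf y = 1 := by omega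
            exact absurd (orderOf_eq_one_iff.mp this) hy1
        have hcardeq := Subgroup.card_eq_card_quotient_mul_card_subgroup (Subgroup.zpowers y)
        have hlt : Nat.card (G ⧸ Subgroup.zpowers y) < Nat.card G := by
          rw [hcardeq]
          have hqpos : 0 < Nat.card (G ⧸ Subgroup.zpowers y) := Nat.card_pos
          nlinarith
        have hkq : k ∣ Nat.card (G ⧸ Subgroup.zpowers y) := by
          rw [hcardeq] at hk
          exact (Nat.Coprime.dvd_of_dvd_mul_right hYk.symm hk)
        have h1 := IH (G ⧸ Subgroup.zpowers y) hlt k hkq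
        rw [← card_pow_eq_one_quotient _ hY k hYk] at h1
        have h2 : Nat.card {z : G // z ^ k = 1 ∧ Commute y z} = Nat.card {z : G // z ^ k = 1} := by
          apply Nat.card_congr
          apply Equiv.subtypeEquivRight
          intro z
          constructor
          · exact fun h => h.1
          · exact fun h => ⟨h, (Subgroup.mem_center_iff.mp hyc z).symm⟩
        rw [h2]
        exact Dvd.dvd.mul_left h1 _
      · -- proper centralizer
        set C := Subgroup.centralizer ({y} : Set G) with hCdef
        have hlt : Nat.card C < Nat.card G := by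
          apply lt_of_le_of_ne (Subgroup.card_le_card_group C)
          intro h
          exact hC ((Subgroup.card_eq_iff_eq_top C).mp h)
        have h1 := IH C hlt (Nat.gcd k (Nat.card C)) (Nat.gcd_dvd_right _ _)
        rw [← card_pow_eq_one_gcd] at h1
        rw [card_commute_eq]
        have h2 : k ∣ C.index * Nat.gcd k (Nat.card C) := by
          rw [← Nat.gcd_mul_left]
          apply Nat.dvd_gcd
          · exact Dvd.intro_left _ rfl
          · rw [Subgroup.index_mul_card]
            exact hk
        exact h2.trans (Nat.mul_dvd_mul_left _ h1)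
  · -- predicate compatibility
    intro y z hy hz hc
    have hzn : z ^ (p ^ a * k) = 1 := by rw [mul_comm, pow_mul, hz, one_pow]
    rw [hc.mul_pow, hzn, mul_one, pow_mul]
    have hw : (y ^ p ^ a) ^ p = 1 := by rw [← pow_mul, ← pow_succ, hy]
    constructor
    · intro h h'
      apply h
      rw [h', one_pow]
    · intro h h'
      apply h
      have := pow_gcd_eq_one.mpr ⟨hw, h'⟩
      rwa [Nat.Coprime.gcd_eq_one hpk, pow_one] at this

/-- The `p`-part of `n` divides `#{x | x^(np) = 1, x^n ≠ 1}`. -/
theorem step_p {G : Type*} [Group G] [Finite G] (n p : ℕ) (hp : p.Prime) (hn : n ≠ 0) :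
    p ^ (n.factorization p) ∣ Nat.card {x : G // x ^ (n * p) = 1 ∧ x ^ n ≠ 1} := by
  classical
  letI := Fintype.ofFinite G
  rw [natCard_subtype_eq]
  rw [Finset.card_eq_sum_card_fiberwise (f := fun x : G => orderOf x) (t := (n * p).divisors)]
  · apply Finset.dvd_sum
    intro d hd
    have hd' : d ∣ n * p := Nat.dvd_of_mem_divisors hd
    by_cases hdn : d ∣ n
    · have : (Finset.filter (fun x : G => orderOf x = d)
          (Finset.filter (fun x : G => x ^ (n * p) = 1 ∧ x ^ n ≠ 1) Finset.univ)) = ∅ := by
        rw [Finset.eq_empty_iff_forall_notMem]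
        intro x hx
        simp only [Finset.mem_filter, Finset.mem_univ, true_and] at hx
        apply hx.1.2
        apply orderOf_dvd_iff_pow_eq_one.mp
        rw [hx.2]
        exact hdn
      rw [this, Finset.card_empty]
      exact dvd_zero _
    · have : (Finset.filter (fun x : G => orderOf x = d)
          (Finset.filter (fun x : G => x ^ (n * p) = 1 ∧ x ^ n ≠ 1) Finset.univ)) =
          Finset.univ.filter (fun x : G => orderOf x = d) := by
        ext x
        simp only [Finset.mem_filter, Finset.mem_univ, true_and, and_iff_right_iff_imp]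
        intro hx
        refine ⟨orderOf_dvd_iff_pow_eq_one.mp (hx ▸ hd'), ?_⟩
        intro h
        apply hdn
        rw [← hx]
        exact orderOf_dvd_of_pow_eq_one h
      rw [this, ← natCard_subtype_eq]
      have h1 := pow_succ_dvd_of_dvd_mul hp hn hd' hdn
      have h2 := Nat.totient_dvd_of_dvd h1
      rw [Nat.totient_prime_pow_succ hp] at h2
      exact (Dvd.intro _ rfl).trans (h2.trans (totient_dvd_card_orderOf d))
  · intro x hx
    simp only [Finset.coe_filter, Finset.mem_univ, true_and, Set.mem_setOf_eq] at hx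
    simp only [Finset.mem_coe, Nat.mem_divisors]
    exact ⟨orderOf_dvd_of_pow_eq_one hx.1, Nat.mul_ne_zero hn hp.ne_zero⟩

/-- **Frobenius' theorem**, inductive form. -/
theorem frobenius_aux : ∀ (N : ℕ) (G : Type u) [Group G] [Finite G], Nat.card G = N →
    ∀ m, m ∣ Nat.card G → m ∣ Nat.card {x : G // x ^ m = 1} := by
  intro N
  induction N using Nat.strong_induction_on with
  | _ N IHN =>
    intro G _ _ hGN
    have IH : ∀ (H : Type u) [Group H] [Finite H], Nat.card H < Nat.card G →
        ∀ m, m ∣ Nat.card H → m ∣ Nat.card {x : H // x ^ m = 1} := by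
      intro H _ _ hlt m hm
      exact IHN (Nat.card H) (hGN ▸ hlt) H rfl m hm
    -- downward induction on the cofactor
    have key : ∀ q n : ℕ, n * q = Nat.card G → n ∣ Nat.card {x : G // x ^ n = 1} := by
      intro q
      induction q using Nat.strong_induction_on with
      | _ q IHq =>
        intro n hnq
        have hGpos : 0 < Nat.card G := Nat.card_pos
        have hn0 : n ≠ 0 := by
          rintro rfl
          omega
        have hq0 : q ≠ 0 := by
          rintro rfl
          omega
        by_cases hq1 : q = 1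
        · subst hq1
          rw [mul_one] at hnq
          have : Nat.card {x : G // x ^ n = 1} = Nat.card G := by
            apply Nat.card_congr
            apply Equiv.subtypeUnivEquiv
            intro x
            rw [hnq]
            exact pow_card_eq_one'
          rw [this, hnq]
        · -- pick a prime divisor of q
          have hp : q.minFac.Prime := Nat.minFac_prime hq1
          set p := q.minFac with hpdef
          obtain ⟨q', hq'⟩ : p ∣ q := Nat.minFac_dvd q
          have hq'lt : q' < q := by
            have : 0 < q' := by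
              rcases Nat.eq_zero_or_pos q' with h | h
              · rw [h, mul_zero] at hq'
                exact absurd hq' hq0
              · exact h
            have := hp.two_le
            nlinarith
          have hnp : n * p * q' = Nat.card G := by rw [← hnq, hq']; ring
          have h1 := IHq q' hq'lt (n * p) hnp
          -- split
          set a := n.factorization p with ha
          set k := n / p ^ a with hk
          have hnk : p ^ a * k = n := Nat.ordProj_mul_ordCompl_eq_self n p
          have hpk : Nat.Coprime p k := Nat.coprime_ordCompl hp hn0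
          have hkG : k ∣ Nat.card G := by
            rw [← hnq, ← hnk]
            exact Dvd.intro_left _ rfl |>.mul_right _
          have hB1 := step_k IH p a k hp hpk hkG
          have hB2 := step_p (G := G) n p hp hn0
          have hexp : p ^ (a + 1) * k = n * p := by rw [← hnk]; ring
          rw [hexp, hnk] at hB1
          have hB : n ∣ Nat.card {x : G // x ^ (n * p) = 1 ∧ x ^ n ≠ 1} := by
            have hcop : Nat.Coprime (p ^ a) k := Nat.Coprime.pow_left _ hpk
            have := hcop.mul_dvd_of_dvd_of_dvd hB2 hB1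
            rwa [hnk] at this
          -- f(np) = f(n) + |B|
          have hsplit : Nat.card {x : G // x ^ (n * p) = 1} =
              Nat.card {x : G // x ^ n = 1} + Nat.card {x : G // x ^ (n * p) = 1 ∧ x ^ n ≠ 1} := by
            classical
            letI := Fintype.ofFinite G
            rw [natCard_subtype_eq, natCard_subtype_eq, natCard_subtype_eq]
            rw [← Finset.card_filter_add_card_filter_not (p := fun x : G => x ^ n = 1)
              (s := Finset.univ.filter (fun x : G => x ^ (n * p) = 1))]
            congr 1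
            · congr 1
              ext x
              simp only [Finset.mem_filter, Finset.mem_univ, true_and, and_iff_right_iff_imp]
              intro h
              rw [pow_mul, h, one_pow]
            · congr 1
              ext x
              simp only [Finset.mem_filter, Finset.mem_univ, true_and, ne_eq]
          have h2 : n ∣ Nat.card {x : G // x ^ (n * p) = 1} := (Dvd.intro _ rfl).trans h1
          rw [hsplit] at h2
          exact (Nat.dvd_add_left hB).mp h2
    intro m hm
    obtain ⟨q, hq⟩ := hm
    exact key q m hq.symm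

/-- **Frobenius' theorem**: if `m ∣ |G|` then `m` divides the number of solutions of
`x ^ m = 1`. -/
theorem frobenius {G : Type u} [Group G] [Finite G] (m : ℕ) (hm : m ∣ Nat.card G) :
    m ∣ Nat.card {x : G // x ^ m = 1} :=
  frobenius_aux (Nat.card G) G rfl m hm

/-- Variant without divisibility hypothesis. -/
theorem frobenius_gcd {G : Type u} [Group G] [Finite G] (m : ℕ) :
    Nat.gcd m (Nat.card G) ∣ Nat.card {x : G // x ^ m = 1} := by
  rw [card_pow_eq_one_gcd]
  exact frobenius _ (Nat.gcd_dvd_right _ _)

end Main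

end Cfsg.Agent.Lib.Helper12.Frobenius
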