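import Mathlib
import Cfsg.Agent.Lib.Helper12.QuadSum
import Cfsg.Agent.Lib.Helper12.Chars2

/-! Divisibility of the number of solutions of `x² = 1` in a 2-group of class ≤ 2 with
a central elementary abelian subgroup `Φ` containing all squares and commutators:
if `|H| = 2^n`, `|Z(H)| = 2^ζ`, `|Φ| = 2^l` then `2^⌈(n+ζ)/2⌉` divides `2^l · #{x | x² = 1}`. -/

set_option autoImplicit false

namespace Cfsg.Agent.Lib.Helper12.InvCount

open Cfsg.Agent.Lib.Helper12.QuadSum Cfsg.Agent.Lib.Helper12.Chars2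
open Cfsg.Agent.S3772 (two_pow_cases)

theorem two_pow_dvd {H : Type*} [Group H] [Finite H] (Φ : Subgroup H)
    (hΦc : Φ ≤ Subgroup.center H) (hΦ2 : ∀ a ∈ Φ, a * a = 1)
    (hsq : ∀ x : H, x * x ∈ Φ) (hcomm : ∀ x y : H, x * y * x⁻¹ * y⁻¹ ∈ Φ)
    {l n ζ : ℕ} (hΦ : Nat.card Φ = 2 ^ l) (hn : Nat.card H = 2 ^ n)
    (hζ : Nat.card (Subgroup.center H) = 2 ^ ζ) (a : ℕ) (ha : 2 * a ≤ n + ζ + 1) :
    2 ^ a ∣ 2 ^ l * Nat.card {x : H // x * x = 1} := by
  classical
  haveI : Fintype H := Fintype.ofFinite H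
  have hH2 : IsPGroup 2 H := IsPGroup.of_card hn
  obtain ⟨χ, hχ1, hχmul, hχval, hχsum⟩ :=
    exists_chars Φ (fun a => Subtype.ext (hΦ2 _ a.2)) hΦ
  let D : (Fin l → ZMod 2) → CSetup H := fun c =>
    { Φ := Φ
      s := fun g => if h : g ∈ Φ then χ c ⟨g, h⟩ else 1
      s_one := by rw [dif_pos Φ.one_mem]; exact hχ1 c
      s_mul := by
        intro a ha b hb
        rw [dif_pos ha, dif_pos hb, dif_pos (Φ.mul_mem ha hb)]
        exact hχmul c ⟨a, ha⟩ ⟨b, hb⟩
      s_val := by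
        intro a ha
        rw [dif_pos ha]
        exact hχval c _
      hexp := hΦ2
      hcen := fun a ha g => (Subgroup.mem_center_iff.mp (hΦc ha) g)
      hsq := hsq
      hcomm := hcomm }
  have hdiv : ∀ c, (2 : ℤ) ^ a ∣ ∑ x : H, (D c).s (x * x) := by
    intro c
    haveI : Fintype (D c).Zs := Fintype.ofFinite _
    rcases (D c).dichotomy with h0 | h1
    · rw [h0]; exact dvd_zero _
    · have hEZ : Subgroup.center H ≤ (D c).Zs := (D c).center_le_Zs
      obtain ⟨z, hz⟩ := IsPGroup.iff_card.mp (hH2.to_subgroup (D c).Zs)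
      have hez : ζ ≤ z := by
        have := Subgroup.card_le_of_le hEZ
        rw [hζ, hz] at this
        exact (Nat.pow_le_pow_iff_right (by norm_num)).mp this
      have hcardH : (Fintype.card H : ℤ) = 2 ^ n := by
        rw [← Nat.card_eq_fintype_card, hn]; norm_cast
      have hcardZ : (Fintype.card (D c).Zs : ℤ) = 2 ^ z := by
        rw [← Nat.card_eq_fintype_card, hz]; norm_cast
      rw [hcardH, hcardZ, ← pow_add] at h1
      obtain ⟨m, hm, hT⟩ := two_pow_cases h1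
      have hm' : a ≤ m := by omega
      rcases hT with hT | hT
      · rw [hT]; exact pow_dvd_pow 2 hm'
      · rw [hT]; exact (dvd_neg).mpr (pow_dvd_pow 2 hm')
  have htotal : ∑ c, ∑ x : H, (D c).s (x * x) =
      2 ^ l * ((Finset.univ.filter (fun x : H => x * x = 1)).card : ℤ) := by
    rw [Finset.sum_comm]
    have hx : ∀ x : H, ∑ c, (D c).s (x * x) = if x * x = 1 then (2 : ℤ) ^ l else 0 := by
      intro x
      have h1 : ∀ c, (D c).s (x * x) = χ c ⟨x * x, hsq x⟩ := fun c => dif_pos (hsq x)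
      simp only [h1]
      rw [hχsum]
      by_cases hxx : x * x = 1
      · rw [if_pos hxx, if_pos (Subtype.ext hxx)]
      · rw [if_neg hxx, if_neg (fun h => hxx (congrArg Subtype.val h))]
    simp only [hx]
    rw [Finset.sum_ite, Finset.sum_const_zero, add_zero, Finset.sum_const, nsmul_eq_mul]
    ring
  have hN : (Finset.univ.filter (fun x : H => x * x = 1)).card =
      Nat.card {x : H // x * x = 1} := by
    rw [Nat.card_eq_fintype_card, Fintype.card_subtype]
  have hfinal : (2 : ℤ) ^ a ∣ 2 ^ l * ((Nat.card {x : H // x * x = 1} : ℕ) : ℤ) := by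
    rw [← hN, ← htotal]
    exact Finset.dvd_sum (fun c _ => hdiv c)
  have : ((2 ^ a : ℕ) : ℤ) ∣ ((2 ^ l * Nat.card {x : H // x * x = 1} : ℕ) : ℤ) := by
    push_cast
    exact hfinal
  exact Int.natCast_dvd_natCast.mp this

/-- Consequence when the solutions of `x² = 1` number `2^ν`. -/
theorem bound {H : Type*} [Group H] [Finite H] (Φ : Subgroup H)
    (hΦc : Φ ≤ Subgroup.center H) (hΦ2 : ∀ a ∈ Φ, a * a = 1)
    (hsq : ∀ x : H, x * x ∈ Φ) (hcomm : ∀ x y : H, x * y * x⁻¹ * y⁻¹ ∈ Φ)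
    {l n ζ ν : ℕ} (hΦ : Nat.card Φ = 2 ^ l) (hn : Nat.card H = 2 ^ n)
    (hζ : Nat.card (Subgroup.center H) = 2 ^ ζ)
    (hν : Nat.card {x : H // x * x = 1} = 2 ^ ν) : n + ζ ≤ 2 * l + 2 * ν := by
  have h := two_pow_dvd Φ hΦc hΦ2 hsq hcomm hΦ hn hζ ((n + ζ + 1) / 2) (by omega)
  rw [hν, ← pow_add] at h
  have := (Nat.pow_dvd_pow_iff_le_right (by norm_num : 1 < 2)).mp h
  omega

end Cfsg.Agent.Lib.Helper12.InvCount
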