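import Mathlib
import Cfsg.Agent.Lib.Helper14.KpClassesB

/-!
# Counting classes of 2-elements, part A (helper12)

Generic counting tools: `cc S` is the number of conjugacy classes of `G` meeting the set `S`.
-/

set_option autoImplicit false
set_option maxHeartbeats 1000000

namespace Cfsg.Agent.Lib.Helper12.K2

open Cfsg.Agent.Lib.Helper14.KpClasses

variable {G : Type*} [Group G]

/-- number of conjugacy classes of `G` meeting the set `S` -/
noncomputable def cc (S : Set G) : ℕ := (ConjClasses.mk '' S).ncard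

theorem cc_le_ncard [Finite G] (S : Set G) : cc S ≤ S.ncard :=
  Set.ncard_image_le (Set.toFinite S)

theorem cc_mono [Finite G] {S S' : Set G} (h : S ⊆ S') : cc S ≤ cc S' :=
  Set.ncard_le_ncard (Set.image_mono h) (Set.toFinite _)

theorem cc_union_le (S S' : Set G) : cc (S ∪ S') ≤ cc S + cc S' := by
  unfold cc
  rw [Set.image_union]
  exact Set.ncard_union_le _ _

theorem cc_le_of_image_subset [Finite G] {S S' S'' : Set G}
    (h : ConjClasses.mk '' S ⊆ ConjClasses.mk '' S' ∪ ConjClasses.mk '' S'') :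
    cc S ≤ cc S' + cc S'' := by
  unfold cc
  exact (Set.ncard_le_ncard h (Set.toFinite _)).trans (Set.ncard_union_le _ _)

theorem cc_sylow [Finite G] (P : Sylow 2 G) :
    cc ((P : Subgroup G) : Set G) = Nat.card (PCls 2 G) := by
  unfold cc
  rw [← Nat.card_coe_set_eq]
  apply Nat.card_congr
  apply Equiv.subtypeEquivRight
  intro c
  constructor
  · rintro ⟨x, hx, rfl⟩
    exact mk_mem P ⟨x, hx⟩
  · intro hc
    obtain ⟨x, hx⟩ := clsMap_surjective P ⟨c, hc⟩
    exact ⟨(x : G), x.2, congrArg Subtype.val hx⟩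

theorem mul_cc_le [Finite G] (n : ℕ) (S : Set G)
    (h : ∀ x ∈ S, ∃ F : Finset G, (↑F : Set G) ⊆ S ∧ n ≤ F.card ∧ ∀ y ∈ F, IsConj x y) :
    n * cc S ≤ S.ncard := by
  classical
  haveI := Fintype.ofFinite G
  have h1 : cc S = (S.toFinset.image ConjClasses.mk).card := by
    unfold cc
    rw [← Set.ncard_coe_finset, Finset.coe_image, Set.coe_toFinset]
  rw [h1, Set.ncard_eq_toFinset_card' S]
  apply Finset.mul_card_image_le_card
  intro b hb
  obtain ⟨x, hx, rfl⟩ := Finset.mem_image.mp hb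
  rw [Set.mem_toFinset] at hx
  obtain ⟨F, hFS, hn, hF⟩ := h x hx
  refine hn.trans (Finset.card_le_card ?_)
  intro a ha
  rw [Finset.mem_filter, Set.mem_toFinset]
  refine ⟨hFS ha, ?_⟩
  rw [ConjClasses.mk_eq_mk_iff_isConj]
  exact (hF a ha).symm

theorem two_mul_cc_le [Finite G] (S : Set G)
    (h : ∀ x ∈ S, ∃ y ∈ S, y ≠ x ∧ IsConj x y) : 2 * cc S ≤ S.ncard := by
  classical
  apply mul_cc_le
  intro x hx
  obtain ⟨y, hy, hne, hc⟩ := h x hx
  refine ⟨{x, y}, ?_, ?_, ?_⟩
  · intro a ha
    simp only [Finset.coe_insert, Finset.coe_singleton, Set.mem_insert_iff,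
      Set.mem_singleton_iff] at ha
    rcases ha with rfl | rfl
    · exact hx
    · exact hy
  · rw [Finset.card_pair hne.symm]
  · intro a ha
    simp only [Finset.mem_insert, Finset.mem_singleton] at ha
    rcases ha with rfl | rfl
    · exact IsConj.refl _
    · exact hc

theorem three_mul_cc_le [Finite G] (S : Set G)
    (h : ∀ x ∈ S, ∃ y ∈ S, ∃ z ∈ S, y ≠ x ∧ z ≠ x ∧ y ≠ z ∧ IsConj x y ∧ IsConj x z) :
    3 * cc S ≤ S.ncard := by
  classical
  apply mul_cc_le
  intro x hx
  obtain ⟨y, hy, z, hz, hyx, hzx, hyz, hcy, hcz⟩ := h x hx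
  refine ⟨{x, y, z}, ?_, ?_, ?_⟩
  · intro a ha
    simp only [Finset.coe_insert, Finset.coe_singleton, Set.mem_insert_iff,
      Set.mem_singleton_iff] at ha
    rcases ha with rfl | rfl | rfl
    · exact hx
    · exact hy
    · exact hz
  · rw [Finset.card_eq_three.mpr ⟨x, y, z, hyx.symm, hzx.symm, hyz, rfl⟩]
  · intro a ha
    simp only [Finset.mem_insert, Finset.mem_singleton] at ha
    rcases ha with rfl | rfl | rfl
    · exact IsConj.refl _
    · exact hcy
    · exact hcz

end Cfsg.Agent.Lib.Helper12.K2
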