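import Mathlib
import Cfsg.Agent.Lib.Helper12.K2A

/-!
# Counting classes of 2-elements, part B (helper12)

The fixed points of an automorphism of odd order of a 2-group; classes inside a normal 2-subgroup;
the final count.
-/

set_option autoImplicit false
set_option maxHeartbeats 1000000

namespace Cfsg.Agent.Lib.Helper12.K2

open Cfsg.Agent.Lib.Helper14.KpClasses

variable {G : Type*} [Group G]

/-- if `g t g⁻¹ = t c` with `c` fixed by `g`, then `g^k t g^-k = t c^k` -/
theorem conj_pow_eq (g t c : G) (h1 : g * t * g⁻¹ = t * c) (h2 : g * c * g⁻¹ = c) (k : ℕ) :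
    g ^ k * t * (g ^ k)⁻¹ = t * c ^ k := by
  induction k with
  | zero => simp
  | succ k ih =>
    have e : g ^ (k + 1) * t * (g ^ (k + 1))⁻¹ = g * (g ^ k * t * (g ^ k)⁻¹) * g⁻¹ := by
      rw [pow_succ']; group
    rw [e, ih]
    have e2 : g * (t * c ^ k) * g⁻¹ = (g * t * g⁻¹) * (g * c * g⁻¹) ^ k := by
      rw [conj_pow]; group
    rw [e2, h1, h2, pow_succ', mul_assoc]

/-- an automorphism of odd order of a 2-group that is not trivial fixes at most a quarter -/
theorem four_mul_card_fixed [Finite G] (T : Subgroup G) (hT : IsPGroup 2 T) (g : G)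
    (hgN : ∀ t ∈ T, g * t * g⁻¹ ∈ T) (hg : Odd (orderOf g))
    (hgT : ∃ t ∈ T, g * t * g⁻¹ ≠ t) :
    4 * ({t : G | t ∈ T ∧ g * t * g⁻¹ = t} : Set G).ncard ≤ Nat.card T := by
  haveI : Fact (Nat.Prime 2) := ⟨Nat.prime_two⟩
  -- the fixed subgroup
  obtain ⟨F0, hF0⟩ : ∃ F0 : Subgroup G, ∀ t, t ∈ F0 ↔ t ∈ T ∧ g * t * g⁻¹ = t := by
    refine ⟨T ⊓ Subgroup.centralizer {g}, fun t => ?_⟩
    rw [Subgroup.mem_inf, Subgroup.mem_centralizer_iff]
    constructor
    · rintro ⟨h1, h2⟩
      refine ⟨h1, ?_⟩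
      rw [h2 g rfl, mul_inv_cancel_right]
    · rintro ⟨h1, h2⟩
      refine ⟨h1, ?_⟩
      rintro _ rfl
      rw [mul_inv_eq_iff_eq_mul] at h2
      exact h2
  have hset : ({t : G | t ∈ T ∧ g * t * g⁻¹ = t} : Set G) = (F0 : Set G) := by
    ext t
    exact (hF0 t).symm
  have hle : F0 ≤ T := fun t ht => ((hF0 t).mp ht).1
  rw [hset]
  have hcard : (F0 : Set G).ncard = Nat.card F0 := by
    rw [← Nat.card_coe_set_eq]; rfl
  rw [hcard]
  have h1 : (F0.subgroupOf T).index * Nat.card (F0.subgroupOf T) = Nat.card T :=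
    Subgroup.index_mul_card _
  have h2 : Nat.card (F0.subgroupOf T) = Nat.card F0 :=
    Nat.card_congr (Subgroup.subgroupOfEquivOfLe hle).toEquiv
  obtain ⟨j, hj⟩ := hT.index (F0.subgroupOf T)
  rw [h2] at h1
  -- index not one
  have hj0 : j ≠ 0 := by
    rintro rfl
    rw [pow_zero, Subgroup.index_eq_one, Subgroup.subgroupOf_eq_top] at hj
    obtain ⟨t, ht, hne⟩ := hgT
    exact hne ((hF0 t).mp (hj ht)).2
  -- index not two
  have hj1 : j ≠ 1 := by
    rintro rfl
    rw [pow_one] at hj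
    obtain ⟨t, ht, hne⟩ := hgT
    apply hne
    have hfix : ∀ s : G, s ∈ T → (g * s * g⁻¹ = s ↔ g * (g * s * g⁻¹) * g⁻¹ = g * s * g⁻¹) := by
      intro s _
      constructor
      · intro h; rw [h, h]
      · intro h
        have : g⁻¹ * (g * (g * s * g⁻¹) * g⁻¹) * g = g⁻¹ * (g * s * g⁻¹) * g := by rw [h]
        have e1 : g⁻¹ * (g * (g * s * g⁻¹) * g⁻¹) * g = g * s * g⁻¹ := by group
        have e2 : g⁻¹ * (g * s * g⁻¹) * g = s := by group
        rw [e1, e2] at this
        exact this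
    have hmem := (Subgroup.mul_mem_iff_of_index_two hj
      (a := (⟨t, ht⟩ : T)⁻¹) (b := (⟨g * t * g⁻¹, hgN t ht⟩ : T))).mpr (by
        rw [inv_mem_iff, Subgroup.mem_subgroupOf, Subgroup.mem_subgroupOf, hF0, hF0]
        simp only
        constructor
        · rintro ⟨_, h⟩
          exact ⟨hgN t ht, (hfix t ht).mp h⟩
        · rintro ⟨_, h⟩
          exact ⟨ht, (hfix t ht).mpr h⟩)
    rw [Subgroup.mem_subgroupOf, hF0] at hmem
    obtain ⟨hcT, hc⟩ := hmem
    simp only [Subgroup.coe_mul, Subgroup.coe_inv] at hcT hc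
    set c := t⁻¹ * (g * t * g⁻¹) with hcdef
    have h3 : g * t * g⁻¹ = t * c := by rw [hcdef]; group
    have h4 := conj_pow_eq g t c h3 hc (orderOf g)
    rw [pow_orderOf_eq_one, one_mul, inv_one, mul_one] at h4
    have h5 : c ^ orderOf g = 1 := by
      have : t⁻¹ * t = t⁻¹ * (t * c ^ orderOf g) := by rw [← h4]
      rw [inv_mul_cancel, inv_mul_cancel_left] at this
      exact this.symm
    have h6 : orderOf c ∣ orderOf g := orderOf_dvd_of_pow_eq_one h5
    obtain ⟨i, hi⟩ := (IsPGroup.iff_orderOf.mp hT) ⟨c, hcT⟩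
    rw [Subgroup.orderOf_mk] at hi
    have h7 : c = 1 := by
      rcases Nat.eq_zero_or_pos i with rfl | hipos
      · rw [pow_zero, orderOf_eq_one_iff] at hi; exact hi
      · exfalso
        have h8 : 2 ∣ orderOf g := by
          refine dvd_trans ?_ h6
          rw [hi]
          exact dvd_pow_self 2 (Nat.pos_iff_ne_zero.mp hipos)
        exact (Nat.not_even_iff_odd.mpr hg) (even_iff_two_dvd.mpr h8)
    rw [h3, h7, mul_one]
  have hj2 : 2 ≤ j := by omega
  have h4 : 4 ∣ (F0.subgroupOf T).index := by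
    rw [hj]
    exact pow_dvd_pow 2 hj2
  obtain ⟨m, hm⟩ := h4
  rw [hm] at h1
  have hmpos : 0 < m := by
    rcases Nat.eq_zero_or_pos m with rfl | h
    · rw [mul_zero, zero_mul] at h1
      have : 0 < Nat.card T := Nat.card_pos
      omega
    · exact h
  nlinarith

/-- the classes inside a normal 2-subgroup on which an element of odd order acts nontrivially -/
theorem two_mul_cc_normal [Finite G] (T : Subgroup G) [hTn : T.Normal] (hT : IsPGroup 2 T) (g : G)
    (hg : Odd (orderOf g)) (hgT : ∃ t ∈ T, g * t * g⁻¹ ≠ t) :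
    2 * cc (T : Set G) ≤ Nat.card T := by
  have hgN : ∀ t ∈ T, g * t * g⁻¹ ∈ T := fun t ht => hTn.conj_mem t ht g
  have hgN' : ∀ t ∈ T, g⁻¹ * t * g ∈ T := fun t ht => by
    have := hTn.conj_mem t ht g⁻¹
    rwa [inv_inv] at this
  have h4 := four_mul_card_fixed T hT g hgN hg hgT
  set F : Set G := {t : G | t ∈ T ∧ g * t * g⁻¹ = t} with hF
  set N : Set G := {t : G | t ∈ T ∧ g * t * g⁻¹ ≠ t} with hN
  have hun : (T : Set G) = F ∪ N := by
    ext t
    simp only [hF, hN, Set.mem_union, Set.mem_setOf_eq, SetLike.mem_coe]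
    constructor
    · intro ht
      by_cases h : g * t * g⁻¹ = t
      · exact Or.inl ⟨ht, h⟩
      · exact Or.inr ⟨ht, h⟩
    · rintro (⟨ht, _⟩ | ⟨ht, _⟩) <;> exact ht
  have hdisj : Disjoint F N := by
    rw [Set.disjoint_left]
    rintro t ⟨_, h1⟩ ⟨_, h2⟩
    exact h2 h1
  have hcardT : Nat.card T = F.ncard + N.ncard := by
    have : Nat.card T = (T : Set G).ncard := by
      rw [← Nat.card_coe_set_eq]; rfl
    rw [this, hun, Set.ncard_union_eq hdisj (Set.toFinite _) (Set.toFinite _)]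
  have h1 : cc (T : Set G) ≤ cc F + cc N := by
    rw [hun]; exact cc_union_le _ _
  have h2 : cc F ≤ F.ncard := cc_le_ncard F
  -- g² x = x g² implies g x = x g
  have hsq : ∀ x : G, g * g * x = x * (g * g) → g * x = x * g := by
    intro x hx
    have hc : Commute (g * g) x := hx
    obtain ⟨m, hm⟩ := hg
    have h5 : (g * g) ^ (m + 1) = g := by
      rw [← pow_two, ← pow_mul]
      have : 2 * (m + 1) = orderOf g + 1 := by omega
      rw [this, pow_succ, pow_orderOf_eq_one, one_mul]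
    have := hc.pow_left (m + 1)
    rw [h5] at this
    exact this
  have h3 : 3 * cc N ≤ N.ncard := by
    apply three_mul_cc_le
    rintro x ⟨hxT, hxne⟩
    refine ⟨g * x * g⁻¹, ⟨hgN x hxT, ?_⟩, g⁻¹ * x * g, ⟨hgN' x hxT, ?_⟩, hxne, ?_, ?_, ?_, ?_⟩
    · intro h
      apply hxne
      have : g⁻¹ * (g * (g * x * g⁻¹) * g⁻¹) * g = g⁻¹ * (g * x * g⁻¹) * g := by rw [h]
      have e1 : g⁻¹ * (g * (g * x * g⁻¹) * g⁻¹) * g = g * x * g⁻¹ := by group
      have e2 : g⁻¹ * (g * x * g⁻¹) * g = x := by group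
      rw [e1, e2] at this
      exact this
    · intro h
      apply hxne
      have e1 : g * (g⁻¹ * x * g) * g⁻¹ = x := by group
      rw [e1] at h
      calc g * x * g⁻¹ = g * (g⁻¹ * x * g) * g⁻¹ := by rw [← h]
        _ = x := e1
    · intro h
      apply hxne
      have e1 : g * (g⁻¹ * x * g) * g⁻¹ = x := by group
      calc g * x * g⁻¹ = g * (g⁻¹ * x * g) * g⁻¹ := by rw [h]
        _ = x := e1
    · intro h
      apply hxne
      have h5 : g * g * x = x * (g * g) := by
        have : g * (g * x * g⁻¹) * g = g * (g⁻¹ * x * g) * g := by rw [h]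
        have e1 : g * (g * x * g⁻¹) * g = g * g * x := by group
        have e2 : g * (g⁻¹ * x * g) * g = x * (g * g) := by group
        rw [e1, e2] at this
        exact this
      have := hsq x h5
      rw [this, mul_inv_cancel_right]
    · exact isConj_iff.mpr ⟨g, rfl⟩
    · refine isConj_iff.mpr ⟨g⁻¹, ?_⟩
      rw [inv_inv]
  omega

/-- the final count -/
theorem final_count [Finite G] (P : Sylow 2 G) (T : Subgroup G) [hTn : T.Normal]
    (hTP : T ≤ (P : Subgroup G)) (g : G) (hg : Odd (orderOf g))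
    (hgT : ∃ t ∈ T, g * t * g⁻¹ ≠ t) (hC : Subgroup.centralizer (T : Set G) ≤ T) :
    2 * Nat.card (PCls 2 G) ≤ Nat.card (P : Subgroup G) := by
  have hT : IsPGroup 2 T := P.isPGroup'.to_le hTP
  have h1 := two_mul_cc_normal T hT g hg hgT
  rw [← cc_sylow P]
  set B : Set G := ((P : Subgroup G) : Set G) \ (T : Set G) with hB
  have hun : ((P : Subgroup G) : Set G) = (T : Set G) ∪ B := by
    rw [hB, Set.union_diff_cancel]
    exact hTP
  have h2 : cc ((P : Subgroup G) : Set G) ≤ cc (T : Set G) + cc B := by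
    rw [hun]; exact cc_union_le _ _
  have h3 : 2 * cc B ≤ B.ncard := by
    apply two_mul_cc_le
    rintro x ⟨hxP, hxT⟩
    have hxC : x ∉ Subgroup.centralizer (T : Set G) := fun h => hxT (hC h)
    rw [Subgroup.mem_centralizer_iff] at hxC
    push_neg at hxC
    obtain ⟨t, ht, hne⟩ := hxC
    refine ⟨t * x * t⁻¹, ⟨?_, ?_⟩, ?_, isConj_iff.mpr ⟨t, rfl⟩⟩
    · exact (P : Subgroup G).mul_mem ((P : Subgroup G).mul_mem (hTP ht) hxP)
        ((P : Subgroup G).inv_mem (hTP ht))
    · intro h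
      apply hxT
      have := hTn.conj_mem _ h t⁻¹
      rw [inv_inv] at this
      have e : t⁻¹ * (t * x * t⁻¹) * t = x := by group
      rwa [e] at this
    · intro h
      apply hne
      rw [mul_inv_eq_iff_eq_mul] at h
      exact h
  have h4 : B.ncard + Nat.card T = Nat.card (P : Subgroup G) := by
    have e1 : Nat.card T = (T : Set G).ncard := by
      rw [← Nat.card_coe_set_eq]; rfl
    have e2 : Nat.card (P : Subgroup G) = ((P : Subgroup G) : Set G).ncard := by
      rw [← Nat.card_coe_set_eq]; rfl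
    rw [e1, e2, hB]
    exact Set.ncard_diff_add_ncard_of_subset hTP (Set.toFinite _)
  omega

end Cfsg.Agent.Lib.Helper12.K2
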