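import Mathlib
import Cfsg.Prelude.Def_TwoFusion
import Cfsg.Prelude.Def_CaseTheorems
import Cfsg.Prelude.Def_IsolatedElements
import Cfsg.Agent.Lib.Helper23.Isolated
import Cfsg.Agent.Lib.Helper12.Klein

/-!
# Followers of Glauberman's Z*-theorem (helper12)

`ZStarHyp G` is the frozen statement of S0215 for the group `G`; everything here takes it as an explicit hypothesis.
-/

set_option autoImplicit false

namespace Cfsg.Agent.Lib.Helper12.ZsA

/-- The statement of Glauberman's Z*-theorem (S0215) for the group `G`. -/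
def ZStarHyp (G : Type*) [Group G] [Finite G] : Prop :=
  ∀ (P : Sylow 2 G) (u : G), orderOf u = 2 → u ∈ P → (∀ g : G, g * u * g⁻¹ ∈ P → g * u * g⁻¹ = u) →
    ∃ N : Subgroup G, N.Normal ∧ Odd (Nat.card N) ∧ ∀ g : G, (u * g * u⁻¹ * g⁻¹) ∈ N

variable {G : Type*} [Group G] [Finite G]

theorem exists_sylow_mem (z : G) (hz : orderOf z = 2) : ∃ P : Sylow 2 G, z ∈ P := by
  haveI : Fact (Nat.Prime 2) := ⟨Nat.prime_two⟩
  have hp : IsPGroup 2 (Subgroup.zpowers z) :=
    IsPGroup.of_card (n := 1) (by rw [Nat.card_zpowers, hz, pow_one])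
  obtain ⟨P, hP⟩ := hp.exists_le_sylow
  exact ⟨P, hP (Subgroup.mem_zpowers z)⟩

theorem weakly_closed (z : G) (hz : Cfsg.IsIsolatedInvolution z) (P : Sylow 2 G) (hzP : z ∈ P) :
    ∀ g : G, g * z * g⁻¹ ∈ P → g * z * g⁻¹ = z := by
  haveI : Fact (Nat.Prime 2) := ⟨Nat.prime_two⟩
  intro g hg
  have hiso : Cfsg.IsIsolated z := hz.2
  have hc := Cfsg.Agent.Lib.Helper23.isolated_central_of_pgroup hiso (P : Subgroup G) P.isPGroup' hzP
    (g * z * g⁻¹) hg
  exact hz.2 g hc.symm

theorem le_oddCore (N : Subgroup G) (hN : N.Normal) (hodd : Odd (Nat.card N)) : N ≤ Cfsg.oddCore G := by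
  apply le_sSup
  refine ⟨hN, ?_⟩
  exact Nat.coprime_two_right.mpr hodd

/-- The soluble Z*-theorem follows from the Z*-theorem (the solvability hypothesis is not needed). -/
theorem soluble_zstar (H : ZStarHyp G) (z : G) (hz : Cfsg.IsIsolatedInvolution z) :
    ∀ g : G, z * g * z⁻¹ * g⁻¹ ∈ Cfsg.oddCore G := by
  obtain ⟨P, hzP⟩ := exists_sylow_mem z hz.1
  obtain ⟨N, hN, hodd, hcomm⟩ := H P z hz.1 hzP (weakly_closed z hz P hzP)
  intro g
  exact le_oddCore N hN hodd (hcomm g)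

/-- 2-rank one: some involution is central modulo a normal subgroup of odd order. -/
theorem rank_one (H : ZStarHyp G) (heven : Even (Nat.card G))
    (hrank : ∀ E : Subgroup G, ¬ IsKleinFour E) :
    ∃ z : G, orderOf z = 2 ∧ ∃ N : Subgroup G, N.Normal ∧ Odd (Nat.card N) ∧
      ∀ g : G, z * g * z⁻¹ * g⁻¹ ∈ N := by
  classical
  haveI : Fact (Nat.Prime 2) := ⟨Nat.prime_two⟩
  obtain P : Sylow 2 G := default
  have h2 : 2 ∣ Nat.card G := even_iff_two_dvd.mp heven
  have hPne : (P : Subgroup G) ≠ ⊥ := P.ne_bot_of_dvd_card h2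
  haveI : Nontrivial ↥(P : Subgroup G) := (Subgroup.nontrivial_iff_ne_bot _).mpr hPne
  haveI : Finite ↥(P : Subgroup G) := inferInstance
  have hPp : IsPGroup 2 ↥(P : Subgroup G) := P.isPGroup'
  haveI : Nontrivial ↥(Subgroup.center ↥(P : Subgroup G)) := hPp.center_nontrivial
  have hcp : IsPGroup 2 ↥(Subgroup.center ↥(P : Subgroup G)) := hPp.to_subgroup _
  obtain ⟨n, hn⟩ := IsPGroup.iff_card.mp hcp
  have hn0 : n ≠ 0 := by
    rintro rfl
    rw [pow_zero] at hn
    have : Subsingleton ↥(Subgroup.center ↥(P : Subgroup G)) := (Nat.card_eq_one_iff_unique.mp hn).1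
    exact not_subsingleton _ this
  have h2c : 2 ∣ Nat.card ↥(Subgroup.center ↥(P : Subgroup G)) := by
    rw [hn]; exact dvd_pow_self 2 hn0
  obtain ⟨u', hu'⟩ := exists_prime_orderOf_dvd_card' 2 h2c
  -- the element of G
  obtain ⟨u, hu⟩ : ∃ u : G, u = ((u' : ↥(P : Subgroup G)) : G) := ⟨_, rfl⟩
  have huo : orderOf u = 2 := by
    rw [hu, Subgroup.orderOf_coe, Subgroup.orderOf_coe, hu']
  have huP : u ∈ P := by rw [hu]; exact (u' : ↥(P : Subgroup G)).2
  have hucent : ∀ v : G, v ∈ P → u * v = v * u := by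
    intro v hv
    have h1 := (Subgroup.mem_center_iff.mp u'.2) ⟨v, hv⟩
    have h2 := congrArg (Subtype.val) h1
    rw [hu]
    simpa using h2.symm
  have huu : u * u = 1 := by
    have := pow_orderOf_eq_one u
    rw [huo, pow_two] at this
    exact this
  have hu1 : u ≠ 1 := by
    intro h
    rw [h, orderOf_one] at huo
    omega
  refine ⟨u, huo, ?_⟩
  apply H P u huo huP
  intro g hg
  by_contra hne
  obtain ⟨v, hv⟩ : ∃ v : G, v = g * u * g⁻¹ := ⟨_, rfl⟩
  rw [← hv] at hg hne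
  have hvv : v * v = 1 := by
    rw [hv]
    calc g * u * g⁻¹ * (g * u * g⁻¹) = g * (u * u) * g⁻¹ := by group
      _ = 1 := by rw [huu]; group
  have hv1 : v ≠ 1 := by
    intro h
    apply hu1
    rw [hv] at h
    have : u = g⁻¹ * (g * u * g⁻¹) * g := by group
    rw [this, h]; group
  have hcomm : u * v = v * u := hucent v hg
  exact hrank _ (Cfsg.Agent.Lib.Helper12.Klein.isKleinFour_kf u v huu hvv hcomm hu1 hv1 (Ne.symm hne))

end Cfsg.Agent.Lib.Helper12.ZsA
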