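import Mathlib
import Cfsg.Prelude.Def_TwoFusion
import Cfsg.Prelude.Def_CaseTheorems
import Cfsg.Prelude.Def_IsolatedElements
import Cfsg.Agent.Lib.Helper12.ZsA
import Cfsg.Agent.Lib.Helper2.CoprimeSylow

/-!
# Followers of Glauberman's Z*-theorem, part B (helper12)

Consequences of `z` being central modulo a normal subgroup `N` of odd order: `G = C_G(z) N`, invariant Sylow
subgroups for odd primes, their conjugacy under `C_G(z)`.
-/

set_option autoImplicit false

namespace Cfsg.Agent.Lib.Helper12.ZsB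

open Cfsg.Agent.Lib.Helper12.ZsA
open Pointwise

section sqrt

variable {G : Type*} [Group G]

/-- the square root of an element of odd order -/
noncomputable def sq (t : G) : G := t ^ ((orderOf t + 1) / 2)

theorem sq_mul_sq (t : G) (hodd : Odd (orderOf t)) : sq t * sq t = t := by
  obtain ⟨j, hj⟩ := hodd
  unfold sq
  have h1 : (orderOf t + 1) / 2 = j + 1 := by omega
  rw [h1, ← pow_add]
  have h2 : j + 1 + (j + 1) = orderOf t + 1 := by omega
  rw [h2, pow_succ, pow_orderOf_eq_one, one_mul]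

theorem conj_sq (z t : G) (h : z * t * z⁻¹ = t⁻¹) : z * sq t * z⁻¹ = (sq t)⁻¹ := by
  unfold sq
  rw [← conj_pow, h, inv_pow]

theorem sq_mem (H : Subgroup G) (t : G) (ht : t ∈ H) : sq t ∈ H := H.pow_mem ht _

theorem zpowers_solvable (z : G) : Group.IsSolvable (Subgroup.zpowers z) := by
  apply Group.isSolvable_of_comm
  rintro ⟨a, ha⟩ ⟨b, hb⟩
  obtain ⟨i, rfl⟩ := Subgroup.mem_zpowers_iff.mp ha
  obtain ⟨j, rfl⟩ := Subgroup.mem_zpowers_iff.mp hb
  apply Subtype.ext
  show z ^ i * z ^ j = z ^ j * z ^ i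
  rw [← zpow_add, ← zpow_add, add_comm]

end sqrt

variable {G : Type*} [Group G]

/-- `z` is an involution that is central modulo the normal subgroup `N` of odd order. -/
structure Ctx (z : G) (N : Subgroup G) : Prop where
  order : orderOf z = 2
  normal : N.Normal
  odd : Odd (Nat.card N)
  comm : ∀ g : G, z * g * z⁻¹ * g⁻¹ ∈ N

theorem Ctx.mul_self {z : G} {N : Subgroup G} (h : Ctx z N) : z * z = 1 := by
  have := pow_orderOf_eq_one z
  rw [h.order, pow_two] at this
  exact this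

theorem Ctx.inv_eq {z : G} {N : Subgroup G} (h : Ctx z N) : z⁻¹ = z :=
  inv_eq_of_mul_eq_one_left h.mul_self

theorem Ctx.of_isolated [Finite G] (H : ZStarHyp G) (z : G) (hz : Cfsg.IsIsolatedInvolution z) :
    ∃ N : Subgroup G, Ctx z N := by
  obtain ⟨P, hzP⟩ := exists_sylow_mem z hz.1
  obtain ⟨N, hN, hodd, hcomm⟩ := H P z hz.1 hzP (weakly_closed z hz P hzP)
  exact ⟨N, hz.1, hN, hodd, hcomm⟩

/-- `G = C_G(z) N`. -/
theorem Ctx.factor [Finite G] {z : G} {N : Subgroup G} (h : Ctx z N) (g : G) :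
    ∃ c n : G, c ∈ Subgroup.centralizer ({z} : Set G) ∧ n ∈ N ∧ g = c * n := by
  haveI := h.normal
  have hzz := h.mul_self
  obtain ⟨a, ha⟩ : ∃ a : G, a = g⁻¹ * z * g * z⁻¹ := ⟨_, rfl⟩
  have haN : a ∈ N := by
    have h1 := N.inv_mem (h.comm g⁻¹)
    have e : (z * g⁻¹ * z⁻¹ * g⁻¹⁻¹)⁻¹ = a := by rw [ha]; group
    rwa [e] at h1
  have hainv : z * a * z⁻¹ = a⁻¹ := by
    apply eq_inv_of_mul_eq_one_right
    have e : a * (z * a * z⁻¹) = g⁻¹ * (z * z) * g * (z * z)⁻¹ := by rw [ha]; group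
    rw [e, hzz]; group
  have hao : Odd (orderOf a) := h.odd.of_dvd_nat (Subgroup.orderOf_dvd_natCard N haN)
  have hbb := sq_mul_sq a hao
  have hbinv := conj_sq z a hainv
  have hbN : sq a ∈ N := sq_mem N a haN
  refine ⟨g * sq a, (sq a)⁻¹, ?_, N.inv_mem hbN, by group⟩
  rw [Subgroup.mem_centralizer_singleton_iff]
  -- g * sq a * z = z * (g * sq a)
  have h1 : z * (g * sq a) * z⁻¹ = g * sq a := by
    calc z * (g * sq a) * z⁻¹ = g * (g⁻¹ * z * g * z⁻¹) * (z * sq a * z⁻¹) := by group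
      _ = g * (sq a * sq a) * (sq a)⁻¹ := by rw [← ha, hbinv, hbb]
      _ = g * sq a := by group
  calc g * sq a * z = (z * (g * sq a) * z⁻¹) * z := by rw [h1]
    _ = z * (g * sq a) := by group


/-- the image of `z` in `G ⧸ N` is central -/
theorem Ctx.mk_conj {z : G} {N : Subgroup G} (h : Ctx z N) [N.Normal] (x : G) :
    (QuotientGroup.mk' N) (z * x * z⁻¹) = (QuotientGroup.mk' N) x := by
  have h1 : (QuotientGroup.mk' N) (z * x * z⁻¹ * x⁻¹) = 1 := (QuotientGroup.eq_one_iff _).mpr (h.comm x)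
  rw [map_mul, map_inv, mul_inv_eq_one] at h1
  exact h1

/-- the full preimage of a `p`-subgroup of `G ⧸ N`, `p` odd, has odd order -/
theorem Ctx.card_comap [Finite G] {z : G} {N : Subgroup G} (h : Ctx z N) [N.Normal]
    (B : Subgroup (G ⧸ N)) :
    Nat.card ↥(B.comap (QuotientGroup.mk' N)) = Nat.card B * Nat.card N := by
  have hs : Function.Surjective (QuotientGroup.mk' N) := QuotientGroup.mk'_surjective N
  have h1 := Subgroup.index_comap_of_surjective B hs
  have h2 := Subgroup.card_mul_index (B.comap (QuotientGroup.mk' N))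
  have h3 := Subgroup.card_eq_card_quotient_mul_card_subgroup N
  have h4 := Subgroup.card_mul_index B
  have h5 : B.index ≠ 0 := Subgroup.index_ne_zero_of_finite
  rw [h1, h3, ← h4] at h2
  have : Nat.card ↥(B.comap (QuotientGroup.mk' N)) * B.index = (Nat.card B * Nat.card N) * B.index := by
    rw [h2]; ring
  exact Nat.eq_of_mul_eq_mul_right (Nat.pos_of_ne_zero h5) this

theorem Ctx.normalizer_comap {z : G} {N : Subgroup G} (h : Ctx z N) [N.Normal]
    (B : Subgroup (G ⧸ N)) :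
    Subgroup.zpowers z ≤ Subgroup.normalizer ((B.comap (QuotientGroup.mk' N) : Subgroup G) : Set G) := by
  rw [Subgroup.zpowers_le, Subgroup.mem_normalizer_iff]
  intro x
  rw [Subgroup.mem_comap, Subgroup.mem_comap, h.mk_conj]

theorem Ctx.coprime_comap [Finite G] {z : G} {N : Subgroup G} (h : Ctx z N) [N.Normal]
    {p : ℕ} [Fact p.Prime] (hp : p ≠ 2) (B : Subgroup (G ⧸ N)) (hB : IsPGroup p B) :
    (Nat.card (Subgroup.zpowers z)).Coprime (Nat.card ↥(B.comap (QuotientGroup.mk' N))) := by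
  rw [Nat.card_zpowers, h.order, Nat.coprime_two_left, h.card_comap]
  obtain ⟨k, hk⟩ := IsPGroup.iff_card.mp hB
  rw [hk]
  exact ((Fact.out : p.Prime).odd_of_ne_two hp).pow.mul h.odd

/-- Every `z`-invariant `p`-subgroup, `p` odd, lies in a `z`-invariant Sylow `p`-subgroup. -/
theorem Ctx.exists_invariant_sylow [Finite G] {z : G} {N : Subgroup G} (h : Ctx z N)
    {p : ℕ} [Fact p.Prime] (hp : p ≠ 2)
    (U : Subgroup G) (hU : IsPGroup p U) (hzU : z ∈ Subgroup.normalizer (U : Set G)) :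
    ∃ P : Sylow p G, U ≤ P ∧ z ∈ Subgroup.normalizer ((P : Subgroup G) : Set G) := by
  haveI := h.normal
  have hs : Function.Surjective (QuotientGroup.mk' N) := QuotientGroup.mk'_surjective N
  have hUm : IsPGroup p (U.map (QuotientGroup.mk' N)) := hU.map _
  obtain ⟨Pb, hPb⟩ := hUm.exists_le_sylow
  obtain ⟨L, hL⟩ : ∃ L : Subgroup G, L = (Pb : Subgroup (G ⧸ N)).comap (QuotientGroup.mk' N) := ⟨_, rfl⟩
  have hUL : U ≤ L := by
    intro x hx
    rw [hL]
    exact hPb (Subgroup.mem_map_of_mem _ hx)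
  have hzL : Subgroup.zpowers z ≤ Subgroup.normalizer (L : Set G) := by
    rw [hL]; exact h.normalizer_comap _
  have hcop : (Nat.card (Subgroup.zpowers z)).Coprime (Nat.card L) := by
    rw [hL]; exact h.coprime_comap hp _ Pb.isPGroup'
  obtain ⟨PL, hUP, hzP⟩ := Cfsg.Agent.Lib.Helper2.exists_invariant_sylow_ge (Subgroup.zpowers z) L hzL hcop
    (Or.inl (zpowers_solvable z)) p U hUL hU (Subgroup.zpowers_le.mpr hzU)
  have hR : IsPGroup p ((PL : Subgroup L).map L.subtype) := PL.isPGroup'.map _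
  have hidx : ¬ p ∣ ((PL : Subgroup L).map L.subtype).index := by
    rw [Subgroup.index_map_subtype]
    intro hd
    rcases (Nat.Prime.dvd_mul (Fact.out : p.Prime)).mp hd with h1 | h1
    · exact PL.not_dvd_index h1
    · rw [hL, Subgroup.index_comap_of_surjective _ hs] at h1
      exact Pb.not_dvd_index h1
  refine ⟨hR.toSylow hidx, ?_, ?_⟩
  · rw [IsPGroup.toSylow_coe]; exact hUP
  · rw [IsPGroup.toSylow_coe]; exact hzP (Subgroup.mem_zpowers z)


theorem mem_map_conj_iff (H : Subgroup G) (c x : G) :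
    x ∈ H.map (MulAut.conj c).toMonoidHom ↔ c⁻¹ * x * c ∈ H := by
  rw [Subgroup.mem_map_equiv, MulAut.conj_symm_apply]

theorem normalizer_map_conj (H : Subgroup G) (z c : G) (hc : c * z = z * c)
    (hz : z ∈ Subgroup.normalizer (H : Set G)) :
    z ∈ Subgroup.normalizer ((H.map (MulAut.conj c).toMonoidHom : Subgroup G) : Set G) := by
  rw [Subgroup.mem_normalizer_iff] at hz ⊢
  intro x
  rw [mem_map_conj_iff, mem_map_conj_iff, hz (c⁻¹ * x * c)]
  have hc' : c⁻¹ * z = z * c⁻¹ := by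
    calc c⁻¹ * z = c⁻¹ * (z * c) * c⁻¹ := by group
      _ = c⁻¹ * (c * z) * c⁻¹ := by rw [hc]
      _ = z * c⁻¹ := by group
  have hc'' : c * z⁻¹ = z⁻¹ * c := by
    calc c * z⁻¹ = z⁻¹ * (z * c) * z⁻¹ := by group
      _ = z⁻¹ * (c * z) * z⁻¹ := by rw [hc]
      _ = z⁻¹ * c := by group
  have e : z * (c⁻¹ * x * c) * z⁻¹ = c⁻¹ * (z * x * z⁻¹) * c := by
    calc z * (c⁻¹ * x * c) * z⁻¹ = (z * c⁻¹) * x * (c * z⁻¹) := by group
      _ = (c⁻¹ * z) * x * (z⁻¹ * c) := by rw [← hc', hc'']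
      _ = c⁻¹ * (z * x * z⁻¹) * c := by group
  rw [e]

theorem map_conj_mul (H : Subgroup G) (a b : G) :
    (H.map (MulAut.conj b).toMonoidHom).map (MulAut.conj a).toMonoidHom =
      H.map (MulAut.conj (a * b)).toMonoidHom := by
  rw [Subgroup.map_map]
  congr 1
  ext x
  simp [mul_assoc]

/-- Two `z`-invariant Sylow `p`-subgroups, `p` odd, are conjugate under `C_G(z)`. -/
theorem Ctx.conj_invariant_sylow [Finite G] {z : G} {N : Subgroup G} (h : Ctx z N)
    {p : ℕ} [Fact p.Prime] (hp : p ≠ 2) (P P' : Sylow p G)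
    (hzP : z ∈ Subgroup.normalizer ((P : Subgroup G) : Set G))
    (hzP' : z ∈ Subgroup.normalizer ((P' : Subgroup G) : Set G)) :
    ∃ c : G, c ∈ Subgroup.centralizer ({z} : Set G) ∧
      (P' : Subgroup G) = (P : Subgroup G).map (MulAut.conj c).toMonoidHom := by
  have hnorm := h.normal
  have hs : Function.Surjective (QuotientGroup.mk' N) := QuotientGroup.mk'_surjective N
  obtain ⟨gb, hgb⟩ := MulAction.exists_smul_eq (G ⧸ N) (P.mapSurjective hs) (P'.mapSurjective hs)
  obtain ⟨g, rfl⟩ := hs gb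
  obtain ⟨c, n, hc, hn, rfl⟩ := h.factor g
  have hπc : (QuotientGroup.mk' N) (c * n) = (QuotientGroup.mk' N) c := by
    rw [map_mul]
    have : (QuotientGroup.mk' N) n = 1 := (QuotientGroup.eq_one_iff n).mpr hn
    rw [this, mul_one]
  rw [hπc] at hgb
  have hgb' := congrArg (fun Q : Sylow p (G ⧸ N) => (Q : Subgroup (G ⧸ N))) hgb
  simp only [Sylow.coe_subgroup_smul, Sylow.coe_mapSurjective] at hgb'
  obtain ⟨L, hL⟩ : ∃ L : Subgroup G,
      L = ((P' : Subgroup G).map (QuotientGroup.mk' N)).comap (QuotientGroup.mk' N) := ⟨_, rfl⟩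
  have hcz : c * z = z * c := Subgroup.mem_centralizer_singleton_iff.mp hc
  obtain ⟨P1, hP1⟩ : ∃ P1 : Sylow p G, P1 = c • P := ⟨_, rfl⟩
  have hP1c : (P1 : Subgroup G) = (P : Subgroup G).map (MulAut.conj c).toMonoidHom := by
    rw [hP1, Sylow.coe_subgroup_smul]; rfl
  have hP1L : (P1 : Subgroup G) ≤ L := by
    rw [hP1c, hL]
    rintro _ ⟨y, hy, rfl⟩
    rw [Subgroup.mem_comap, ← hgb']
    have h1 : (QuotientGroup.mk' N) y ∈ (P : Subgroup G).map (QuotientGroup.mk' N) :=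
      Subgroup.mem_map_of_mem _ hy
    have h2 := Subgroup.smul_mem_pointwise_smul _ (MulAut.conj ((QuotientGroup.mk' N) c)) _ h1
    rw [MulAut.smul_def, MulAut.conj_apply] at h2
    simpa using h2
  have hP'L : (P' : Subgroup G) ≤ L := by
    rw [hL]
    intro x hx
    exact Subgroup.mem_map_of_mem _ hx
  have hzL : Subgroup.zpowers z ≤ Subgroup.normalizer (L : Set G) := by
    rw [hL]; exact h.normalizer_comap _
  have hcop : (Nat.card (Subgroup.zpowers z)).Coprime (Nat.card L) := by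
    rw [hL]; exact h.coprime_comap hp _ (P'.isPGroup'.map _)
  have hzP1 : z ∈ Subgroup.normalizer ((P1 : Subgroup G) : Set G) := by
    rw [hP1c]; exact normalizer_map_conj _ z c hcz hzP
  -- Sylow conjugacy inside `L`
  obtain ⟨k, hk⟩ := MulAction.exists_smul_eq L (P1.subtype hP1L) (P'.subtype hP'L)
  have hk' := congrArg (fun Q : Sylow p L => ((Q : Subgroup L)).map L.subtype) hk
  simp only [Sylow.coe_subgroup_smul, Sylow.coe_subtype,
    Cfsg.Agent.Lib.Helper2.map_subtype_conj_smul,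
    Subgroup.map_subgroupOf_eq_of_le hP1L, Subgroup.map_subgroupOf_eq_of_le hP'L] at hk'
  have hkP' : Subgroup.zpowers z ≤ Subgroup.normalizer
      (((P1 : Subgroup G).map (MulAut.conj (k : G)).toMonoidHom : Subgroup G) : Set G) := by
    rw [hk']; exact Subgroup.zpowers_le.mpr hzP'
  obtain ⟨c', hc', hc'P⟩ := Cfsg.Agent.Lib.Helper2.invariant_conj (Subgroup.zpowers z) L hzL hcop
    (Or.inl (zpowers_solvable z)) (P1 : Subgroup G) (Subgroup.zpowers_le.mpr hzP1) (k : G) k.2 hkP'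
  have hc'z : c' * z = z * c' :=
    (Subgroup.mem_centralizer_iff.mp hc'.2 z (Subgroup.mem_zpowers z)).symm
  refine ⟨c' * c, ?_, ?_⟩
  · rw [Subgroup.mem_centralizer_singleton_iff]
    calc c' * c * z = c' * (c * z) := by group
      _ = c' * (z * c) := by rw [hcz]
      _ = (c' * z) * c := by group
      _ = (z * c') * c := by rw [hc'z]
      _ = z * (c' * c) := by group
  · rw [← map_conj_mul, ← hP1c, hc'P, hk']


/-- S1187 from the Z*-theorem. -/
theorem invariant_max_sylow [Finite G] (H : ZStarHyp G) (z : G) (hz : Cfsg.IsIsolatedInvolution z)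
    {p : ℕ} [Fact p.Prime]
    (Q : Subgroup G) (hQ : IsPGroup p Q) (hzQ : z ∈ Subgroup.normalizer (Q : Set G))
    (hmax : ∀ R : Subgroup G, IsPGroup p R → z ∈ Subgroup.normalizer (R : Set G) → Q ≤ R → R = Q) :
    ∃ P : Sylow p G, (P : Subgroup G) = Q := by
  by_cases hp : p = 2
  · subst hp
    have hzp : IsPGroup 2 (Subgroup.zpowers z) :=
      IsPGroup.of_card (n := 1) (by rw [Nat.card_zpowers, hz.1, pow_one])
    have hR : IsPGroup 2 ↥(Subgroup.zpowers z ⊔ Q) :=
      hzp.to_sup_of_normal_right' hQ (Subgroup.zpowers_le.mpr hzQ)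
    have hzR : z ∈ Subgroup.zpowers z ⊔ Q := Subgroup.mem_sup_left (Subgroup.mem_zpowers z)
    have hRQ := hmax _ hR (Subgroup.le_normalizer hzR) le_sup_right
    have hzQ' : z ∈ Q := hRQ ▸ hzR
    obtain ⟨P, hP⟩ := hQ.exists_le_sylow
    exact ⟨P, hmax P P.isPGroup' (Subgroup.le_normalizer (hP hzQ')) hP⟩
  · obtain ⟨N, hN⟩ := Ctx.of_isolated H z hz
    obtain ⟨P, hQP, hzP⟩ := hN.exists_invariant_sylow hp Q hQ hzQ
    exact ⟨P, hmax P P.isPGroup' hzP hQP⟩

theorem odd_orderOf_of_mem {p : ℕ} [Fact p.Prime] (hp : p ≠ 2) (P : Subgroup G) (hP : IsPGroup p P)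
    (x : G) (hx : x ∈ P) : Odd (orderOf x) := by
  obtain ⟨k, hk⟩ := hP ⟨x, hx⟩
  have h1 : x ^ p ^ k = 1 := by
    have := congrArg Subtype.val hk
    simpa using this
  exact (((Fact.out : p.Prime).odd_of_ne_two hp).pow).of_dvd_nat (orderOf_dvd_of_pow_eq_one h1)

theorem key_mul (z t c : G) (hodd : Odd (orderOf t)) (ht : z * t * z⁻¹ = t⁻¹) (hc : c * z = z * c) :
    (sq t * c) * (z * (sq t * c) * z⁻¹)⁻¹ = t := by
  have h1 := conj_sq z t ht
  have h2 := sq_mul_sq t hodd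
  have h3 : z * c * z⁻¹ = c := by rw [← hc]; group
  calc (sq t * c) * (z * (sq t * c) * z⁻¹)⁻¹
      = (sq t * c) * ((z * sq t * z⁻¹) * (z * c * z⁻¹))⁻¹ := by group
    _ = (sq t * c) * ((sq t)⁻¹ * c)⁻¹ := by rw [h1, h3]
    _ = sq t * sq t := by group
    _ = t := h2

/-- The index of `C_P(z)` in a `z`-invariant `p`-subgroup, `p` odd, is the number of inverted elements. -/
theorem relIndex_eq_card_inverted [Finite G] (z : G) (hzz : z * z = 1) {p : ℕ} [Fact p.Prime] (hp : p ≠ 2)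
    (P : Subgroup G) (hP : IsPGroup p P) (hzP : z ∈ Subgroup.normalizer (P : Set G)) :
    (P ⊓ Subgroup.centralizer ({z} : Set G)).relIndex P =
      Nat.card {x : G // x ∈ P ∧ z * x * z⁻¹ = x⁻¹} := by
  have hzi : z⁻¹ = z := inv_eq_of_mul_eq_one_left hzz
  have hconj : ∀ x : G, x ∈ P → z * x * z⁻¹ ∈ P := fun x hx => (Subgroup.mem_normalizer_iff.mp hzP x).mp hx
  let φ : {x : G // x ∈ P ∧ z * x * z⁻¹ = x⁻¹} × ↥(P ⊓ Subgroup.centralizer ({z} : Set G)) → ↥P :=
    fun tc => ⟨sq tc.1.1 * tc.2.1, P.mul_mem (sq_mem P _ tc.1.2.1) tc.2.2.1⟩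
  have hφ : Function.Bijective φ := by
    constructor
    · rintro ⟨⟨t, htP, ht⟩, ⟨c, hcP, hc⟩⟩ ⟨⟨t', ht'P, ht'⟩, ⟨c', hc'P, hc'⟩⟩ heq
      have heq' : sq t * c = sq t' * c' := congrArg Subtype.val heq
      have hc : c ∈ Subgroup.centralizer ({z} : Set G) := hc
      have hc' : c' ∈ Subgroup.centralizer ({z} : Set G) := hc'
      rw [Subgroup.mem_centralizer_singleton_iff] at hc hc'
      have e1 := key_mul z t c (odd_orderOf_of_mem hp P hP t htP) ht hc
      have e2 := key_mul z t' c' (odd_orderOf_of_mem hp P hP t' ht'P) ht' hc'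
      have htt : t = t' := by rw [← e1, ← e2, heq']
      subst htt
      have hcc : c = c' := mul_left_cancel heq'
      subst hcc
      rfl
    · rintro ⟨x, hx⟩
      obtain ⟨t, ht⟩ : ∃ t : G, t = x * (z * x * z⁻¹)⁻¹ := ⟨_, rfl⟩
      have htP : t ∈ P := by rw [ht]; exact P.mul_mem hx (P.inv_mem (hconj x hx))
      have htinv : z * t * z⁻¹ = t⁻¹ := by
        rw [ht]
        have e : z * (x * (z * x * z⁻¹)⁻¹) * z⁻¹ = (z * x * z⁻¹) * (z * z) * x⁻¹ * (z * z)⁻¹ := by group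
        rw [e, hzz]; group
      have hodd := odd_orderOf_of_mem hp P hP t htP
      have hss := sq_mul_sq t hodd
      have hsinv := conj_sq z t htinv
      have hcP : (sq t)⁻¹ * x ∈ P := P.mul_mem (P.inv_mem (sq_mem P t htP)) hx
      have hcC : (sq t)⁻¹ * x ∈ Subgroup.centralizer ({z} : Set G) := by
        rw [Subgroup.mem_centralizer_singleton_iff]
        have h1 : z * ((sq t)⁻¹ * x) * z⁻¹ = (sq t)⁻¹ * x := by
          calc z * ((sq t)⁻¹ * x) * z⁻¹ = (z * sq t * z⁻¹)⁻¹ * (z * x * z⁻¹) := by group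
            _ = sq t * (z * x * z⁻¹) := by rw [hsinv, inv_inv]
            _ = (sq t)⁻¹ * (sq t * sq t) * (z * x * z⁻¹) := by group
            _ = (sq t)⁻¹ * (x * (z * x * z⁻¹)⁻¹) * (z * x * z⁻¹) := by rw [hss, ht]
            _ = (sq t)⁻¹ * x := by group
        calc (sq t)⁻¹ * x * z = (z * ((sq t)⁻¹ * x) * z⁻¹) * z := by rw [h1]
          _ = z * ((sq t)⁻¹ * x) := by group
      refine ⟨(⟨t, htP, htinv⟩, ⟨(sq t)⁻¹ * x, hcP, hcC⟩), ?_⟩
      apply Subtype.ext
      show sq t * ((sq t)⁻¹ * x) = x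
      group
  have hcard := Nat.card_eq_of_bijective φ hφ
  rw [Nat.card_prod] at hcard
  have h1 := Subgroup.relIndex_mul_relIndex ⊥ (P ⊓ Subgroup.centralizer ({z} : Set G)) P bot_le inf_le_left
  rw [Subgroup.relIndex_bot_left, Subgroup.relIndex_bot_left, ← hcard, mul_comm] at h1
  have hpos : 0 < Nat.card ↥(P ⊓ Subgroup.centralizer ({z} : Set G)) := Nat.card_pos
  exact Nat.eq_of_mul_eq_mul_right hpos h1


theorem map_conj_centralizer (z c : G) (hc : c ∈ Subgroup.centralizer ({z} : Set G)) :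
    (Subgroup.centralizer ({z} : Set G)).map (MulAut.conj c).toMonoidHom =
      Subgroup.centralizer ({z} : Set G) := by
  ext x
  rw [mem_map_conj_iff]
  constructor
  · intro hx
    have : x = c * (c⁻¹ * x * c) * c⁻¹ := by group
    rw [this]
    exact Subgroup.mul_mem _ (Subgroup.mul_mem _ hc hx) (Subgroup.inv_mem _ hc)
  · intro hx
    exact Subgroup.mul_mem _ (Subgroup.mul_mem _ (Subgroup.inv_mem _ hc) hx) hc

/-- For a `z`-invariant Sylow `p`-subgroup `P`, `p` odd, `C_P(z)` is a Sylow `p`-subgroup of `C_G(z)`. -/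
theorem Ctx.sylow_centralizer [Finite G] {z : G} {N : Subgroup G} (h : Ctx z N)
    {p : ℕ} [Fact p.Prime] (hp : p ≠ 2) (P : Sylow p G)
    (hzP : z ∈ Subgroup.normalizer ((P : Subgroup G) : Set G)) :
    ¬ p ∣ ((P : Subgroup G) ⊓ Subgroup.centralizer ({z} : Set G)).relIndex
      (Subgroup.centralizer ({z} : Set G)) := by
  obtain ⟨C, hC⟩ : ∃ C : Subgroup G, C = Subgroup.centralizer ({z} : Set G) := ⟨_, rfl⟩
  rw [← hC]
  have hK : IsPGroup p ↥((P : Subgroup G) ⊓ C) := P.isPGroup'.to_le inf_le_left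
  obtain ⟨S, hS⟩ := (hK.comap_subtype (K := C)).exists_le_sylow
  obtain ⟨S', hS'⟩ : ∃ S' : Subgroup G, S' = (S : Subgroup C).map C.subtype := ⟨_, rfl⟩
  have hS'p : IsPGroup p S' := by rw [hS']; exact S.isPGroup'.map _
  have hS'C : S' ≤ C := by rw [hS']; exact Subgroup.map_subtype_le _
  have hKS' : (P : Subgroup G) ⊓ C ≤ S' := by
    rw [hS', ← Subgroup.map_subgroupOf_eq_of_le (inf_le_right : (P : Subgroup G) ⊓ C ≤ C)]
    exact Subgroup.map_mono hS
  have hzS' : z ∈ Subgroup.normalizer (S' : Set G) := by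
    apply Subgroup.centralizer_le_normalizer
    rw [Subgroup.mem_centralizer_iff]
    intro x hx
    have := hS'C hx
    rw [hC, Subgroup.mem_centralizer_singleton_iff] at this
    exact this
  obtain ⟨P', hS'P', hzP'⟩ := h.exists_invariant_sylow hp S' hS'p hzS'
  obtain ⟨c, hc, hcP⟩ := h.conj_invariant_sylow hp P P' hzP hzP'
  have hmap : ((P : Subgroup G) ⊓ C).map (MulAut.conj c).toMonoidHom = (P' : Subgroup G) ⊓ C := by
    rw [Subgroup.map_inf _ _ _ (MulAut.conj c).injective, ← hcP, hC, map_conj_centralizer z c hc]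
  have hcard : Nat.card ↥((P' : Subgroup G) ⊓ C) = Nat.card ↥((P : Subgroup G) ⊓ C) := by
    rw [← hmap]
    exact Subgroup.card_map_of_injective (MulAut.conj c).injective
  have hS'K' : S' ≤ (P' : Subgroup G) ⊓ C := le_inf hS'P' hS'C
  have hle : Nat.card S' ≤ Nat.card ↥((P : Subgroup G) ⊓ C) := by
    rw [← hcard]
    exact Subgroup.card_le_of_le hS'K'
  have heq : (P : Subgroup G) ⊓ C = S' := Subgroup.eq_of_le_of_card_ge hKS' hle
  rw [heq]
  have : S'.subgroupOf C = (S : Subgroup C) := by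
    rw [hS']
    exact Subgroup.comap_map_eq_self_of_injective (Subgroup.subtype_injective C) _
  show ¬ p ∣ (S'.subgroupOf C).index
  rw [this]
  exact S.not_dvd_index

/-- S1253 from the Z*-theorem. -/
theorem invariant_sylow_meets_centralizer [Finite G] (H : ZStarHyp G) (z : G)
    (hz : Cfsg.IsIsolatedInvolution z) {p : ℕ} [Fact p.Prime] (hp : p ≠ 2) (P : Sylow p G)
    (hzP : z ∈ Subgroup.normalizer ((P : Subgroup G) : Set G)) :
    ¬ p ∣ ((P : Subgroup G) ⊓ Subgroup.centralizer ({z} : Set G)).relIndex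
        (Subgroup.centralizer ({z} : Set G)) ∧
      ((P : Subgroup G) ⊓ Subgroup.centralizer ({z} : Set G)).relIndex (P : Subgroup G) =
        Nat.card {x : G // x ∈ P ∧ z * x * z⁻¹ = x⁻¹} := by
  obtain ⟨N, hN⟩ := Ctx.of_isolated H z hz
  exact ⟨hN.sylow_centralizer hp P hzP,
    relIndex_eq_card_inverted z hN.mul_self hp (P : Subgroup G) P.isPGroup' hzP⟩

end Cfsg.Agent.Lib.Helper12.ZsB
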