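import Mathlib
import Cfsg.Prelude.Def_TwoFusion
import Cfsg.Prelude.Def_CaseTheorems
import Cfsg.Prelude.Def_IsolatedElements
import Cfsg.Agent.Lib.Helper12.ZsA
import Cfsg.Agent.Lib.Helper12.ZsB

/-!
# Followers of Glauberman's Z*-theorem, part C (helper12)

Groups in which the intersection of two distinct Sylow 2-subgroups is central in a Sylow 2-subgroup: the
involution of a cyclic characteristic subgroup of a Sylow 2-subgroup is weakly closed.
-/

set_option autoImplicit false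

namespace Cfsg.Agent.Lib.Helper12.ZsC

open Cfsg.Agent.Lib.Helper12.ZsA
open Cfsg.Agent.Lib.Helper12.ZsB
open Pointwise

theorem unique_involution_cyclic {A : Type*} [Group A] [Finite A] [IsCyclic A] (a b : A)
    (ha : orderOf a = 2) (hb : orderOf b = 2) : a = b := by
  classical
  haveI := Fintype.ofFinite A
  by_contra hab
  have h := IsCyclic.card_pow_eq_one_le (α := A) (n := 2) (by norm_num)
  have ha1 : a ≠ 1 := by rintro rfl; rw [orderOf_one] at ha; omega
  have hb1 : b ≠ 1 := by rintro rfl; rw [orderOf_one] at hb; omega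
  have ha2 : a ^ 2 = 1 := by rw [← ha]; exact pow_orderOf_eq_one a
  have hb2 : b ^ 2 = 1 := by rw [← hb]; exact pow_orderOf_eq_one b
  have hsub : ({1, a, b} : Finset A) ⊆ Finset.univ.filter (fun x => x ^ 2 = 1) := by
    intro x hx
    simp only [Finset.mem_insert, Finset.mem_singleton] at hx
    rcases hx with rfl | rfl | rfl <;> simp [ha2, hb2]
  have hcard : ({1, a, b} : Finset A).card = 3 := by
    rw [Finset.card_insert_of_notMem, Finset.card_insert_of_notMem, Finset.card_singleton]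
    · simpa using hab
    · simp [Ne.symm ha1, Ne.symm hb1]
  have := Finset.card_le_card hsub
  omega

variable {G : Type*} [Group G]

/-- conjugation by a normalizing element, as an automorphism of the subgroup -/
def conjEquiv (S : Subgroup G) (n : G) (hn : n ∈ Subgroup.normalizer (S : Set G)) : S ≃* S where
  toFun s := ⟨n * s * n⁻¹, (Subgroup.mem_normalizer_iff.mp hn s).mp s.2⟩
  invFun s := ⟨n⁻¹ * s * n, by
    apply (Subgroup.mem_normalizer_iff.mp hn (n⁻¹ * s * n)).mpr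
    have e : n * (n⁻¹ * (s : G) * n) * n⁻¹ = s := by group
    rw [e]; exact s.2⟩
  left_inv s := by
    apply Subtype.ext
    show n⁻¹ * (n * (s : G) * n⁻¹) * n = s
    group
  right_inv s := by
    apply Subtype.ext
    show n * (n⁻¹ * (s : G) * n) * n⁻¹ = s
    group
  map_mul' a b := by
    apply Subtype.ext
    show n * ((a : G) * b) * n⁻¹ = (n * a * n⁻¹) * (n * b * n⁻¹)
    group

theorem conj_fixed (S : Subgroup G) [Finite S] (C : Subgroup S) (hCc : IsCyclic C)
    (hCh : C.Characteristic) (c : S) (hc : c ∈ C) (hc2 : orderOf c = 2)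
    (n : G) (hn : n ∈ Subgroup.normalizer (S : Set G)) : n * (c : G) * n⁻¹ = c := by
  haveI := hCc
  have h1 : conjEquiv S n hn c ∈ C := by
    have := hCh.fixed (conjEquiv S n hn)
    rw [← this] at hc
    exact hc
  have h2 : orderOf (conjEquiv S n hn c) = 2 := by rw [MulEquiv.orderOf_eq]; exact hc2
  have h3 : (⟨conjEquiv S n hn c, h1⟩ : C) = ⟨c, hc⟩ := by
    apply unique_involution_cyclic
    · rw [Subgroup.orderOf_mk]; exact h2
    · rw [Subgroup.orderOf_mk]; exact hc2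
  have h4 : conjEquiv S n hn c = c := congrArg Subtype.val h3
  exact congrArg Subtype.val h4

theorem mem_smul_sylow {p : ℕ} (g x : G) (P : Sylow p G) :
    x ∈ ((g • P : Sylow p G) : Subgroup G) ↔ g⁻¹ * x * g ∈ P := by
  rw [Sylow.coe_subgroup_smul]
  exact mem_map_conj_iff (P : Subgroup G) g x

/-- Two Sylow subgroups contained in a subgroup `H` are conjugate under `H`. -/
theorem sylow_conj_in [Finite G] {p : ℕ} [Fact p.Prime] (P Q : Sylow p G) (H : Subgroup G)
    (hP : (P : Subgroup G) ≤ H) (hQ : (Q : Subgroup G) ≤ H) : ∃ h ∈ H, h • P = Q := by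
  obtain ⟨k, hk⟩ := MulAction.exists_smul_eq H (P.subtype hP) (Q.subtype hQ)
  refine ⟨(k : G), k.2, ?_⟩
  have hk' := congrArg (fun R : Sylow p H => ((R : Subgroup H)).map H.subtype) hk
  simp only [Sylow.coe_subgroup_smul, Sylow.coe_subtype,
    Cfsg.Agent.Lib.Helper2.map_subtype_conj_smul,
    Subgroup.map_subgroupOf_eq_of_le hP, Subgroup.map_subgroupOf_eq_of_le hQ] at hk'
  apply Sylow.ext
  rw [Sylow.coe_subgroup_smul]
  exact hk'


/-- A `p`-subgroup of `H` lies in an `H`-conjugate of any Sylow `p`-subgroup of `G` contained in `H`. -/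
theorem exists_smul_ge_in [Finite G] {p : ℕ} [Fact p.Prime] (P : Sylow p G) (H : Subgroup G)
    (hP : (P : Subgroup G) ≤ H) (K : Subgroup G) (hK : IsPGroup p K) (hKH : K ≤ H) :
    ∃ h ∈ H, K ≤ ((h • P : Sylow p G) : Subgroup G) := by
  obtain ⟨T, hT⟩ := (hK.comap_subtype (K := H)).exists_le_sylow
  obtain ⟨k, hk⟩ := MulAction.exists_smul_eq H (P.subtype hP) T
  refine ⟨(k : G), k.2, ?_⟩
  intro x hx
  have h1 : (⟨x, hKH hx⟩ : H) ∈ (T : Subgroup H) := hT (Subgroup.mem_subgroupOf.mpr hx)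
  rw [← hk, mem_smul_sylow] at h1
  have h2 : k⁻¹ * (⟨x, hKH hx⟩ : H) * k ∈ ((P.subtype hP : Sylow p H) : Subgroup H) := h1
  rw [Sylow.coe_subtype, Subgroup.mem_subgroupOf] at h2
  rw [mem_smul_sylow]
  have h3 : (k : G)⁻¹ * x * (k : G) ∈ (P : Subgroup G) := by simpa using h2
  exact h3

theorem ci_weakly_closed [Finite G]
    (hCI : ∀ S T : Sylow 2 G, S ≠ T → ∃ U : Sylow 2 G,
      (S : Subgroup G) ⊓ (T : Subgroup G) ≤
        (Subgroup.center ↥(U : Subgroup G)).map (U : Subgroup G).subtype)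
    (S : Sylow 2 G) (C : Subgroup ↥(S : Subgroup G)) (hCc : IsCyclic ↥C) (hCh : C.Characteristic)
    (c : ↥(S : Subgroup G)) (hc : c ∈ C) (hc2 : orderOf c = 2) :
    ∀ g : G, g * (c : G) * g⁻¹ ∈ S → g * (c : G) * g⁻¹ = (c : G) := by
  have : Fact (Nat.Prime 2) := ⟨Nat.prime_two⟩
  intro g hg
  obtain ⟨c₀, hc₀⟩ : ∃ c₀ : G, c₀ = (c : G) := ⟨_, rfl⟩
  rw [← hc₀] at hg ⊢
  have hc₀S : c₀ ∈ S := by rw [hc₀]; exact c.2
  have hfix : ∀ n : G, n • S = S → n * c₀ * n⁻¹ = c₀ := by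
    intro n hn
    rw [hc₀]
    exact conj_fixed (S : Subgroup G) C hCc hCh c hc hc2 n (Sylow.smul_eq_iff_mem_normalizer.mp hn)
  have hcent : ∀ s : G, s ∈ S → s * c₀ = c₀ * s := by
    intro s hs
    have h1 := hfix s (Sylow.smul_eq_iff_mem_normalizer.mpr (Subgroup.le_normalizer hs))
    calc s * c₀ = (s * c₀ * s⁻¹) * s := by group
      _ = c₀ * s := by rw [h1]
  have hle : ∀ g' : G, (((g' • S : Sylow 2 G)) : Subgroup G) ≤
      Subgroup.centralizer ({g' * c₀ * g'⁻¹} : Set G) := by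
    intro g' x hx
    rw [mem_smul_sylow] at hx
    have h1 := hcent _ hx
    rw [Subgroup.mem_centralizer_singleton_iff]
    calc x * (g' * c₀ * g'⁻¹) = g' * ((g'⁻¹ * x * g') * c₀) * g'⁻¹ := by group
      _ = g' * (c₀ * (g'⁻¹ * x * g')) * g'⁻¹ := by rw [h1]
      _ = g' * c₀ * g'⁻¹ * x := by group
  obtain ⟨t, ht⟩ : ∃ t : G, t = g * c₀ * g⁻¹ := ⟨_, rfl⟩
  rw [← ht] at hg ⊢
  have hK : IsPGroup 2 ↥((S : Subgroup G) ⊓ Subgroup.centralizer ({t} : Set G)) :=
    S.isPGroup'.to_le inf_le_left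
  have hle1 : (((g • S : Sylow 2 G)) : Subgroup G) ≤ Subgroup.centralizer ({t} : Set G) := by
    rw [ht]; exact hle g
  obtain ⟨d, hdD, hKd⟩ := exists_smul_ge_in (g • S) _ hle1 _ hK inf_le_right
  rw [← mul_smul] at hKd
  have hdt : d * t = t * d := Subgroup.mem_centralizer_singleton_iff.mp hdD
  have hg't : (d * g) * c₀ * (d * g)⁻¹ = t := by
    calc (d * g) * c₀ * (d * g)⁻¹ = d * (g * c₀ * g⁻¹) * d⁻¹ := by group
      _ = (d * t) * d⁻¹ := by rw [← ht]
      _ = t := by rw [hdt]; group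
  have hc₀K : c₀ ∈ (S : Subgroup G) ⊓ Subgroup.centralizer ({t} : Set G) := by
    refine Subgroup.mem_inf.mpr ⟨hc₀S, ?_⟩
    rw [Subgroup.mem_centralizer_singleton_iff]
    exact (hcent t hg).symm
  have htK : t ∈ (S : Subgroup G) ⊓ Subgroup.centralizer ({t} : Set G) := by
    refine Subgroup.mem_inf.mpr ⟨hg, ?_⟩
    rw [Subgroup.mem_centralizer_singleton_iff]
  by_cases hS₂ : (d * g) • S = S
  · rw [← hg't]; exact hfix _ hS₂
  · obtain ⟨U, hU⟩ := hCI S ((d * g) • S) (Ne.symm hS₂)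
    have hUc : ∀ w : G, w ∈ (S : Subgroup G) ⊓ Subgroup.centralizer ({t} : Set G) →
        (U : Subgroup G) ≤ Subgroup.centralizer ({w} : Set G) := by
      intro w hw v hv
      have h1 := hU (Subgroup.mem_inf.mpr ⟨(Subgroup.mem_inf.mp hw).1, hKd hw⟩)
      obtain ⟨u, hu, huw⟩ := h1
      rw [Subgroup.mem_centralizer_singleton_iff]
      have h2 := Subgroup.mem_center_iff.mp hu ⟨v, hv⟩
      have h3 := congrArg Subtype.val h2
      rw [← huw]
      exact h3
    have hSc : (S : Subgroup G) ≤ Subgroup.centralizer ({c₀} : Set G) := by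
      intro s hs
      rw [Subgroup.mem_centralizer_singleton_iff]
      exact hcent s hs
    have hS₂t : ((((d * g) • S : Sylow 2 G)) : Subgroup G) ≤ Subgroup.centralizer ({t} : Set G) := by
      rw [← hg't]; exact hle (d * g)
    obtain ⟨x, hx, hxS⟩ := sylow_conj_in S U _ hSc (hUc c₀ hc₀K)
    obtain ⟨y, hy, hyS⟩ := sylow_conj_in ((d * g) • S) U _ hS₂t (hUc t htK)
    have hn : (x⁻¹ * y * (d * g)) • S = S := by
      rw [mul_smul, mul_smul, hyS, ← hxS, inv_smul_smul]
    have h1 := hfix _ hn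
    have hyt : y * t = t * y := Subgroup.mem_centralizer_singleton_iff.mp hy
    have hxc : x * c₀ = c₀ * x := Subgroup.mem_centralizer_singleton_iff.mp hx
    have h2 : x⁻¹ * t * x = c₀ := by
      rw [← h1]
      calc x⁻¹ * t * x = x⁻¹ * ((t * y) * y⁻¹) * x := by group
        _ = x⁻¹ * ((y * t) * y⁻¹) * x := by rw [hyt]
        _ = x⁻¹ * (y * ((d * g) * c₀ * (d * g)⁻¹) * y⁻¹) * x := by rw [hg't]
        _ = (x⁻¹ * y * (d * g)) * c₀ * (x⁻¹ * y * (d * g))⁻¹ := by group
    calc t = x * (x⁻¹ * t * x) * x⁻¹ := by group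
      _ = (x * c₀) * x⁻¹ := by rw [h2]
      _ = c₀ := by rw [hxc]; group

/-- S3184 from the Z*-theorem. -/
theorem ci_zstar [Finite G] (H : ZStarHyp G)
    (hCI : ∀ S T : Sylow 2 G, S ≠ T → ∃ U : Sylow 2 G,
      (S : Subgroup G) ⊓ (T : Subgroup G) ≤
        (Subgroup.center ↥(U : Subgroup G)).map (U : Subgroup G).subtype)
    (S : Sylow 2 G) (C : Subgroup ↥(S : Subgroup G)) (hCc : IsCyclic ↥C) (hCh : C.Characteristic)
    (c : ↥(S : Subgroup G)) (hc : c ∈ C) (hc2 : orderOf c = 2) :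
    ∀ g : G, (QuotientGroup.mk (s := Cfsg.oddCore G) (g * (c : G) * g⁻¹)) =
      QuotientGroup.mk (s := Cfsg.oddCore G) (c : G) := by
  have hwc := ci_weakly_closed hCI S C hCc hCh c hc hc2
  have ho : orderOf (c : G) = 2 := by rw [Subgroup.orderOf_coe]; exact hc2
  obtain ⟨N, hN, hodd, hcomm⟩ := H S (c : G) ho c.2 hwc
  intro g
  rw [QuotientGroup.eq]
  have hcc : (c : G) * (c : G) = 1 := by
    have := pow_orderOf_eq_one (c : G)
    rw [ho, pow_two] at this
    exact this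
  have hci : (c : G)⁻¹ = (c : G) := inv_eq_of_mul_eq_one_left hcc
  have h1 := (le_oddCore N hN hodd) (N.inv_mem (hcomm g))
  have e : ((c : G) * g * (c : G)⁻¹ * g⁻¹)⁻¹ = (g * (c : G) * g⁻¹)⁻¹ * (c : G) := by
    calc ((c : G) * g * (c : G)⁻¹ * g⁻¹)⁻¹ = g * (c : G) * g⁻¹ * (c : G)⁻¹ := by group
      _ = g * (c : G) * g⁻¹ * (c : G) := by rw [hci]
      _ = g * (c : G)⁻¹ * g⁻¹ * (c : G) := by rw [hci]
      _ = (g * (c : G) * g⁻¹)⁻¹ * (c : G) := by group
  rw [e] at h1
  exact h1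

end Cfsg.Agent.Lib.Helper12.ZsC
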