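import Mathlib
import Cfsg.Agent.Lib.Helper12.K2B
import Cfsg.Agent.Lib.Helper12.ZsC

/-!
# Counting classes of 2-elements, part C (helper12)

Reduction to a subgroup and to a quotient by a normal subgroup of odd order.
-/

set_option autoImplicit false
set_option maxHeartbeats 1000000

namespace Cfsg.Agent.Lib.Helper12.K2

open Cfsg.Agent.Lib.Helper14.KpClasses

variable {G : Type*} [Group G]

/-- reduction to a subgroup `H` containing the centre of the Sylow subgroup -/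
theorem sub_reduction [Finite G] (P : Sylow 2 G) (H : Subgroup G) (R : Sylow 2 H)
    (hRP : (R : Subgroup H).map H.subtype ≤ (P : Subgroup G))
    (hZ : ∀ z ∈ (P : Subgroup G), (∀ x ∈ (P : Subgroup G), z * x = x * z) → z ∈ H)
    (hH : 2 * Nat.card (PCls 2 H) ≤ Nat.card (R : Subgroup H)) :
    2 * Nat.card (PCls 2 G) ≤ Nat.card (P : Subgroup G) := by
  rw [← cc_sylow P]
  set A : Set G := ((P : Subgroup G) : Set G) ∩ (H : Set G) with hA
  set B : Set G := {x : G | x ∈ (P : Subgroup G) ∧ ConjClasses.mk x ∉ ConjClasses.mk '' A} with hB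
  have h1 : cc ((P : Subgroup G) : Set G) ≤ cc A + cc B := by
    apply cc_le_of_image_subset
    rintro _ ⟨x, hx, rfl⟩
    by_cases h : ConjClasses.mk x ∈ ConjClasses.mk '' A
    · exact Or.inl h
    · exact Or.inr ⟨x, ⟨hx, h⟩, rfl⟩
  -- classes meeting A come from classes of H
  have h2 : cc A ≤ Nat.card (PCls 2 H) := by
    unfold cc
    have hsub : ConjClasses.mk '' A ⊆
        Set.range (fun c : PCls 2 H => ConjClasses.map H.subtype c.1) := by
      rintro _ ⟨x, ⟨hxP, hxH⟩, rfl⟩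
      have hmem : ∀ y ∈ (ConjClasses.mk (⟨x, hxH⟩ : H)).carrier, ∃ k : ℕ, orderOf y = 2 ^ k := by
        intro y hy
        rw [ConjClasses.mem_carrier_iff_mk_eq, ConjClasses.mk_eq_mk_iff_isConj] at hy
        obtain ⟨k, hk⟩ := (IsPGroup.iff_orderOf.mp P.isPGroup') ⟨x, hxP⟩
        refine ⟨k, ?_⟩
        rw [orderOf_of_isConj hy, ← hk, Subgroup.orderOf_mk, Subgroup.orderOf_mk]
      exact ⟨⟨ConjClasses.mk (⟨x, hxH⟩ : H), hmem⟩, rfl⟩
    calc (ConjClasses.mk '' A).ncard
        ≤ (Set.range (fun c : PCls 2 H => ConjClasses.map H.subtype c.1)).ncard :=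
          Set.ncard_le_ncard hsub (Set.toFinite _)
      _ = Nat.card (Set.range (fun c : PCls 2 H => ConjClasses.map H.subtype c.1)) :=
          (Nat.card_coe_set_eq _).symm
      _ ≤ Nat.card (PCls 2 H) := Finite.card_range_le _
  have h3 : 2 * cc B ≤ B.ncard := by
    apply two_mul_cc_le
    rintro x ⟨hxP, hxA⟩
    have hxH : x ∉ H := fun h => hxA ⟨x, ⟨hxP, h⟩, rfl⟩
    have hnc : ¬ ∀ s ∈ (P : Subgroup G), x * s = s * x := fun h => hxH (hZ x hxP h)
    push_neg at hnc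
    obtain ⟨s, hs, hne⟩ := hnc
    have hconj : IsConj x (s * x * s⁻¹) := isConj_iff.mpr ⟨s, rfl⟩
    refine ⟨s * x * s⁻¹, ⟨?_, ?_⟩, ?_, hconj⟩
    · exact (P : Subgroup G).mul_mem ((P : Subgroup G).mul_mem hs hxP)
        ((P : Subgroup G).inv_mem hs)
    · rw [← ConjClasses.mk_eq_mk_iff_isConj.mpr hconj]
      exact hxA
    · intro h
      apply hne
      rw [mul_inv_eq_iff_eq_mul] at h
      exact h.symm
  have h4 : B.ncard + A.ncard ≤ Nat.card (P : Subgroup G) := by
    have e2 : Nat.card (P : Subgroup G) = ((P : Subgroup G) : Set G).ncard := by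
      rw [← Nat.card_coe_set_eq]; rfl
    rw [e2]
    have hd : Disjoint B A := by
      rw [Set.disjoint_left]
      rintro x ⟨_, h1⟩ h2
      exact h1 ⟨x, h2, rfl⟩
    rw [← Set.ncard_union_eq hd (Set.toFinite _) (Set.toFinite _)]
    apply Set.ncard_le_ncard _ (Set.toFinite _)
    rintro x (⟨hx, _⟩ | ⟨hx, _⟩) <;> exact hx
  have h5 : Nat.card (R : Subgroup H) ≤ A.ncard := by
    have e1 : Nat.card (R : Subgroup H) = Nat.card ((R : Subgroup H).map H.subtype) :=
      (Subgroup.card_map_of_injective H.subtype_injective).symm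
    have e2 : Nat.card ((R : Subgroup H).map H.subtype) =
        (((R : Subgroup H).map H.subtype : Subgroup G) : Set G).ncard := by
      rw [← Nat.card_coe_set_eq]; rfl
    rw [e1, e2]
    apply Set.ncard_le_ncard _ (Set.toFinite _)
    intro x hx
    refine ⟨hRP hx, ?_⟩
    obtain ⟨y, _, rfl⟩ := hx
    exact y.2
  omega

/-- two 2-elements that agree modulo a normal subgroup of odd order are conjugate -/
theorem isConj_of_mk_eq [Finite G] (N : Subgroup G) [hN : N.Normal] (hodd : Odd (Nat.card N))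
    (x y : G) (hx : ∃ k : ℕ, orderOf x = 2 ^ k) (hy : ∃ k : ℕ, orderOf y = 2 ^ k)
    (hxy : x⁻¹ * y ∈ N) : IsConj x y := by
  haveI : Fact (Nat.Prime 2) := ⟨Nat.prime_two⟩
  set M : Subgroup G := N ⊔ Subgroup.zpowers y with hM
  have hyM : y ∈ M := (le_sup_right : Subgroup.zpowers y ≤ M) (Subgroup.mem_zpowers y)
  have hxM : x ∈ M := by
    have h1 : (x⁻¹ * y)⁻¹ ∈ M := M.inv_mem ((le_sup_left : N ≤ M) hxy)
    have h2 := M.mul_mem hyM h1
    have e : y * (x⁻¹ * y)⁻¹ = x := by group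
    rwa [e] at h2
  -- modulo N every element of M commutes with y
  have hcomm : ∀ m ∈ M, (m * y * m⁻¹)⁻¹ * y ∈ N := by
    intro m hm
    have hle : M ≤ (Subgroup.zpowers (QuotientGroup.mk' N y)).comap (QuotientGroup.mk' N) := by
      rw [hM]
      apply sup_le
      · intro n hn
        have h0 : QuotientGroup.mk' N n = 1 := (QuotientGroup.eq_one_iff n).mpr hn
        rw [Subgroup.mem_comap, h0]
        exact Subgroup.one_mem _
      · rw [Subgroup.zpowers_le]
        exact Subgroup.mem_zpowers _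
    obtain ⟨i, hi⟩ := Subgroup.mem_zpowers_iff.mp (Subgroup.mem_comap.mp (hle hm))
    rw [← QuotientGroup.eq_one_iff, ← QuotientGroup.mk'_apply]
    simp only [map_mul, map_inv, ← hi]
    group
  -- Sylow subgroups of M
  have hXp : IsPGroup 2 ((Subgroup.zpowers x).subgroupOf M) := by
    apply IsPGroup.comap_subtype
    obtain ⟨k, hk⟩ := hx
    exact IsPGroup.of_card (n := k) (by rw [Nat.card_zpowers, hk])
  have hYp : IsPGroup 2 ((Subgroup.zpowers y).subgroupOf M) := by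
    apply IsPGroup.comap_subtype
    obtain ⟨k, hk⟩ := hy
    exact IsPGroup.of_card (n := k) (by rw [Nat.card_zpowers, hk])
  obtain ⟨S, hS⟩ := hXp.exists_le_sylow
  obtain ⟨S', hS'⟩ := hYp.exists_le_sylow
  obtain ⟨m, hm⟩ := MulAction.exists_smul_eq M S' S
  have hxS : (⟨x, hxM⟩ : M) ∈ (S : Subgroup M) :=
    hS (Subgroup.mem_subgroupOf.mpr (Subgroup.mem_zpowers x))
  have hyS' : (⟨y, hyM⟩ : M) ∈ (S' : Subgroup M) :=
    hS' (Subgroup.mem_subgroupOf.mpr (Subgroup.mem_zpowers y))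
  have hyS : m * (⟨y, hyM⟩ : M) * m⁻¹ ∈ (S : Subgroup M) := by
    rw [← hm, Cfsg.Agent.Lib.Helper12.ZsC.mem_smul_sylow]
    have e : m⁻¹ * (m * (⟨y, hyM⟩ : M) * m⁻¹) * m = ⟨y, hyM⟩ := by group
    rw [e]
    exact hyS'
  set e : M := (m * (⟨y, hyM⟩ : M) * m⁻¹)⁻¹ * ⟨x, hxM⟩ with he
  have heS : e ∈ (S : Subgroup M) := (S : Subgroup M).mul_mem ((S : Subgroup M).inv_mem hyS) hxS
  have heN : (e : G) ∈ N := by
    have h1 := hcomm (m : G) m.2
    have h2 : (e : G) = ((m : G) * y * (m : G)⁻¹)⁻¹ * y * (x⁻¹ * y)⁻¹ := by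
      rw [he]
      simp only [Subgroup.coe_mul, Subgroup.coe_inv]
      group
    rw [h2]
    exact N.mul_mem h1 (N.inv_mem hxy)
  -- e is trivial
  have he1 : (e : G) = 1 := by
    obtain ⟨k, hk⟩ := (IsPGroup.iff_orderOf.mp S.isPGroup') ⟨e, heS⟩
    rw [Subgroup.orderOf_mk] at hk
    have hk' : orderOf (e : G) = 2 ^ k := by rw [Subgroup.orderOf_coe, hk]
    have hdvd : orderOf (e : G) ∣ Nat.card N := by
      have := orderOf_dvd_natCard (⟨(e : G), heN⟩ : N)
      rwa [Subgroup.orderOf_mk] at this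
    rcases Nat.eq_zero_or_pos k with rfl | hkpos
    · rw [pow_zero, orderOf_eq_one_iff] at hk'; exact hk'
    · exfalso
      have h8 : 2 ∣ Nat.card N := by
        refine dvd_trans ?_ hdvd
        rw [hk']
        exact dvd_pow_self 2 (Nat.pos_iff_ne_zero.mp hkpos)
      exact (Nat.not_even_iff_odd.mpr hodd) (even_iff_two_dvd.mpr h8)
  have hfin : x = (m : G) * y * (m : G)⁻¹ := by
    have h2 : (e : G) = ((m : G) * y * (m : G)⁻¹)⁻¹ * x := by
      rw [he]
      simp only [Subgroup.coe_mul, Subgroup.coe_inv]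
    rw [h2, inv_mul_eq_one] at he1
    exact he1.symm
  rw [isConj_comm, isConj_iff]
  exact ⟨(m : G), hfin.symm⟩

theorem map_mk' {H : Type*} [Group H] (f : G →* H) (x : G) :
    ConjClasses.map f (ConjClasses.mk x) = ConjClasses.mk (f x) := rfl

/-- reduction to the quotient by a normal subgroup of odd order -/
theorem quot_reduction [Finite G] (N : Subgroup G) [hN : N.Normal] (hodd : Odd (Nat.card N)) :
    Nat.card (PCls 2 G) ≤ Nat.card (PCls 2 (G ⧸ N)) := by
  have hwd : ∀ c : PCls 2 G, ∀ y ∈ (ConjClasses.map (QuotientGroup.mk' N) c.1).carrier,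
      ∃ k : ℕ, orderOf y = 2 ^ k := by
    rintro ⟨c, hc⟩ y hy
    obtain ⟨x, rfl⟩ := ConjClasses.exists_rep c
    obtain ⟨k, hk⟩ := hc x ConjClasses.mem_carrier_mk
    rw [map_mk'] at hy
    rw [ConjClasses.mem_carrier_iff_mk_eq, ConjClasses.mk_eq_mk_iff_isConj] at hy
    have h1 : orderOf (QuotientGroup.mk' N x) ∣ 2 ^ k := hk ▸ orderOf_map_dvd _ x
    obtain ⟨j, -, hj⟩ := (Nat.dvd_prime_pow Nat.prime_two).mp h1
    exact ⟨j, by rw [orderOf_of_isConj hy, hj]⟩
  apply Nat.card_le_card_of_injective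
    (fun c : PCls 2 G => (⟨ConjClasses.map (QuotientGroup.mk' N) c.1, hwd c⟩ : PCls 2 (G ⧸ N)))
  rintro ⟨c, hc⟩ ⟨c', hc'⟩ h
  have h1 : ConjClasses.map (QuotientGroup.mk' N) c = ConjClasses.map (QuotientGroup.mk' N) c' :=
    congrArg Subtype.val h
  obtain ⟨x, rfl⟩ := ConjClasses.exists_rep c
  obtain ⟨y, rfl⟩ := ConjClasses.exists_rep c'
  rw [map_mk', map_mk'] at h1
  rw [ConjClasses.mk_eq_mk_iff_isConj, isConj_iff] at h1
  obtain ⟨gbar, hg⟩ := h1
  obtain ⟨g, rfl⟩ := QuotientGroup.mk'_surjective N gbar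
  apply Subtype.ext
  show ConjClasses.mk x = ConjClasses.mk y
  rw [ConjClasses.mk_eq_mk_iff_isConj]
  have hx := hc x ConjClasses.mem_carrier_mk
  have hy := hc' y ConjClasses.mem_carrier_mk
  have hx' : ∃ k : ℕ, orderOf (g * x * g⁻¹) = 2 ^ k := by
    obtain ⟨k, hk⟩ := hx
    refine ⟨k, ?_⟩
    rw [← hk]
    exact (orderOf_of_isConj (isConj_iff.mpr ⟨g, rfl⟩)).symm
  have hmem : (g * x * g⁻¹)⁻¹ * y ∈ N := by
    rw [← QuotientGroup.eq_one_iff, ← QuotientGroup.mk'_apply]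
    simp only [map_mul, map_inv] at hg ⊢
    rw [← hg]
    group
  have := isConj_of_mk_eq N hodd (g * x * g⁻¹) y hx' hy hmem
  exact (isConj_iff.mpr ⟨g, rfl⟩ : IsConj x (g * x * g⁻¹)).trans this

end Cfsg.Agent.Lib.Helper12.K2
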