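import Mathlib
import Cfsg.Agent.Lib.Helper12.K2C
import Cfsg.Agent.Lib.Helper11.FrobeniusLocal
import Cfsg.Agent.Lib.Helper13.NPC
import Cfsg.Agent.Lib.Helper17.NormalHall

/-!
# Counting classes of 2-elements, part D (helper12)

A finite group without a normal 2-complement has at most `|P| / 2` classes of 2-elements.
-/

set_option autoImplicit false
set_option maxHeartbeats 1000000

universe u

namespace Cfsg.Agent.Lib.Helper12.K2

open Cfsg.Agent.Lib.Helper14.KpClasses Cfsg.Agent.Lib.Helper13

/-- a group with a normal 2-subgroup on which an element of odd order acts nontrivially has no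
normal 2-complement -/
theorem not_npc_of_action {H : Type*} [Group H] [Finite H] (Q : Subgroup H) [hQn : Q.Normal]
    (hQ : IsPGroup 2 Q) (g : H) (hg : Odd (orderOf g)) (hgQ : ∃ q ∈ Q, g * q * g⁻¹ ≠ q) :
    ¬ NPC 2 H := by
  rintro ⟨K, hKn, hcop, k, hk⟩
  haveI := hKn
  obtain ⟨q, hq, hne⟩ := hgQ
  have hgK : g ∈ K := by
    apply Cfsg.Agent.Lib.Helper17.mem_of_coprime_index K
    rw [hk]
    exact Nat.Coprime.pow_right k hg.coprime_two_right
  apply hne
  set c := g * q * g⁻¹ * q⁻¹ with hc
  have hcK : c ∈ K := by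
    have h1 : q * g⁻¹ * q⁻¹ ∈ K := hKn.conj_mem _ (K.inv_mem hgK) q
    have e : c = g * (q * g⁻¹ * q⁻¹) := by rw [hc]; group
    rw [e]; exact K.mul_mem hgK h1
  have hcQ : c ∈ Q := Q.mul_mem (hQn.conj_mem q hq g) (Q.inv_mem hq)
  have h1 : orderOf c ∣ Nat.card K := by
    have := orderOf_dvd_natCard (⟨c, hcK⟩ : K)
    rwa [Subgroup.orderOf_mk] at this
  obtain ⟨i, hi⟩ := (IsPGroup.iff_orderOf.mp hQ) ⟨c, hcQ⟩
  rw [Subgroup.orderOf_mk] at hi
  have h2 : orderOf c = 1 := by
    have h3 : (orderOf c).Coprime (orderOf c) := by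
      have h4 : (Nat.card K).Coprime (2 ^ i) := Nat.Coprime.pow_right i hcop
      rw [← hi] at h4
      exact Nat.Coprime.coprime_dvd_left h1 h4
    exact (Nat.coprime_self _).mp h3
  rw [orderOf_eq_one_iff] at h2
  have e : g * q * g⁻¹ = c * q := by rw [hc]; group
  rw [e, h2, one_mul]

theorem sylow_card_eq {G : Type*} [Group G] [Finite G] (P P' : Sylow 2 G) :
    Nat.card (P : Subgroup G) = Nat.card (P' : Subgroup G) := by
  haveI : Fact (Nat.Prime 2) := ⟨Nat.prime_two⟩
  rw [Sylow.card_eq_multiplicity, Sylow.card_eq_multiplicity]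

theorem main_aux (n : ℕ) : ∀ (G : Type u) [Group G] [Finite G], Nat.card G = n → ¬ NPC 2 G →
    ∀ P : Sylow 2 G, 2 * Nat.card (PCls 2 G) ≤ Nat.card (P : Subgroup G) := by
  induction n using Nat.strong_induction_on with
  | _ n ih =>
  intro G _ _ hn hnpc P
  haveI : Fact (Nat.Prime 2) := ⟨Nat.prime_two⟩
  by_cases hO : ∃ N : Subgroup G, N.Normal ∧ N ≠ ⊥ ∧ Odd (Nat.card N)
  · -- quotient by a normal subgroup of odd order
    obtain ⟨N, hNn, hNb, hNodd⟩ := hO
    haveI := hNn
    have hcard : Nat.card G = Nat.card (G ⧸ N) * Nat.card N :=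
      Subgroup.card_eq_card_quotient_mul_card_subgroup N
    have hN1 : 1 < Nat.card N := (Subgroup.one_lt_card_iff_ne_bot (H := N)).mpr hNb
    have hqpos : 0 < Nat.card (G ⧸ N) := Nat.card_pos
    have hlt : Nat.card (G ⧸ N) < n := by
      rw [← hn, hcard]; nlinarith
    have hnpc' : ¬ NPC 2 (G ⧸ N) :=
      fun h => hnpc (NPC.of_quotient N hNodd.coprime_two_right h)
    have h1 := ih _ hlt (G ⧸ N) rfl hnpc' default
    have h2 := quot_reduction N hNodd
    have h3 : Nat.card ((default : Sylow 2 (G ⧸ N)) : Subgroup (G ⧸ N)) =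
        Nat.card (P : Subgroup G) := by
      rw [Sylow.card_eq_multiplicity, Sylow.card_eq_multiplicity, hcard,
        Nat.factorization_mul hqpos.ne' (by omega)]
      have h4 : (Nat.card N).factorization 2 = 0 := by
        apply Nat.factorization_eq_zero_of_not_dvd
        intro h
        exact (Nat.not_even_iff_odd.mpr hNodd) (even_iff_two_dvd.mpr h)
      simp [h4]
    omega
  · push_neg at hO
    -- Frobenius
    obtain ⟨Q, hQP, g, hgN, hgo, hgC⟩ : ∃ Q : Subgroup G, Q ≤ (P : Subgroup G) ∧
        ∃ g ∈ Subgroup.normalizer (Q : Set G), Nat.Coprime (orderOf g) 2 ∧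
          g ∉ Subgroup.centralizer (Q : Set G) := by
      by_contra hcon
      push_neg at hcon
      apply hnpc
      obtain ⟨K, hKn, hKc⟩ := Cfsg.Agent.Lib.Helper11.exists_normal_complement_of_local
        (Cfsg.Agent.Lib.Helper11.localPNilpotent_of_sylow P
          (fun Q hQ g hg hgo => hcon Q hQ g hg hgo)) P
      exact npc_iff.mp ⟨P, K, hKn, hKc⟩
    have hgodd : Odd (orderOf g) := hgo.odd_of_right
    have hQ2 : IsPGroup 2 Q := P.isPGroup'.to_le hQP
    obtain ⟨q, hq, hqne⟩ : ∃ q ∈ Q, g * q * g⁻¹ ≠ q := by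
      by_contra hcon
      push_neg at hcon
      apply hgC
      rw [Subgroup.mem_centralizer_iff]
      intro q hq
      have := hcon q hq
      rw [mul_inv_eq_iff_eq_mul] at this
      exact this.symm
    by_cases hQn : Subgroup.normalizer (Q : Set G) = ⊤
    swap
    · -- the normalizer is a proper subgroup
      set H := Subgroup.normalizer (Q : Set G) with hH
      have hlt : Nat.card H < n := by
        rw [← hn, ← Subgroup.card_top (G := G)]
        exact Cfsg.Agent.Lib.Helper11.card_lt_card_of_lt (lt_top_iff_ne_top.mpr hQn)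
      have hQ2' : IsPGroup 2 (Q.subgroupOf H) := hQ2.comap_subtype
      have hnpcH : ¬ NPC 2 H := by
        apply not_npc_of_action (Q.subgroupOf H) hQ2' (⟨g, hgN⟩ : H)
        · rw [Subgroup.orderOf_mk]; exact hgodd
        · refine ⟨⟨q, Subgroup.le_normalizer hq⟩, Subgroup.mem_subgroupOf.mpr hq, ?_⟩
          intro h
          apply hqne
          have := congrArg Subtype.val h
          simpa using this
      obtain R : Sylow 2 H := default
      have hRp : IsPGroup 2 ((R : Subgroup H).map H.subtype) := R.isPGroup'.map _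
      obtain ⟨P', hP'⟩ := hRp.exists_le_sylow
      have hQR : Q.subgroupOf H ≤ (R : Subgroup H) := hQ2'.le_sylow_of_normal R
      have hQP' : Q ≤ (P' : Subgroup G) := by
        intro x hx
        apply hP'
        exact ⟨⟨x, Subgroup.le_normalizer hx⟩, hQR (Subgroup.mem_subgroupOf.mpr hx), rfl⟩
      have h1 := ih _ hlt H rfl hnpcH R
      have h2 := sub_reduction P' H R hP' (by
        intro z hz hzc
        apply Subgroup.centralizer_le_normalizer
        rw [Subgroup.mem_centralizer_iff]
        intro x hx
        exact (hzc x (hQP' hx)).symm) h1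
      rw [sylow_card_eq P P']
      exact h2
    · -- Q is normal
      haveI hQnorm : Q.Normal := Subgroup.normalizer_eq_top_iff.mp hQn
      set C₀ := Subgroup.centralizer (Q : Set G) with hC₀
      haveI hC₀n : C₀.Normal := Subgroup.normal_centralizer
      set M := C₀ ⊔ (P : Subgroup G) with hM
      have hMtop : M ≠ ⊤ := by
        intro hMt
        apply hgC
        apply Cfsg.Agent.Lib.Helper17.mem_of_coprime_index C₀
        have h1 : C₀.index = C₀.relIndex (P : Subgroup G) := by
          rw [← Subgroup.relIndex_top_right, ← hMt, hM, Subgroup.relIndex_sup_left]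
        obtain ⟨k, hk⟩ := P.isPGroup'.index (C₀.subgroupOf (P : Subgroup G))
        rw [h1, Subgroup.relIndex, hk]
        exact Nat.Coprime.pow_right k hgo
      have hlt : Nat.card M < n := by
        rw [← hn, ← Subgroup.card_top (G := G)]
        exact Cfsg.Agent.Lib.Helper11.card_lt_card_of_lt (lt_top_iff_ne_top.mpr hMtop)
      have hPM : (P : Subgroup G) ≤ M := le_sup_right
      by_cases hnpcM : NPC 2 M
      swap
      · have h1 := ih _ hlt M rfl hnpcM (P.subtype hPM)
        refine sub_reduction P M (P.subtype hPM) ?_ (fun z hz _ => hPM hz) h1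
        rw [Sylow.coe_subtype, Subgroup.subgroupOf_map_subtype]
        exact inf_le_left
      · -- C₀ has a normal 2-complement, which is trivial
        have hC₀M : C₀ ≤ M := le_sup_left
        have hnpcC : NPC 2 C₀ :=
          NPC.of_injective (Subgroup.inclusion hC₀M) (Subgroup.inclusion_injective hC₀M) hnpcM
        obtain ⟨K, hKn, hcop, k, hk⟩ := hnpcC
        haveI := hKn
        have hK₁n : (K.map C₀.subtype).Normal := by
          refine ⟨fun x hx a => ?_⟩
          obtain ⟨y, hy, rfl⟩ := hx
          have hmemC : a * (y : G) * a⁻¹ ∈ C₀ := hC₀n.conj_mem _ y.2 a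
          refine ⟨⟨a * (y : G) * a⁻¹, hmemC⟩, ?_, rfl⟩
          apply Cfsg.Agent.Lib.Helper17.mem_of_coprime_index K
          rw [hk]
          apply Nat.Coprime.pow_right
          have h1 : orderOf (⟨a * (y : G) * a⁻¹, hmemC⟩ : C₀) = orderOf y := by
            rw [Subgroup.orderOf_mk, ← Subgroup.orderOf_coe y]
            exact (orderOf_of_isConj (isConj_iff.mpr ⟨a, rfl⟩)).symm
          rw [h1]
          have h2 : orderOf y ∣ Nat.card K := by
            have := orderOf_dvd_natCard (⟨y, hy⟩ : K)
            rwa [Subgroup.orderOf_mk] at this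
          exact Nat.Coprime.coprime_dvd_left h2 hcop
        have hK₁card : Nat.card (K.map C₀.subtype) = Nat.card K :=
          Subgroup.card_map_of_injective C₀.subtype_injective
        have hK₁bot : K.map C₀.subtype = ⊥ := by
          by_contra hne
          apply hO _ hK₁n hne
          rw [hK₁card]
          exact hcop.odd_of_right
        have hKbot : K = ⊥ := by
          rw [← Subgroup.map_eq_bot_iff_of_injective K C₀.subtype_injective]
          exact hK₁bot
        have hC₀2 : IsPGroup 2 C₀ := by
          apply IsPGroup.of_card (n := k)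
          rw [← hk, hKbot, Subgroup.index_bot]
        -- the normal 2-subgroup T
        set T := Q ⊔ C₀ with hT
        haveI hTn : T.Normal := Subgroup.sup_normal Q C₀
        have hT2 : IsPGroup 2 T := IsPGroup.to_sup_of_normal_right hQ2 hC₀2
        have hTP : T ≤ (P : Subgroup G) := hT2.le_sylow_of_normal P
        have hCT : Subgroup.centralizer (T : Set G) ≤ T := by
          refine le_trans ?_ (le_sup_right : C₀ ≤ T)
          apply Subgroup.centralizer_le
          exact (le_sup_left : Q ≤ T)
        exact final_count P T hTP g hgodd ⟨q, (le_sup_left : Q ≤ T) hq, hqne⟩ hCT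

/-- **Main theorem**: a finite group without a normal 2-complement has at most `|P| / 2` classes
of 2-elements. -/
theorem main {G : Type u} [Group G] [Finite G] (hnpc : ¬ NPC 2 G) (P : Sylow 2 G) :
    2 * Nat.card (PCls 2 G) ≤ Nat.card (P : Subgroup G) :=
  main_aux (Nat.card G) G rfl hnpc P

end Cfsg.Agent.Lib.Helper12.K2
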