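import Mathlib
import Cfsg.Agent.Lib.Helper12.K2D

/-!
# Counting classes of 2-elements, part E (helper12)

Comparison with the classes of the Sylow subgroup and the two directions of the criterion.
-/

set_option autoImplicit false
set_option maxHeartbeats 1000000

universe u

namespace Cfsg.Agent.Lib.Helper12.K2

open Cfsg.Agent.Lib.Helper14.KpClasses Cfsg.Agent.Lib.Helper13

variable {G : Type u} [Group G]

/-- the class in `G` of a class of the Sylow subgroup -/
noncomputable def clsLift (P : Sylow 2 G) : ConjClasses ↥(P : Subgroup G) → PCls 2 G :=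
  Quotient.lift (clsMap P) (by
    intro a b hab
    have hab' : IsConj a b := hab
    obtain ⟨c, hc⟩ := isConj_iff.mp hab'
    apply Subtype.ext
    show ConjClasses.mk (a : G) = ConjClasses.mk (b : G)
    rw [ConjClasses.mk_eq_mk_iff_isConj, isConj_iff]
    refine ⟨(c : G), ?_⟩
    rw [← hc]
    rfl)

theorem clsLift_mk (P : Sylow 2 G) (a : ↥(P : Subgroup G)) :
    clsLift P (ConjClasses.mk a) = clsMap P a := rfl

theorem card_cls_le_conjClasses [Finite G] (P : Sylow 2 G) :
    Nat.card (PCls 2 G) ≤ Nat.card (ConjClasses ↥(P : Subgroup G)) := by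
  haveI : Fact (Nat.Prime 2) := ⟨Nat.prime_two⟩
  apply Nat.card_le_card_of_surjective (clsLift P)
  intro c
  obtain ⟨x, hx⟩ := clsMap_surjective P c
  exact ⟨ConjClasses.mk x, hx⟩

theorem conjClasses_le_card_cls [Finite G] (P : Sylow 2 G) (h : Cfsg.HasNormalPComplement 2 G) :
    Nat.card (ConjClasses ↥(P : Subgroup G)) ≤ Nat.card (PCls 2 G) := by
  haveI : Fact (Nat.Prime 2) := ⟨Nat.prime_two⟩
  obtain ⟨P₀, N, hNn, hc⟩ := h
  haveI := hNn
  have hcard : Nat.card ↥(P : Subgroup G) = Nat.card ↥(P₀ : Subgroup G) := sylow_card_eq P P₀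
  have h1 : Nat.card N * Nat.card ↥(P : Subgroup G) = Nat.card G := by
    rw [hcard]
    exact hc.card_mul_card
  have h2 : (Nat.card N).Coprime (Nat.card ↥(P : Subgroup G)) := by
    obtain ⟨k, hk⟩ := IsPGroup.iff_card.mp P.isPGroup'
    rw [hk]
    apply Nat.Coprime.pow_right
    rw [← hc.index_eq_card]
    exact ((Nat.Prime.coprime_iff_not_dvd Nat.prime_two).mpr P₀.not_dvd_index).symm
  have hc' : N.IsComplement' (P : Subgroup G) := Subgroup.isComplement'_of_coprime h1 h2
  have hfus := Cfsg.Agent.Lib.Helper11.controlsOwnFusion_of_normal_complement (P : Subgroup G) N hc'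
  apply Nat.card_le_card_of_injective (clsLift P)
  intro c c' hcc
  obtain ⟨a, rfl⟩ := ConjClasses.exists_rep c
  obtain ⟨b, rfl⟩ := ConjClasses.exists_rep c'
  rw [clsLift_mk, clsLift_mk] at hcc
  have h3 : ConjClasses.mk (a : G) = ConjClasses.mk (b : G) := congrArg Subtype.val hcc
  rw [ConjClasses.mk_eq_mk_iff_isConj, isConj_iff] at h3
  obtain ⟨g, hg⟩ := h3
  obtain ⟨u, hu, hu'⟩ := hfus (a : G) a.2 g (by rw [hg]; exact b.2)
  rw [ConjClasses.mk_eq_mk_iff_isConj, isConj_iff]
  refine ⟨⟨u, hu⟩, ?_⟩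
  apply Subtype.ext
  simp only [Subgroup.coe_mul, Subgroup.coe_inv]
  rw [← hu', hg]

/-- many classes of 2-elements force a normal 2-complement -/
theorem forward [Finite G] (P : Sylow 2 G)
    (h : Nat.card ↥(P : Subgroup G) < 2 * Nat.card (PCls 2 G)) :
    Cfsg.HasNormalPComplement 2 G := by
  haveI : Fact (Nat.Prime 2) := ⟨Nat.prime_two⟩
  by_contra hn
  have h1 : ¬ NPC 2 G := fun h' => hn (npc_iff.mpr h')
  have := main h1 P
  omega

end Cfsg.Agent.Lib.Helper12.K2
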