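import Mathlib

/-! Finite nilpotent groups via their (normal) Sylow subgroups. -/

set_option autoImplicit false

namespace Cfsg.Agent.Lib.Helper12.NilpSylow

open Subgroup

variable {G : Type*} [Group G] [Finite G]

/-- A subgroup containing a Sylow `p`-subgroup for every prime `p` is the whole group. -/
theorem eq_top_of_forall_sylow_le (C : Subgroup G)
    (h : ∀ (p : ℕ) [Fact p.Prime], ∃ P : Sylow p G, (P : Subgroup G) ≤ C) : C = ⊤ := by
  apply Subgroup.eq_top_of_card_eq
  apply Nat.dvd_antisymm (Subgroup.card_subgroup_dvd_card C)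
  rw [← Nat.factorization_prime_le_iff_dvd (Nat.card_pos.ne') (Nat.card_pos.ne')]
  intro p hp
  haveI := Fact.mk hp
  obtain ⟨P, hP⟩ := h p
  have h1 : Nat.card P = p ^ (Nat.card G).factorization p := P.card_eq_multiplicity
  have h2 : Nat.card P ∣ Nat.card C := Subgroup.card_dvd_of_le hP
  rw [h1] at h2
  exact (hp.pow_dvd_iff_le_factorization (Nat.card_pos.ne')).mp h2

/-- In a finite nilpotent group, elements of Sylow subgroups for different primes commute. -/
theorem commute_of_mem_sylow [Group.IsNilpotent G] {p r : ℕ} [Fact p.Prime] [Fact r.Prime]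
    (hpr : p ≠ r) (P : Sylow p G) (R : Sylow r G) {x y : G} (hx : x ∈ P) (hy : y ∈ R) :
    Commute x y :=
  Subgroup.commute_of_normal_of_disjoint _ _ inferInstance inferInstance
    (IsPGroup.disjoint_of_ne p r hpr _ _ P.isPGroup' R.isPGroup') x y hx hy

/-- An element of a Sylow subgroup `P` of a finite nilpotent group which centralizes `P` is
central. -/
theorem mem_center_of_commute_sylow [Group.IsNilpotent G] {p : ℕ} [Fact p.Prime] (P : Sylow p G)
    {x : G} (hx : x ∈ P) (hc : ∀ y ∈ P, y * x = x * y) : x ∈ Subgroup.center G := by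
  have h1 : Subgroup.centralizer {x} = ⊤ := by
    apply eq_top_of_forall_sylow_le
    intro r _
    by_cases hr : r = p
    · subst hr
      exact ⟨P, fun y hy => Subgroup.mem_centralizer_singleton_iff.mpr (hc y hy)⟩
    · refine ⟨default, fun y hy => Subgroup.mem_centralizer_singleton_iff.mpr ?_⟩
      exact ((commute_of_mem_sylow (Ne.symm hr) P default hx hy).eq).symm
  rw [Subgroup.mem_center_iff]
  intro g
  have : g ∈ Subgroup.centralizer {x} := h1 ▸ Subgroup.mem_top g
  exact Subgroup.mem_centralizer_singleton_iff.mp this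

/-- A commutative Sylow subgroup of a finite nilpotent group is central. -/
theorem sylow_le_center_of_comm [Group.IsNilpotent G] {p : ℕ} [Fact p.Prime] (P : Sylow p G)
    (hc : ∀ x ∈ P, ∀ y ∈ P, x * y = y * x) : (P : Subgroup G) ≤ Subgroup.center G :=
  fun x hx => mem_center_of_commute_sylow P hx (fun y hy => hc y hy x hx)

/-- A finite nilpotent group all of whose Sylow subgroups are commutative is commutative. -/
theorem comm_of_sylow_comm [Group.IsNilpotent G]
    (h : ∀ (p : ℕ) [Fact p.Prime], ∃ P : Sylow p G, ∀ x ∈ P, ∀ y ∈ P, x * y = y * x) :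
    ∀ a b : G, a * b = b * a := by
  have h1 : Subgroup.center G = ⊤ := by
    apply eq_top_of_forall_sylow_le
    intro p _
    obtain ⟨P, hP⟩ := h p
    exact ⟨P, sylow_le_center_of_comm P hP⟩
  intro a b
  have : b ∈ Subgroup.center G := h1 ▸ Subgroup.mem_top b
  exact (Subgroup.mem_center_iff.mp this a)

/-- In a finite nilpotent group, for each prime `p` dividing the order there is a central
element of order `p`. -/
theorem exists_central_orderOf_eq_prime [Group.IsNilpotent G] {p : ℕ} [Fact p.Prime]
    (hp : p ∣ Nat.card G) : ∃ z : G, z ∈ Subgroup.center G ∧ orderOf z = p := by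
  let P : Sylow p G := default
  have hne : (P : Subgroup G) ≠ ⊥ := P.ne_bot_of_dvd_card hp
  haveI : Nontrivial (P : Subgroup G) := (Subgroup.nontrivial_iff_ne_bot _).mpr hne
  haveI : Nontrivial (Subgroup.center (P : Subgroup G)) := P.isPGroup'.center_nontrivial
  have hdvd : p ∣ Nat.card (Subgroup.center (P : Subgroup G)) := by
    rcases (P.isPGroup'.to_subgroup (Subgroup.center (P : Subgroup G))).card_eq_or_dvd with h | h
    · exfalso
      have := Finite.one_lt_card (α := Subgroup.center (P : Subgroup G))
      omega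
    · exact h
  obtain ⟨z, hz⟩ := exists_prime_orderOf_dvd_card' p hdvd
  refine ⟨(z.1 : G), ?_, ?_⟩
  · apply mem_center_of_commute_sylow P z.1.2
    intro y hy
    have := Subgroup.mem_center_iff.mp z.2 ⟨y, hy⟩
    exact congrArg Subtype.val this
  · rw [Subgroup.orderOf_coe, Subgroup.orderOf_coe]
    exact hz

end Cfsg.Agent.Lib.Helper12.NilpSylow
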