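import Mathlib
import Cfsg.Prelude.Def_CaseTheorems
import Cfsg.Agent.Lib.Lead.QuatIso
import Cfsg.Agent.Lib.Helper24.DihIso
import Cfsg.Agent.Lib.Helper2.PGroupFrattini

/-! Normal form library for quasi-dihedral (semidihedral) 2-groups `Cfsg.IsQuasiDihedral`. -/

set_option autoImplicit false

namespace Cfsg.Agent.Lib.Helper12.QD

/-- The data of a quasi-dihedral presentation inside `S`. -/
structure Data (S : Type*) [Group S] where
  n : ℕ
  hn : 3 ≤ n
  card : Nat.card S = 2 ^ (n + 1)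
  x : S
  y : S
  hx : orderOf x = 2 ^ n
  hy : orderOf y = 2
  rel : y * x * y⁻¹ = x ^ (2 ^ (n - 1) - 1)

theorem exists_data {S : Type*} [Group S] (h : Cfsg.IsQuasiDihedral S) : Nonempty (Data S) := by
  obtain ⟨n, hn, hc, x, y, hx, hy, rel⟩ := h
  exact ⟨⟨n, hn, hc, x, y, hx, hy, rel⟩⟩

variable {S : Type*} [Group S] (D : Data S)

namespace Data

instance : NeZero (2 ^ D.n) := ⟨by positivity⟩

/-- `x ^ i` for `i : ZMod (2 ^ n)`. -/
def px (i : ZMod (2 ^ D.n)) : S := D.x ^ i.val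

/-- half: `2 ^ (n - 1)` in `ZMod (2 ^ n)` -/
def h : ZMod (2 ^ D.n) := ((2 ^ (D.n - 1) : ℕ) : ZMod (2 ^ D.n))

/-- the twisting exponent `2 ^ (n - 1) - 1` -/
def r : ZMod (2 ^ D.n) := D.h - 1

theorem finite {S : Type*} [Group S] (D : Data S) : Finite S :=
  Nat.finite_of_card_ne_zero (by rw [D.card]; positivity)

theorem x_pow_card : D.x ^ (2 ^ D.n) = 1 := by
  rw [← D.hx]; exact pow_orderOf_eq_one _

theorem px_natCast (k : ℕ) : D.px (k : ZMod (2 ^ D.n)) = D.x ^ k := by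
  unfold px
  rw [ZMod.val_natCast, ← D.hx, pow_mod_orderOf]

theorem px_zero : D.px 0 = 1 := by
  unfold px; rw [ZMod.val_zero, pow_zero]

theorem px_one : D.px 1 = D.x := by
  have := D.px_natCast 1
  simpa using this

theorem px_add (i j : ZMod (2 ^ D.n)) : D.px (i + j) = D.px i * D.px j := by
  unfold px
  rw [ZMod.val_add, ← pow_add]
  have := pow_mod_orderOf D.x (i.val + j.val)
  rwa [D.hx] at this

theorem px_neg (i : ZMod (2 ^ D.n)) : D.px (-i) = (D.px i)⁻¹ := by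
  rw [eq_inv_iff_mul_eq_one, ← px_add, neg_add_cancel, px_zero]

theorem px_sub (i j : ZMod (2 ^ D.n)) : D.px (i - j) = D.px i * (D.px j)⁻¹ := by
  rw [sub_eq_add_neg, px_add, px_neg]

theorem px_injective : Function.Injective D.px := by
  intro i j hij
  unfold px at hij
  apply ZMod.val_injective
  have hi : i.val < orderOf D.x := by rw [D.hx]; exact ZMod.val_lt i
  have hj : j.val < orderOf D.x := by rw [D.hx]; exact ZMod.val_lt j
  exact pow_injOn_Iio_orderOf hi hj hij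

theorem px_eq_one_iff (i : ZMod (2 ^ D.n)) : D.px i = 1 ↔ i = 0 := by
  rw [← D.px_zero]
  exact D.px_injective.eq_iff

theorem px_nsmul (k : ℕ) (i : ZMod (2 ^ D.n)) : D.px (k * i) = (D.px i) ^ k := by
  induction k with
  | zero => simp [px_zero]
  | succ k ih =>
    rw [Nat.cast_succ, add_mul, one_mul, px_add, ih, pow_succ]

theorem mem_zpowers_iff (s : S) : s ∈ Subgroup.zpowers D.x ↔ ∃ i, s = D.px i := by
  constructor
  · intro hs
    haveI := D.finite
    rw [← mem_powers_iff_mem_zpowers] at hs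
    obtain ⟨k, rfl⟩ := hs
    exact ⟨(k : ZMod (2 ^ D.n)), (D.px_natCast k).symm⟩
  · rintro ⟨i, rfl⟩
    exact Subgroup.pow_mem _ (Subgroup.mem_zpowers _) _

theorem y_sq : D.y * D.y = 1 := by
  have := pow_orderOf_eq_one D.y
  rwa [D.hy, pow_two] at this

theorem y_inv : D.y⁻¹ = D.y := by
  rw [inv_eq_iff_mul_eq_one]; exact D.y_sq

theorem y_ne_one : D.y ≠ 1 := by
  intro h
  have := D.hy
  rw [h, orderOf_one] at this
  omega

/-- `2 * h = 0`. -/
theorem two_h : 2 * D.h = 0 := by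
  unfold h
  have : (2 : ZMod (2 ^ D.n)) = ((2 : ℕ) : ZMod (2 ^ D.n)) := by norm_num
  rw [this, ← Nat.cast_mul, ← pow_succ', Nat.sub_add_cancel (by have := D.hn; omega)]
  exact ZMod.natCast_self _

/-- `h * h = 0`. -/
theorem h_sq : D.h * D.h = 0 := by
  unfold h
  rw [← Nat.cast_mul, ← pow_add]
  have : D.n - 1 + (D.n - 1) = D.n + (D.n - 2) := by have := D.hn; omega
  rw [this, pow_add, Nat.cast_mul, ZMod.natCast_self, zero_mul]

theorem r_sq : D.r * D.r = 1 := by
  unfold r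
  linear_combination D.h_sq - D.two_h

theorem conj_x : D.y * D.x * D.y⁻¹ = D.px D.r := by
  rw [D.rel]
  unfold r h
  rw [← D.px_natCast]
  congr 1
  rw [Nat.cast_sub (Nat.one_le_two_pow), Nat.cast_one]

theorem conj_px (i : ZMod (2 ^ D.n)) : D.y * D.px i * D.y⁻¹ = D.px (D.r * i) := by
  have h1 : D.y * D.px i * D.y⁻¹ = (D.y * D.x * D.y⁻¹) ^ i.val := by
    unfold px; rw [conj_pow]
  rw [h1, D.conj_x, ← px_nsmul, ZMod.natCast_zmod_val, mul_comm]

theorem y_mul_px (i : ZMod (2 ^ D.n)) : D.y * D.px i = D.px (D.r * i) * D.y := by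
  rw [← D.conj_px, inv_mul_cancel_right]

theorem h_ne_zero : D.h ≠ 0 := by
  unfold h
  rw [Ne, ZMod.natCast_eq_zero_iff]
  intro hdvd
  have := Nat.le_of_dvd (by positivity) hdvd
  have h2 : 2 ^ (D.n - 1) < 2 ^ D.n := Nat.pow_lt_pow_right (by norm_num) (by have := D.hn; omega)
  omega

theorem h_ne_two : D.h ≠ 2 := by
  unfold h
  intro heq
  have h2 : ((2 ^ (D.n - 1) : ℕ) : ZMod (2 ^ D.n)) = ((2 : ℕ) : ZMod (2 ^ D.n)) := by
    rw [heq]; norm_num
  rw [ZMod.natCast_eq_natCast_iff'] at h2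
  have hn := D.hn
  have l1 : 2 ^ (D.n - 1) < 2 ^ D.n := Nat.pow_lt_pow_right (by norm_num) (by omega)
  have l2 : 2 < 2 ^ D.n := by
    calc 2 = 2 ^ 1 := by norm_num
      _ < 2 ^ D.n := Nat.pow_lt_pow_right (by norm_num) (by omega)
  rw [Nat.mod_eq_of_lt l1, Nat.mod_eq_of_lt l2] at h2
  have l3 : 2 ^ 2 ≤ 2 ^ (D.n - 1) := Nat.pow_le_pow_right (by norm_num) (by omega)
  omega

theorem y_notMem : D.y ∉ Subgroup.zpowers D.x := by
  intro hy
  obtain ⟨i, hi⟩ := (D.mem_zpowers_iff _).mp hy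
  have h1 : D.y * D.x * D.y⁻¹ = D.x := by
    rw [hi, ← D.px_one, ← px_add, ← px_neg, ← px_add]
    congr 1
    ring
  rw [D.conj_x] at h1
  have h2 := D.px_injective (h1.trans D.px_one.symm)
  unfold r at h2
  apply D.h_ne_two
  linear_combination h2

theorem index_zpowers : (Subgroup.zpowers D.x).index = 2 := by
  haveI := D.finite
  have h1 := Subgroup.card_mul_index (Subgroup.zpowers D.x)
  rw [Nat.card_zpowers, D.hx, D.card, pow_succ] at h1
  exact Nat.eq_of_mul_eq_mul_left (by positivity) h1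

/-- Normal form: every element is `x^i` or `x^i y`. -/
theorem normal_form (s : S) : ∃ i, s = D.px i ∨ s = D.px i * D.y := by
  by_cases hs : s ∈ Subgroup.zpowers D.x
  · obtain ⟨i, hi⟩ := (D.mem_zpowers_iff _).mp hs
    exact ⟨i, Or.inl hi⟩
  · have h1 := (Subgroup.mul_mem_iff_of_index_two D.index_zpowers (a := s) (b := D.y))
    have h2 : s * D.y ∈ Subgroup.zpowers D.x := h1.mpr ⟨fun h => absurd h hs, fun h => absurd h D.y_notMem⟩
    obtain ⟨i, hi⟩ := (D.mem_zpowers_iff _).mp h2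
    refine ⟨i, Or.inr ?_⟩
    rw [← hi, mul_assoc, D.y_sq, mul_one]

theorem px_ne_px_mul_y (i j : ZMod (2 ^ D.n)) : D.px i ≠ D.px j * D.y := by
  intro heq
  apply D.y_notMem
  have : D.y = D.px (-j + i) := by
    rw [px_add, px_neg, heq, inv_mul_cancel_left]
  rw [this]
  exact (D.mem_zpowers_iff _).mpr ⟨_, rfl⟩

theorem px_mul_y_inj {i j : ZMod (2 ^ D.n)} (hij : D.px i * D.y = D.px j * D.y) : i = j :=
  D.px_injective (mul_right_cancel hij)

/-! ### Multiplication rules -/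

theorem mul_rule1 (i j : ZMod (2 ^ D.n)) : D.px i * (D.px j * D.y) = D.px (i + j) * D.y := by
  rw [← mul_assoc, ← px_add]

theorem mul_rule2 (i j : ZMod (2 ^ D.n)) : (D.px i * D.y) * D.px j = D.px (i + D.r * j) * D.y := by
  rw [mul_assoc, D.y_mul_px, ← mul_assoc, ← px_add]

theorem mul_rule3 (i j : ZMod (2 ^ D.n)) :
    (D.px i * D.y) * (D.px j * D.y) = D.px (i + D.r * j) := by
  rw [← mul_assoc, D.mul_rule2, mul_assoc, D.y_sq, mul_one]

theorem inv_rule (i : ZMod (2 ^ D.n)) : (D.px i * D.y)⁻¹ = D.px (-(D.r * i)) * D.y := by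
  rw [inv_eq_iff_mul_eq_one, D.mul_rule3, ← D.px_zero]
  congr 1
  have := D.r_sq
  linear_combination (-i) * this

/-! ### Parity -/

/-- Parity of an exponent. -/
def par : ZMod (2 ^ D.n) →+* ZMod 2 :=
  ZMod.castHom (dvd_pow_self 2 (by have := D.hn; omega)) (ZMod 2)

theorem par_h : D.par D.h = 0 := by
  unfold par h
  rw [map_natCast, ZMod.natCast_eq_zero_iff]
  exact dvd_pow_self 2 (by have := D.hn; omega)

theorem par_r : D.par D.r = 1 := by
  unfold r
  rw [map_sub, par_h, map_one]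
  decide

theorem par_two : D.par 2 = 0 := by
  rw [map_ofNat]
  decide

theorem zmod2_cases (a : ZMod 2) : a = 0 ∨ a = 1 := by
  revert a; decide

theorem par_eq_zero_iff (i : ZMod (2 ^ D.n)) : D.par i = 0 ↔ ∃ j, i = 2 * j := by
  constructor
  · intro hi
    unfold par at hi
    rw [ZMod.castHom_apply, ← ZMod.natCast_val, ZMod.natCast_eq_zero_iff] at hi
    obtain ⟨k, hk⟩ := hi
    refine ⟨(k : ZMod (2 ^ D.n)), ?_⟩
    have := ZMod.natCast_zmod_val i
    rw [hk] at this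
    rw [← this]
    push_cast
    ring
  · rintro ⟨j, rfl⟩
    rw [map_mul, par_two, zero_mul]

theorem par_eq_one_iff (i : ZMod (2 ^ D.n)) : D.par i = 1 ↔ ∃ j, i = 2 * j + 1 := by
  constructor
  · intro hi
    have : D.par (i - 1) = 0 := by rw [map_sub, hi, map_one, sub_self]
    obtain ⟨j, hj⟩ := (D.par_eq_zero_iff _).mp this
    exact ⟨j, by linear_combination hj⟩
  · rintro ⟨j, rfl⟩
    rw [map_add, map_mul, par_two, zero_mul, map_one, zero_add]

/-- `h * i = 0` for even `i`. -/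
theorem h_mul_even {i : ZMod (2 ^ D.n)} (hi : D.par i = 0) : D.h * i = 0 := by
  obtain ⟨j, rfl⟩ := (D.par_eq_zero_iff i).mp hi
  linear_combination j * D.two_h

/-- `h * i = h` for odd `i`. -/
theorem h_mul_odd {i : ZMod (2 ^ D.n)} (hi : D.par i = 1) : D.h * i = D.h := by
  obtain ⟨j, rfl⟩ := (D.par_eq_one_iff i).mp hi
  linear_combination j * D.two_h

/-! ### Subgroups from exponent sets -/

/-- A subgroup given by the exponent sets `A` (of `x^i`) and `B` (of `x^i y`). -/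
def mkSub (A B : Set (ZMod (2 ^ D.n))) (hA0 : (0 : ZMod (2 ^ D.n)) ∈ A)
    (hAA : ∀ i j, i ∈ A → j ∈ A → i + j ∈ A) (hAneg : ∀ i, i ∈ A → -i ∈ A)
    (hAB : ∀ i j, i ∈ A → j ∈ B → i + j ∈ B) (hBA : ∀ i j, i ∈ B → j ∈ A → i + D.r * j ∈ B)
    (hBB : ∀ i j, i ∈ B → j ∈ B → i + D.r * j ∈ A) (hBinv : ∀ i, i ∈ B → -(D.r * i) ∈ B) :
    Subgroup S where
  carrier := {s | ∃ i, (i ∈ A ∧ s = D.px i) ∨ (i ∈ B ∧ s = D.px i * D.y)}
  mul_mem' := by
    rintro a b ⟨i, (⟨hi, rfl⟩ | ⟨hi, rfl⟩)⟩ ⟨j, (⟨hj, rfl⟩ | ⟨hj, rfl⟩)⟩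
    · exact ⟨i + j, Or.inl ⟨hAA i j hi hj, (D.px_add i j).symm⟩⟩
    · exact ⟨i + j, Or.inr ⟨hAB i j hi hj, D.mul_rule1 i j⟩⟩
    · exact ⟨i + D.r * j, Or.inr ⟨hBA i j hi hj, D.mul_rule2 i j⟩⟩
    · exact ⟨i + D.r * j, Or.inl ⟨hBB i j hi hj, D.mul_rule3 i j⟩⟩
  one_mem' := ⟨0, Or.inl ⟨hA0, D.px_zero.symm⟩⟩
  inv_mem' := by
    rintro a ⟨i, (⟨hi, rfl⟩ | ⟨hi, rfl⟩)⟩
    · exact ⟨-i, Or.inl ⟨hAneg i hi, (D.px_neg i).symm⟩⟩
    · exact ⟨-(D.r * i), Or.inr ⟨hBinv i hi, D.inv_rule i⟩⟩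

section mkSub
variable (A B : Set (ZMod (2 ^ D.n))) (hA0 : (0 : ZMod (2 ^ D.n)) ∈ A)
    (hAA : ∀ i j, i ∈ A → j ∈ A → i + j ∈ A) (hAneg : ∀ i, i ∈ A → -i ∈ A)
    (hAB : ∀ i j, i ∈ A → j ∈ B → i + j ∈ B) (hBA : ∀ i j, i ∈ B → j ∈ A → i + D.r * j ∈ B)
    (hBB : ∀ i j, i ∈ B → j ∈ B → i + D.r * j ∈ A) (hBinv : ∀ i, i ∈ B → -(D.r * i) ∈ B)

theorem px_mem_mkSub (i : ZMod (2 ^ D.n)) :
    D.px i ∈ D.mkSub A B hA0 hAA hAneg hAB hBA hBB hBinv ↔ i ∈ A := by
  constructor
  · rintro ⟨j, (⟨hj, hij⟩ | ⟨hj, hij⟩)⟩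
    · rwa [D.px_injective hij]
    · exact absurd hij (D.px_ne_px_mul_y i j)
  · intro hi
    exact ⟨i, Or.inl ⟨hi, rfl⟩⟩

theorem pxy_mem_mkSub (i : ZMod (2 ^ D.n)) :
    D.px i * D.y ∈ D.mkSub A B hA0 hAA hAneg hAB hBA hBB hBinv ↔ i ∈ B := by
  constructor
  · rintro ⟨j, (⟨hj, hij⟩ | ⟨hj, hij⟩)⟩
    · exact absurd hij.symm (D.px_ne_px_mul_y j i)
    · rwa [D.px_mul_y_inj hij]
  · intro hi
    exact ⟨i, Or.inr ⟨hi, rfl⟩⟩

end mkSub

/-- The dihedral maximal subgroup `⟨x², y⟩`. -/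
def dih : Subgroup S :=
  D.mkSub {i | D.par i = 0} {i | D.par i = 0} (map_zero _)
    (fun i j hi hj => by
      simp only [Set.mem_setOf_eq] at *
      rw [map_add, hi, hj, add_zero])
    (fun i hi => by
      simp only [Set.mem_setOf_eq] at *
      rw [map_neg, hi, neg_zero])
    (fun i j hi hj => by
      simp only [Set.mem_setOf_eq] at *
      rw [map_add, hi, hj, add_zero])
    (fun i j hi hj => by
      simp only [Set.mem_setOf_eq] at *
      rw [map_add, map_mul, hi, hj, mul_zero, add_zero])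
    (fun i j hi hj => by
      simp only [Set.mem_setOf_eq] at *
      rw [map_add, map_mul, hi, hj, mul_zero, add_zero])
    (fun i hi => by
      simp only [Set.mem_setOf_eq] at *
      rw [map_neg, map_mul, hi, mul_zero, neg_zero])

/-- The generalized quaternion maximal subgroup `⟨x², xy⟩`. -/
def quat : Subgroup S :=
  D.mkSub {i | D.par i = 0} {i | D.par i = 1} (map_zero _)
    (fun i j hi hj => by
      simp only [Set.mem_setOf_eq] at *
      rw [map_add, hi, hj, add_zero])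
    (fun i hi => by
      simp only [Set.mem_setOf_eq] at *
      rw [map_neg, hi, neg_zero])
    (fun i j hi hj => by
      simp only [Set.mem_setOf_eq] at *
      rw [map_add, hi, hj, zero_add])
    (fun i j hi hj => by
      simp only [Set.mem_setOf_eq] at *
      rw [map_add, map_mul, hi, hj, mul_zero, add_zero])
    (fun i j hi hj => by
      simp only [Set.mem_setOf_eq] at *
      rw [map_add, map_mul, hi, hj, par_r]
      decide)
    (fun i hi => by
      simp only [Set.mem_setOf_eq] at *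
      rw [map_neg, map_mul, hi, par_r]
      decide)

theorem px_mem_dih (i : ZMod (2 ^ D.n)) : D.px i ∈ D.dih ↔ D.par i = 0 := D.px_mem_mkSub ..
theorem pxy_mem_dih (i : ZMod (2 ^ D.n)) : D.px i * D.y ∈ D.dih ↔ D.par i = 0 :=
  D.pxy_mem_mkSub ..
theorem px_mem_quat (i : ZMod (2 ^ D.n)) : D.px i ∈ D.quat ↔ D.par i = 0 := D.px_mem_mkSub ..
theorem pxy_mem_quat (i : ZMod (2 ^ D.n)) : D.px i * D.y ∈ D.quat ↔ D.par i = 1 :=
  D.pxy_mem_mkSub ..

/-! ### Index two -/

theorem index_of_par (H : Subgroup S) (c : ZMod 2) (hpx : ∀ i, D.px i ∈ H ↔ D.par i = 0)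
    (hpxy : ∀ i, D.px i * D.y ∈ H ↔ D.par i = c) : H.index = 2 := by
  have key : ∀ a c : ZMod 2, Xor' (a + 1 = c) (a = c) := by unfold Xor'; decide
  have key0 : ∀ a : ZMod 2, Xor' (a + 1 = 0) (a = 0) := by unfold Xor'; decide
  rw [Subgroup.index_eq_two_iff]
  refine ⟨D.x, fun b => ?_⟩
  obtain ⟨i, rfl | rfl⟩ := D.normal_form b
  · rw [← D.px_one, ← px_add, hpx, hpx, map_add, map_one]
    exact key0 _
  · rw [← D.px_one, D.mul_rule2, hpxy, hpxy, mul_one, map_add, par_r]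
    exact key _ _

theorem index_dih : D.dih.index = 2 := D.index_of_par _ 0 D.px_mem_dih D.pxy_mem_dih
theorem index_quat : D.quat.index = 2 := D.index_of_par _ 1 D.px_mem_quat D.pxy_mem_quat

theorem card_of_index_two (H : Subgroup S) (hH : H.index = 2) : Nat.card H = 2 ^ D.n := by
  haveI := D.finite
  have h1 := Subgroup.card_mul_index H
  rw [hH, D.card, pow_succ] at h1
  exact Nat.eq_of_mul_eq_mul_right (by norm_num) h1

theorem eq_of_le_of_index_two {S : Type*} [Group S] (D : Data S) {H K : Subgroup S}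
    (hHK : H ≤ K) (hH : H.index = 2)
    (hK : K.index = 2) : H = K := by
  haveI := D.finite
  apply Subgroup.eq_of_le_of_card_ge hHK
  rw [D.card_of_index_two H hH, D.card_of_index_two K hK]

theorem isPGroup {S : Type*} [Group S] (D : Data S) : IsPGroup 2 S := IsPGroup.of_card D.card

theorem x_eq : D.x = D.px 1 := D.px_one.symm

theorem px_two : D.px 2 = D.x ^ 2 := by
  have := D.px_natCast 2
  simpa using this

theorem orderOf_px_two : orderOf (D.px 2) = 2 ^ (D.n - 1) := by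
  haveI := D.finite
  rw [px_two, orderOf_pow, D.hx]
  have hn := D.hn
  have h1 : Nat.gcd (2 ^ D.n) 2 = 2 := Nat.gcd_eq_right (dvd_pow_self 2 (by omega))
  rw [h1]
  have h2 : 2 ^ D.n = 2 ^ (D.n - 1) * 2 := by rw [← pow_succ]; congr 1; omega
  rw [h2, Nat.mul_div_cancel _ (by norm_num)]

theorem natCast_pow_half : (((2 ^ (D.n - 2) : ℕ) : ZMod (2 ^ D.n)) * 2) = D.h := by
  unfold h
  have hn := D.hn
  have : (2 : ZMod (2 ^ D.n)) = ((2 : ℕ) : ZMod (2 ^ D.n)) := by norm_num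
  rw [this, ← Nat.cast_mul, ← pow_succ]
  congr 2
  omega

/-- `(x^i y)^2 = x^(h i)`. -/
theorem pxy_sq (i : ZMod (2 ^ D.n)) : (D.px i * D.y) * (D.px i * D.y) = D.px (D.h * i) := by
  rw [D.mul_rule3]
  congr 1
  unfold r
  ring

/-- The generalized quaternion maximal subgroup is generalized quaternion. -/
theorem quat_iso : Nonempty (D.quat ≃* QuaternionGroup (2 ^ (D.n - 2))) := by
  haveI := D.finite
  have hn := D.hn
  have ha_mem : D.px 2 ∈ D.quat := (D.px_mem_quat 2).mpr D.par_two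
  have hb_mem : D.px 1 * D.y ∈ D.quat := (D.pxy_mem_quat 1).mpr (map_one _)
  haveI : NeZero (2 ^ (D.n - 2)) := ⟨by positivity⟩
  apply Cfsg.Agent.Lib.Lead.QuatIso.nonempty_mulEquiv_quaternionGroup
    (a := (⟨D.px 2, ha_mem⟩ : D.quat)) (b := (⟨D.px 1 * D.y, hb_mem⟩ : D.quat))
  · rw [Subgroup.orderOf_mk, D.orderOf_px_two, ← pow_succ']
    congr 1
    omega
  · apply Subtype.ext
    rw [Subgroup.coe_pow, Subgroup.coe_pow, pow_two]
    show (D.px 1 * D.y) * (D.px 1 * D.y) = (D.px 2) ^ (2 ^ (D.n - 2))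
    rw [D.pxy_sq, mul_one, ← px_nsmul, D.natCast_pow_half]
  · apply Subtype.ext
    show (D.px 1 * D.y) * D.px 2 * (D.px 1 * D.y)⁻¹ = (D.px 2)⁻¹
    rw [D.inv_rule, D.mul_rule2, D.mul_rule3, ← px_neg]
    congr 1
    have h1 := D.r_sq
    have h2 := D.two_h
    unfold r at h1 ⊢
    linear_combination (-1 : ZMod (2 ^ D.n)) * h1 + (1 : ZMod (2 ^ D.n)) * h2
  · intro hmem
    rw [Subgroup.mem_zpowers_iff] at hmem
    obtain ⟨k, hk⟩ := hmem
    have h1 := congrArg (fun t : D.quat => (t : S)) hk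
    simp only [Subgroup.coe_zpow] at h1
    have h2 : D.px 1 * D.y ∈ Subgroup.zpowers D.x := by
      rw [← h1]
      apply Subgroup.zpow_mem
      rw [D.px_two]
      exact Subgroup.pow_mem _ (Subgroup.mem_zpowers _) _
    obtain ⟨j, hj⟩ := (D.mem_zpowers_iff _).mp h2
    exact D.px_ne_px_mul_y j 1 hj.symm
  · rw [D.card_of_index_two _ D.index_quat]
    have : D.n = (D.n - 2) + 2 := by omega
    conv_lhs => rw [this, pow_add]
    ring

/-- The dihedral maximal subgroup is dihedral. -/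
theorem dih_iso : Nonempty (D.dih ≃* DihedralGroup (2 ^ (D.n - 1))) := by
  haveI := D.finite
  have hn := D.hn
  have hu_mem : D.px 2 * D.y ∈ D.dih := (D.pxy_mem_dih 2).mpr D.par_two
  have hv_mem : D.y ∈ D.dih := by
    have := (D.pxy_mem_dih 0).mpr (map_zero _)
    rwa [D.px_zero, one_mul] at this
  have hu : orderOf (D.px 2 * D.y) = 2 := by
    apply orderOf_eq_prime
    · rw [pow_two, D.pxy_sq, D.h_mul_even D.par_two, D.px_zero]
    · intro h1
      have : D.px 2 * D.y = D.px 0 := by rw [h1, D.px_zero]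
      exact D.px_ne_px_mul_y 0 2 this.symm
  have huv : D.px 2 * D.y * D.y = D.px 2 := by rw [mul_assoc, D.y_sq, mul_one]
  obtain ⟨e⟩ := Cfsg.Agent.Lib.Helper24.closure_pair_equiv_dihedral hu D.hy
  rw [huv, D.orderOf_px_two] at e
  have hle : Subgroup.closure ({D.px 2 * D.y, D.y} : Set S) ≤ D.dih := by
    rw [Subgroup.closure_le]
    rintro s (rfl | rfl)
    · exact hu_mem
    · exact hv_mem
  have hcard : Nat.card (Subgroup.closure ({D.px 2 * D.y, D.y} : Set S)) = 2 ^ D.n := by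
    rw [Nat.card_congr e.toEquiv, Nat.card_eq_fintype_card, DihedralGroup.card, ← pow_succ']
    congr 1
    omega
  have heq : Subgroup.closure ({D.px 2 * D.y, D.y} : Set S) = D.dih := by
    apply Subgroup.eq_of_le_of_card_ge hle
    rw [hcard, D.card_of_index_two _ D.index_dih]
  exact ⟨(MulEquiv.subgroupCongr heq).symm.trans e⟩

/-- The maximal subgroups are exactly `⟨x⟩`, `quat`, `dih`. -/
theorem coatom_cases (M : Subgroup S) (hM : IsCoatom M) :
    M = Subgroup.zpowers D.x ∨ M = D.quat ∨ M = D.dih := by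
  haveI := D.finite
  haveI : Fact (Nat.Prime 2) := ⟨Nat.prime_two⟩
  have hidx : M.index = 2 := Cfsg.Agent.Lib.Helper2.index_of_isCoatom_of_isPGroup D.isPGroup hM
  have hx2 : D.px 2 ∈ M := by
    rw [D.px_two]
    exact Subgroup.sq_mem_of_index_two hidx D.x
  have heven : ∀ i, D.par i = 0 → D.px i ∈ M := by
    intro i hi
    obtain ⟨j, rfl⟩ := (D.par_eq_zero_iff i).mp hi
    have : D.px (2 * j) = (D.px 2) ^ j.val := by
      rw [← px_nsmul, ZMod.natCast_zmod_val, mul_comm]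
    rw [this]
    exact Subgroup.pow_mem _ hx2 _
  by_cases hxM : D.x ∈ M
  · left
    symm
    apply D.eq_of_le_of_index_two _ D.index_zpowers hidx
    rw [Subgroup.zpowers_le]
    exact hxM
  · right
    by_cases hyM : D.y ∈ M
    · right
      symm
      apply D.eq_of_le_of_index_two _ D.index_dih hidx
      rintro s ⟨i, (⟨hi, rfl⟩ | ⟨hi, rfl⟩)⟩
      · exact heven i hi
      · exact M.mul_mem (heven i hi) hyM
    · left
      symm
      apply D.eq_of_le_of_index_two _ D.index_quat hidx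
      have hxy : D.x * D.y ∈ M :=
        (Subgroup.mul_mem_iff_of_index_two hidx).mpr ⟨fun h => absurd h hxM, fun h => absurd h hyM⟩
      rintro s ⟨i, (⟨hi, rfl⟩ | ⟨hi, rfl⟩)⟩
      · exact heven i hi
      · obtain ⟨j, rfl⟩ := (D.par_eq_one_iff i).mp hi
        have : D.px (2 * j + 1) * D.y = D.px (2 * j) * (D.x * D.y) := by
          rw [px_add, D.px_one, mul_assoc]
        rw [this]
        exact M.mul_mem (heven _ (by rw [map_mul, par_two, zero_mul])) hxy

/-! ### Conjugacy -/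

/-- quarter: `2 ^ (n - 2)` -/
def q : ZMod (2 ^ D.n) := ((2 ^ (D.n - 2) : ℕ) : ZMod (2 ^ D.n))

theorem two_q : 2 * D.q = D.h := by
  have := D.natCast_pow_half
  unfold q
  rw [mul_comm]
  exact this

theorem h_q : D.h * D.q = 0 := by
  unfold h q
  rw [← Nat.cast_mul, ← pow_add]
  have hn := D.hn
  have : D.n - 1 + (D.n - 2) = D.n + (D.n - 3) := by omega
  rw [this, pow_add, Nat.cast_mul, ZMod.natCast_self, zero_mul]

theorem par_q : D.par D.q = 0 := by
  unfold par q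
  rw [map_natCast, ZMod.natCast_eq_zero_iff]
  exact dvd_pow_self 2 (by have := D.hn; omega)

theorem neg_h : -D.h = D.h := by
  have := D.two_h
  linear_combination -this

theorem two_mul_eq_zero_iff (i : ZMod (2 ^ D.n)) : 2 * i = 0 ↔ i = 0 ∨ i = D.h := by
  constructor
  · intro hi
    have hn := D.hn
    have h1 : ((2 * i.val : ℕ) : ZMod (2 ^ D.n)) = 0 := by
      push_cast
      rw [ZMod.natCast_zmod_val]
      exact hi
    rw [ZMod.natCast_eq_zero_iff] at h1
    have h2 : 2 ^ D.n = 2 * 2 ^ (D.n - 1) := by rw [← pow_succ']; congr 1; omega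
    have h1' : 2 * 2 ^ (D.n - 1) ∣ 2 * i.val := h2 ▸ h1
    have h3 : 2 ^ (D.n - 1) ∣ i.val := Nat.dvd_of_mul_dvd_mul_left (by norm_num) h1'
    obtain ⟨c, hc⟩ := h3
    have h4 : i.val < 2 * 2 ^ (D.n - 1) := by rw [← h2]; exact ZMod.val_lt i
    have hpos : 0 < 2 ^ (D.n - 1) := by positivity
    have h5 : c < 2 := by
      by_contra hge
      push Not at hge
      have : 2 * 2 ^ (D.n - 1) ≤ 2 ^ (D.n - 1) * c := by nlinarith
      omega
    have h6 := ZMod.natCast_zmod_val i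
    interval_cases c
    · left
      rw [← h6, hc]
      simp
    · right
      rw [← h6, hc, mul_one]
      rfl
  · rintro (rfl | rfl)
    · ring
    · exact D.two_h

theorem conj_px_pxy (k i : ZMod (2 ^ D.n)) :
    D.px k * (D.px i * D.y) * (D.px k)⁻¹ = D.px (i + (2 - D.h) * k) * D.y := by
  rw [← px_neg, D.mul_rule1, D.mul_rule2]
  congr 2
  unfold r
  ring

theorem u_spec : (2 - D.h) * (1 + D.q) = 2 := by
  have h1 := D.two_q
  have h2 := D.h_q
  linear_combination h1 - h2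

theorem isConj_pxy {i j : ZMod (2 ^ D.n)} (hij : D.par i = D.par j) :
    IsConj (D.px i * D.y) (D.px j * D.y) := by
  have h1 : D.par (j - i) = 0 := by rw [map_sub, hij, sub_self]
  obtain ⟨m, hm⟩ := (D.par_eq_zero_iff _).mp h1
  rw [isConj_iff]
  refine ⟨D.px ((1 + D.q) * m), ?_⟩
  rw [D.conj_px_pxy]
  congr 2
  have := D.u_spec
  linear_combination m * this - hm

/-- the central involution -/
def z : S := D.px D.h

theorem z_ne_one : D.z ≠ 1 := by
  unfold z
  rw [Ne, D.px_eq_one_iff]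
  exact D.h_ne_zero

theorem z_sq : D.z * D.z = 1 := by
  unfold z
  rw [← px_add, ← D.px_zero]
  congr 1
  have := D.two_h
  linear_combination this

theorem orderOf_z : orderOf D.z = 2 := by
  apply orderOf_eq_prime
  · rw [pow_two]; exact D.z_sq
  · exact D.z_ne_one

theorem z_comm (s : S) : s * D.z = D.z * s := by
  unfold z
  obtain ⟨i, rfl | rfl⟩ := D.normal_form s
  · rw [← px_add, ← px_add, add_comm]
  · rw [D.mul_rule2, D.mul_rule1]
    congr 2
    unfold r
    have h1 := D.h_sq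
    have h2 := D.two_h
    linear_combination h1 - h2

theorem px_sq (i : ZMod (2 ^ D.n)) : D.px i * D.px i = D.px (2 * i) := by
  rw [← px_add, two_mul]

theorem zpowers_normal : (Subgroup.zpowers D.x).Normal :=
  Subgroup.normal_of_index_eq_two D.index_zpowers

theorem not_isConj_px_pxy (i j : ZMod (2 ^ D.n)) : ¬ IsConj (D.px i) (D.px j * D.y) := by
  rw [isConj_iff]
  rintro ⟨c, hc⟩
  have h1 : D.px i ∈ Subgroup.zpowers D.x := (D.mem_zpowers_iff _).mpr ⟨i, rfl⟩
  have h2 := D.zpowers_normal.conj_mem _ h1 c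
  rw [hc] at h2
  obtain ⟨k, hk⟩ := (D.mem_zpowers_iff _).mp h2
  exact D.px_ne_px_mul_y k j hk.symm

end Data

end Cfsg.Agent.Lib.Helper12.QD
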