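import Mathlib
import Cfsg.Agent.Lib.Helper12.SylTwoD
import Cfsg.Agent.S2325

set_option autoImplicit false

namespace Cfsg.Agent.Lib.Helper12.Redundant

open Cfsg.Agent.Lib.Helper12.SL2

/-! ### generic -/

/-- a Sylow subgroup all of whose `p`-elements lie in another Sylow subgroup -/
def Red {G : Type*} [Group G] (p : ℕ) (Q : Sylow p G) : Prop :=
  ∀ x : G, (∃ k : ℕ, orderOf x = p ^ k) → ∃ P : Sylow p G, P ≠ Q ∧ x ∈ P

theorem mem_smul_sylow {G : Type*} [Group G] {p : ℕ} (g x : G) (P : Sylow p G) :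
    x ∈ g • P ↔ g⁻¹ * x * g ∈ P := by
  show x ∈ ((g • P : Sylow p G) : Subgroup G) ↔ _
  rw [Sylow.coe_subgroup_smul, Subgroup.mem_pointwise_smul_iff_inv_smul_mem]
  simp only [MulAut.smul_def, MulAut.conj_inv_apply]
  rfl

theorem not_red_of_unique {G : Type*} [Group G] [Finite G] {p : ℕ} [Fact p.Prime]
    (Q₀ : Sylow p G) (x₀ : G) (hx₀ : ∃ k : ℕ, orderOf x₀ = p ^ k)
    (huniq : ∀ P : Sylow p G, x₀ ∈ P → P = Q₀) : ¬ ∃ Q : Sylow p G, Red p Q := by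
  rintro ⟨Q, hQ⟩
  obtain ⟨g, rfl⟩ := MulAction.exists_smul_eq G Q₀ Q
  obtain ⟨k, hk⟩ := hx₀
  obtain ⟨P, hPne, hxP⟩ := hQ (g * x₀ * g⁻¹) ⟨k, by
    have := (MulAut.conj g).orderOf_eq x₀
    rw [MulAut.conj_apply] at this
    rw [this, hk]⟩
  apply hPne
  have h1 : x₀ ∈ g⁻¹ • P := by
    rw [mem_smul_sylow, inv_inv]
    have : g * x₀ * g⁻¹ ∈ P := hxP
    exact this
  have h3 := huniq _ h1
  rw [← h3, smul_smul, mul_inv_cancel, one_smul]

theorem red_of_two {G : Type*} [Group G] {p : ℕ} (Q : Sylow p G)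
    (h : ∀ x : G, (∃ k : ℕ, orderOf x = p ^ k) →
      ∃ P₁ P₂ : Sylow p G, P₁ ≠ P₂ ∧ x ∈ P₁ ∧ x ∈ P₂) : Red p Q := by
  intro x hx
  obtain ⟨P₁, P₂, hne, h1, h2⟩ := h x hx
  by_cases e : P₁ = Q
  · exact ⟨P₂, fun e' => hne (e.trans e'.symm), h2⟩
  · exact ⟨P₁, e, h1⟩

variable {F : Type*} [Field F]

local notation "SL2" => Matrix.SpecialLinearGroup (Fin 2)
local notation "M2" => Matrix (Fin 2) (Fin 2)

/-! ### the defining characteristic -/

theorem not_red_char [Fintype F] (p : ℕ) [Fact p.Prime] [CharP F p] :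
    ¬ ∃ Q : Sylow p (SL2 F), Red p Q := by
  have hx₀ : orderOf (up (1 : F)) = p := orderOf_up one_ne_zero
  have hpg : IsPGroup p (Subgroup.zpowers (up (1 : F) : SL2 F)) :=
    IsPGroup.of_card (n := 1) (by rw [Nat.card_zpowers, hx₀, pow_one])
  obtain ⟨Q₀, hQ₀⟩ := hpg.exists_le_sylow
  apply not_red_of_unique Q₀ (up 1) ⟨1, by rw [hx₀, pow_one]⟩
  intro P hP
  obtain ⟨v, hv, hPv⟩ := sylow_eq_stabilizer P
  obtain ⟨w, hw, hQw⟩ := sylow_eq_stabilizer Q₀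
  have h1 : (up 1 : SL2 F) • v = v := by
    have : (up 1 : SL2 F) ∈ (P : Subgroup (SL2 F)) := hP
    rw [hPv] at this; exact this
  have h2 : (up 1 : SL2 F) • w = w := by
    have : (up 1 : SL2 F) ∈ (Q₀ : Subgroup (SL2 F)) := hQ₀ (Subgroup.mem_zpowers _)
    rw [hQw] at this; exact this
  have hv1 : v 1 = 0 := by
    have := congrFun h1 0
    rw [Cfsg.Agent.Lib.Helper12.SL2.smul_apply] at this
    simpa [up] using this
  have hw1 : w 1 = 0 := by
    have := congrFun h2 0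
    rw [Cfsg.Agent.Lib.Helper12.SL2.smul_apply] at this
    simpa [up] using this
  apply Sylow.ext
  rw [hPv, hQw]
  exact le_antisymm (stabilizer_le_of_dep v w hv (by rw [hv1, hw1]; ring))
    (stabilizer_le_of_dep w v hw (by rw [hv1, hw1]; ring))

/-! ### the `p`-part of a torus -/

/-- the `p`-elements of the torus `C(x₀)` -/
def Ap (p : ℕ) (x₀ : SL2 F) (hx₀ : NonScalar x₀) : Subgroup (SL2 F) where
  carrier := {t | t ∈ Tor x₀ ∧ ∃ k : ℕ, t ^ p ^ k = 1}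
  one_mem' := ⟨Subgroup.one_mem _, 0, by simp⟩
  mul_mem' := by
    rintro s t ⟨hs, k, hk⟩ ⟨ht, l, hl⟩
    refine ⟨Subgroup.mul_mem _ hs ht, k + l, ?_⟩
    rw [Subgroup.mem_centralizer_singleton_iff] at hs ht
    have hc : Commute s t := commute_of_commute x₀ s t hx₀ hs ht
    rw [hc.mul_pow, pow_add, pow_mul, hk, one_pow, mul_comm (p ^ k), pow_mul, hl, one_pow, one_mul]
  inv_mem' := by
    rintro t ⟨ht, k, hk⟩
    exact ⟨Subgroup.inv_mem _ ht, k, by rw [inv_pow, hk, inv_one]⟩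

theorem mem_Ap (p : ℕ) (x₀ : SL2 F) (hx₀ : NonScalar x₀) (t : SL2 F) :
    t ∈ Ap p x₀ hx₀ ↔ t ∈ Tor x₀ ∧ ∃ k : ℕ, t ^ p ^ k = 1 := Iff.rfl

theorem Ap_le (p : ℕ) (x₀ : SL2 F) (hx₀ : NonScalar x₀) : Ap p x₀ hx₀ ≤ Tor x₀ := fun _ h => h.1

theorem card_Ap [Finite F] (p : ℕ) [Fact p.Prime] (x₀ : SL2 F) (hx₀ : NonScalar x₀) :
    Nat.card (Ap p x₀ hx₀) = p ^ (Nat.card (Tor x₀)).factorization p := by
  obtain ⟨P⟩ : Nonempty (Sylow p (Tor x₀)) := inferInstance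
  have hmap : (P : Subgroup (Tor x₀)).map (Tor x₀).subtype = Ap p x₀ hx₀ := by
    ext t
    rw [Subgroup.mem_map, mem_Ap]
    constructor
    · rintro ⟨⟨t', ht'⟩, htP, rfl⟩
      refine ⟨ht', ?_⟩
      obtain ⟨k, hk⟩ := P.2 ⟨⟨t', ht'⟩, htP⟩
      refine ⟨k, ?_⟩
      have := congrArg (fun u : (P : Subgroup (Tor x₀)) => ((u : Tor x₀) : SL2 F)) hk
      simpa using this
    · rintro ⟨htT, k, hk⟩
      refine ⟨⟨t, htT⟩, ?_, rfl⟩
      apply Cfsg.Agent.S2430.mem_sylow_of_commute P ⟨t, htT⟩ k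
      · apply Subtype.ext
        simp only [Subgroup.coe_pow, Subgroup.coe_one]
        exact hk
      · rintro ⟨s, hs⟩ _
        apply Subtype.ext
        simp only [Subgroup.coe_mul]
        rw [Subgroup.mem_centralizer_singleton_iff] at hs htT
        exact commute_of_commute x₀ t s hx₀ htT hs
  rw [← hmap, ← P.card_eq_multiplicity]
  exact (Nat.card_congr ((P : Subgroup (Tor x₀)).equivMapOfInjective _
    (Subgroup.subtype_injective _)).toEquiv).symm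

theorem isPGroup_Ap (p : ℕ) (x₀ : SL2 F) (hx₀ : NonScalar x₀) : IsPGroup p (Ap p x₀ hx₀) := by
  rintro ⟨t, ht⟩
  obtain ⟨k, hk⟩ := ht.2
  exact ⟨k, Subtype.ext (by simpa using hk)⟩

/-! ### odd primes -/

theorem nonScalar_of_pElement (p : ℕ) [Fact p.Prime] (hp2 : p ≠ 2) (z : SL2 F) (hz1 : z ≠ 1)
    (k : ℕ) (hk : z ^ p ^ k = 1) : NonScalar z := by
  rw [nonScalar_iff]
  intro hc
  apply hz1
  have h2 := Cfsg.Agent.S2475.sq_eq_one_of_mem_center z hc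
  have hcop : Nat.Coprime 2 (p ^ k) := by
    apply Nat.Coprime.pow_right
    rw [Nat.coprime_primes Nat.prime_two (Fact.out : p.Prime)]
    exact fun h => hp2 h.symm
  have h1 : orderOf z ∣ 2 := orderOf_dvd_of_pow_eq_one (by rw [pow_two]; exact h2)
  have h3 : orderOf z ∣ p ^ k := orderOf_dvd_of_pow_eq_one hk
  have := Nat.dvd_gcd h1 h3
  rw [hcop.gcd_eq_one, Nat.dvd_one] at this
  exact orderOf_eq_one_iff.mp this

theorem sylow_eq_Ap [Finite F] (p : ℕ) [Fact p.Prime] (hp2 : p ≠ 2) (x₀ : SL2 F)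
    (hx₀ : NonScalar x₀) (P : Sylow p (SL2 F)) (hxP : x₀ ∈ P) :
    (P : Subgroup (SL2 F)) = Ap p x₀ hx₀ := by
  have hx1 : x₀ ≠ 1 := by
    rintro rfl
    exact (nonScalar_iff _).mp hx₀ (Subgroup.one_mem _)
  have hnt : Nontrivial (P : Subgroup (SL2 F)) :=
    ⟨⟨⟨x₀, hxP⟩, 1, fun h => hx1 (congrArg Subtype.val h)⟩⟩
  have hcnt := IsPGroup.center_nontrivial P.isPGroup'
  obtain ⟨⟨z, hzc⟩, hz1⟩ := exists_ne (1 : Subgroup.center (P : Subgroup (SL2 F)))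
  have hz1' : (z : SL2 F) ≠ 1 := by
    intro h
    apply hz1
    apply Subtype.ext
    apply Subtype.ext
    exact h
  obtain ⟨k, hk⟩ := P.isPGroup' z
  have hk' : (z : SL2 F) ^ p ^ k = 1 := by
    have := congrArg Subtype.val hk
    simpa using this
  have hzNS := nonScalar_of_pElement p hp2 (z : SL2 F) hz1' k hk'
  have hcz : ∀ y ∈ P, y * (z : SL2 F) = (z : SL2 F) * y := by
    intro y hy
    have := Subgroup.mem_center_iff.mp hzc ⟨y, hy⟩
    exact congrArg Subtype.val this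
  have hab : ∀ y ∈ P, y * x₀ = x₀ * y := by
    intro y hy
    exact commute_of_commute (z : SL2 F) y x₀ hzNS (hcz y hy) (hcz x₀ hxP)
  have hle : (P : Subgroup (SL2 F)) ≤ Ap p x₀ hx₀ := by
    intro y hy
    refine ⟨Subgroup.mem_centralizer_singleton_iff.mpr (hab y hy), ?_⟩
    obtain ⟨l, hl⟩ := P.isPGroup' ⟨y, hy⟩
    exact ⟨l, by simpa using congrArg Subtype.val hl⟩
  exact (P.is_maximal' (isPGroup_Ap p x₀ hx₀) hle).symm

theorem not_red_odd [Fintype F] (p : ℕ) [Fact p.Prime] (hp2 : p ≠ 2) :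
    ¬ ∃ Q : Sylow p (SL2 F), Red p Q := by
  by_cases hdvd : p ∣ Nat.card (SL2 F)
  · obtain ⟨x₀, hx₀⟩ := exists_prime_orderOf_dvd_card' p hdvd
    have hx1 : x₀ ≠ 1 := by
      rintro rfl
      rw [orderOf_one] at hx₀
      exact (Fact.out : p.Prime).one_lt.ne hx₀
    have hpow : x₀ ^ p ^ 1 = 1 := by rw [pow_one, ← hx₀]; exact pow_orderOf_eq_one x₀
    have hNS := nonScalar_of_pElement p hp2 x₀ hx1 1 hpow
    have hpg : IsPGroup p (Subgroup.zpowers x₀) :=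
      IsPGroup.of_card (n := 1) (by rw [Nat.card_zpowers, hx₀, pow_one])
    obtain ⟨Q₀, hQ₀⟩ := hpg.exists_le_sylow
    apply not_red_of_unique Q₀ x₀ ⟨1, by rw [hx₀, pow_one]⟩
    intro P hP
    apply Sylow.ext
    rw [sylow_eq_Ap p hp2 x₀ hNS P hP,
      sylow_eq_Ap p hp2 x₀ hNS Q₀ (hQ₀ (Subgroup.mem_zpowers x₀))]
  · obtain ⟨Q₀⟩ : Nonempty (Sylow p (SL2 F)) := inferInstance
    have hbot : ∀ P : Sylow p (SL2 F), (P : Subgroup (SL2 F)) = ⊥ := by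
      intro P
      apply Subgroup.eq_bot_of_card_eq
      rw [P.card_eq_multiplicity, Nat.factorization_eq_zero_of_not_dvd hdvd, pow_zero]
    apply not_red_of_unique Q₀ 1 ⟨0, by simp⟩
    intro P _
    apply Sylow.ext
    rw [hbot P, hbot Q₀]

end Cfsg.Agent.Lib.Helper12.Redundant
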