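import Mathlib
import Cfsg.Agent.Lib.Helper12.Redundant
import Cfsg.Agent.S2431

set_option autoImplicit false

namespace Cfsg.Agent.Lib.Helper12.Redundant

open Cfsg.Agent.Lib.Helper12.SL2

variable {F : Type*} [Field F]

local notation "SL2" => Matrix.SpecialLinearGroup (Fin 2)
local notation "M2" => Matrix (Fin 2) (Fin 2)


theorem exists_pow_four_ne_one [Finite F] (h2 : (2 : F) ≠ 0) (x₀ : SL2 F) (hΔ : tr x₀ ^ 2 ≠ 4)
    (htr : tr x₀ = 0)
    (hbig : 4 < Nat.card (A2 x₀ (nonScalar_of_tr x₀ hΔ))) :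
    ∃ x ∈ A2 x₀ (nonScalar_of_tr x₀ hΔ), x ^ 4 ≠ 1 := by
  classical
  by_contra hcon
  push Not at hcon
  have hsub : ((A2 x₀ (nonScalar_of_tr x₀ hΔ) : Subgroup _) : Set (SL2 F)) ⊆
      (({1, zc', x₀, x₀⁻¹} : Finset (SL2 F)) : Set (SL2 F)) := by
    intro t ht
    have := four_cases h2 x₀ hΔ htr t (A2_le _ _ ht) (hcon t ht)
    simp only [Finset.coe_insert, Finset.coe_singleton, Set.mem_insert_iff,
      Set.mem_singleton_iff]
    exact this
  have h1 := Set.ncard_le_ncard hsub (Finset.finite_toSet _)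
  rw [Set.ncard_coe_finset] at h1
  have h3 : Nat.card (A2 x₀ (nonScalar_of_tr x₀ hΔ)) =
      ((A2 x₀ (nonScalar_of_tr x₀ hΔ) : Subgroup _) : Set (SL2 F)).ncard :=
    Nat.card_coe_set_eq _
  have := Finset.card_le_four (a := (1 : SL2 F)) (b := zc') (c := x₀) (d := x₀⁻¹)
  omega

section S0

variable (h2 : (2 : F) ≠ 0) (x₀ : SL2 F) (hΔ : tr x₀ ^ 2 ≠ 4) (y₀ : SL2 F)
  (hy : y₀ ∈ NTor x₀) (hyT : y₀ ∉ Tor x₀)

include h2 hΔ hy hyT

theorem mem_NTor_of_conj_mem_S0 (x : SL2 F) (hxA : x ∈ A2 x₀ (nonScalar_of_tr x₀ hΔ))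
    (hx4 : x ^ 4 ≠ 1) (g : SL2 F) (hc : g * x * g⁻¹ ∈ S0 h2 x₀ hΔ y₀ hy hyT) :
    g ∈ NTor x₀ := by
  have hxT : x ∈ Tor x₀ := A2_le _ _ hxA
  have hc4 : (g * x * g⁻¹) ^ 4 ≠ 1 := by
    rw [conj_pow]
    intro e
    apply hx4
    have := congrArg (fun z => g⁻¹ * z * g) e
    simpa [mul_assoc] using this
  have hcT : g * x * g⁻¹ ∈ Tor x₀ := by
    by_contra hcon
    apply hc4
    apply pow_four_of_tr_eq_zero
    exact tr_eq_zero_of_not_mem h2 x₀ hΔ _ (S0_le_NTor h2 x₀ hΔ y₀ hy hyT hc) hcon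
  have hxNS : NonScalar x := nonScalar_of_pow_four x hx4
  have hcNS : NonScalar (g * x * g⁻¹) := nonScalar_of_pow_four _ hc4
  have hTx : Tor x = Tor x₀ := centralizer_eq_of_commute x₀ x (nonScalar_of_tr x₀ hΔ) hxNS
    (Subgroup.mem_centralizer_singleton_iff.mp hxT)
  have hTc : Tor (g * x * g⁻¹) = Tor x₀ := centralizer_eq_of_commute x₀ _ (nonScalar_of_tr x₀ hΔ)
    hcNS (Subgroup.mem_centralizer_singleton_iff.mp hcT)
  have hmap := Tor_conj g x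
  rw [hTx, hTc] at hmap
  have hm : g * x₀ * g⁻¹ ∈ Tor x₀ := by
    rw [← hmap]
    exact Subgroup.mem_map.mpr ⟨x₀, Subgroup.mem_centralizer_singleton_iff.mpr rfl, rfl⟩
  rw [mem_normalizer_centralizer_iff h2 x₀ hΔ]
  exact eq_or_eq_inv_of_tr_eq h2 x₀ _ hΔ (Subgroup.mem_centralizer_singleton_iff.mp hm)
    (tr_conj g x₀)

end S0

section Small

variable (h2 : (2 : F) ≠ 0) (x₀ : SL2 F) (hΔ : tr x₀ ^ 2 ≠ 4) (y₀ : SL2 F)
  (hy : y₀ ∈ NTor x₀) (hyT : y₀ ∉ Tor x₀)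

include h2 hΔ hy hyT

theorem u_mem_normalizer_S0 [Finite F] (htr : tr x₀ = 0)
    (hsmall : Nat.card (A2 x₀ (nonScalar_of_tr x₀ hΔ)) = 4)
    (u : SL2 F) (hu3 : u ^ 3 = 1) (hux : u * x₀ * u⁻¹ = x₀ * y₀)
    (huy : u * y₀ * u⁻¹ = x₀) :
    u ∈ Subgroup.normalizer ((S0 h2 x₀ hΔ y₀ hy hyT : Subgroup (SL2 F)) : Set (SL2 F)) := by
  have hmemS : ∀ g, g ∈ S0 h2 x₀ hΔ y₀ hy hyT ↔
    g ∈ A2 x₀ (nonScalar_of_tr x₀ hΔ) ∨ y₀⁻¹ * g ∈ A2 x₀ (nonScalar_of_tr x₀ hΔ) := fun _ => Iff.rfl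
  generalize S0 h2 x₀ hΔ y₀ hy hyT = S at *
  have hxS : x₀ ∈ S := (hmemS _).mpr (Or.inl (x_mem_A2 x₀ hΔ htr))
  have hyS : y₀ ∈ S := (hmemS _).mpr (Or.inr (by rw [inv_mul_cancel]; exact Subgroup.one_mem _))
  have hzS : zc' ∈ S := (hmemS _).mpr (Or.inl (zc_mem_A2 _ _))
  have hcz : u * zc' * u⁻¹ = zc' := by
    rw [Cfsg.Agent.S2471.zc_central u, mul_inv_cancel_right]
  have hcA : ∀ t ∈ A2 x₀ (nonScalar_of_tr x₀ hΔ), u * t * u⁻¹ ∈ S := by
    intro t ht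
    rcases mem_A2_small h2 x₀ hΔ htr hsmall t ht with rfl | rfl | rfl | rfl
    · rw [mul_one, mul_inv_cancel]; exact S.one_mem
    · rw [hcz]; exact hzS
    · rw [hux]; exact S.mul_mem hxS hyS
    · have : u * x₀⁻¹ * u⁻¹ = (u * x₀ * u⁻¹)⁻¹ := by group
      rw [this, hux]; exact S.inv_mem (S.mul_mem hxS hyS)
  have hcS : ∀ s ∈ S, u * s * u⁻¹ ∈ S := by
    intro s hs
    rcases (hmemS s).mp hs with hs | hs
    · exact hcA s hs
    · have : u * s * u⁻¹ = (u * y₀ * u⁻¹) * (u * (y₀⁻¹ * s) * u⁻¹) := by group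
      rw [this, huy]; exact S.mul_mem hxS (hcA _ hs)
  have hu3' : u * u * u = 1 := by rw [← hu3]; simp only [pow_succ, pow_zero, one_mul]
  rw [Subgroup.mem_normalizer_iff]
  intro h
  constructor
  · exact hcS h
  · intro hh
    have h1 := hcS _ (hcS _ hh)
    have : u * (u * (u * h * u⁻¹) * u⁻¹) * u⁻¹ = (u * u * u) * h * (u * u * u)⁻¹ := by group
    rw [this, hu3'] at h1
    simpa using h1

theorem small_cover [Finite F] (htr : tr x₀ = 0)
    (hsmall : Nat.card (A2 x₀ (nonScalar_of_tr x₀ hΔ)) = 4)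
    (u : SL2 F) (hux : u * x₀ * u⁻¹ = x₀ * y₀) (huy : u * y₀ * u⁻¹ = x₀)
    (s : SL2 F) (hs : s ∈ S0 h2 x₀ hΔ y₀ hy hyT) (hts : tr s = 0) :
    (s = x₀ ∨ s = x₀⁻¹) ∨ (u * s * u⁻¹ = x₀ ∨ u * s * u⁻¹ = x₀⁻¹) ∨
      (u * (u * s * u⁻¹) * u⁻¹ = x₀ ∨ u * (u * s * u⁻¹) * u⁻¹ = x₀⁻¹) := by
  have hx₀T : x₀ ∈ Tor x₀ := Subgroup.mem_centralizer_singleton_iff.mpr rfl
  have hcz : u * zc' * u⁻¹ = zc' := by
    rw [Cfsg.Agent.S2471.zc_central u, mul_inv_cancel_right]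
  rcases hs with hs | hs
  · left
    exact eq_or_eq_inv_of_tr_eq h2 x₀ _ hΔ
      (Subgroup.mem_centralizer_singleton_iff.mp (A2_le _ _ hs)) (hts.trans htr.symm)
  · have hs' : s = y₀ * (y₀⁻¹ * s) := by group
    rcases mem_A2_small h2 x₀ hΔ htr hsmall _ hs with h | h | h | h
    · right; left; left
      rw [hs', h, mul_one, huy]
    · right; left; right
      rw [hs', h]
      have : u * (y₀ * zc') * u⁻¹ = (u * y₀ * u⁻¹) * (u * zc' * u⁻¹) := by group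
      rw [this, huy, hcz, inv_eq_zc_mul_of_tr_eq_zero x₀ htr, Cfsg.Agent.S2471.zc_central x₀]
    · right; right; right
      rw [hs', h]
      have e1 : u * (y₀ * x₀) * u⁻¹ = (u * y₀ * u⁻¹) * (u * x₀ * u⁻¹) := by group
      rw [e1, huy, hux, ← mul_assoc x₀ x₀ y₀, sq_eq_zc_of_tr_eq_zero x₀ htr]
      have e2 : u * (zc' * y₀) * u⁻¹ = (u * zc' * u⁻¹) * (u * y₀ * u⁻¹) := by group
      rw [e2, hcz, huy, inv_eq_zc_mul_of_tr_eq_zero x₀ htr]
    · right; right; left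
      rw [hs', h]
      have e0 : y₀ * x₀⁻¹ = x₀ * y₀ := by
        have := y_conj h2 x₀ hΔ y₀ hy hyT x₀⁻¹ (Subgroup.inv_mem _ hx₀T)
        rw [inv_inv] at this
        calc y₀ * x₀⁻¹ = (y₀ * x₀⁻¹ * y₀⁻¹) * y₀ := by group
          _ = x₀ * y₀ := by rw [this]
      rw [e0]
      have e1 : u * (x₀ * y₀) * u⁻¹ = (u * x₀ * u⁻¹) * (u * y₀ * u⁻¹) := by group
      rw [e1, hux, huy]
      have e3 : x₀ * y₀ * x₀ = y₀ := by
        have := y_conj h2 x₀ hΔ y₀ hy hyT x₀ hx₀T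
        calc x₀ * y₀ * x₀ = x₀ * (y₀ * x₀ * y₀⁻¹) * y₀ := by group
          _ = y₀ := by rw [this]; group
      rw [e3, huy]

end Small

/-! ### the concrete Sylow `2`-subgroup -/

section Concrete

theorem hΔi (h2 : (2 : F) ≠ 0) : tr (qi : SL2 F) ^ 2 ≠ 4 :=
  tr_sq_ne_four_of_tr_eq_zero h2 qi tr_qi

variable [Fintype F] (h2 : (2 : F) ≠ 0) (α β : F) (h : α ^ 2 + β ^ 2 = -1)

/-- the concrete Sylow `2`-subgroup -/
noncomputable def SS : Subgroup (SL2 F) :=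
  S0 h2 qi (hΔi h2) (qj α β h) (qj_mem_NTor h2 α β h) (qj_not_mem_Tor h2 α β h)

theorem card_SS_eq : Nat.card (SS h2 α β h) =
    2 * Nat.card (A2 (qi : SL2 F) (nonScalar_of_tr qi (hΔi h2))) :=
  card_S0 h2 qi (hΔi h2) (qj α β h) (qj_mem_NTor h2 α β h) (qj_not_mem_Tor h2 α β h)

theorem card_SS : Nat.card (SS h2 α β h) = 2 ^ (Nat.card (SL2 F)).factorization 2 := by
  have hodd := Cfsg.Agent.S2475.odd_card_of_two_ne_zero h2
  have hq : Fintype.card F % 2 = 1 := Nat.odd_iff.mp hodd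
  have hq1 : 1 < Fintype.card F := Fintype.one_lt_card
  have hcardA := card_A2 (qi : SL2 F) (nonScalar_of_tr qi (hΔi h2))
  have hT := Cfsg.Agent.S2431.card_Tor_qi h2 hq
  have hval := Cfsg.Agent.S2431.val2_aux (Fintype.card F) hq hq1
  have hG : Nat.card (SL2 F) = _ := card_SL2
  rw [card_SS_eq, hcardA, hG, hval, hT, pow_succ, mul_comm]

/-- the concrete Sylow `2`-subgroup as a Sylow subgroup -/
noncomputable def QQ : Sylow 2 (SL2 F) := Sylow.ofCard (SS h2 α β h) (card_SS h2 α β h)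

theorem mem_QQ (g : SL2 F) : g ∈ QQ h2 α β h ↔ g ∈ SS h2 α β h := Iff.rfl

include h2 in
theorem four_dvd_card_Tor_qi : 4 ∣ Nat.card (Tor (qi : SL2 F)) := by
  have hodd := Cfsg.Agent.S2475.odd_card_of_two_ne_zero h2
  have hq : Fintype.card F % 2 = 1 := Nat.odd_iff.mp hodd
  have hq1 : 1 < Fintype.card F := Fintype.one_lt_card
  rw [Cfsg.Agent.S2431.card_Tor_qi h2 hq]
  split_ifs <;> omega

include h2 α β h in
theorem not_red_of_pow (a : ℕ) (ha : Nat.card (Tor (qi : SL2 F)) = 2 ^ a) :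
    ¬ ∃ Q : Sylow 2 (SL2 F), Red 2 Q := by
  have hΔ := hΔi (F := F) h2
  have hcardA := card_A2 (qi : SL2 F) (nonScalar_of_tr qi hΔ)
  have hA : Nat.card (A2 (qi : SL2 F) (nonScalar_of_tr qi hΔ)) = Nat.card (Tor (qi : SL2 F)) := by
    rw [hcardA, ha, Nat.Prime.factorization_pow Nat.prime_two, Finsupp.single_eq_same]
  have hAT : A2 (qi : SL2 F) (nonScalar_of_tr qi hΔ) = Tor (qi : SL2 F) :=
    Subgroup.eq_of_le_of_card_ge (A2_le _ _) (by rw [hA])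
  have hSN : SS h2 α β h = NTor (qi : SL2 F) := by
    apply Subgroup.eq_of_le_of_card_ge
      (S0_le_NTor h2 qi hΔ (qj α β h) (qj_mem_NTor h2 α β h) (qj_not_mem_Tor h2 α β h))
    have := card_normalizer_centralizer h2 (qi : SL2 F) hΔ
    have e := card_SS_eq h2 α β h
    rw [hA] at e
    rw [this]
    exact e.ge
  have key : ∀ (x₀ : SL2 F), (∃ k : ℕ, orderOf x₀ = 2 ^ k) →
      (∀ g : SL2 F, g⁻¹ * x₀ * g ∈ SS h2 α β h →
        g⁻¹ ∈ Subgroup.normalizer ((SS h2 α β h : Subgroup (SL2 F)) : Set (SL2 F))) →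
      ¬ ∃ Q : Sylow 2 (SL2 F), Red 2 Q := by
    intro x₀ hx₀ hkey
    apply not_red_of_unique (QQ h2 α β h) x₀ hx₀
    intro P hP
    obtain ⟨g, rfl⟩ := MulAction.exists_smul_eq (SL2 F) (QQ h2 α β h) P
    rw [mem_smul_sylow] at hP
    have h1 := hkey g ((mem_QQ h2 α β h _).mp hP)
    rw [Sylow.smul_eq_iff_mem_normalizer]
    have h3 := Subgroup.inv_mem _ h1
    rw [inv_inv] at h3
    exact h3
  by_cases hbig : 4 < Nat.card (A2 (qi : SL2 F) (nonScalar_of_tr qi hΔ))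
  · obtain ⟨x, hxA, hx4⟩ := exists_pow_four_ne_one h2 qi hΔ tr_qi hbig
    obtain ⟨hxT, k, hk⟩ := hxA
    apply key x
    · have := orderOf_dvd_of_pow_eq_one hk
      obtain ⟨m, -, hm⟩ := (Nat.dvd_prime_pow Nat.prime_two).mp this
      exact ⟨m, hm⟩
    · intro g hg
      have hmem := mem_NTor_of_conj_mem_S0 h2 qi hΔ (qj α β h) (qj_mem_NTor h2 α β h)
        (qj_not_mem_Tor h2 α β h) x ⟨hxT, k, hk⟩ hx4 g⁻¹
        (by rw [inv_inv]; exact hg)
      apply Subgroup.le_normalizer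
      rw [hSN]; exact hmem
  · have h4 := four_dvd_card_Tor_qi (F := F) h2
    have hsmall : Nat.card (A2 (qi : SL2 F) (nonScalar_of_tr qi hΔ)) = 4 := by
      rw [← hA] at h4
      have := Nat.le_of_dvd Nat.card_pos h4
      omega
    have hux : qu h2 α β h * qi * (qu h2 α β h)⁻¹ = qi * qj α β h := by
      rw [mul_inv_eq_iff_eq_mul]; exact qu_mul_qi h2 α β h
    have huy : qu h2 α β h * qj α β h * (qu h2 α β h)⁻¹ = qi := by
      rw [mul_inv_eq_iff_eq_mul]; exact qu_mul_qj h2 α β h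
    have huN := u_mem_normalizer_S0 h2 qi hΔ (qj α β h) (qj_mem_NTor h2 α β h)
      (qj_not_mem_Tor h2 α β h) tr_qi hsmall (qu h2 α β h) (qu_pow_three h2 α β h) hux huy
    apply key qi
    · refine ⟨2, ?_⟩
      have h4 : (qi : SL2 F) ^ 2 ^ 2 = 1 := pow_four_of_tr_eq_zero qi tr_qi
      have hne : ¬ (qi : SL2 F) ^ 2 ^ 1 = 1 := by
        rw [pow_one, pow_two, sq_eq_zc_of_tr_eq_zero _ tr_qi]
        exact zc_ne_one h2
      exact orderOf_eq_prime_pow hne h4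
    · intro g hg
      have hcov := small_cover h2 qi hΔ (qj α β h) (qj_mem_NTor h2 α β h)
        (qj_not_mem_Tor h2 α β h) tr_qi hsmall (qu h2 α β h) hux huy _ hg
        (by
          have := tr_conj g⁻¹ (qi : SL2 F)
          rw [inv_inv] at this
          rw [this]; exact tr_qi)
      have hfin : ∀ n : SL2 F, (n * qi * n⁻¹ = qi ∨ n * qi * n⁻¹ = qi⁻¹) →
          n ∈ Subgroup.normalizer ((SS h2 α β h : Subgroup (SL2 F)) : Set (SL2 F)) := by
        intro n hn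
        apply Subgroup.le_normalizer
        rw [hSN]
        exact (mem_normalizer_centralizer_iff h2 qi hΔ n).mpr hn
      rcases hcov with hc | hc | hc
      · apply hfin
        have : g⁻¹ * qi * g⁻¹⁻¹ = g⁻¹ * qi * g := by rw [inv_inv]
        rw [this]; exact hc
      · have h1 : qu h2 α β h * g⁻¹ ∈
            Subgroup.normalizer ((SS h2 α β h : Subgroup (SL2 F)) : Set (SL2 F)) := by
          apply hfin
          have : qu h2 α β h * g⁻¹ * qi * (qu h2 α β h * g⁻¹)⁻¹ =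
              qu h2 α β h * (g⁻¹ * qi * g) * (qu h2 α β h)⁻¹ := by group
          rw [this]; exact hc
        have := Subgroup.mul_mem _ (Subgroup.inv_mem _ huN) h1
        rwa [inv_mul_cancel_left] at this
      · have h1 : qu h2 α β h * qu h2 α β h * g⁻¹ ∈
            Subgroup.normalizer ((SS h2 α β h : Subgroup (SL2 F)) : Set (SL2 F)) := by
          apply hfin
          have : qu h2 α β h * qu h2 α β h * g⁻¹ * qi * (qu h2 α β h * qu h2 α β h * g⁻¹)⁻¹ =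
              qu h2 α β h * (qu h2 α β h * (g⁻¹ * qi * g) * (qu h2 α β h)⁻¹) *
                (qu h2 α β h)⁻¹ := by group
          rw [this]; exact hc
        have := Subgroup.mul_mem _ (Subgroup.inv_mem _ (Subgroup.mul_mem _ huN huN)) h1
        rwa [inv_mul_cancel_left] at this

include h2 α β h in
theorem red_of_not_pow (hn : ¬ ∃ a : ℕ, Nat.card (Tor (qi : SL2 F)) = 2 ^ a) :
    ∃ Q : Sylow 2 (SL2 F), Red 2 Q := by
  have hΔ := hΔi (F := F) h2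
  have hNS := nonScalar_of_tr (qi : SL2 F) hΔ
  have hjN := qj_mem_NTor h2 α β h
  have hjT := qj_not_mem_Tor h2 α β h
  obtain ⟨t, htT, htA⟩ : ∃ t, t ∈ Tor (qi : SL2 F) ∧ t ∉ A2 (qi : SL2 F) hNS := by
    by_contra hcon
    push Not at hcon
    apply hn
    have hAT : A2 (qi : SL2 F) hNS = Tor (qi : SL2 F) := le_antisymm (A2_le _ _) hcon
    refine ⟨(Nat.card (Tor (qi : SL2 F))).factorization 2, ?_⟩
    rw [← card_A2 (qi : SL2 F) hNS, hAT]
  refine ⟨QQ h2 α β h, red_of_two _ ?_⟩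
  intro x hx
  obtain ⟨c, a, haA, hca⟩ : ∃ c a, a ∈ A2 (qi : SL2 F) hNS ∧ x = c * a * c⁻¹ := by
    obtain ⟨k, hk⟩ := hx
    have hpg : IsPGroup 2 (Subgroup.zpowers x) :=
      IsPGroup.of_card (n := k) (by rw [Nat.card_zpowers, hk])
    obtain ⟨P, hP⟩ := hpg.exists_le_sylow
    obtain ⟨g, rfl⟩ := MulAction.exists_smul_eq (SL2 F) (QQ h2 α β h) P
    have hxP : x ∈ g • QQ h2 α β h := hP (Subgroup.mem_zpowers x)
    rw [mem_smul_sylow] at hxP
    have hy : g⁻¹ * x * g ∈ S0 h2 qi hΔ (qj α β h) hjN hjT := hxP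
    by_cases hyT : g⁻¹ * x * g ∈ Tor (qi : SL2 F)
    · exact ⟨g, _, S0_inf_Tor h2 qi hΔ (qj α β h) hjN hjT _ hy hyT, by group⟩
    · have htr := tr_eq_zero_of_not_mem h2 qi hΔ _
        (S0_le_NTor h2 qi hΔ (qj α β h) hjN hjT hy) hyT
      obtain ⟨e, he⟩ := isConj_iff.mp (isConj_of_tr_eq_zero h2 qi _ tr_qi htr)
      refine ⟨g * e, qi, x_mem_A2 qi hΔ tr_qi, ?_⟩
      calc x = g * (g⁻¹ * x * g) * g⁻¹ := by group
        _ = g * (e * qi * e⁻¹) * g⁻¹ := by rw [he]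
        _ = g * e * qi * (g * e)⁻¹ := by group
  subst hca
  have haS : a ∈ QQ h2 α β h := Or.inl haA
  refine ⟨c • QQ h2 α β h, c • (t • QQ h2 α β h), ?_, ?_, ?_⟩
  · intro heq
    have h1 : t • QQ h2 α β h = QQ h2 α β h := by
      have := congrArg (fun P => c⁻¹ • P) heq
      simp only [inv_smul_smul] at this
      exact this.symm
    rw [Sylow.smul_eq_iff_mem_normalizer] at h1
    have h3 := mem_S0_of_normalizes h2 qi hΔ (qj α β h) hjN hjT t
      (centralizer_le_normalizer h2 qi hΔ htT) h1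
    exact htA (S0_inf_Tor h2 qi hΔ (qj α β h) hjN hjT t h3 htT)
  · rw [mem_smul_sylow]
    have : c⁻¹ * (c * a * c⁻¹) * c = a := by group
    rw [this]; exact haS
  · rw [mem_smul_sylow, mem_smul_sylow]
    have haT := A2_le _ _ haA
    rw [Subgroup.mem_centralizer_singleton_iff] at htT haT
    have hc : t * a = a * t := commute_of_commute qi t a hNS htT haT
    have : t⁻¹ * (c⁻¹ * (c * a * c⁻¹) * c) * t = a := by
      calc t⁻¹ * (c⁻¹ * (c * a * c⁻¹) * c) * t = t⁻¹ * (a * t) := by group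
        _ = t⁻¹ * (t * a) := by rw [hc]
        _ = a := by group
    rw [this]; exact haS

end Concrete

end Cfsg.Agent.Lib.Helper12.Redundant
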