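import Mathlib

/-!
No element of order `9` in `GL₅(2)`, by counting the vectors moved by the cube (helper12).
-/

set_option autoImplicit false

namespace Cfsg.Agent.Lib.Helper12.Sec52

/-- a permutation with `σ ^ 9 = 1`: the number of points moved by `σ ^ 3` is a multiple of `9` -/
theorem nine_dvd_card {V : Type*} [Fintype V] [DecidableEq V] (σ : Equiv.Perm V) (h9 : σ ^ 9 = 1) :
    9 ∣ Fintype.card {v : V // (σ ^ 3) v ≠ v} := by
  classical
  by_cases h3 : σ ^ 3 = 1
  · have : IsEmpty {v : V // (σ ^ 3) v ≠ v} := ⟨fun ⟨v, hv⟩ => hv (by rw [h3]; rfl)⟩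
    rw [Fintype.card_eq_zero]
    exact dvd_zero 9
  · have hord : orderOf σ = 9 := by
      have hd : orderOf σ ∣ 9 := orderOf_dvd_of_pow_eq_one h9
      have hle : orderOf σ ≤ 9 := Nat.le_of_dvd (by norm_num) hd
      have hpos : 0 < orderOf σ := orderOf_pos σ
      interval_cases h : orderOf σ
      · exfalso; apply h3; rw [orderOf_eq_one_iff] at h; rw [h]; simp
      · omega
      · exfalso; apply h3; rw [← h]; exact pow_orderOf_eq_one σ
      · omega
      · omega
      · omega
      · omega
      · omega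
      · rfl
    obtain ⟨Z, hZdef⟩ : ∃ Z : Subgroup (Equiv.Perm V), Z = Subgroup.zpowers σ := ⟨_, rfl⟩
    have hZ : Nat.card Z = 9 := by rw [hZdef, Nat.card_zpowers, hord]
    have hcomm : ∀ z ∈ Z, ∀ v : V, (σ ^ 3) (z v) = z ((σ ^ 3) v) := by
      intro z hz v
      rw [hZdef] at hz
      obtain ⟨k, rfl⟩ := Subgroup.mem_zpowers_iff.mp hz
      have : σ ^ 3 * σ ^ k = σ ^ k * σ ^ 3 := by
        rw [← zpow_natCast σ 3, ← zpow_add, ← zpow_add, add_comm]
      exact congrFun (congrArg (fun f : Equiv.Perm V => (f : V → V)) this) v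
    let X : SubMulAction Z V :=
      { carrier := {v | (σ ^ 3) v ≠ v}
        smul_mem' := by
          rintro ⟨z, hz⟩ v hv
          show (σ ^ 3) (z v) ≠ z v
          rw [hcomm z hz v]
          intro h
          exact hv (z.injective h) }
    have hXmem : ∀ v : V, v ∈ X ↔ (σ ^ 3) v ≠ v := fun v => Iff.rfl
    -- stabilizers are trivial
    have hfree : ∀ (z : Z) (x : X), z • x = x → z = 1 := by
      rintro ⟨z, hz⟩ ⟨v, hv⟩ hzx
      have hzv : z v = v := congrArg Subtype.val hzx
      rw [hXmem] at hv
      have hz' := hz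
      rw [hZdef] at hz'
      obtain ⟨k, rfl⟩ := Subgroup.mem_zpowers_iff.mp hz'
      apply Subtype.ext
      show σ ^ k = 1
      -- reduce `k` modulo 9
      have hk : σ ^ k = σ ^ (k % 9).toNat := by
        have h1 : ((k % 9).toNat : ℤ) = k % 9 := Int.toNat_of_nonneg (Int.emod_nonneg k (by norm_num))
        have h2 := zpow_mod_orderOf σ k
        rw [hord] at h2
        rw [← h2, ← zpow_natCast, h1]
        norm_num
      obtain ⟨r, hr⟩ : ∃ r : ℕ, r = (k % 9).toNat := ⟨_, rfl⟩
      have hr9 : r < 9 := by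
        rw [hr]
        have := Int.emod_lt_of_pos k (show (0 : ℤ) < 9 by norm_num)
        omega
      rw [← hr] at hk
      rw [hk] at hzv ⊢
      have key : ∀ m : ℕ, ((σ ^ r) ^ m) v = v := by
        intro m
        induction m with
        | zero => simp
        | succ m ih => rw [pow_succ, Equiv.Perm.mul_apply, hzv, ih]
      have h12 : σ ^ 12 = σ ^ 3 := by
        rw [show 12 = 9 + 3 from rfl, pow_add, h9, one_mul]
      have h21 : σ ^ 21 = σ ^ 3 := by
        rw [show 21 = 9 + 12 from rfl, pow_add, h9, one_mul, h12]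
      have h30 : σ ^ 30 = σ ^ 3 := by
        rw [show 30 = 9 + 21 from rfl, pow_add, h9, one_mul, h21]
      have h48 : σ ^ 48 = σ ^ 3 := by
        rw [show 48 = 9 + (9 + 30) from rfl, pow_add, pow_add, h9, one_mul, one_mul, h30]
      interval_cases r
      · simp
      · exfalso; apply hv; have := key 3; rwa [← pow_mul] at this
      · exfalso; apply hv; have := key 6; rwa [← pow_mul, show 2 * 6 = 12 from rfl, h12] at this
      · exfalso; apply hv; have := key 1; rwa [← pow_mul] at this
      · exfalso; apply hv; have := key 3; rwa [← pow_mul, show 4 * 3 = 12 from rfl, h12] at this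
      · exfalso; apply hv; have := key 6; rwa [← pow_mul, show 5 * 6 = 30 from rfl, h30] at this
      · exfalso; apply hv; have := key 2; rwa [← pow_mul, show 6 * 2 = 12 from rfl, h12] at this
      · exfalso; apply hv; have := key 3; rwa [← pow_mul, show 7 * 3 = 21 from rfl, h21] at this
      · exfalso; apply hv; have := key 6; rwa [← pow_mul, show 8 * 6 = 48 from rfl, h48] at this
    have hstab : ∀ x : X, MulAction.stabilizer Z x = ⊥ := by
      intro x
      rw [eq_bot_iff]
      intro z hz
      rw [Subgroup.mem_bot]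
      exact hfree z x (MulAction.mem_stabilizer_iff.mp hz)
    have : Fintype Z := Fintype.ofFinite Z
    have horb : ∀ x : X, Nat.card (MulAction.orbit Z x) = 9 := by
      intro x
      have := MulAction.card_orbit_mul_card_stabilizer_eq_card_group Z x
      simp only [← Nat.card_eq_fintype_card] at this
      rw [hstab x, Subgroup.card_bot, mul_one, hZ] at this
      exact this
    have hcard : Nat.card X = Nat.card (Σ ω : MulAction.orbitRel.Quotient Z X, MulAction.orbit Z ω.out) :=
      Nat.card_congr (MulAction.selfEquivSigmaOrbits Z X)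
    rw [Nat.card_sigma] at hcard
    have : Fintype.card {v : V // (σ ^ 3) v ≠ v} = Nat.card X := by
      rw [← Nat.card_eq_fintype_card]
      rfl
    rw [this, hcard]
    apply Finset.dvd_sum
    intro ω _
    rw [horb]


/-- the permutation representation of `GL_n(R)` on column vectors -/
def vecPerm {n : Type*} [Fintype n] [DecidableEq n] {R : Type*} [CommRing R] :
    GL n R →* Equiv.Perm (n → R) where
  toFun g :=
    { toFun := fun v => (g : Matrix n n R).mulVec v
      invFun := fun v => ((g⁻¹ : GL n R) : Matrix n n R).mulVec v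
      left_inv := fun v => by
        show ((g⁻¹ : GL n R) : Matrix n n R).mulVec ((g : Matrix n n R).mulVec v) = v
        rw [Matrix.mulVec_mulVec, ← Units.val_mul, inv_mul_cancel, Units.val_one, Matrix.one_mulVec]
      right_inv := fun v => by
        show (g : Matrix n n R).mulVec (((g⁻¹ : GL n R) : Matrix n n R).mulVec v) = v
        rw [Matrix.mulVec_mulVec, ← Units.val_mul, mul_inv_cancel, Units.val_one, Matrix.one_mulVec] }
  map_one' := by
    ext v
    simp
  map_mul' := fun g h => by
    ext v
    simp [Matrix.mulVec_mulVec]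

theorem vecPerm_apply {n : Type*} [Fintype n] [DecidableEq n] {R : Type*} [CommRing R]
    (g : GL n R) (v : n → R) : vecPerm g v = (g : Matrix n n R).mulVec v := rfl

/-- `GL₅(2)` has no element of order `9` -/
theorem no_nine (g : GL (Fin 5) (ZMod 2)) (h9 : g ^ 9 = 1) : g ^ 3 = 1 := by
  classical
  have hσ9 : (vecPerm g) ^ 9 = 1 := by rw [← map_pow, h9, map_one]
  have hdvd := nine_dvd_card (vecPerm g) hσ9
  obtain ⟨A, hA⟩ : ∃ A : Matrix (Fin 5) (Fin 5) (ZMod 2), A = ((g ^ 3 : GL (Fin 5) (ZMod 2)) : Matrix _ _ _) :=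
    ⟨_, rfl⟩
  have hσ3 : ∀ v : Fin 5 → ZMod 2, ((vecPerm g) ^ 3) v = A.mulVec v := by
    intro v
    rw [← map_pow, vecPerm_apply, hA]
  let W : AddSubgroup (Fin 5 → ZMod 2) :=
    { carrier := {v | A.mulVec v = v}
      add_mem' := by
        intro a b ha hb
        show A.mulVec (a + b) = a + b
        rw [Matrix.mulVec_add, ha, hb]
      zero_mem' := by
        show A.mulVec 0 = 0
        rw [Matrix.mulVec_zero]
      neg_mem' := by
        intro a ha
        show A.mulVec (-a) = -a
        rw [Matrix.mulVec_neg, ha] }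
  have hWmem : ∀ v, v ∈ W ↔ A.mulVec v = v := fun v => Iff.rfl
  have hWdvd : Nat.card W ∣ Nat.card (Fin 5 → ZMod 2) := AddSubgroup.card_addSubgroup_dvd_card W
  have hV : Nat.card (Fin 5 → ZMod 2) = 32 := by
    rw [Nat.card_eq_fintype_card, Fintype.card_fun, ZMod.card, Fintype.card_fin]
    norm_num
  rw [hV] at hWdvd
  have hcompl : Fintype.card {v : Fin 5 → ZMod 2 // ((vecPerm g) ^ 3) v ≠ v} = 32 - Nat.card W := by
    have h1 : Fintype.card {v : Fin 5 → ZMod 2 // ((vecPerm g) ^ 3) v ≠ v} =
        Fintype.card {v : Fin 5 → ZMod 2 // ¬ (v ∈ W)} := by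
      apply Fintype.card_congr
      apply Equiv.subtypeEquivRight
      intro v
      rw [hWmem, hσ3]
    rw [h1, Fintype.card_subtype_compl, ← Nat.card_eq_fintype_card, hV, ← Nat.card_eq_fintype_card]
  rw [hcompl] at hdvd
  have hw32 : Nat.card W = 32 := by
    have hmem : Nat.card W ∈ Nat.divisors 32 := Nat.mem_divisors.mpr ⟨hWdvd, by norm_num⟩
    have hdiv : Nat.divisors 32 = {1, 2, 4, 8, 16, 32} := by decide
    rw [hdiv] at hmem
    simp only [Finset.mem_insert, Finset.mem_singleton] at hmem
    rcases hmem with h | h | h | h | h | h <;> rw [h] at hdvd ⊢ <;> omega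
  have hWtop : W = ⊤ := by
    apply (AddSubgroup.card_eq_iff_eq_top W).mp
    rw [hw32, hV]
  have hall : ∀ v, A.mulVec v = v := by
    intro v
    rw [← hWmem, hWtop]
    trivial
  have hA1 : A = 1 := by
    apply Matrix.mulVec_injective
    funext v
    rw [hall v, Matrix.one_mulVec]
  apply Units.ext
  rw [← hA, hA1]
  rfl

end Cfsg.Agent.Lib.Helper12.Sec52
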