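import Cfsg.Agent.Lib.Helper12.Sec52a

/-!
Sections of `GL₅(2)`: the arithmetic of the orders (helper12).
-/

set_option autoImplicit false

namespace Cfsg.Agent.Lib.Helper12.Sec52

theorem card_GL52 : Nat.card (GL (Fin 5) (ZMod 2)) = 9999360 := by
  rw [Matrix.card_GL_field, ZMod.card]
  decide

theorem psl_arith (n : ℕ) (hn : 2 ≤ n) (N : ℕ) (hN : N = 2 ^ n * (2 ^ n - 1) * (2 ^ n + 1))
    (hd : N ∣ 9999360) : n = 2 ∨ n = 3 := by
  have hle : N ≤ 9999360 := Nat.le_of_dvd (by norm_num) hd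
  have hn7 : n ≤ 7 := by
    by_contra hcon
    push Not at hcon
    have h8 : 2 ^ 8 ≤ 2 ^ n := Nat.pow_le_pow_right (by norm_num) hcon
    have h1 : 256 * 255 * 257 ≤ 2 ^ n * (2 ^ n - 1) * (2 ^ n + 1) :=
      Nat.mul_le_mul (Nat.mul_le_mul (by omega) (by omega)) (by omega)
    omega
  interval_cases n
  · left; rfl
  · right; rfl
  · exfalso; rw [hN] at hd; norm_num at hd
  · exfalso; rw [hN] at hd; norm_num at hd
  · exfalso; rw [hN] at hd; norm_num at hd
  · exfalso; rw [hN] at hd; norm_num at hd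

theorem sz_arith (m : ℕ) (hm : 1 ≤ m) (N : ℕ)
    (hN : N = (2 ^ (2 * m + 1)) ^ 2 * ((2 ^ (2 * m + 1)) ^ 2 + 1) * (2 ^ (2 * m + 1) - 1))
    (hd : N ∣ 9999360) : False := by
  have hle : N ≤ 9999360 := Nat.le_of_dvd (by norm_num) hd
  have hm1 : m ≤ 1 := by
    by_contra hcon
    push Not at hcon
    have h8 : 2 ^ 5 ≤ 2 ^ (2 * m + 1) := Nat.pow_le_pow_right (by norm_num) (by omega)
    obtain ⟨q, hq⟩ : ∃ q, q = 2 ^ (2 * m + 1) := ⟨_, rfl⟩
    rw [← hq] at hN h8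
    have h2 : 32 ^ 2 ≤ q ^ 2 := Nat.pow_le_pow_left h8 2
    have h1 : 1024 * 1025 * 31 ≤ q ^ 2 * (q ^ 2 + 1) * (q - 1) :=
      Nat.mul_le_mul (Nat.mul_le_mul (by omega) (by omega)) (by omega)
    omega
  have : m = 1 := by omega
  subst this
  rw [hN] at hd
  norm_num at hd

theorem psu_arith (n : ℕ) (hn : 2 ≤ n) (N : ℕ)
    (hN : Nat.gcd 3 (2 ^ n + 1) * ((2 ^ n + 1) * N) = (2 ^ n) ^ (3 * (3 - 1) / 2) *
      ∏ i ∈ Finset.range 3, (if Even i then (2 ^ n) ^ (i + 1) + 1 else (2 ^ n) ^ (i + 1) - 1))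
    (hd : N ∣ 9999360) : False := by
  have hle : N ≤ 9999360 := Nat.le_of_dvd (by norm_num) hd
  have hprod : ∀ q : ℕ, ∏ i ∈ Finset.range 3, (if Even i then q ^ (i + 1) + 1 else q ^ (i + 1) - 1) =
      (q + 1) * (q ^ 2 - 1) * (q ^ 3 + 1) := by
    intro q
    rw [Finset.prod_range_succ, Finset.prod_range_succ, Finset.prod_range_one]
    have e0 : Even 0 := by decide
    have e1 : ¬ Even 1 := by decide
    have e2 : Even 2 := by decide
    rw [if_pos e0, if_neg e1, if_pos e2]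
    norm_num
  rw [hprod, show 3 * (3 - 1) / 2 = 3 from rfl] at hN
  have hn3 : n ≤ 3 := by
    by_contra hcon
    push Not at hcon
    have h8 : 2 ^ 4 ≤ 2 ^ n := Nat.pow_le_pow_right (by norm_num) (by omega)
    obtain ⟨q, hq⟩ : ∃ q, q = 2 ^ n := ⟨_, rfl⟩
    rw [← hq] at hN h8
    have hg : Nat.gcd 3 (q + 1) ≤ 3 := Nat.le_of_dvd (by norm_num) (Nat.gcd_dvd_left _ _)
    have h3 : 16 ^ 3 ≤ q ^ 3 := Nat.pow_le_pow_left h8 3
    have h2 : 16 ^ 2 ≤ q ^ 2 := Nat.pow_le_pow_left h8 2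
    -- lower bound for the right-hand side
    have hR : (q + 1) * (4096 * 255 * 4097) ≤ q ^ 3 * ((q + 1) * (q ^ 2 - 1) * (q ^ 3 + 1)) := by
      have h1 : 4096 * 255 * 4097 ≤ q ^ 3 * (q ^ 2 - 1) * (q ^ 3 + 1) :=
        Nat.mul_le_mul (Nat.mul_le_mul (by omega) (by omega)) (by omega)
      calc (q + 1) * (4096 * 255 * 4097) ≤ (q + 1) * (q ^ 3 * (q ^ 2 - 1) * (q ^ 3 + 1)) :=
            Nat.mul_le_mul_left _ h1
        _ = q ^ 3 * ((q + 1) * (q ^ 2 - 1) * (q ^ 3 + 1)) := by ring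
    -- upper bound for the left-hand side
    have hL : Nat.gcd 3 (q + 1) * ((q + 1) * N) ≤ (q + 1) * (3 * 9999360) := by
      calc Nat.gcd 3 (q + 1) * ((q + 1) * N) ≤ 3 * ((q + 1) * 9999360) :=
            Nat.mul_le_mul hg (Nat.mul_le_mul_left _ hle)
        _ = (q + 1) * (3 * 9999360) := by ring
    have h4 : (q + 1) * (4096 * 255 * 4097) ≤ (q + 1) * (3 * 9999360) := by
      rw [hN] at hL
      exact hR.trans hL
    have := Nat.le_of_mul_le_mul_left h4 (by omega)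
    omega
  interval_cases n
  · norm_num at hN
    have : N = 62400 := by omega
    rw [this] at hd
    norm_num at hd
  · norm_num at hN
    have : N = 5515776 := by omega
    rw [this] at hd
    norm_num at hd


theorem orderOf_eq_nine {G : Type*} [Group G] (y : G) (h9 : y ^ 9 = 1) (h3 : y ^ 3 ≠ 1) :
    orderOf y = 9 := by
  have hd : orderOf y ∣ 9 := orderOf_dvd_of_pow_eq_one h9
  have hle : orderOf y ≤ 9 := Nat.le_of_dvd (by norm_num) hd
  have hpos : 0 < orderOf y := orderOf_pos_iff.mpr (isOfFinOrder_iff_pow_eq_one.mpr ⟨9, by norm_num, h9⟩)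
  interval_cases h : orderOf y
  · exfalso; apply h3; rw [orderOf_eq_one_iff] at h; rw [h]; simp
  · omega
  · exfalso; apply h3; rw [← h]; exact pow_orderOf_eq_one y
  · omega
  · omega
  · omega
  · omega
  · omega
  · rfl

/-- a finite group all of whose elements `g` with `g ^ 9 = 1` satisfy `g ^ 3 = 1` has no quotient
with an element of order `9` -/
theorem no_nine_quotient {G Q : Type*} [Group G] [Finite G] [Group Q] (f : G →* Q)
    (hf : Function.Surjective f) (hG : ∀ g : G, g ^ 9 = 1 → g ^ 3 = 1) (y : Q) (h9 : y ^ 9 = 1) :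
    y ^ 3 = 1 := by
  by_contra h3
  have hy := orderOf_eq_nine y h9 h3
  obtain ⟨x, rfl⟩ := hf y
  have hN : 0 < orderOf x := orderOf_pos x
  have hdvd : 9 ∣ orderOf x := by
    rw [← hy]
    apply orderOf_dvd_of_pow_eq_one
    rw [← map_pow, pow_orderOf_eq_one, map_one]
  obtain ⟨t, ht⟩ := hdvd
  have ht0 : 0 < t := by
    rcases Nat.eq_zero_or_pos t with h | h
    · rw [h] at ht; omega
    · exact h
  have hz9 : (x ^ t) ^ 9 = 1 := by rw [← pow_mul, mul_comm, ← ht, pow_orderOf_eq_one]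
  have hz3 : (x ^ t) ^ 3 ≠ 1 := by
    rw [← pow_mul]
    apply pow_ne_one_of_lt_orderOf (by omega)
    omega
  exact hz3 (hG _ hz9)

end Cfsg.Agent.Lib.Helper12.Sec52
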