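import Mathlib

set_option autoImplicit false

namespace Cfsg.Agent.Lib.Helper12.SecMax

open Equiv

/-- Characterisation of `IsCoatom (H.subgroupOf K)` inside the ambient group. -/
theorem coatom_sub_iff {G : Type*} [Group G] (H K : Subgroup G) (hHK : H ≤ K) :
    IsCoatom (H.subgroupOf K) ↔
      H ≠ K ∧ ∀ L : Subgroup G, H ≤ L → L ≤ K → L = H ∨ L = K := by
  constructor
  · intro hc
    refine ⟨?_, ?_⟩
    · intro h
      apply hc.1
      rw [Subgroup.subgroupOf_eq_top]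
      exact h.ge
    · intro L hHL hLK
      by_cases hLH : L = H
      · exact Or.inl hLH
      · right
        have hlt : H.subgroupOf K < L.subgroupOf K := by
          refine lt_of_le_of_ne ?_ ?_
          · intro x hx
            exact hHL hx
          · intro he
            apply hLH
            apply le_antisymm _ hHL
            intro x hx
            have : (⟨x, hLK hx⟩ : K) ∈ L.subgroupOf K := hx
            rw [← he] at this
            exact this
        have := hc.2 _ hlt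
        rw [Subgroup.subgroupOf_eq_top] at this
        exact le_antisymm hLK this
  · rintro ⟨hne, hall⟩
    refine ⟨?_, ?_⟩
    · rw [Ne, Subgroup.subgroupOf_eq_top]
      intro h
      exact hne (le_antisymm hHK h)
    · intro L' hlt
      have h1 : H ≤ L'.map K.subtype := by
        intro h hh
        exact ⟨⟨h, hHK hh⟩, hlt.le (show (⟨h, hHK hh⟩ : K) ∈ H.subgroupOf K from hh), rfl⟩
      have h2 : L'.map K.subtype ≤ K := by
        rintro _ ⟨y, -, rfl⟩
        exact y.2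
      rcases hall _ h1 h2 with h | h
      · exfalso
        apply hlt.not_ge
        intro x hx
        have : (x : G) ∈ L'.map K.subtype := ⟨x, hx, rfl⟩
        rw [h] at this
        exact this
      · rw [eq_top_iff]
        intro x _
        have : (x : G) ∈ L'.map K.subtype := by rw [h]; exact x.2
        obtain ⟨y, hy, hyx⟩ := this
        have : y = x := Subtype.ext hyx
        rwa [← this]

/-- The core argument: `G` acts on a set `X` of odd size, inducing at least the alternating group;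
`M` is the stabiliser of `x₀`, `H = K ⊓ M` is maximal in `M`.  Then there is no subgroup strictly
between `H` and `K`. -/
theorem core {G X : Type*} [Group G] [Fintype X] [DecidableEq X] (φ : G →* Perm X)
    (hodd : Odd (Fintype.card X))
    (halt : ∀ σ ∈ alternatingGroup X, ∃ g, φ g = σ)
    (x₀ : X) (M H K L : Subgroup G)
    (hM : ∀ g, g ∈ M ↔ φ g x₀ = x₀)
    (hKM : K ⊓ M = H)
    (hmax : ∀ J : Subgroup G, H ≤ J → J ≤ M → J = H ∨ J = M)
    (hHL : H ≤ L) (hLK : L ≤ K) (hLH : L ≠ H) (hLK' : L ≠ K) : False := by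
  classical
  -- the block Δ = L x₀
  obtain ⟨Δ, hΔ⟩ : ∃ Δ : Finset X, Δ = Finset.univ.filter (fun x => ∃ l ∈ L, φ l x₀ = x) :=
    ⟨_, rfl⟩
  have memΔ : ∀ x, x ∈ Δ ↔ ∃ l ∈ L, φ l x₀ = x := by
    intro x; rw [hΔ]; simp
  have hx₀Δ : x₀ ∈ Δ := (memΔ _).2 ⟨1, L.one_mem, by simp⟩
  have hLΔ : ∀ l ∈ L, ∀ x ∈ Δ, φ l x ∈ Δ := by
    intro l hl x hx
    obtain ⟨l', hl', rfl⟩ := (memΔ _).1 hx
    exact (memΔ _).2 ⟨l * l', L.mul_mem hl hl', by simp⟩
  -- key: an element of K sending a point of Δ into Δ lies in L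
  have key : ∀ k ∈ K, ∀ x ∈ Δ, φ k x ∈ Δ → k ∈ L := by
    intro k hk x hx hkx
    obtain ⟨l, hl, rfl⟩ := (memΔ _).1 hx
    obtain ⟨l', hl', hl'x⟩ := (memΔ _).1 hkx
    have h1 : l'⁻¹ * k * l ∈ M := by
      rw [hM]
      simp only [map_mul, map_inv, Perm.coe_mul, Function.comp_apply]
      rw [← hl'x]; simp
    have h2 : l'⁻¹ * k * l ∈ K :=
      K.mul_mem (K.mul_mem (K.inv_mem (hLK hl')) hk) (hLK hl)
    have h3 : l'⁻¹ * k * l ∈ L := hHL (hKM ▸ (⟨h2, h1⟩ : l'⁻¹ * k * l ∈ K ⊓ M))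
    have : k = l' * (l'⁻¹ * k * l) * l⁻¹ := by group
    rw [this]
    exact L.mul_mem (L.mul_mem hl' h3) (L.inv_mem hl)
  -- a second point y of Δ
  obtain ⟨l₀, hl₀, hl₀H⟩ : ∃ l ∈ L, l ∉ H := by
    by_contra hcon
    push_neg at hcon
    exact hLH (le_antisymm hcon hHL)
  have hl₀M : l₀ ∉ M := fun h => hl₀H (hKM ▸ (⟨hLK hl₀, h⟩ : l₀ ∈ K ⊓ M))
  obtain ⟨y, hy⟩ : ∃ y, y = φ l₀ x₀ := ⟨_, rfl⟩
  have hyx₀ : y ≠ x₀ := by
    intro h; apply hl₀M; rw [hM, ← hy, h]
  have hyΔ : y ∈ Δ := (memΔ _).2 ⟨l₀, hl₀, hy.symm⟩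
  -- an element k of K outside L
  obtain ⟨k, hk, hkL⟩ : ∃ k ∈ K, k ∉ L := by
    by_contra hcon
    push_neg at hcon
    exact hLK' (le_antisymm hLK hcon)
  have hdisj : ∀ x ∈ Δ, φ k x ∉ Δ := fun x hx h => hkL (key k hk x hx h)
  -- a point b outside Δ ∪ kΔ
  obtain ⟨b, hbΔ, hbkΔ⟩ : ∃ b, b ∉ Δ ∧ b ∉ Δ.image (φ k) := by
    by_contra hcon
    push_neg at hcon
    have hun : Δ ∪ Δ.image (φ k) = Finset.univ := by
      ext x
      simp only [Finset.mem_union, Finset.mem_univ, iff_true]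
      by_cases hx : x ∈ Δ
      · exact Or.inl hx
      · exact Or.inr (hcon x hx)
    have hd : Disjoint Δ (Δ.image (φ k)) := by
      rw [Finset.disjoint_left]
      intro x hx hx'
      obtain ⟨z, hz, rfl⟩ := Finset.mem_image.1 hx'
      exact hdisj z hz hx
    have hc : Fintype.card X = Δ.card + Δ.card := by
      rw [← Finset.card_univ, ← hun, Finset.card_union_of_disjoint hd,
        Finset.card_image_of_injective _ (φ k).injective]
    rw [hc] at hodd
    exact (Nat.not_even_iff_odd.2 hodd) ⟨_, rfl⟩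
  have hbx₀ : b ≠ x₀ := fun h => hbΔ (h ▸ hx₀Δ)
  have hby : b ≠ y := fun h => hbΔ (h ▸ hyΔ)
  -- the points a = k x₀ and c = k y
  obtain ⟨a, ha⟩ : ∃ a, a = φ k x₀ := ⟨_, rfl⟩
  obtain ⟨c, hc⟩ : ∃ c, c = φ k y := ⟨_, rfl⟩
  have haΔ : a ∉ Δ := ha ▸ hdisj _ hx₀Δ
  have hcΔ : c ∉ Δ := hc ▸ hdisj _ hyΔ
  have hac : a ≠ c := by
    rw [ha, hc]
    intro h
    exact hyx₀ ((φ k).injective h).symm
  have hab : a ≠ b := by
    intro h
    apply hbkΔ
    rw [← h, ha]
    exact Finset.mem_image_of_mem _ hx₀Δ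
  have hcb : c ≠ b := by
    intro h
    apply hbkΔ
    rw [← h, hc]
    exact Finset.mem_image_of_mem _ hyΔ
  -- M_Δ = H
  let MΔ : Subgroup G :=
    { carrier := {m | m ∈ M ∧ ∀ x, x ∈ Δ ↔ φ m x ∈ Δ}
      one_mem' := ⟨M.one_mem, by simp⟩
      mul_mem' := by
        rintro m m' ⟨hm, hmΔ⟩ ⟨hm', hm'Δ⟩
        refine ⟨M.mul_mem hm hm', fun x => ?_⟩
        rw [map_mul, Perm.coe_mul, Function.comp_apply, ← hmΔ, ← hm'Δ]
      inv_mem' := by
        rintro m ⟨hm, hmΔ⟩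
        refine ⟨M.inv_mem hm, fun x => ?_⟩
        rw [hmΔ (φ m⁻¹ x)]
        simp }
  have hMΔ : ∀ m, m ∈ MΔ ↔ m ∈ M ∧ ∀ x, x ∈ Δ ↔ φ m x ∈ Δ := fun m => Iff.rfl
  have hHMΔ : H ≤ MΔ := by
    intro h hh
    have hhKM : h ∈ K ⊓ M := hKM ▸ hh
    refine ⟨hhKM.2, fun x => ⟨fun hx => hLΔ h (hHL hh) x hx, fun hx => ?_⟩⟩
    have := hLΔ h⁻¹ (L.inv_mem (hHL hh)) _ hx
    simpa using this
  have hMΔM : MΔ ≤ M := fun m hm => hm.1
  have hMΔne : MΔ ≠ M := by
    intro he
    -- the 3-cycle (y b a) fixes x₀ and moves y out of Δ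
    have hax₀ : a ≠ x₀ := fun h => haΔ (h ▸ hx₀Δ)
    have hay : a ≠ y := fun h => haΔ (h ▸ hyΔ)
    have h3 : swap y b * swap y a ∈ alternatingGroup X :=
      (Equiv.Perm.isThreeCycle_swap_mul_swap_same hby.symm hay.symm hab.symm).mem_alternatingGroup
    obtain ⟨g, hg⟩ := halt _ h3
    have hgM : g ∈ M := by
      rw [hM, hg, Perm.coe_mul, Function.comp_apply,
        swap_apply_of_ne_of_ne hyx₀.symm hax₀.symm, swap_apply_of_ne_of_ne hyx₀.symm hbx₀.symm]
    rw [← he] at hgM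
    have := (hgM.2 a).2
    rw [hg, Perm.coe_mul, Function.comp_apply, swap_apply_right, swap_apply_left] at this
    exact haΔ (this (by
      have h2 := (hgM.2 y).1 hyΔ
      rw [hg, Perm.coe_mul, Function.comp_apply, swap_apply_left,
        swap_apply_of_ne_of_ne hay hab] at h2
      exact absurd h2 haΔ))
  have hMΔH : MΔ = H := (hmax MΔ hHMΔ hMΔM).resolve_right hMΔne
  -- the 3-cycle σ = (a c b)
  have hx₀a : x₀ ≠ a := fun h => haΔ (h ▸ hx₀Δ)
  have hx₀c : x₀ ≠ c := fun h => hcΔ (h ▸ hx₀Δ)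
  have h3 : swap a b * swap a c ∈ alternatingGroup X :=
    (Equiv.Perm.isThreeCycle_swap_mul_swap_same hab hac hcb.symm).mem_alternatingGroup
  obtain ⟨g, hg⟩ := halt _ h3
  have hσa : φ g a = c := by
    rw [hg, Perm.coe_mul, Function.comp_apply, swap_apply_left,
      swap_apply_of_ne_of_ne hac.symm hcb]
  have hσc : φ g c = b := by
    rw [hg, Perm.coe_mul, Function.comp_apply, swap_apply_right, swap_apply_left]
  have hσb : φ g b = a := by
    rw [hg, Perm.coe_mul, Function.comp_apply, swap_apply_of_ne_of_ne hab.symm hcb.symm,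
      swap_apply_right]
  have hσo : ∀ x, x ≠ a → x ≠ b → x ≠ c → φ g x = x := by
    intro x h1 h2 h3
    rw [hg, Perm.coe_mul, Function.comp_apply, swap_apply_of_ne_of_ne h1 h3,
      swap_apply_of_ne_of_ne h1 h2]
  have hgMΔ : g ∈ MΔ := by
    refine ⟨?_, fun x => ?_⟩
    · rw [hM]
      exact hσo x₀ hx₀a hbx₀.symm hx₀c
    · by_cases h1 : x = a
      · rw [h1, hσa]; exact ⟨fun h => absurd h haΔ, fun h => absurd h hcΔ⟩
      by_cases h2 : x = b
      · rw [h2, hσb]; exact ⟨fun h => absurd h hbΔ, fun h => absurd h haΔ⟩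
      by_cases h3 : x = c
      · rw [h3, hσc]; exact ⟨fun h => absurd h hcΔ, fun h => absurd h hbΔ⟩
      rw [hσo x h1 h2 h3]
  have hgL : g ∈ L := hHL (hMΔH ▸ hgMΔ)
  have hconjK : k⁻¹ * g * k ∈ K := K.mul_mem (K.mul_mem (K.inv_mem hk) (hLK hgL)) hk
  have hval1 : φ (k⁻¹ * g * k) x₀ = y := by
    simp only [map_mul, map_inv, Perm.coe_mul, Function.comp_apply]
    rw [← ha, hσa, hc]; simp
  have hconjL : k⁻¹ * g * k ∈ L := key _ hconjK x₀ hx₀Δ (hval1 ▸ hyΔ)
  have hval2 : φ (k⁻¹ * g * k) y = (φ k)⁻¹ b := by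
    simp only [map_mul, map_inv, Perm.coe_mul, Function.comp_apply]
    rw [← hc, hσc]
  have := hLΔ _ hconjL y hyΔ
  rw [hval2] at this
  apply hbkΔ
  rw [Finset.mem_image]
  exact ⟨_, this, by simp⟩

end Cfsg.Agent.Lib.Helper12.SecMax
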