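import Mathlib
import Cfsg.Agent.Lib.Helper12.SecMax0

set_option autoImplicit false

namespace Cfsg.Agent.Lib.Helper12.SecMax

open Equiv

theorem main {G : Type*} [Group G] [Finite G] (n : ℕ) (hodd : Odd n)
    (hA : ∀ P : Subgroup (Equiv.Perm (Fin n)), MulAction.IsPreprimitive P (Fin n) →
      alternatingGroup (Fin n) ≤ P)
    (M : Subgroup G) (hM : IsCoatom M) (hn : M.index = n) (H : Subgroup G) (hHM : H ≤ M)
    (hmax : IsCoatom (H.subgroupOf M)) (K : Subgroup G) (hK : IsCoatom K) (hHK : H ≤ K) :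
    IsCoatom (H.subgroupOf K) := by
  classical
  by_cases hKM : K = M
  · subst hKM; exact hmax
  obtain ⟨hHneM, hmax'⟩ := (coatom_sub_iff H M hHM).1 hmax
  have hcard : Nat.card (G ⧸ M) = n := by rw [← hn, Subgroup.index_eq_card]
  obtain ⟨e⟩ : Nonempty (G ⧸ M ≃ Fin n) := ⟨Finite.equivFinOfCardEq hcard⟩
  obtain ⟨φ, hφ⟩ : ∃ φ : G →* Perm (Fin n),
      φ = e.permCongrHom.toMonoidHom.comp (MulAction.toPermHom G (G ⧸ M)) := ⟨_, rfl⟩
  have hφe : ∀ g q, φ g (e q) = e (g • q) := by
    intro g q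
    rw [hφ]
    simp [Equiv.permCongrHom]
  obtain ⟨x₀, hx₀⟩ : ∃ x₀, x₀ = e ((1 : G) : G ⧸ M) := ⟨_, rfl⟩
  have hMstab : ∀ g, g ∈ M ↔ φ g x₀ = x₀ := by
    intro g
    rw [hx₀, hφe, e.apply_eq_iff_eq]
    rw [show g • ((1 : G) : G ⧸ M) = ((g * 1 : G) : G ⧸ M) from rfl, mul_one, QuotientGroup.eq]
    constructor
    · intro h; simpa using M.inv_mem h
    · intro h; simpa using M.inv_mem h
  -- primitivity of the induced group
  have hidx1 : M.index ≠ 1 := fun h => hM.1 (Subgroup.index_eq_one.1 h)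
  have hidx0 : M.index ≠ 0 := Subgroup.index_ne_zero_of_finite
  haveI : Nontrivial (G ⧸ M) := by
    rw [← Finite.one_lt_card_iff_nontrivial, ← Subgroup.index_eq_card]
    omega
  have hprimG : MulAction.IsPreprimitive G (G ⧸ M) := by
    rw [← MulAction.isCoatom_stabilizer_iff_preprimitive G (((1 : G) : G ⧸ M))]
    rw [MulAction.stabilizer_quotient]
    exact hM
  let f : (G ⧸ M) →ₑ[φ.rangeRestrict] Fin n :=
    { toFun := e
      map_smul' := by
        intro g q
        show e (g • q) = (φ g) (e q)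
        rw [hφe] }
  have hprimP : MulAction.IsPreprimitive φ.range (Fin n) :=
    (MulAction.isPreprimitive_congr (f := f) φ.rangeRestrict_surjective e.bijective).1 hprimG
  have halt : ∀ σ ∈ alternatingGroup (Fin n), ∃ g, φ g = σ := by
    intro σ hσ
    exact hA _ hprimP hσ
  -- K ⊓ M = H
  have hKMH : K ⊓ M = H := by
    rcases hmax' (K ⊓ M) (le_inf hHK hHM) inf_le_right with h | h
    · exact h
    · exfalso
      have hMK : M ≤ K := by rw [← h]; exact inf_le_left
      rcases eq_or_lt_of_le hMK with h' | h'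
      · exact hKM h'.symm
      · exact hK.1 (hM.2 K h')
  rw [coatom_sub_iff H K hHK]
  refine ⟨?_, ?_⟩
  · intro h
    have hKleM : K ≤ M := h ▸ hHM
    rcases eq_or_lt_of_le hKleM with h' | h'
    · exact hKM h'
    · exact hM.1 (hK.2 M h')
  · intro L hHL hLK
    by_contra hcon
    push_neg at hcon
    have hodd' : Odd (Fintype.card (Fin n)) := by rw [Fintype.card_fin]; exact hodd
    exact core φ hodd' halt x₀ M H K L hMstab hKMH hmax' hHL hLK hcon.1 hcon.2

end Cfsg.Agent.Lib.Helper12.SecMax
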