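import Mathlib

/-! Two-transitivity of a coset action from a Burnside-type orbit count, and a bound for the number
of cosets fixed by an element. -/

set_option autoImplicit false

namespace Cfsg.Agent.Lib.Helper12.TwoTrans

variable {G : Type*} [Group G]

theorem smul_mk_eq_iff (H : Subgroup G) (h y : G) :
    h • (y : G ⧸ H) = (y : G ⧸ H) ↔ y⁻¹ * h * y ∈ H := by
  rw [MulAction.Quotient.smul_mk, QuotientGroup.eq, smul_eq_mul]
  have : (h * y)⁻¹ * y = (y⁻¹ * h * y)⁻¹ := by group
  rw [this, inv_mem_iff]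

/-- the number of cosets of `H` fixed by `h` is at most `|C(h)| · |T| / |H|`, where `T` contains all
conjugates of `h` lying in `H` -/
theorem card_fixedBy_mul_le [Finite G] (H : Subgroup G) (h : G) (T : Set G)
    (hT : ∀ y : G, y⁻¹ * h * y ∈ H → y⁻¹ * h * y ∈ T) :
    Nat.card (MulAction.fixedBy (G ⧸ H) h) * Nat.card H ≤
      Nat.card (Subgroup.centralizer ({h} : Set G)) * T.ncard := by
  classical
  have : Fintype G := Fintype.ofFinite G
  set S : Finset G := Finset.univ.filter (fun y => y⁻¹ * h * y ∈ H) with hS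
  -- first step
  have h1 : Nat.card (MulAction.fixedBy (G ⧸ H) h) * Nat.card H ≤ S.card := by
    rw [← Nat.card_prod, ← Nat.card_eq_finsetCard S]
    apply Nat.card_le_card_of_injective
      (fun p : MulAction.fixedBy (G ⧸ H) h × H => (⟨p.1.1.out * p.2.1, by
        rw [hS, Finset.mem_filter]
        refine ⟨Finset.mem_univ _, ?_⟩
        rw [← smul_mk_eq_iff]
        have e : ((p.1.1.out * p.2.1 : G) : G ⧸ H) = p.1.1 := by
          rw [QuotientGroup.mk_mul_of_mem _ p.2.2, QuotientGroup.out_eq']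
        rw [e]
        exact p.1.2⟩ : S))
    rintro ⟨⟨x, hx⟩, k⟩ ⟨⟨x', hx'⟩, k'⟩ hpp
    have hval : x.out * k.1 = x'.out * k'.1 := congrArg Subtype.val hpp
    have hx1 : ((x.out * k.1 : G) : G ⧸ H) = x := by
      rw [QuotientGroup.mk_mul_of_mem _ k.2, QuotientGroup.out_eq']
    have hx2 : ((x'.out * k'.1 : G) : G ⧸ H) = x' := by
      rw [QuotientGroup.mk_mul_of_mem _ k'.2, QuotientGroup.out_eq']
    have hxx : x = x' := by rw [← hx1, ← hx2, hval]
    subst hxx
    have hk : k = k' := Subtype.ext (mul_left_cancel hval)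
    subst hk
    rfl
  -- second step
  have h2 : S.card ≤ Fintype.card (Subgroup.centralizer ({h} : Set G)) * T.toFinset.card := by
    apply Finset.card_le_mul_card_image_of_maps_to (f := fun y => y⁻¹ * h * y)
    · intro y hy
      rw [hS, Finset.mem_filter] at hy
      rw [Set.mem_toFinset]
      exact hT y hy.2
    · intro b _
      by_cases hne : (S.filter (fun y => y⁻¹ * h * y = b)).Nonempty
      · obtain ⟨y₀, hy₀⟩ := hne
        rw [Finset.mem_filter] at hy₀
        rw [← Finset.card_univ]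
        apply Finset.card_le_card_of_injOn
          (fun y => if hy : y * y₀⁻¹ ∈ Subgroup.centralizer ({h} : Set G) then
            (⟨y * y₀⁻¹, hy⟩ : Subgroup.centralizer ({h} : Set G)) else 1)
        · intro y _
          exact Finset.mem_univ _
        · intro y hy y' hy' hyy
          rw [Finset.mem_coe, Finset.mem_filter] at hy hy'
          have hc : ∀ z : G, z⁻¹ * h * z = b → z * y₀⁻¹ ∈ Subgroup.centralizer ({h} : Set G) := by
            intro z hz
            rw [Subgroup.mem_centralizer_singleton_iff]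
            have e1 : h = z * b * z⁻¹ := by rw [← hz]; group
            have e2 : h = y₀ * b * y₀⁻¹ := by rw [← hy₀.2]; group
            calc z * y₀⁻¹ * h = z * (y₀⁻¹ * h * y₀) * y₀⁻¹ := by group
              _ = z * b * y₀⁻¹ := by rw [hy₀.2]
              _ = (z * b * z⁻¹) * (z * y₀⁻¹) := by group
              _ = h * (z * y₀⁻¹) := by rw [← e1]
          simp only at hyy
          rw [dif_pos (hc y hy.2), dif_pos (hc y' hy'.2)] at hyy
          have := congrArg Subtype.val hyy
          exact mul_right_cancel this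
      · rw [Finset.not_nonempty_iff_eq_empty] at hne
        rw [hne, Finset.card_empty]
        exact Nat.zero_le _
  calc _ ≤ S.card := h1
    _ ≤ _ := h2
    _ = _ := by rw [Nat.card_eq_fintype_card, Set.ncard_eq_toFinset_card']


/-- the coset action is 2-transitive as soon as `H` is transitive on the non-trivial cosets -/
theorem two_pretransitive_of_transitive (H : Subgroup G)
    (hT : ∀ x₁ x₂ : G ⧸ H, x₁ ≠ ((1 : G) : G ⧸ H) → x₂ ≠ ((1 : G) : G ⧸ H) →
      ∃ k : G, k ∈ H ∧ k • x₁ = x₂) :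
    MulAction.IsMultiplyPretransitive G (G ⧸ H) 2 := by
  rw [MulAction.is_two_pretransitive_iff]
  intro a b c d hab hcd
  obtain ⟨g₁, rfl⟩ := QuotientGroup.mk_surjective a
  obtain ⟨g₂, rfl⟩ := QuotientGroup.mk_surjective c
  have e1 : g₁⁻¹ • ((g₁ : G) : G ⧸ H) = ((1 : G) : G ⧸ H) := by
    rw [MulAction.Quotient.smul_mk, smul_eq_mul, inv_mul_cancel]
  have e2 : g₂⁻¹ • ((g₂ : G) : G ⧸ H) = ((1 : G) : G ⧸ H) := by
    rw [MulAction.Quotient.smul_mk, smul_eq_mul, inv_mul_cancel]
  have hb : g₁⁻¹ • b ≠ ((1 : G) : G ⧸ H) := by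
    intro hh
    apply hab
    rw [← e1] at hh
    exact (smul_left_cancel _ hh).symm
  have hd : g₂⁻¹ • d ≠ ((1 : G) : G ⧸ H) := by
    intro hh
    apply hcd
    rw [← e2] at hh
    exact (smul_left_cancel _ hh).symm
  obtain ⟨k, hk, hkb⟩ := hT _ _ hb hd
  refine ⟨g₂ * k * g₁⁻¹, ?_, ?_⟩
  · rw [mul_smul, mul_smul, e1]
    have : k • ((1 : G) : G ⧸ H) = ((1 : G) : G ⧸ H) := by
      rw [smul_mk_eq_iff]; simpa using hk
    rw [this, MulAction.Quotient.smul_mk, smul_eq_mul, mul_one]
  · rw [mul_smul, mul_smul, hkb, smul_inv_smul]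

/-- Burnside count: if the fixed-coset numbers of the elements of `H` add up to less than `3|H|`,
then `H` is transitive on the non-trivial cosets -/
theorem transitive_of_sum_lt [Finite G] (H : Subgroup G) [Fintype H]
    (hsum : ∑ k : H, Nat.card (MulAction.fixedBy (G ⧸ H) (k : G)) < 3 * Nat.card H)
    (x₁ x₂ : G ⧸ H) (h₁ : x₁ ≠ ((1 : G) : G ⧸ H)) (h₂ : x₂ ≠ ((1 : G) : G ⧸ H)) :
    ∃ k : G, k ∈ H ∧ k • x₁ = x₂ := by
  classical
  have : Fintype G := Fintype.ofFinite G
  have : Fintype (G ⧸ H) := Fintype.ofFinite _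
  have hB := MulAction.sum_card_fixedBy_eq_card_orbits_mul_card_group H (G ⧸ H)
  have hfix : ∀ k : H, Fintype.card (MulAction.fixedBy (G ⧸ H) k) =
      Nat.card (MulAction.fixedBy (G ⧸ H) (k : G)) := by
    intro k
    rw [← Nat.card_eq_fintype_card]
    rfl
  simp only [hfix] at hB
  rw [hB, ← Nat.card_eq_fintype_card (α := H)] at hsum
  have hΩ : Fintype.card (MulAction.orbitRel.Quotient H (G ⧸ H)) < 3 :=
    Nat.lt_of_mul_lt_mul_right hsum
  by_contra hcon
  -- three distinct orbits
  set o₀ : MulAction.orbitRel.Quotient H (G ⧸ H) := Quotient.mk'' ((1 : G) : G ⧸ H) with ho₀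
  set o₁ : MulAction.orbitRel.Quotient H (G ⧸ H) := Quotient.mk'' x₁ with ho₁
  set o₂ : MulAction.orbitRel.Quotient H (G ⧸ H) := Quotient.mk'' x₂ with ho₂
  have hfix1 : ∀ k : H, k • (((1 : G) : G ⧸ H)) = ((1 : G) : G ⧸ H) := by
    intro k
    show (k : G) • (((1 : G) : G ⧸ H)) = _
    rw [smul_mk_eq_iff]; simpa using k.2
  have h01 : o₀ ≠ o₁ := by
    intro h
    have := Quotient.exact' h
    rw [MulAction.orbitRel_apply] at this
    obtain ⟨k, hk⟩ := this
    apply h₁
    have hk' : k • x₁ = ((1 : G) : G ⧸ H) := hk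
    calc x₁ = k⁻¹ • (k • x₁) := by rw [inv_smul_smul]
      _ = _ := by rw [hk', hfix1]
  have h02 : o₀ ≠ o₂ := by
    intro h
    have := Quotient.exact' h
    rw [MulAction.orbitRel_apply] at this
    obtain ⟨k, hk⟩ := this
    apply h₂
    have hk' : k • x₂ = ((1 : G) : G ⧸ H) := hk
    calc x₂ = k⁻¹ • (k • x₂) := by rw [inv_smul_smul]
      _ = _ := by rw [hk', hfix1]
  have h12 : o₂ ≠ o₁ := by
    intro h
    have := Quotient.exact' h
    rw [MulAction.orbitRel_apply] at this
    obtain ⟨k, hk⟩ := this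
    exact hcon ⟨k.1, k.2, hk⟩
  have h3 : ({o₀, o₁, o₂} : Finset _).card = 3 := by
    rw [Finset.card_insert_of_notMem, Finset.card_insert_of_notMem, Finset.card_singleton]
    · simpa using h12.symm
    · simp only [Finset.mem_insert, Finset.mem_singleton, not_or]
      exact ⟨h01, h02⟩
  have := Finset.card_le_univ ({o₀, o₁, o₂} : Finset (MulAction.orbitRel.Quotient H (G ⧸ H)))
  omega

end Cfsg.Agent.Lib.Helper12.TwoTrans
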