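import Mathlib
import Cfsg.Prelude.Def_CaseTheorems
import Cfsg.Agent.Lib.Helper24.DihIso

/-! Normal form library for wreathed 2-groups `Cfsg.IsWreathed` (`Z_{2^n} ≀ Z_2`). -/

set_option autoImplicit false

open scoped commutatorElement

namespace Cfsg.Agent.Lib.Helper12.Wr

/-- The data of a wreathed presentation inside `S`. -/
structure Data (S : Type*) [Group S] where
  n : ℕ
  hn : 2 ≤ n
  card : Nat.card S = 2 ^ (2 * n + 1)
  x : S
  y : S
  z : S
  hx : orderOf x = 2 ^ n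
  hxy : x * y = y * x
  hdisj : Subgroup.zpowers x ⊓ Subgroup.zpowers y = ⊥
  hz : orderOf z = 2
  rel : z * x * z⁻¹ = y

theorem exists_data {S : Type*} [Group S] (h : Cfsg.IsWreathed S) : Nonempty (Data S) := by
  obtain ⟨n, hn, hc, x, y, z, hx, hxy, hd, hz, rel⟩ := h
  exact ⟨⟨n, hn, hc, x, y, z, hx, hxy, hd, hz, rel⟩⟩

variable {S : Type*} [Group S] (D : Data S)

namespace Data

instance : NeZero (2 ^ D.n) := ⟨by positivity⟩

theorem finite {S : Type*} [Group S] (D : Data S) : Finite S :=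
  Nat.finite_of_card_ne_zero (by rw [D.card]; positivity)

/-- exponent pairs -/
abbrev E := ZMod (2 ^ D.n) × ZMod (2 ^ D.n)

theorem z_sq : D.z * D.z = 1 := by
  have := pow_orderOf_eq_one D.z
  rwa [D.hz, pow_two] at this

theorem z_inv : D.z⁻¹ = D.z := by
  rw [inv_eq_iff_mul_eq_one]; exact D.z_sq

theorem rel' : D.z * D.y * D.z⁻¹ = D.x := by
  rw [← D.rel, D.z_inv]
  have := D.z_sq
  calc D.z * (D.z * D.x * D.z) * D.z = (D.z * D.z) * D.x * (D.z * D.z) := by group
    _ = D.x := by rw [this, one_mul, mul_one]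

theorem hy : orderOf D.y = 2 ^ D.n := by
  rw [← D.rel, ← D.hx]
  have := (MulAut.conj D.z).orderOf_eq D.x
  rwa [MulAut.conj_apply] at this

theorem x_pow_card : D.x ^ (2 ^ D.n) = 1 := by
  rw [← D.hx]; exact pow_orderOf_eq_one _

theorem y_pow_card : D.y ^ (2 ^ D.n) = 1 := by
  rw [← D.hy]; exact pow_orderOf_eq_one _

/-- `x ^ i`. -/
def px (i : ZMod (2 ^ D.n)) : S := D.x ^ i.val
/-- `y ^ i`. -/
def py (i : ZMod (2 ^ D.n)) : S := D.y ^ i.val

theorem px_add (i j : ZMod (2 ^ D.n)) : D.px (i + j) = D.px i * D.px j := by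
  unfold px
  rw [ZMod.val_add, ← pow_add]
  have := pow_mod_orderOf D.x (i.val + j.val)
  rwa [D.hx] at this

theorem py_add (i j : ZMod (2 ^ D.n)) : D.py (i + j) = D.py i * D.py j := by
  unfold py
  rw [ZMod.val_add, ← pow_add]
  have := pow_mod_orderOf D.y (i.val + j.val)
  rwa [D.hy] at this

theorem px_zero : D.px 0 = 1 := by unfold px; rw [ZMod.val_zero, pow_zero]
theorem py_zero : D.py 0 = 1 := by unfold py; rw [ZMod.val_zero, pow_zero]

theorem px_natCast (k : ℕ) : D.px (k : ZMod (2 ^ D.n)) = D.x ^ k := by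
  unfold px
  rw [ZMod.val_natCast, ← D.hx, pow_mod_orderOf]

theorem py_natCast (k : ℕ) : D.py (k : ZMod (2 ^ D.n)) = D.y ^ k := by
  unfold py
  rw [ZMod.val_natCast, ← D.hy, pow_mod_orderOf]

theorem px_one : D.px 1 = D.x := by
  have := D.px_natCast 1
  simpa using this

theorem py_one : D.py 1 = D.y := by
  have := D.py_natCast 1
  simpa using this

theorem px_injective : Function.Injective D.px := by
  intro i j hij
  unfold px at hij
  apply ZMod.val_injective
  have hi : i.val < orderOf D.x := by rw [D.hx]; exact ZMod.val_lt i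
  have hj : j.val < orderOf D.x := by rw [D.hx]; exact ZMod.val_lt j
  exact pow_injOn_Iio_orderOf hi hj hij

theorem py_injective : Function.Injective D.py := by
  intro i j hij
  unfold py at hij
  apply ZMod.val_injective
  have hi : i.val < orderOf D.y := by rw [D.hy]; exact ZMod.val_lt i
  have hj : j.val < orderOf D.y := by rw [D.hy]; exact ZMod.val_lt j
  exact pow_injOn_Iio_orderOf hi hj hij

theorem px_py_comm (i j : ZMod (2 ^ D.n)) : D.px i * D.py j = D.py j * D.px i := by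
  unfold px py
  exact ((show Commute D.x D.y from D.hxy).pow_pow _ _).eq

/-- `x^i y^j`. -/
def pa (u : D.E) : S := D.px u.1 * D.py u.2

theorem pa_add (u v : D.E) : D.pa (u + v) = D.pa u * D.pa v := by
  unfold pa
  rw [Prod.fst_add, Prod.snd_add, px_add, py_add]
  calc D.px u.1 * D.px v.1 * (D.py u.2 * D.py v.2)
      = D.px u.1 * (D.px v.1 * D.py u.2) * D.py v.2 := by group
    _ = D.px u.1 * (D.py u.2 * D.px v.1) * D.py v.2 := by rw [D.px_py_comm]
    _ = D.px u.1 * D.py u.2 * (D.px v.1 * D.py v.2) := by group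

theorem pa_zero : D.pa 0 = 1 := by
  unfold pa
  rw [Prod.fst_zero, Prod.snd_zero, px_zero, py_zero, one_mul]

theorem pa_neg (u : D.E) : D.pa (-u) = (D.pa u)⁻¹ := by
  rw [eq_inv_iff_mul_eq_one, ← pa_add, neg_add_cancel, pa_zero]

theorem pa_sub (u v : D.E) : D.pa (u - v) = D.pa u * (D.pa v)⁻¹ := by
  rw [sub_eq_add_neg, pa_add, pa_neg]

theorem pa_comm (u v : D.E) : D.pa u * D.pa v = D.pa v * D.pa u := by
  rw [← pa_add, ← pa_add, add_comm]

theorem pa_eq_one_iff (u : D.E) : D.pa u = 1 ↔ u = 0 := by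
  constructor
  · intro h
    unfold pa at h
    have h1 : D.px u.1 = (D.py u.2)⁻¹ := eq_inv_of_mul_eq_one_left h
    have h2 : D.px u.1 ∈ Subgroup.zpowers D.x ⊓ Subgroup.zpowers D.y := by
      refine ⟨Subgroup.pow_mem _ (Subgroup.mem_zpowers _) _, ?_⟩
      rw [h1]
      exact Subgroup.inv_mem _ (Subgroup.pow_mem _ (Subgroup.mem_zpowers _) _)
    rw [D.hdisj, Subgroup.mem_bot] at h2
    have h3 : D.py u.2 = 1 := by rw [h2, one_mul] at h; exact h
    have e1 : u.1 = 0 := D.px_injective (h2.trans D.px_zero.symm)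
    have e2 : u.2 = 0 := D.py_injective (h3.trans D.py_zero.symm)
    exact Prod.ext e1 e2
  · rintro rfl
    exact D.pa_zero

theorem pa_injective : Function.Injective D.pa := by
  intro u v huv
  have : D.pa (u - v) = 1 := by rw [pa_sub, huv, mul_inv_cancel]
  rw [pa_eq_one_iff] at this
  exact sub_eq_zero.mp this

theorem pa_nsmul (k : ℕ) (u : D.E) : D.pa (k • u) = (D.pa u) ^ k := by
  induction k with
  | zero => simp [pa_zero]
  | succ k ih => rw [succ_nsmul, pa_add, ih, pow_succ]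

theorem conj_px (i : ZMod (2 ^ D.n)) : D.z * D.px i * D.z⁻¹ = D.py i := by
  unfold px py
  rw [← conj_pow, D.rel]

theorem conj_py (i : ZMod (2 ^ D.n)) : D.z * D.py i * D.z⁻¹ = D.px i := by
  unfold px py
  rw [← conj_pow, D.rel']

theorem conj_pa (u : D.E) : D.z * D.pa u * D.z⁻¹ = D.pa u.swap := by
  unfold pa
  rw [Prod.fst_swap, Prod.snd_swap, D.px_py_comm u.2 u.1, ← D.conj_px u.1, ← D.conj_py u.2]
  group

theorem z_mul_pa (u : D.E) : D.z * D.pa u = D.pa u.swap * D.z := by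
  rw [← D.conj_pa, inv_mul_cancel_right]

/-- The abelian subgroup `A = ⟨x⟩ × ⟨y⟩`. -/
def A : Subgroup S where
  carrier := Set.range D.pa
  mul_mem' := by
    rintro _ _ ⟨u, rfl⟩ ⟨v, rfl⟩
    exact ⟨u + v, D.pa_add u v⟩
  one_mem' := ⟨0, D.pa_zero⟩
  inv_mem' := by
    rintro _ ⟨u, rfl⟩
    exact ⟨-u, D.pa_neg u⟩

theorem mem_A (s : S) : s ∈ D.A ↔ ∃ u, D.pa u = s := Iff.rfl

theorem card_A : Nat.card D.A = 2 ^ (2 * D.n) := by
  have : Nat.card D.A = Nat.card D.E := by
    symm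
    apply Nat.card_congr
    exact Equiv.ofBijective (fun u => ⟨D.pa u, u, rfl⟩)
      ⟨fun u v h => D.pa_injective (congrArg Subtype.val h), fun ⟨s, u, hu⟩ => ⟨u, Subtype.ext hu⟩⟩
  rw [this, Nat.card_prod, Nat.card_zmod, ← pow_add, two_mul]

theorem index_A : D.A.index = 2 := by
  haveI := D.finite
  have h1 := Subgroup.card_mul_index D.A
  rw [D.card_A, D.card, pow_succ] at h1
  exact Nat.eq_of_mul_eq_mul_left (by positivity) h1

theorem x_ne_one : D.x ≠ 1 := by
  intro h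
  have := D.hx
  rw [h, orderOf_one] at this
  have h2 : 2 ^ 1 ≤ 2 ^ D.n := Nat.pow_le_pow_right (by norm_num) (by have := D.hn; omega)
  omega

theorem x_ne_y : D.x ≠ D.y := by
  intro h
  have h1 : D.x ∈ Subgroup.zpowers D.x ⊓ Subgroup.zpowers D.y :=
    ⟨Subgroup.mem_zpowers _, h ▸ Subgroup.mem_zpowers _⟩
  rw [D.hdisj, Subgroup.mem_bot] at h1
  exact D.x_ne_one h1

theorem z_notMem : D.z ∉ D.A := by
  rintro ⟨u, hu⟩
  have h1 : D.z * D.x * D.z⁻¹ = D.x := by
    have hx : D.x = D.pa (1, 0) := by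
      unfold pa
      rw [D.px_one, D.py_zero, mul_one]
    rw [← hu, hx, D.pa_comm, mul_inv_cancel_right]
  rw [D.rel] at h1
  exact D.x_ne_y h1.symm

/-- Normal form. -/
theorem normal_form (s : S) : ∃ u, s = D.pa u ∨ s = D.pa u * D.z := by
  by_cases hs : s ∈ D.A
  · obtain ⟨u, hu⟩ := hs
    exact ⟨u, Or.inl hu.symm⟩
  · have h1 := (Subgroup.mul_mem_iff_of_index_two D.index_A (a := s) (b := D.z))
    have h2 : s * D.z ∈ D.A := h1.mpr ⟨fun h => absurd h hs, fun h => absurd h D.z_notMem⟩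
    obtain ⟨u, hu⟩ := h2
    refine ⟨u, Or.inr ?_⟩
    rw [hu, mul_assoc, D.z_sq, mul_one]

theorem pa_ne_pa_mul_z (u v : D.E) : D.pa u ≠ D.pa v * D.z := by
  intro heq
  apply D.z_notMem
  refine ⟨-v + u, ?_⟩
  rw [pa_add, pa_neg, heq, inv_mul_cancel_left]

theorem pa_mul_z_inj {u v : D.E} (h : D.pa u * D.z = D.pa v * D.z) : u = v :=
  D.pa_injective (mul_right_cancel h)

/-! ### Multiplication rules -/

theorem mul_rule1 (u v : D.E) : D.pa u * (D.pa v * D.z) = D.pa (u + v) * D.z := by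
  rw [← mul_assoc, ← pa_add]

theorem mul_rule2 (u v : D.E) : (D.pa u * D.z) * D.pa v = D.pa (u + v.swap) * D.z := by
  rw [mul_assoc, D.z_mul_pa, ← mul_assoc, ← pa_add]

theorem mul_rule3 (u v : D.E) : (D.pa u * D.z) * (D.pa v * D.z) = D.pa (u + v.swap) := by
  rw [← mul_assoc, D.mul_rule2, mul_assoc, D.z_sq, mul_one]

theorem inv_rule (u : D.E) : (D.pa u * D.z)⁻¹ = D.pa (-u.swap) * D.z := by
  rw [inv_eq_iff_mul_eq_one, D.mul_rule3, ← D.pa_zero]
  congr 1
  rw [Prod.swap_neg, Prod.swap_swap, add_neg_cancel]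

/-- A subgroup given by exponent sets. -/
def mkSub (P Q : Set D.E) (hP0 : (0 : D.E) ∈ P)
    (hPP : ∀ u v, u ∈ P → v ∈ P → u + v ∈ P) (hPneg : ∀ u, u ∈ P → -u ∈ P)
    (hPQ : ∀ u v, u ∈ P → v ∈ Q → u + v ∈ Q) (hQP : ∀ u v, u ∈ Q → v ∈ P → u + v.swap ∈ Q)
    (hQQ : ∀ u v, u ∈ Q → v ∈ Q → u + v.swap ∈ P) (hQinv : ∀ u, u ∈ Q → -u.swap ∈ Q) :
    Subgroup S where
  carrier := {s | ∃ u, (u ∈ P ∧ s = D.pa u) ∨ (u ∈ Q ∧ s = D.pa u * D.z)}
  mul_mem' := by
    rintro a b ⟨u, (⟨hu, rfl⟩ | ⟨hu, rfl⟩)⟩ ⟨v, (⟨hv, rfl⟩ | ⟨hv, rfl⟩)⟩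
    · exact ⟨u + v, Or.inl ⟨hPP u v hu hv, (D.pa_add u v).symm⟩⟩
    · exact ⟨u + v, Or.inr ⟨hPQ u v hu hv, D.mul_rule1 u v⟩⟩
    · exact ⟨u + v.swap, Or.inr ⟨hQP u v hu hv, D.mul_rule2 u v⟩⟩
    · exact ⟨u + v.swap, Or.inl ⟨hQQ u v hu hv, D.mul_rule3 u v⟩⟩
  one_mem' := ⟨0, Or.inl ⟨hP0, D.pa_zero.symm⟩⟩
  inv_mem' := by
    rintro a ⟨u, (⟨hu, rfl⟩ | ⟨hu, rfl⟩)⟩
    · exact ⟨-u, Or.inl ⟨hPneg u hu, (D.pa_neg u).symm⟩⟩
    · exact ⟨-u.swap, Or.inr ⟨hQinv u hu, D.inv_rule u⟩⟩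

section mkSub
variable (P Q : Set D.E) (hP0 : (0 : D.E) ∈ P)
    (hPP : ∀ u v, u ∈ P → v ∈ P → u + v ∈ P) (hPneg : ∀ u, u ∈ P → -u ∈ P)
    (hPQ : ∀ u v, u ∈ P → v ∈ Q → u + v ∈ Q) (hQP : ∀ u v, u ∈ Q → v ∈ P → u + v.swap ∈ Q)
    (hQQ : ∀ u v, u ∈ Q → v ∈ Q → u + v.swap ∈ P) (hQinv : ∀ u, u ∈ Q → -u.swap ∈ Q)

theorem pa_mem_mkSub (u : D.E) :
    D.pa u ∈ D.mkSub P Q hP0 hPP hPneg hPQ hQP hQQ hQinv ↔ u ∈ P := by
  constructor
  · rintro ⟨v, (⟨hv, huv⟩ | ⟨hv, huv⟩)⟩
    · rwa [D.pa_injective huv]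
    · exact absurd huv (D.pa_ne_pa_mul_z u v)
  · intro hu
    exact ⟨u, Or.inl ⟨hu, rfl⟩⟩

theorem paz_mem_mkSub (u : D.E) :
    D.pa u * D.z ∈ D.mkSub P Q hP0 hPP hPneg hPQ hQP hQQ hQinv ↔ u ∈ Q := by
  constructor
  · rintro ⟨v, (⟨hv, huv⟩ | ⟨hv, huv⟩)⟩
    · exact absurd huv.symm (D.pa_ne_pa_mul_z v u)
    · rwa [D.pa_mul_z_inj huv]
  · intro hu
    exact ⟨u, Or.inr ⟨hu, rfl⟩⟩

theorem card_mkSub :
    Nat.card (D.mkSub P Q hP0 hPP hPneg hPQ hQP hQQ hQinv) = Nat.card P + Nat.card Q := by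
  haveI := D.finite
  haveI : Finite D.E := inferInstance
  rw [← Nat.card_sum]
  symm
  apply Nat.card_congr
  refine Equiv.ofBijective
    (Sum.elim (fun u : P => ⟨D.pa u.1, (D.pa_mem_mkSub P Q hP0 hPP hPneg hPQ hQP hQQ hQinv u.1).mpr u.2⟩)
      (fun u : Q => ⟨D.pa u.1 * D.z,
        (D.paz_mem_mkSub P Q hP0 hPP hPneg hPQ hQP hQQ hQinv u.1).mpr u.2⟩)) ⟨?_, ?_⟩
  · rintro (u | u) (v | v) huv
    · have := congrArg Subtype.val huv
      simp only [Sum.elim_inl] at this
      rw [Subtype.ext (D.pa_injective this)]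
    · have := congrArg Subtype.val huv
      simp only [Sum.elim_inl, Sum.elim_inr] at this
      exact absurd this (D.pa_ne_pa_mul_z _ _)
    · have := congrArg Subtype.val huv
      simp only [Sum.elim_inl, Sum.elim_inr] at this
      exact absurd this.symm (D.pa_ne_pa_mul_z _ _)
    · have := congrArg Subtype.val huv
      simp only [Sum.elim_inr] at this
      rw [Subtype.ext (D.pa_mul_z_inj this)]
  · rintro ⟨s, u, (⟨hu, rfl⟩ | ⟨hu, rfl⟩)⟩
    · exact ⟨Sum.inl ⟨u, hu⟩, rfl⟩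
    · exact ⟨Sum.inr ⟨u, hu⟩, rfl⟩

end mkSub

/-! ### Orders, center, commutator -/

theorem pow_card_nsmul (u : D.E) : (2 ^ D.n) • u = 0 := by
  apply Prod.ext
  · rw [Prod.smul_fst, nsmul_eq_mul, ZMod.natCast_self, zero_mul]; rfl
  · rw [Prod.smul_snd, nsmul_eq_mul, ZMod.natCast_self, zero_mul]; rfl

theorem orderOf_pa_of_fst_one (u : D.E) (hu : u.1 = 1) : orderOf (D.pa u) = 2 ^ D.n := by
  have h1 : orderOf (D.pa u) ∣ 2 ^ D.n := by
    apply orderOf_dvd_of_pow_eq_one
    rw [← pa_nsmul, pow_card_nsmul, pa_zero]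
  obtain ⟨k, hk, hk2⟩ := (Nat.dvd_prime_pow Nat.prime_two).mp h1
  rcases Nat.lt_or_ge k D.n with hlt | hge
  · exfalso
    have h2 := pow_orderOf_eq_one (D.pa u)
    rw [hk2, ← pa_nsmul, pa_eq_one_iff] at h2
    have h3 := congrArg Prod.fst h2
    rw [Prod.smul_fst, hu, nsmul_eq_mul, mul_one, Prod.fst_zero] at h3
    have h4 : ((2 ^ k : ℕ) : ZMod (2 ^ D.n)) = 0 := by exact_mod_cast h3
    rw [ZMod.natCast_eq_zero_iff] at h4
    have := Nat.le_of_dvd (by positivity) h4
    have := Nat.pow_lt_pow_right (a := 2) (by norm_num) hlt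
    omega
  · have : k = D.n := le_antisymm hk hge
    rw [hk2, this]

theorem mem_zpowers_pa_iff (u : D.E) (s : S) :
    s ∈ Subgroup.zpowers (D.pa u) ↔ ∃ k : ℕ, s = D.pa (k • u) := by
  haveI := D.finite
  rw [← mem_powers_iff_mem_zpowers]
  constructor
  · rintro ⟨k, rfl⟩
    exact ⟨k, (D.pa_nsmul k u).symm⟩
  · rintro ⟨k, rfl⟩
    exact ⟨k, (D.pa_nsmul k u).symm⟩

theorem one_ne_zero' : (1 : ZMod (2 ^ D.n)) ≠ 0 := by
  haveI : Fact (1 < 2 ^ D.n) := ⟨by
    calc 1 = 2 ^ 0 := by norm_num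
      _ < 2 ^ D.n := Nat.pow_lt_pow_right (by norm_num) (by have := D.hn; omega)⟩
  exact one_ne_zero

theorem mem_center_iff (s : S) : s ∈ Subgroup.center S ↔ ∃ i, s = D.pa (i, i) := by
  rw [Subgroup.mem_center_iff]
  constructor
  · intro hs
    obtain ⟨u, rfl | rfl⟩ := D.normal_form s
    · have h1 := hs D.z
      rw [D.z_mul_pa] at h1
      have h2 := D.pa_mul_z_inj h1
      refine ⟨u.1, ?_⟩
      congr 1
      have := congrArg Prod.fst h2
      simp only [Prod.fst_swap] at this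
      exact Prod.ext rfl this
    · exfalso
      have h1 := hs (D.pa (1, 0))
      rw [D.mul_rule1, D.mul_rule2] at h1
      have h2 := D.pa_mul_z_inj h1
      have h3 := congrArg Prod.fst h2
      simp only [Prod.fst_add, Prod.swap_prod_mk] at h3
      have h4 : (1 : ZMod (2 ^ D.n)) = 0 := by linear_combination h3
      exact D.one_ne_zero' h4
  · rintro ⟨i, rfl⟩ g
    obtain ⟨v, rfl | rfl⟩ := D.normal_form g
    · exact D.pa_comm _ _
    · rw [D.mul_rule2, D.mul_rule1, Prod.swap_prod_mk, add_comm]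

theorem diag_eq (i : ZMod (2 ^ D.n)) : ((i, i) : D.E) = i.val • ((1, 1) : D.E) := by
  apply Prod.ext
  · rw [Prod.smul_fst, nsmul_eq_mul, mul_one, ZMod.natCast_zmod_val]
  · rw [Prod.smul_snd, nsmul_eq_mul, mul_one, ZMod.natCast_zmod_val]

theorem center_eq : Subgroup.center S = Subgroup.zpowers (D.pa (1, 1)) := by
  ext s
  rw [D.mem_center_iff, D.mem_zpowers_pa_iff]
  constructor
  · rintro ⟨i, rfl⟩
    exact ⟨i.val, by rw [← D.diag_eq]⟩
  · rintro ⟨k, rfl⟩
    refine ⟨(k : ZMod (2 ^ D.n)), ?_⟩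
    congr 1
    apply Prod.ext
    · rw [Prod.smul_fst, nsmul_eq_mul, mul_one]
    · rw [Prod.smul_snd, nsmul_eq_mul, mul_one]

theorem card_center : Nat.card (Subgroup.center S) = 2 ^ D.n := by
  rw [D.center_eq, Nat.card_zpowers, D.orderOf_pa_of_fst_one _ rfl]

theorem center_isCyclic {S : Type*} [Group S] (D : Data S) : IsCyclic (Subgroup.center S) := by
  rw [D.center_eq]
  infer_instance

theorem antidiag_eq (i : ZMod (2 ^ D.n)) : ((i, -i) : D.E) = i.val • ((1, -1) : D.E) := by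
  apply Prod.ext
  · rw [Prod.smul_fst, nsmul_eq_mul, mul_one, ZMod.natCast_zmod_val]
  · rw [Prod.smul_snd, nsmul_eq_mul, mul_neg, mul_one, ZMod.natCast_zmod_val]

theorem mem_zpowers_antidiag (s : S) :
    s ∈ Subgroup.zpowers (D.pa (1, -1)) ↔ ∃ i, s = D.pa (i, -i) := by
  rw [D.mem_zpowers_pa_iff]
  constructor
  · rintro ⟨k, rfl⟩
    refine ⟨(k : ZMod (2 ^ D.n)), ?_⟩
    congr 1
    apply Prod.ext
    · rw [Prod.smul_fst, nsmul_eq_mul, mul_one]
    · rw [Prod.smul_snd, nsmul_eq_mul, mul_neg, mul_one]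
  · rintro ⟨i, rfl⟩
    exact ⟨i.val, by rw [← D.antidiag_eq]⟩

theorem commutator_eq : commutator S = Subgroup.zpowers (D.pa (1, -1)) := by
  apply le_antisymm
  · rw [commutator_def, Subgroup.commutator_le]
    intro g₁ _ g₂ _
    rw [commutatorElement_def, D.mem_zpowers_antidiag]
    obtain ⟨u, rfl | rfl⟩ := D.normal_form g₁ <;> obtain ⟨v, rfl | rfl⟩ := D.normal_form g₂
    · refine ⟨0, ?_⟩
      rw [D.pa_comm u v, mul_inv_cancel_right, mul_inv_cancel]
      have : ((0 : ZMod (2 ^ D.n)), -(0 : ZMod (2 ^ D.n))) = (0 : D.E) := by simp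
      rw [this, D.pa_zero]
    · refine ⟨u.1 - u.2, ?_⟩
      rw [D.inv_rule, ← D.pa_neg, D.mul_rule1, D.mul_rule2, D.mul_rule3]
      congr 1
      apply Prod.ext <;> simp <;> ring
    · refine ⟨v.2 - v.1, ?_⟩
      rw [D.inv_rule, ← D.pa_neg, D.mul_rule2, D.mul_rule3]
      rw [← D.pa_add]
      congr 1
      apply Prod.ext <;> simp <;> ring
    · refine ⟨u.1 - v.1 - (u.2 - v.2), ?_⟩
      rw [D.inv_rule, D.inv_rule, D.mul_rule3, D.mul_rule1, D.mul_rule3]
      congr 1
      apply Prod.ext <;> simp <;> ring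
  · rw [Subgroup.zpowers_le, commutator_def]
    have : D.pa (1, -1) = ⁅D.pa (1, 0), D.z⁆ := by
      rw [commutatorElement_def, ← D.pa_neg, mul_assoc (D.pa (1, 0)), D.z_mul_pa, mul_assoc,
        mul_assoc, mul_inv_cancel, mul_one, ← D.pa_add]
      congr 1
      simp
    rw [this]
    exact Subgroup.commutator_mem_commutator (Subgroup.mem_top _) (Subgroup.mem_top _)

theorem card_commutator : Nat.card (commutator S) = 2 ^ D.n := by
  rw [D.commutator_eq, Nat.card_zpowers, D.orderOf_pa_of_fst_one _ rfl]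

theorem commutator_isCyclic {S : Type*} [Group S] (D : Data S) : IsCyclic (commutator S) := by
  rw [D.commutator_eq]
  infer_instance

/-- half: `2 ^ (n - 1)` -/
def h : ZMod (2 ^ D.n) := ((2 ^ (D.n - 1) : ℕ) : ZMod (2 ^ D.n))

theorem h_ne_zero : D.h ≠ 0 := by
  unfold h
  rw [Ne, ZMod.natCast_eq_zero_iff]
  intro hdvd
  have := Nat.le_of_dvd (by positivity) hdvd
  have h2 : 2 ^ (D.n - 1) < 2 ^ D.n := Nat.pow_lt_pow_right (by norm_num) (by have := D.hn; omega)
  omega

theorem two_h : 2 * D.h = 0 := by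
  unfold h
  have : (2 : ZMod (2 ^ D.n)) = ((2 : ℕ) : ZMod (2 ^ D.n)) := by norm_num
  rw [this, ← Nat.cast_mul, ← pow_succ', Nat.sub_add_cancel (by have := D.hn; omega)]
  exact ZMod.natCast_self _

theorem neg_h : -D.h = D.h := by
  have := D.two_h
  linear_combination -this

theorem two_mul_eq_zero_iff (i : ZMod (2 ^ D.n)) : 2 * i = 0 ↔ i = 0 ∨ i = D.h := by
  constructor
  · intro hi
    have hn := D.hn
    have h1 : ((2 * i.val : ℕ) : ZMod (2 ^ D.n)) = 0 := by
      push_cast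
      rw [ZMod.natCast_zmod_val]
      exact hi
    rw [ZMod.natCast_eq_zero_iff] at h1
    have h2 : 2 ^ D.n = 2 * 2 ^ (D.n - 1) := by rw [← pow_succ']; congr 1; omega
    have h1' : 2 * 2 ^ (D.n - 1) ∣ 2 * i.val := h2 ▸ h1
    have h3 : 2 ^ (D.n - 1) ∣ i.val := Nat.dvd_of_mul_dvd_mul_left (by norm_num) h1'
    obtain ⟨c, hc⟩ := h3
    have h4 : i.val < 2 * 2 ^ (D.n - 1) := by rw [← h2]; exact ZMod.val_lt i
    have hpos : 0 < 2 ^ (D.n - 1) := by positivity
    have h5 : c < 2 := by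
      by_contra hge
      push Not at hge
      have : 2 * 2 ^ (D.n - 1) ≤ 2 ^ (D.n - 1) * c := by nlinarith
      omega
    have h6 := ZMod.natCast_zmod_val i
    interval_cases c
    · left
      rw [← h6, hc]
      simp
    · right
      rw [← h6, hc, mul_one]
      rfl
  · rintro (rfl | rfl)
    · ring
    · exact D.two_h

theorem A_normal : D.A.Normal := Subgroup.normal_of_index_eq_two D.index_A

theorem not_isConj_pa_paz (u v : D.E) : ¬ IsConj (D.pa u) (D.pa v * D.z) := by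
  rw [isConj_iff]
  rintro ⟨c, hc⟩
  have h1 : D.pa u ∈ D.A := ⟨u, rfl⟩
  have h2 := D.A_normal.conj_mem _ h1 c
  rw [hc] at h2
  obtain ⟨k, hk⟩ := h2
  exact D.pa_ne_pa_mul_z k v hk

theorem conj_pa_paz (v u : D.E) :
    D.pa v * (D.pa u * D.z) * (D.pa v)⁻¹ = D.pa (v + u - v.swap) * D.z := by
  rw [← pa_neg, D.mul_rule1, D.mul_rule2]
  congr 2
  rw [Prod.swap_neg, sub_eq_add_neg]

theorem paz_sq (u : D.E) : (D.pa u * D.z) * (D.pa u * D.z) = D.pa (u + u.swap) := D.mul_rule3 u u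

theorem pa_sq (u : D.E) : D.pa u * D.pa u = D.pa (u + u) := (D.pa_add u u).symm

theorem z_notMem_center : D.z ∉ Subgroup.center S := by
  rw [D.mem_center_iff]
  rintro ⟨i, hi⟩
  exact D.z_notMem ⟨_, hi.symm⟩

theorem paz_notMem_center (u : D.E) : D.pa u * D.z ∉ Subgroup.center S := by
  rw [D.mem_center_iff]
  rintro ⟨i, hi⟩
  exact D.pa_ne_pa_mul_z _ _ hi.symm

theorem quot_center_iso : Nonempty (S ⧸ Subgroup.center S ≃* DihedralGroup (2 ^ D.n)) := by
  haveI := D.finite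
  have hn := D.hn
  set u : S ⧸ Subgroup.center S := (D.z : S ⧸ Subgroup.center S) with hu
  set v : S ⧸ Subgroup.center S := ((D.pa (1, 0) * D.z : S) : S ⧸ Subgroup.center S) with hv
  have hu2 : orderOf u = 2 := by
    apply orderOf_eq_prime
    · rw [hu, ← QuotientGroup.mk_pow, pow_two, D.z_sq, QuotientGroup.mk_one]
    · rw [hu, Ne, QuotientGroup.eq_one_iff]
      exact D.z_notMem_center
  have hv2 : orderOf v = 2 := by
    apply orderOf_eq_prime
    · rw [hv, ← QuotientGroup.mk_pow, pow_two, D.mul_rule3, QuotientGroup.eq_one_iff,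
        D.mem_center_iff]
      refine ⟨1, ?_⟩
      congr 1
      simp
    · rw [hv, Ne, QuotientGroup.eq_one_iff]
      exact D.paz_notMem_center _
  have huv : u * v = ((D.pa (0, 1) : S) : S ⧸ Subgroup.center S) := by
    rw [hu, hv, ← QuotientGroup.mk_mul]
    congr 1
    rw [← mul_assoc, D.z_mul_pa, mul_assoc, D.z_sq, mul_one]
    rfl
  have hpow : ∀ k : ℕ, (u * v) ^ k = ((D.pa (0, (k : ZMod (2 ^ D.n))) : S) : S ⧸ Subgroup.center S) := by
    intro k
    rw [huv, ← QuotientGroup.mk_pow, ← D.pa_nsmul]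
    congr 2
    apply Prod.ext
    · simp
    · simp
  have hord : orderOf (u * v) = 2 ^ D.n := by
    have h1 : ¬ (u * v) ^ 2 ^ (D.n - 1) = 1 := by
      rw [hpow, QuotientGroup.eq_one_iff, D.mem_center_iff]
      rintro ⟨i, hi⟩
      have h2 := D.pa_injective hi
      have h3 := congrArg Prod.fst h2
      have h4 := congrArg Prod.snd h2
      simp only at h3 h4
      apply D.h_ne_zero
      unfold h
      rw [h4, ← h3]
    have h2 : (u * v) ^ 2 ^ (D.n - 1 + 1) = 1 := by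
      rw [hpow, Nat.sub_add_cancel (by omega), ZMod.natCast_self, QuotientGroup.eq_one_iff,
        D.mem_center_iff]
      exact ⟨0, rfl⟩
    have := orderOf_eq_prime_pow h1 h2
    rwa [Nat.sub_add_cancel (by omega)] at this
  obtain ⟨e⟩ := Cfsg.Agent.Lib.Helper24.closure_pair_equiv_dihedral hu2 hv2
  rw [hord] at e
  have hcardQ : Nat.card (S ⧸ Subgroup.center S) = 2 ^ (D.n + 1) := by
    have h1 := Subgroup.card_eq_card_quotient_mul_card_subgroup (Subgroup.center S)
    rw [D.card, D.card_center] at h1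
    have h2 : 2 ^ (2 * D.n + 1) = 2 ^ (D.n + 1) * 2 ^ D.n := by rw [← pow_add]; congr 1; omega
    rw [h2] at h1
    exact (Nat.eq_of_mul_eq_mul_right (by positivity) h1).symm
  have htop : Subgroup.closure ({u, v} : Set (S ⧸ Subgroup.center S)) = ⊤ := by
    apply Subgroup.eq_top_of_card_eq
    rw [Nat.card_congr e.toEquiv, DihedralGroup.nat_card, hcardQ, pow_succ']
  exact ⟨(Subgroup.topEquiv.symm.trans (MulEquiv.subgroupCongr htop).symm).trans e⟩

/-! ### The subgroup generated by involutions -/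

/-- exponent sum -/
def sig (u : D.E) : ZMod (2 ^ D.n) := u.1 + u.2

theorem sig_add (u v : D.E) : D.sig (u + v) = D.sig u + D.sig v := by
  unfold sig; simp only [Prod.fst_add, Prod.snd_add]; ring

theorem sig_swap (u : D.E) : D.sig u.swap = D.sig u := by
  unfold sig; simp only [Prod.fst_swap, Prod.snd_swap]; ring

theorem sig_neg (u : D.E) : D.sig (-u) = -D.sig u := by
  unfold sig; simp only [Prod.fst_neg, Prod.snd_neg]; ring

theorem sig_zero : D.sig 0 = 0 := by
  unfold sig; simp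

/-- The subgroup generated by the involutions. -/
def Omega : Subgroup S :=
  D.mkSub {u | 2 * D.sig u = 0} {u | 2 * D.sig u = 0}
    (by simp only [Set.mem_setOf_eq, sig_zero, mul_zero])
    (fun u v hu hv => by
      simp only [Set.mem_setOf_eq] at *
      rw [sig_add]; linear_combination hu + hv)
    (fun u hu => by
      simp only [Set.mem_setOf_eq] at *
      rw [sig_neg]; linear_combination -hu)
    (fun u v hu hv => by
      simp only [Set.mem_setOf_eq] at *
      rw [sig_add]; linear_combination hu + hv)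
    (fun u v hu hv => by
      simp only [Set.mem_setOf_eq] at *
      rw [sig_add, sig_swap]; linear_combination hu + hv)
    (fun u v hu hv => by
      simp only [Set.mem_setOf_eq] at *
      rw [sig_add, sig_swap]; linear_combination hu + hv)
    (fun u hu => by
      simp only [Set.mem_setOf_eq] at *
      rw [sig_neg, sig_swap]; linear_combination -hu)

theorem pa_mem_Omega (u : D.E) : D.pa u ∈ D.Omega ↔ 2 * D.sig u = 0 := D.pa_mem_mkSub ..
theorem paz_mem_Omega (u : D.E) : D.pa u * D.z ∈ D.Omega ↔ 2 * D.sig u = 0 := D.paz_mem_mkSub ..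

theorem card_two_torsion : Nat.card {s : ZMod (2 ^ D.n) // 2 * s = 0} = 2 := by
  have h1 : Nat.card {s : ZMod (2 ^ D.n) // 2 * s = 0} =
      ({s : ZMod (2 ^ D.n) | 2 * s = 0}).ncard := Nat.card_coe_set_eq _
  have h2 : {s : ZMod (2 ^ D.n) | 2 * s = 0} = {0, D.h} := by
    ext s
    simp only [Set.mem_setOf_eq, Set.mem_insert_iff, Set.mem_singleton_iff]
    exact D.two_mul_eq_zero_iff s
  rw [h1, h2, Set.ncard_pair (Ne.symm D.h_ne_zero)]

theorem card_sigset : Nat.card {u : D.E // 2 * D.sig u = 0} = 2 * 2 ^ D.n := by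
  have e : {u : D.E // 2 * D.sig u = 0} ≃ ZMod (2 ^ D.n) × {s : ZMod (2 ^ D.n) // 2 * s = 0} :=
    { toFun := fun u => (u.1.1, ⟨D.sig u.1, u.2⟩)
      invFun := fun q => ⟨(q.1, q.2.1 - q.1), by
        have := q.2.2
        unfold sig
        simp only
        linear_combination this⟩
      left_inv := by
        rintro ⟨⟨a, b⟩, hu⟩
        apply Subtype.ext
        unfold sig
        simp
      right_inv := by
        rintro ⟨a, ⟨s, hs⟩⟩
        unfold sig
        simp }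
  rw [Nat.card_congr e, Nat.card_prod, Nat.card_zmod, D.card_two_torsion, mul_comm]

theorem card_Omega : Nat.card D.Omega = 2 ^ (D.n + 2) := by
  unfold Omega
  rw [D.card_mkSub]
  have := D.card_sigset
  simp only [Set.coe_setOf] at *
  rw [this]
  ring

theorem involution_mem_Omega (t : S) (ht : orderOf t = 2) : t ∈ D.Omega := by
  have ht2 : t * t = 1 := by
    have := pow_orderOf_eq_one t
    rwa [ht, pow_two] at this
  obtain ⟨u, rfl | rfl⟩ := D.normal_form t
  · rw [D.pa_sq, D.pa_eq_one_iff] at ht2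
    rw [D.pa_mem_Omega]
    unfold sig
    have e1 := congrArg Prod.fst ht2
    have e2 := congrArg Prod.snd ht2
    simp only [Prod.fst_add, Prod.fst_zero, Prod.snd_add, Prod.snd_zero] at e1 e2
    linear_combination e1 + e2
  · rw [D.paz_sq, D.pa_eq_one_iff] at ht2
    rw [D.paz_mem_Omega]
    unfold sig
    have e1 := congrArg Prod.fst ht2
    simp only [Prod.fst_add, Prod.fst_zero, Prod.fst_swap] at e1
    linear_combination 2 * e1

theorem orderOf_paz_of_sig_zero (u : D.E) (hu : D.sig u = 0) : orderOf (D.pa u * D.z) = 2 := by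
  apply orderOf_eq_prime
  · rw [pow_two, D.paz_sq, D.pa_eq_one_iff]
    unfold sig at hu
    apply Prod.ext
    · simp only [Prod.fst_add, Prod.fst_swap, Prod.fst_zero]
      exact hu
    · simp only [Prod.snd_add, Prod.snd_swap, Prod.snd_zero]
      linear_combination hu
  · intro h
    have : D.pa 0 = D.pa u * D.z := by rw [D.pa_zero, h]
    exact D.pa_ne_pa_mul_z _ _ this

theorem orderOf_pa_zero_h : orderOf (D.pa (0, D.h)) = 2 := by
  apply orderOf_eq_prime
  · rw [pow_two, D.pa_sq, D.pa_eq_one_iff]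
    apply Prod.ext
    · simp
    · simp only [Prod.snd_add, Prod.snd_zero]
      have := D.two_h
      linear_combination this
  · rw [Ne, D.pa_eq_one_iff]
    intro h
    exact D.h_ne_zero (congrArg Prod.snd h)

theorem Omega_eq : Subgroup.closure {t : S | orderOf t = 2} = D.Omega := by
  apply le_antisymm
  · rw [Subgroup.closure_le]
    intro t ht
    exact D.involution_mem_Omega t ht
  · have hz : D.z ∈ Subgroup.closure {t : S | orderOf t = 2} := Subgroup.subset_closure D.hz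
    have hpa : ∀ u : D.E, 2 * D.sig u = 0 → D.pa u ∈ Subgroup.closure {t : S | orderOf t = 2} := by
      intro u hu
      rcases (D.two_mul_eq_zero_iff _).mp hu with h0 | h1
      · have : D.pa u = (D.pa u * D.z) * D.z := by rw [mul_assoc, D.z_sq, mul_one]
        rw [this]
        exact Subgroup.mul_mem _ (Subgroup.subset_closure (D.orderOf_paz_of_sig_zero u h0)) hz
      · have hsplit : u = (u - (0, D.h)) + (0, D.h) := by rw [sub_add_cancel]
        have hs0 : D.sig (u - (0, D.h)) = 0 := by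
          unfold sig at h1 ⊢
          simp only [Prod.fst_sub, Prod.snd_sub]
          linear_combination h1
        rw [hsplit, D.pa_add]
        apply Subgroup.mul_mem
        · have : D.pa (u - (0, D.h)) = (D.pa (u - (0, D.h)) * D.z) * D.z := by
            rw [mul_assoc, D.z_sq, mul_one]
          rw [this]
          exact Subgroup.mul_mem _ (Subgroup.subset_closure (D.orderOf_paz_of_sig_zero _ hs0)) hz
        · exact Subgroup.subset_closure D.orderOf_pa_zero_h
    rintro s ⟨u, (⟨hu, rfl⟩ | ⟨hu, rfl⟩)⟩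
    · exact hpa u hu
    · exact Subgroup.mul_mem _ (hpa u hu) hz

theorem Omega_sup : D.Omega ⊔ Subgroup.zpowers D.x = ⊤ := by
  rw [eq_top_iff]
  intro g _
  have hx : D.x ∈ D.Omega ⊔ Subgroup.zpowers D.x :=
    (le_sup_right : Subgroup.zpowers D.x ≤ _) (Subgroup.mem_zpowers _)
  have hz : D.z ∈ D.Omega ⊔ Subgroup.zpowers D.x := by
    apply (le_sup_left : D.Omega ≤ _)
    have := (D.paz_mem_Omega 0).mpr (by rw [sig_zero, mul_zero])
    rwa [D.pa_zero, one_mul] at this
  have hy : D.y ∈ D.Omega ⊔ Subgroup.zpowers D.x := by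
    have h1 : D.pa (-1, 1) ∈ D.Omega ⊔ Subgroup.zpowers D.x := by
      apply (le_sup_left : D.Omega ≤ _)
      rw [D.pa_mem_Omega]
      unfold sig
      simp
    have h2 : D.y = D.pa (-1, 1) * D.x := by
      have hx' : D.x = D.pa (1, 0) := by
        unfold pa; rw [D.px_one, D.py_zero, mul_one]
      have hy' : D.y = D.pa (0, 1) := by
        unfold pa; rw [D.py_one, D.px_zero, one_mul]
      rw [hx', hy', ← D.pa_add]
      congr 1
      simp
    rw [h2]
    exact Subgroup.mul_mem _ h1 hx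
  have hpa : ∀ u : D.E, D.pa u ∈ D.Omega ⊔ Subgroup.zpowers D.x := by
    intro u
    unfold pa px py
    exact Subgroup.mul_mem _ (Subgroup.pow_mem _ hx _) (Subgroup.pow_mem _ hy _)
  obtain ⟨u, rfl | rfl⟩ := D.normal_form g
  · exact hpa u
  · exact Subgroup.mul_mem _ (hpa u) hz

end Data

end Cfsg.Agent.Lib.Helper12.Wr
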