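import Mathlib
import Cfsg.Prelude.Def_Transfer
import Cfsg.Prelude.Def_CaseTheorems
import Cfsg.Agent.Lib.Helper12.ZsC
import Cfsg.Agent.Lib.Helper13.ZStarIsoD

/-!
# Followers of Glauberman's Z*-theorem, part D (helper12)

If every subgroup of `Z(S)` is weakly closed in the Sylow `2`-subgroup `S`, then `G = O(G) C_G(Z(S))` (conditional on the
Z*-theorem, through helper13's `comm_mem_oddCore`).
-/

set_option autoImplicit false
namespace Cfsg.Agent.Lib.Helper12.ZsD
open Pointwise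
universe u
variable {G : Type u} [Group G]

/-- conjugation action of `Z` on the coset `h N`, where all commutators `[y, g]`, `y ∈ Z`, lie in the normal subgroup `N` -/
@[reducible] def cosetAction (Z N : Subgroup G) [N.Normal]
    (hcomm : ∀ y ∈ Z, ∀ g : G, y * g * y⁻¹ * g⁻¹ ∈ N) (h : G) :
    MulAction Z {c : G // h⁻¹ * c ∈ N} where
  smul y c := ⟨(y : G) * c * (y : G)⁻¹, by
    have h1 : h⁻¹ * ((y : G) * h * (y : G)⁻¹ * h⁻¹) * h⁻¹⁻¹ ∈ N :=
      Subgroup.Normal.conj_mem inferInstance _ (hcomm y y.2 h) h⁻¹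
    have h2 : (y : G) * (h⁻¹ * (c : G)) * (y : G)⁻¹ ∈ N :=
      Subgroup.Normal.conj_mem inferInstance _ c.2 y
    have e : h⁻¹ * ((y : G) * c * (y : G)⁻¹) =
        (h⁻¹ * ((y : G) * h * (y : G)⁻¹ * h⁻¹) * h⁻¹⁻¹) * ((y : G) * (h⁻¹ * (c : G)) * (y : G)⁻¹) := by
      group
    rw [e]
    exact N.mul_mem h1 h2⟩
  one_smul c := by
    apply Subtype.ext
    show ((1 : Z) : G) * c * ((1 : Z) : G)⁻¹ = c
    simp
  mul_smul a b c := by
    apply Subtype.ext
    show ((a * b : Z) : G) * c * ((a * b : Z) : G)⁻¹ = (a : G) * ((b : G) * c * (b : G)⁻¹) * (a : G)⁻¹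
    rw [Subgroup.coe_mul]
    group

theorem factor_group [Finite G] (Z N : Subgroup G) [N.Normal] (hZ : IsPGroup 2 Z)
    (hodd : Odd (Nat.card N)) (hcomm : ∀ y ∈ Z, ∀ g : G, y * g * y⁻¹ * g⁻¹ ∈ N) (h : G) :
    ∃ o ∈ N, ∃ c ∈ Subgroup.centralizer (Z : Set G), h = o * c := by
  haveI : Fact (Nat.Prime 2) := ⟨Nat.prime_two⟩
  letI := cosetAction Z N hcomm h
  have hcard : Nat.card {c : G // h⁻¹ * c ∈ N} = Nat.card N := by
    apply Nat.card_congr
    refine ⟨fun c => ⟨h⁻¹ * c.1, c.2⟩, fun n => ⟨h * n.1, by simpa using n.2⟩, ?_, ?_⟩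
    · intro c; apply Subtype.ext; simp
    · intro n; apply Subtype.ext; simp
  have hnd : ¬ 2 ∣ Nat.card {c : G // h⁻¹ * c ∈ N} := by
    rw [hcard]; exact hodd.not_two_dvd_nat
  obtain ⟨c, hc⟩ := hZ.nonempty_fixed_point_of_prime_not_dvd_card _ hnd
  have hfix : ∀ y : G, y ∈ Z → y * (c : G) * y⁻¹ = c := by
    intro y hy
    have := hc ⟨y, hy⟩
    exact congrArg Subtype.val this
  refine ⟨(c : G) * (h⁻¹ * (c : G))⁻¹ * (c : G)⁻¹, ?_, (c : G), ?_, by group⟩
  · exact Subgroup.Normal.conj_mem inferInstance _ (N.inv_mem c.2) _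
  · rw [Subgroup.mem_centralizer_iff]
    intro y hy
    have := hfix y hy
    calc y * (c : G) = (y * (c : G) * y⁻¹) * y := by group
      _ = (c : G) * y := by rw [this]


/-- If a Sylow `2`-subgroup centralizes the `2`-element `x`, then `N_G(⟨x⟩) = C_G(x)`. -/
theorem normalizer_zpowers_le_centralizer [Finite G] (S : Sylow 2 G) (x : G) (hxS : x ∈ S)
    (hx : (S : Subgroup G) ≤ Subgroup.centralizer ((Subgroup.zpowers x : Subgroup G) : Set G)) :
    Subgroup.normalizer ((Subgroup.zpowers x : Subgroup G) : Set G) ≤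
      Subgroup.centralizer ((Subgroup.zpowers x : Subgroup G) : Set G) := by
  haveI : Fact (Nat.Prime 2) := ⟨Nat.prime_two⟩
  have key := Subgroup.card_dvd_of_injective _
    (QuotientGroup.kerLift_injective (Subgroup.zpowers x).normalizerMonoidHom)
  rw [Subgroup.normalizerMonoidHom_ker, ← Subgroup.index, ← Subgroup.relIndex] at key
  refine Subgroup.relIndex_eq_one.mp (Nat.eq_one_of_dvd_coprimes ?_ dvd_rfl key)
  have hZp : IsPGroup 2 (Subgroup.zpowers x) :=
    S.isPGroup'.to_le (by rw [Subgroup.zpowers_le]; exact hxS)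
  obtain ⟨k, hk⟩ := IsPGroup.iff_card.mp hZp
  have hodd : Nat.Coprime ((Subgroup.centralizer ((Subgroup.zpowers x : Subgroup G) : Set G)).relIndex
      (Subgroup.normalizer ((Subgroup.zpowers x : Subgroup G) : Set G))) 2 := by
    apply Nat.Coprime.coprime_dvd_left (Subgroup.relIndex_dvd_index_of_le
      (Subgroup.centralizer_le_normalizer _))
    apply Nat.Coprime.coprime_dvd_left (Subgroup.index_dvd_of_le hx)
    rw [Nat.coprime_comm, Nat.Prime.coprime_iff_not_dvd Nat.prime_two]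
    exact S.not_dvd_index
  rw [IsCyclic.card_mulAut, hk]
  rcases Nat.eq_zero_or_pos k with h0 | h0
  · rw [h0, pow_zero, Nat.totient_one]; exact Nat.coprime_one_right _
  · rw [Nat.totient_prime_pow Nat.prime_two h0]
    simp only [Nat.add_one_sub_one, mul_one]
    exact Nat.Coprime.pow_right _ hodd

theorem allIso_center [Finite G] (S : Sylow 2 G)
    (hwc : ∀ Z₀ : Subgroup G,
      Z₀ ≤ (Subgroup.center ↥(S : Subgroup G)).map (S : Subgroup G).subtype →
        Cfsg.IsWeaklyClosed Z₀ (S : Subgroup G)) :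
    Cfsg.Agent.Lib.Helper13.ZStarIso.AllIso S
      ((Subgroup.center ↥(S : Subgroup G)).map (S : Subgroup G).subtype) := by
  refine ⟨Subgroup.map_subtype_le _, ?_⟩
  intro x hx g hg
  have hxS : x ∈ S := Subgroup.map_subtype_le _ hx
  have hcent : (S : Subgroup G) ≤ Subgroup.centralizer ((Subgroup.zpowers x : Subgroup G) : Set G) := by
    rw [Subgroup.le_centralizer_iff, Subgroup.zpowers_le, Subgroup.mem_centralizer_iff]
    intro s hs
    obtain ⟨u, hu, rfl⟩ := hx
    have h1 := Subgroup.mem_center_iff.mp hu ⟨s, hs⟩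
    exact congrArg Subtype.val h1
  have hZ₀ : Subgroup.zpowers x ≤ (Subgroup.center ↥(S : Subgroup G)).map (S : Subgroup G).subtype := by
    rw [Subgroup.zpowers_le]; exact hx
  obtain ⟨_, h2⟩ := hwc _ hZ₀
  have h3 : (Subgroup.zpowers x).map (MulAut.conj g).toMonoidHom = Subgroup.zpowers (g * x * g⁻¹) := by
    rw [MonoidHom.map_zpowers]; rfl
  have h4 := h2 g (by rw [h3, Subgroup.zpowers_le]; exact hg)
  have h5 : g ∈ Subgroup.normalizer ((Subgroup.zpowers x : Subgroup G) : Set G) :=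
    Cfsg.Agent.Lib.Helper2.mem_normalizer_iff_map_conj.mpr h4
  have h6 := normalizer_zpowers_le_centralizer S x hxS hcent h5
  have h7 := Subgroup.mem_centralizer_iff.mp h6 x (Subgroup.mem_zpowers x)
  calc g * x * g⁻¹ = (g * x) * g⁻¹ := by group
    _ = (x * g) * g⁻¹ := by rw [h7]
    _ = x := by group


/-- S1215 from the Z*-theorem. -/
theorem center_factor [Finite G] (hZ : Cfsg.Agent.Lib.Helper13.ZStarIso.ZStarAt.{u}) (S : Sylow 2 G)
    (hwc : ∀ Z₀ : Subgroup G,
      Z₀ ≤ (Subgroup.center ↥(S : Subgroup G)).map (S : Subgroup G).subtype →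
        Cfsg.IsWeaklyClosed Z₀ (S : Subgroup G)) (h : G) :
    ∃ o ∈ Cfsg.oddCore G, ∃ c ∈ Subgroup.centralizer
      (((Subgroup.center ↥(S : Subgroup G)).map (S : Subgroup G).subtype : Subgroup G) : Set G),
      h = o * c := by
  haveI : (Cfsg.pPrimeCore 2 G).Normal := Cfsg.Agent.Lib.Helper2.pPrimeCore_normal 2
  have hiso := allIso_center S hwc
  have hcomm : ∀ y ∈ (Subgroup.center ↥(S : Subgroup G)).map (S : Subgroup G).subtype, ∀ g : G,
      y * g * y⁻¹ * g⁻¹ ∈ Cfsg.pPrimeCore 2 G :=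
    fun y hy g => Cfsg.Agent.Lib.Helper13.ZStarIso.comm_mem_oddCore hZ S _ hiso y hy g
  exact factor_group _ (Cfsg.pPrimeCore 2 G) (S.isPGroup'.to_le (Subgroup.map_subtype_le _))
    Cfsg.Agent.Lib.Helper13.ZStarIso.odd_card_pPrimeCore hcomm h

end Cfsg.Agent.Lib.Helper12.ZsD
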